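import Cfsg.Agent.Lib.Helper50.GeoBridge
import Cfsg.Agent.Lib.Helper50.TypeCriteria
import Cfsg.Agent.Lib.Helper50.WittMain

set_option autoImplicit false
set_option linter.unusedSimpArgs false
set_option linter.unusedVariables false
set_option linter.unusedSectionVars false

/-! Type (plus / minus) criteria for non-degenerate quadratic forms `Q : (Fin n → F) → F` in the
vocabulary of `Cfsg.Geo`, for the even-dimensional orthogonal maximal-subgroup rows. -/

namespace Cfsg.Agent.Lib.Helper19.OEvenType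

open Module QuadraticMap Cfsg.Agent.Lib.Helper50 Cfsg.Geo

variable {F : Type*} [Field F] [Fintype F] {n : ℕ}
variable (Q : (Fin n → F) → F) (hQ : IsNondegenerateQuadraticForm Q)

theorem qnd_geoForm : QND (geoForm Q hQ) :=
  QND_of_nondegenerate _ (geoForm_nondegenerate Q hQ)

/-- T0: `IsPlusTypeOn Q ⊤` means isometric to the hyperbolic form. -/
theorem isPlusTypeOn_top_iff {M : ℕ} (hn : n = 2 * M) :
    IsPlusTypeOn Q ⊤ ↔ IsPlusType (geoForm Q hQ) M := by
  constructor
  · rintro ⟨U, -, hU, hdim⟩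
    have htop : finrank F (⊤ : Submodule F (Fin n → F)) = n := by
      rw [finrank_top, Module.finrank_fin_fun]
    exact plusType_of_totally_singular M (geoForm Q hQ) (qnd_geoForm Q hQ)
      (by rw [Module.finrank_fin_fun, hn]) U (by omega) hU
  · intro h
    obtain ⟨X, hX, hX0⟩ := exists_totally_singular_of_plusType (geoForm Q hQ) M h
    refine ⟨X, le_top, hX0, ?_⟩
    rw [hX, finrank_top, Module.finrank_fin_fun, hn]

/-- T0': not of plus type means isometric to an elliptic form. -/
theorem minusType_of_not_plus {M : ℕ} (hn : n = 2 * M) (h : ¬ IsPlusTypeOn Q ⊤) :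
    ∃ (m : ℕ) (ζ : F), M = m + 1 ∧ (∀ t : F, t ^ 2 + t + ζ ≠ 0) ∧
      IsMinusType (geoForm Q hQ) m ζ := by
  rcases witt_type n (geoForm Q hQ) (Module.finrank_fin_fun F) (qnd_geoForm Q hQ) with
    ⟨m, hm, hp⟩ | ⟨m, ζ, hm, hζ, hp⟩ | ⟨m, c, hm, -, -⟩
  · exfalso
    apply h
    obtain rfl : m = M := by omega
    exact (isPlusTypeOn_top_iff Q hQ hn).mpr hp
  · exact ⟨m, ζ, by omega, hζ, hp⟩
  · omega

/-- a form is not both of plus type and elliptic -/
theorem not_plus_of_minusType {m : ℕ} {ζ : F} (hn : n = 2 * (m + 1))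
    (hζ : ∀ t : F, t ^ 2 + t + ζ ≠ 0) (h : IsMinusType (geoForm Q hQ) m ζ) :
    ¬ IsPlusTypeOn Q ⊤ := by
  intro hp
  exact not_plus_and_minus (geoForm Q hQ) m ζ hζ ((isPlusTypeOn_top_iff Q hQ hn).mp hp) h

include hQ in
/-- T1 (odd characteristic): the discriminant criterion, in any basis. -/
theorem isPlusTypeOn_top_iff_gram (h2 : (2 : F) ≠ 0) {M : ℕ} (hn : n = 2 * M)
    {κ : Type} [Fintype κ] [DecidableEq κ] (b : Basis κ F (Fin n → F)) :
    IsPlusTypeOn Q ⊤ ↔
      (IsSquare (Matrix.of fun i j => polar Q (b i) (b j)).det ↔ IsSquare ((-1 : F) ^ M)) := by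
  by_cases hp : IsPlusTypeOn Q ⊤
  · have h1 := gram_isSquare_plus (geoForm Q hQ) M ((isPlusTypeOn_top_iff Q hQ hn).mp hp) b
    exact ⟨fun _ => h1, fun _ => hp⟩
  · obtain ⟨m, ζ, hM, hζ, hm⟩ := minusType_of_not_plus Q hQ hn hp
    have h1 := gram_isSquare_minus h2 (geoForm Q hQ) m ζ hζ hm b
    rw [← hM] at h1
    constructor
    · intro h; exact absurd h hp
    · intro h
      exfalso
      have h3 : IsSquare (Matrix.of fun i j => polar (⇑(geoForm Q hQ)) (b i) (b j)).det ↔
          IsSquare ((-1 : F) ^ M) := h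
      tauto

include hQ in
/-- T1 in the standard basis: `HasSquareDiscriminant`. -/
theorem isPlusTypeOn_top_iff_disc (h2 : (2 : F) ≠ 0) {M : ℕ} (hn : n = 2 * M) :
    IsPlusTypeOn Q ⊤ ↔ (HasSquareDiscriminant Q ↔ IsSquare ((-1 : F) ^ M)) := by
  have h := isPlusTypeOn_top_iff_gram Q hQ h2 hn (Pi.basisFun F (Fin n))
  have e : (Matrix.of fun i j => polar Q (Pi.basisFun F (Fin n) i) (Pi.basisFun F (Fin n) j)) =
      gramMatrix (polar Q) := by
    ext i j
    simp [gramMatrix, Pi.basisFun_apply]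
  rw [e] at h
  exact h

/-! ### Orthogonal decompositions into isometric pieces -/

omit [Fintype F] in
/-- an isometry between subspaces preserves the polar form -/
theorem polar_isometry_sub {W W' : Submodule F (Fin n → F)} (e : W ≃ₗ[F] W')
    (he : ∀ w : W, Q ((e w : W') : Fin n → F) = Q (w : Fin n → F)) (x y : W) :
    polar Q ((e x : W') : Fin n → F) ((e y : W') : Fin n → F) =
      polar Q (x : Fin n → F) (y : Fin n → F) := by
  unfold polar
  rw [← Submodule.coe_add, ← map_add, he, he, he, Submodule.coe_add]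

omit [Fintype F] in
/-- T2 (basis): an orthogonal decomposition into `t` isometric `k`-spaces has an adapted basis whose
Gram matrix is block diagonal with `t` equal blocks; its determinant is a `t`-th power. -/
theorem exists_basis_gram_pow {t k : ℕ} (D : Fin t → Submodule F (Fin n → F))
    (hD : IsOrthogonalMDecomposition Q k D) :
    ∃ (b : Basis (Fin k × Fin t) F (Fin n → F)) (d : F),
      (Matrix.of fun i j => polar Q (b i) (b j)).det = d ^ t := by
  classical
  have hdec := hD.decomp.decomp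
  have ht : 0 < t := by have := hdec.two_le; omega
  let i₀ : Fin t := ⟨0, ht⟩
  have hint : DirectSum.IsInternal D :=
    DirectSum.isInternal_submodule_of_iSupIndep_of_iSup_eq_top hdec.indep hdec.iSup_eq_top
  let b₀ : Basis (Fin k) F (D i₀) := Module.finBasisOfFinrankEq F (D i₀) (hdec.finrank_eq i₀)
  choose e he using fun i => hD.isometric i₀ i
  let v : ∀ i : Fin t, Basis (Fin k) F (D i) := fun i => b₀.map (e i)
  let B : Basis (Σ _ : Fin t, Fin k) F (Fin n → F) := hint.collectedBasis v
  let eq : (Σ _ : Fin t, Fin k) ≃ Fin k × Fin t :=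
    (Equiv.sigmaEquivProd (Fin t) (Fin k)).trans (Equiv.prodComm _ _)
  let b : Basis (Fin k × Fin t) F (Fin n → F) := B.reindex eq
  have hb : ∀ (a : Fin k) (i : Fin t), b (a, i) = ((e i (b₀ a) : D i) : Fin n → F) := by
    intro a i
    show (B.reindex eq) (a, i) = _
    rw [Basis.reindex_apply]
    show B ⟨i, a⟩ = _
    rw [show B = hint.collectedBasis v from rfl, DirectSum.IsInternal.collectedBasis_coe]
    simp [v]
  let G₀ : Matrix (Fin k) (Fin k) F :=
    Matrix.of fun a c => polar Q ((b₀ a : D i₀) : Fin n → F) ((b₀ c : D i₀) : Fin n → F)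
  refine ⟨b, G₀.det, ?_⟩
  have hG : (Matrix.of fun i j => polar Q (b i) (b j)) =
      Matrix.blockDiagonal (fun _ : Fin t => G₀) := by
    ext ⟨a, i⟩ ⟨c, j⟩
    rw [Matrix.of_apply, hb, hb, Matrix.blockDiagonal_apply]
    by_cases hij : i = j
    · subst hij
      rw [if_pos rfl, polar_isometry_sub Q (e i) (he i)]
      rfl
    · rw [if_neg hij]
      exact hD.decomp.orthogonal i j hij _ (e i (b₀ a)).2 _ (e j (b₀ c)).2
  rw [hG, Matrix.det_blockDiagonal, Finset.prod_const, Finset.card_univ, Fintype.card_fin]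

omit [Fintype F] in
/-- T2: with an even number of pieces the discriminant is a square (in the adapted basis). -/
theorem exists_basis_gram_isSquare {t k : ℕ} (D : Fin t → Submodule F (Fin n → F))
    (hD : IsOrthogonalMDecomposition Q k D) (ht : Even t) :
    ∃ b : Basis (Fin k × Fin t) F (Fin n → F),
      IsSquare (Matrix.of fun i j => polar Q (b i) (b j)).det := by
  obtain ⟨b, d, hd⟩ := exists_basis_gram_pow Q D hD
  obtain ⟨s, hs⟩ := ht
  refine ⟨b, d ^ s, ?_⟩
  rw [hd, hs, pow_add]

include hQ in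
/-- **X-leaf (i), odd characteristic**: an orthogonal decomposition into an EVEN number of isometric
pieces forces the type: plus iff `(-1)^(n/2)` is a square. -/
theorem isPlusTypeOn_top_iff_of_even_decomposition (h2 : (2 : F) ≠ 0) {M : ℕ} (hn : n = 2 * M)
    {t k : ℕ} (D : Fin t → Submodule F (Fin n → F)) (hD : IsOrthogonalMDecomposition Q k D)
    (ht : Even t) : IsPlusTypeOn Q ⊤ ↔ IsSquare ((-1 : F) ^ M) := by
  obtain ⟨b, hb⟩ := exists_basis_gram_isSquare Q D hD ht
  rw [isPlusTypeOn_top_iff_gram Q hQ h2 hn b]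
  exact ⟨fun h => h.mp hb, fun h => ⟨fun _ => h, fun _ => hb⟩⟩

include hQ in
/-- odd characteristic, `n/2` even, even number of isometric pieces: plus type. -/
theorem isPlusTypeOn_top_of_even_decomposition_of_even (h2 : (2 : F) ≠ 0) {M : ℕ} (hn : n = 2 * M)
    (hM : Even M) {t k : ℕ} (D : Fin t → Submodule F (Fin n → F))
    (hD : IsOrthogonalMDecomposition Q k D) (ht : Even t) : IsPlusTypeOn Q ⊤ := by
  rw [isPlusTypeOn_top_iff_of_even_decomposition Q hQ h2 hn D hD ht, hM.neg_one_pow]
  exact ⟨1, by ring⟩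

/-- `(-1)^M` is a square iff `M` is even or `|F| % 4 ≠ 3`. -/
theorem isSquare_neg_one_pow_iff (M : ℕ) :
    IsSquare ((-1 : F) ^ M) ↔ (Even M ∨ Fintype.card F % 4 ≠ 3) := by
  rcases Nat.even_or_odd M with hM | hM
  · rw [hM.neg_one_pow]
    exact ⟨fun _ => Or.inl hM, fun _ => ⟨1, by ring⟩⟩
  · rw [hM.neg_one_pow, FiniteField.isSquare_neg_one_iff]
    constructor
    · intro h; exact Or.inr h
    · rintro (h | h)
      · exact absurd h (Nat.not_even_iff_odd.mpr hM)
      · exact h

include hQ in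
/-- odd characteristic, `n/2` odd (e.g. `n = 10`), even number of isometric pieces:
plus type iff `|F| ≡ 1 mod 4`. -/
theorem isPlusTypeOn_top_iff_of_even_decomposition_of_odd (h2 : (2 : F) ≠ 0) {M : ℕ}
    (hn : n = 2 * M) (hM : Odd M) {t k : ℕ} (D : Fin t → Submodule F (Fin n → F))
    (hD : IsOrthogonalMDecomposition Q k D) (ht : Even t) :
    IsPlusTypeOn Q ⊤ ↔ Fintype.card F % 4 ≠ 3 := by
  rw [isPlusTypeOn_top_iff_of_even_decomposition Q hQ h2 hn D hD ht, isSquare_neg_one_pow_iff]
  constructor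
  · rintro (h | h)
    · exact absurd h (Nat.not_even_iff_odd.mpr hM)
    · exact h
  · intro h; exact Or.inr h

end Cfsg.Agent.Lib.Helper19.OEvenType
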