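import Cfsg.Agent.Lib.Helper19.OEvenType

set_option autoImplicit false
set_option linter.unusedSimpArgs false
set_option linter.unusedVariables false
set_option linter.unusedSectionVars false

/-! Keystone K-OEvenX-X5 (582625): a tensor decomposition `sym ⊗ sym` with both factors of even
dimension forces plus type (odd characteristic). -/

namespace Cfsg.Agent.Lib.Helper19.OEvenX

open Cfsg Cfsg.Geo Module QuadraticMap
open scoped Matrix Kronecker

variable {F : Type*} [Field F] [Fintype F] {n : ℕ}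

omit [Fintype F] in
theorem formOfGram_single {κ : Type} [Fintype κ] [DecidableEq κ] (G : Matrix κ κ F) (p p' : κ) :
    formOfGram id G (Pi.single p 1) (Pi.single p' 1) = G p p' := by
  unfold formOfGram
  rw [Finset.sum_eq_single p, Finset.sum_eq_single p']
  · simp
  · intro b _ hb
    simp [Pi.single_eq_of_ne hb]
  · simp
  · intro a _ ha
    apply Finset.sum_eq_zero
    intro b _
    simp [Pi.single_eq_of_ne ha]
  · simp

omit [Fintype F] in
/-- the basis formed by the columns of `P`, indexed through `e` -/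
theorem exists_tensor_basis {κ : Type} [Fintype κ] [DecidableEq κ] (e : Fin n ≃ κ)
    (P : GL (Fin n) F) :
    ∃ b : Basis κ F (Fin n → F), ∀ p : κ,
      b p = (P : Matrix (Fin n) (Fin n) F) *ᵥ ((Pi.single p (1 : F) : κ → F) ∘ e) := by
  let L : (Fin n → F) ≃ₗ[F] (Fin n → F) :=
    LinearEquiv.ofLinearMap (Matrix.toLin' (P : Matrix (Fin n) (Fin n) F))
      (Matrix.toLin' ((P⁻¹ : GL (Fin n) F) : Matrix (Fin n) (Fin n) F))
      (by rw [← Matrix.toLin'_mul, ← Units.val_mul, mul_inv_cancel, Units.val_one,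
        Matrix.toLin'_one])
      (by rw [← Matrix.toLin'_mul, ← Units.val_mul, inv_mul_cancel, Units.val_one,
        Matrix.toLin'_one])
  refine ⟨((Pi.basisFun F (Fin n)).reindex e).map L, fun p => ?_⟩
  rw [Basis.map_apply, Basis.reindex_apply, Pi.basisFun_apply]
  show Matrix.toLin' (P : Matrix (Fin n) (Fin n) F) _ = _
  rw [Matrix.toLin'_apply]
  congr 1
  ext i
  simp only [Function.comp_apply, Pi.single_apply]
  by_cases h : i = e.symm p
  · subst h; simp
  · rw [if_neg h, if_neg]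
    intro h'
    exact h (by rw [← h', Equiv.symm_apply_apply])

/-- K-OEvenX-X5.  `q` odd, both factors of even dimension: plus type. -/
theorem plus_of_tensor_symm_even (h2 : (2 : F) ≠ 0) (Q : (Fin n → F) → F)
    (hQ : IsNondegenerateQuadraticForm Q)
    {n₁ n₂ : ℕ} (hn₁ : Even n₁) (hn₂ : Even n₂) (e : Fin n ≃ Fin n₁ × Fin n₂) (P : GL (Fin n) F)
    (f₁ : (Fin n₁ → F) → (Fin n₁ → F) → F) (f₂ : (Fin n₂ → F) → (Fin n₂ → F) → F)
    (hf₁ : IsSymmetricForm f₁) (hf₂ : IsSymmetricForm f₂)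
    (hT : IsTensorFormStructure id (QuadraticMap.polar Q) f₁ f₂ e P) : IsPlusTypeOn Q ⊤ := by
  classical
  obtain ⟨c, hc, hform⟩ := hT
  obtain ⟨b, hb⟩ := exists_tensor_basis e P
  have hcard : n = n₁ * n₂ := by
    have := Fintype.card_congr e
    rw [Fintype.card_fin, Fintype.card_prod, Fintype.card_fin, Fintype.card_fin] at this
    exact this
  obtain ⟨s₁, hs₁⟩ := hn₁
  obtain ⟨s₂, hs₂⟩ := hn₂
  have hn : n = 2 * (2 * s₁ * s₂) := by rw [hcard, hs₁, hs₂]; ring
  have hG : (Matrix.of fun i j => polar Q (b i) (b j)) =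
      c • (gramMatrix f₁ ⊗ₖ gramMatrix f₂) := by
    ext p p'
    rw [Matrix.of_apply, hb, hb, hform, formOfGram_single, Matrix.smul_apply, smul_eq_mul]
  rw [Cfsg.Agent.Lib.Helper19.OEvenType.isPlusTypeOn_top_iff_gram Q hQ h2 hn b, hG,
    Matrix.det_smul, Matrix.det_kronecker, Fintype.card_prod, Fintype.card_fin, Fintype.card_fin]
  have e1 : IsSquare (c ^ (n₁ * n₂) * ((gramMatrix f₁).det ^ n₂ * (gramMatrix f₂).det ^ n₁)) := by
    apply IsSquare.mul
    · exact Even.isSquare_pow (by rw [hs₁]; exact ⟨s₁ * n₂, by ring⟩) c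
    · apply IsSquare.mul
      · exact Even.isSquare_pow ⟨s₂, hs₂⟩ _
      · exact Even.isSquare_pow ⟨s₁, hs₁⟩ _
  have e2 : IsSquare ((-1 : F) ^ (2 * s₁ * s₂)) :=
    Even.isSquare_pow ⟨s₁ * s₂, by ring⟩ _
  exact ⟨fun _ => e2, fun _ => e1⟩

end Cfsg.Agent.Lib.Helper19.OEvenX
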