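import Cfsg.Agent.Lib.Helper19.Unitary

set_option autoImplicit false

namespace Cfsg.Agent.Lib.Helper19

open Matrix

section field

variable (F : Type*) [Field F] [Fintype F] (q : ℕ)

/-- The group of norm-one elements: `x^(q+1) = 1`. -/
def normOne : Subgroup Fˣ := (powMonoidHom (q + 1) : Fˣ →* Fˣ).ker

variable {F q}

omit [Fintype F] in
theorem mem_normOne {x : Fˣ} : x ∈ normOne F q ↔ x ^ (q + 1) = 1 := by
  unfold normOne
  rw [MonoidHom.mem_ker, powMonoidHom_apply]

theorem card_normOne (hF : Fintype.card F = q ^ 2) : Nat.card (normOne F q) = q + 1 := by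
  unfold normOne
  rw [IsCyclic.card_powMonoidHom_ker, Nat.card_units, Nat.card_eq_fintype_card, hF]
  have hq := q_pos hF
  have h1 : q ^ 2 - 1 = (q - 1) * (q + 1) := by
    obtain ⟨r, rfl⟩ : ∃ r, q = r + 1 := ⟨q - 1, by omega⟩
    simp only [Nat.add_sub_cancel]
    have : (r + 1) ^ 2 = r * (r + 1 + 1) + 1 := by ring
    rw [this, Nat.add_sub_cancel]
  rw [h1]
  exact Nat.gcd_eq_right (Dvd.intro_left _ rfl)

variable (F q) in
/-- the subgroup of `n`-th powers of norm-one elements -/
def normOnePow (n : ℕ) : Subgroup (normOne F q) := (powMonoidHom n : normOne F q →* normOne F q).range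

theorem exists_theta (hF : Fintype.card F = q ^ 2) (n : ℕ) :
    ∃ θ : normOne F q →* Multiplicative (ZMod (Nat.gcd n (q + 1))),
      Function.Surjective θ ∧ ∀ u, θ u = 1 ↔ ∃ w : normOne F q, w ^ n = u := by
  classical
  set R := normOnePow F q n with hR
  have hcyc : IsCyclic (normOne F q) := inferInstance
  have hcycQ : IsCyclic (normOne F q ⧸ R) :=
    isCyclic_of_surjective (QuotientGroup.mk' R) (QuotientGroup.mk'_surjective R)
  have hcard : Nat.card (normOne F q ⧸ R) =
      Nat.card (Multiplicative (ZMod (Nat.gcd n (q + 1)))) := by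
    rw [← Subgroup.index_eq_card, hR, normOnePow, IsCyclic.index_powMonoidHom_range,
      card_normOne hF, Nat.card_congr Multiplicative.toAdd, Nat.card_zmod, Nat.gcd_comm]
  let e := mulEquivOfCyclicCardEq hcard
  refine ⟨e.toMonoidHom.comp (QuotientGroup.mk' R), ?_, ?_⟩
  · exact e.surjective.comp (QuotientGroup.mk'_surjective R)
  · intro u
    simp only [MonoidHom.coe_comp, MulEquiv.coe_toMonoidHom, Function.comp_apply,
      EmbeddingLike.map_eq_one_iff, QuotientGroup.mk'_apply, QuotientGroup.eq_one_iff]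
    rw [hR, normOnePow, MonoidHom.mem_range]
    simp only [powMonoidHom_apply]

end field

end Cfsg.Agent.Lib.Helper19

namespace Cfsg.Agent.Lib.Helper19

open Matrix

section matrix

variable {F : Type*} [Field F] [Fintype F] {q : ℕ} {n : ℕ}

omit [Fintype F] in
theorem mem_GU_iff (g : Matrix.GeneralLinearGroup (Fin n) F) :
    g ∈ Cfsg.GU n F q ↔ ∀ x y, Cfsg.hermForm n F q ((g : Matrix (Fin n) (Fin n) F) *ᵥ x)
      ((g : Matrix (Fin n) (Fin n) F) *ᵥ y) = Cfsg.hermForm n F q x y := Iff.rfl

theorem hermForm_single_single (hF : Fintype.card F = q ^ 2) (a b : Fin n) :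
    Cfsg.hermForm n F q (Pi.single a 1) (Pi.single b 1) = if a = b then 1 else 0 := by
  have hq := (q_pos hF).ne'
  unfold Cfsg.hermForm
  rw [Finset.sum_eq_single a]
  · by_cases hab : a = b
    · subst hab; simp
    · simp [hab, hq]
  · intro i _ hi
    simp [Pi.single_apply, hi]
  · intro h; exact absurd (Finset.mem_univ a) h

theorem GU_transpose_mul_conj (hF : Fintype.card F = q ^ 2)
    (g : Matrix.GeneralLinearGroup (Fin n) F) (hg : g ∈ Cfsg.GU n F q) :
    (g : Matrix (Fin n) (Fin n) F)ᵀ * (frobQ hF).mapMatrix (g : Matrix (Fin n) (Fin n) F) = 1 := by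
  ext a b
  have h := (mem_GU_iff g).mp hg (Pi.single a 1) (Pi.single b 1)
  rw [hermForm_single_single hF] at h
  rw [Matrix.one_apply, ← h]
  simp only [Matrix.mul_apply, Matrix.transpose_apply, RingHom.mapMatrix_apply, Matrix.map_apply,
    frobQ_apply, Cfsg.hermForm, Matrix.mulVec_single_one, Matrix.col_apply]

theorem det_pow_of_mem_GU (hF : Fintype.card F = q ^ 2)
    (g : Matrix.GeneralLinearGroup (Fin n) F) (hg : g ∈ Cfsg.GU n F q) :
    (g : Matrix (Fin n) (Fin n) F).det ^ (q + 1) = 1 := by
  have h := congrArg Matrix.det (GU_transpose_mul_conj hF g hg)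
  rw [Matrix.det_mul, Matrix.det_transpose, ← RingHom.map_det, frobQ_apply, Matrix.det_one] at h
  rw [pow_succ']
  exact h

theorem det_mem_normOne (hF : Fintype.card F = q ^ 2)
    (g : Matrix.GeneralLinearGroup (Fin n) F) (hg : g ∈ Cfsg.GU n F q) :
    Matrix.GeneralLinearGroup.det g ∈ normOne F q := by
  rw [mem_normOne]
  apply Units.ext
  rw [Units.val_pow_eq_pow_val, Matrix.GeneralLinearGroup.val_det_apply, Units.val_one]
  exact det_pow_of_mem_GU hF g hg

end matrix

end Cfsg.Agent.Lib.Helper19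

namespace Cfsg.Agent.Lib.Helper19

open Matrix

section diag

variable {F : Type*} [Field F] [Fintype F] {q : ℕ} {n : ℕ}

omit [Fintype F] in
/-- the diagonal element of `GL` with unit entries -/
def diagGL (d : Fin n → Fˣ) : Matrix.GeneralLinearGroup (Fin n) F where
  val := Matrix.diagonal (fun i => (d i : F))
  inv := Matrix.diagonal (fun i => ((d i)⁻¹ : Fˣ))
  val_inv := by
    rw [Matrix.diagonal_mul_diagonal]
    simp
  inv_val := by
    rw [Matrix.diagonal_mul_diagonal]
    simp

omit [Fintype F] in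
theorem diagGL_val (d : Fin n → Fˣ) :
    ((diagGL d : Matrix.GeneralLinearGroup (Fin n) F) : Matrix (Fin n) (Fin n) F) =
      Matrix.diagonal (fun i => (d i : F)) := rfl

omit [Fintype F] in
theorem det_diagGL (d : Fin n → Fˣ) :
    Matrix.GeneralLinearGroup.det (diagGL d) = ∏ i, d i := by
  apply Units.ext
  rw [Matrix.GeneralLinearGroup.val_det_apply, diagGL_val, Matrix.det_diagonal]
  simp

omit [Fintype F] in
theorem diagGL_mem_GU (d : Fin n → Fˣ) (hd : ∀ i, d i ∈ normOne F q) :
    diagGL d ∈ Cfsg.GU n F q := by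
  rw [mem_GU_iff]
  intro x y
  unfold Cfsg.hermForm
  apply Finset.sum_congr rfl
  intro i _
  rw [diagGL_val, Matrix.mulVec_diagonal, Matrix.mulVec_diagonal, mul_pow]
  have h := mem_normOne.mp (hd i)
  have h' : (d i : F) ^ (q + 1) = 1 := by
    rw [← Units.val_pow_eq_pow_val, h, Units.val_one]
  rw [pow_succ'] at h'
  calc (d i : F) * x i * ((d i : F) ^ q * y i ^ q)
      = ((d i : F) * (d i : F) ^ q) * (x i * y i ^ q) := by ring
    _ = x i * y i ^ q := by rw [h', one_mul]

omit [Fintype F] in
theorem swap_mem_GU (i j : Fin n) :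
    Matrix.GeneralLinearGroup.swap F i j ∈ Cfsg.GU n F q := by
  rw [mem_GU_iff]
  intro x y
  simp only [Matrix.GeneralLinearGroup.val_swap, Matrix.swap_mulVec]
  unfold Cfsg.hermForm
  exact Equiv.sum_comp (Equiv.swap i j) (fun k => x k * y k ^ q)

theorem exists_normOne_ne_one (hF : Fintype.card F = q ^ 2) :
    ∃ u : Fˣ, u ∈ normOne F q ∧ u ≠ 1 := by
  have hcard := card_normOne hF
  have hq := q_pos hF
  have : Nontrivial (normOne F q) := by
    rw [← Finite.one_lt_card_iff_nontrivial, hcard]; omega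
  obtain ⟨u, hu⟩ := exists_ne (1 : normOne F q)
  exact ⟨u, u.2, fun h => hu (Subtype.ext h)⟩

theorem central_GU_scalar (hF : Fintype.card F = q ^ 2) (hn : 0 < n)
    (z : Matrix.GeneralLinearGroup (Fin n) F) (hz : z ∈ Cfsg.GU n F q)
    (hcomm : ∀ g ∈ Cfsg.GU n F q, g * z = z * g) :
    ∃ u : Fˣ, u ∈ normOne F q ∧ z = diagGL (fun _ => u) := by
  classical
  obtain ⟨u₀, hu₀, hu₀1⟩ := exists_normOne_ne_one hF
  set Z : Matrix (Fin n) (Fin n) F := (z : Matrix (Fin n) (Fin n) F) with hZ
  -- off-diagonal entries vanish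
  have hoff : ∀ k j, k ≠ j → Z k j = 0 := by
    intro k j hkj
    have hmem : diagGL (Function.update (fun _ => (1 : Fˣ)) k u₀) ∈ Cfsg.GU n F q := by
      apply diagGL_mem_GU
      intro i
      by_cases hik : i = k
      · subst hik; simpa using hu₀
      · rw [Function.update_of_ne hik]; exact Subgroup.one_mem _
    have h1 := congrArg (fun g : Matrix.GeneralLinearGroup (Fin n) F =>
      (g : Matrix (Fin n) (Fin n) F) k j) (hcomm _ hmem)
    simp only [Matrix.GeneralLinearGroup.coe_mul, diagGL_val, Matrix.diagonal_mul,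
      Matrix.mul_diagonal] at h1
    rw [Function.update_self, Function.update_of_ne (Ne.symm hkj)] at h1
    have h2 : ((u₀ : F) - 1) * Z k j = 0 := by
      rw [← hZ] at h1
      simp only [Units.val_one, mul_one] at h1
      linear_combination h1
    rcases mul_eq_zero.mp h2 with h | h
    · exfalso; apply hu₀1; apply Units.ext; rw [Units.val_one]; exact sub_eq_zero.mp h
    · exact h
  -- diagonal entries agree
  have hdiag : ∀ i j, Z i i = Z j j := by
    intro i j
    have h1 := congrArg (fun g : Matrix.GeneralLinearGroup (Fin n) F =>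
      (g : Matrix (Fin n) (Fin n) F) i j) (hcomm _ (swap_mem_GU (q := q) i j))
    simp only [Matrix.GeneralLinearGroup.coe_mul, Matrix.GeneralLinearGroup.val_swap,
      Matrix.swap_mul_apply_left, Matrix.mul_swap_apply_right] at h1
    exact h1.symm
  set i₀ : Fin n := ⟨0, hn⟩
  set c : F := Z i₀ i₀ with hc
  have hZc : Z = Matrix.diagonal (fun _ => c) := by
    ext i j
    by_cases hij : i = j
    · subst hij; rw [Matrix.diagonal_apply_eq]; exact hdiag i i₀
    · rw [Matrix.diagonal_apply_ne _ hij]; exact hoff i j hij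
  -- c^(q+1) = 1
  have hcq : c * c ^ q = 1 := by
    have h := (mem_GU_iff z).mp hz (Pi.single i₀ 1) (Pi.single i₀ 1)
    rw [hermForm_single_single hF, if_pos rfl, ← hZ, hZc] at h
    unfold Cfsg.hermForm at h
    rw [Finset.sum_eq_single i₀] at h
    · simpa [Matrix.mulVec_diagonal] using h
    · intro i _ hi
      simp [Matrix.mulVec_diagonal, hi]
    · intro h'; exact absurd (Finset.mem_univ _) h'
  have hc0 : c ≠ 0 := by
    rintro h0; rw [h0] at hcq; simp at hcq
  refine ⟨Units.mk0 c hc0, ?_, ?_⟩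
  · rw [mem_normOne]
    apply Units.ext
    rw [Units.val_pow_eq_pow_val, Units.val_mk0, Units.val_one, pow_succ']
    exact hcq
  · apply Units.ext
    rw [diagGL_val]
    exact hZc

end diag

end Cfsg.Agent.Lib.Helper19
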