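import Cfsg.Prelude.Def_ClassicalGeometry
import Cfsg.Prelude.Def_LieClassical

set_option autoImplicit false

namespace Cfsg.Agent.Lib.Helper19

open Matrix

variable {F : Type*} [Field F] [Fintype F] {q : ℕ}

/-- If `|F| = q^2` then `x ↦ x^q` is a ring endomorphism of `F`. -/
theorem exists_frobQ (hF : Fintype.card F = q ^ 2) :
    ∃ φ : F →+* F, ∀ x, φ x = x ^ q := by
  obtain ⟨p, hchar⟩ := CharP.exists F
  have hp : p.Prime := CharP.char_is_prime F p
  have : Fact p.Prime := ⟨hp⟩
  obtain ⟨k, _, hk⟩ := FiniteField.card F p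
  have hdvd : q ∣ p ^ (k : ℕ) := by
    rw [← hk, hF]; exact Dvd.intro_left (q ^ 1) (by ring)
  obtain ⟨j, _, hj⟩ := (Nat.dvd_prime_pow hp).mp hdvd
  refine ⟨iterateFrobenius F p j, ?_⟩
  intro x
  rw [iterateFrobenius_def, hj]

/-- The ring endomorphism `x ↦ x^q` of a field with `q^2` elements. -/
noncomputable def frobQ (hF : Fintype.card F = q ^ 2) : F →+* F := (exists_frobQ hF).choose

theorem frobQ_apply (hF : Fintype.card F = q ^ 2) (x : F) : frobQ hF x = x ^ q :=
  (exists_frobQ hF).choose_spec x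

theorem pow_q_pow_q (hF : Fintype.card F = q ^ 2) (x : F) : (x ^ q) ^ q = x := by
  rw [← pow_mul, ← sq, ← hF, FiniteField.pow_card]

theorem frobQ_frobQ (hF : Fintype.card F = q ^ 2) (x : F) : frobQ hF (frobQ hF x) = x := by
  rw [frobQ_apply, frobQ_apply, pow_q_pow_q hF]

theorem add_pow_q (hF : Fintype.card F = q ^ 2) (x y : F) : (x + y) ^ q = x ^ q + y ^ q := by
  rw [← frobQ_apply hF, map_add, frobQ_apply, frobQ_apply]

theorem sum_pow_q (hF : Fintype.card F = q ^ 2) {ι : Type*} (s : Finset ι) (f : ι → F) :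
    (∑ i ∈ s, f i) ^ q = ∑ i ∈ s, (f i) ^ q := by
  rw [← frobQ_apply hF, map_sum]
  simp only [frobQ_apply]

theorem q_pos (hF : Fintype.card F = q ^ 2) : 0 < q := by
  rcases Nat.eq_zero_or_pos q with h | h
  · subst h
    have : 0 < Fintype.card F := Fintype.card_pos
    omega
  · exact h

theorem one_lt_q (hF : Fintype.card F = q ^ 2) : 1 < q := by
  have h1 : 1 < Fintype.card F := Fintype.one_lt_card
  rw [hF] at h1
  by_contra h
  push Not at h
  have : q ^ 2 ≤ 1 ^ 2 := Nat.pow_le_pow_left h 2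
  omega

section herm

variable {n : ℕ}

omit [Fintype F] in
theorem hermForm_add_left (x x' y : Fin n → F) :
    Cfsg.hermForm n F q (x + x') y = Cfsg.hermForm n F q x y + Cfsg.hermForm n F q x' y := by
  simp [Cfsg.hermForm, add_mul, Finset.sum_add_distrib]

omit [Fintype F] in
theorem hermForm_smul_left (a : F) (x y : Fin n → F) :
    Cfsg.hermForm n F q (a • x) y = a * Cfsg.hermForm n F q x y := by
  simp [Cfsg.hermForm, Finset.mul_sum, mul_assoc]

theorem hermForm_add_right (hF : Fintype.card F = q ^ 2) (x y y' : Fin n → F) :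
    Cfsg.hermForm n F q x (y + y') = Cfsg.hermForm n F q x y + Cfsg.hermForm n F q x y' := by
  simp [Cfsg.hermForm, add_pow_q hF, mul_add, Finset.sum_add_distrib]

omit [Fintype F] in
theorem hermForm_smul_right (a : F) (x y : Fin n → F) :
    Cfsg.hermForm n F q x (a • y) = a ^ q * Cfsg.hermForm n F q x y := by
  simp only [Cfsg.hermForm, Finset.mul_sum, Pi.smul_apply, smul_eq_mul, mul_pow]
  apply Finset.sum_congr rfl
  intro i _
  ring

theorem hermForm_conj (hF : Fintype.card F = q ^ 2) (x y : Fin n → F) :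
    (Cfsg.hermForm n F q x y) ^ q = Cfsg.hermForm n F q y x := by
  unfold Cfsg.hermForm
  rw [sum_pow_q hF]
  apply Finset.sum_congr rfl
  intro i _
  rw [mul_pow, pow_q_pow_q hF, mul_comm]

omit [Fintype F] in
theorem unitaryTransvection_mulVec (v : Fin n → F) (c : F) (x : Fin n → F) :
    Cfsg.unitaryTransvection n q v c *ᵥ x = x + (c * Cfsg.hermForm n F q x v) • v := by
  unfold Cfsg.unitaryTransvection
  rw [Matrix.add_mulVec, Matrix.one_mulVec, Matrix.smul_mulVec, Matrix.vecMulVec_mulVec]
  congr 1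
  ext i
  simp only [Pi.smul_apply, smul_eq_mul, MulOpposite.smul_eq_mul_unop, MulOpposite.unop_op,
    Cfsg.hermForm, dotProduct]
  have : ∑ j, v j ^ q * x j = ∑ j, x j * v j ^ q := by
    apply Finset.sum_congr rfl; intro j _; ring
  rw [this]; ring

/-- The defect of the transvection map from being an isometry. -/
theorem hermForm_unitaryTransvection (hF : Fintype.card F = q ^ 2) (v : Fin n → F) (c : F)
    (hv0 : Cfsg.hermForm n F q v v = 0) (x y : Fin n → F) :
    Cfsg.hermForm n F q (Cfsg.unitaryTransvection n q v c *ᵥ x)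
        (Cfsg.unitaryTransvection n q v c *ᵥ y) =
      Cfsg.hermForm n F q x y +
        (c + c ^ q) * (Cfsg.hermForm n F q x v * Cfsg.hermForm n F q v y) := by
  simp only [unitaryTransvection_mulVec, hermForm_add_left,
    hermForm_add_right hF, hermForm_smul_left, hermForm_smul_right, hv0, mul_pow,
    hermForm_conj hF]
  ring

end herm

end Cfsg.Agent.Lib.Helper19
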