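import Cfsg.Prelude.Def_ClassicalGeometry

set_option autoImplicit false

namespace Cfsg.Agent.Lib.Helper19

open Matrix

variable {ι : Type} [Fintype ι] [DecidableEq ι] {F : Type*}

omit [DecidableEq ι] in
/-- commutative version of `Matrix.vecMulVec_mulVec`. -/
theorem vecMulVec_mulVec_comm [CommRing F] (u w x : ι → F) :
    Matrix.vecMulVec u w *ᵥ x = (w ⬝ᵥ x) • u := by
  rw [Matrix.vecMulVec_mulVec]
  ext i
  simp [mul_comm]

/-- The polar vector computes the polar form. -/
theorem polarVec_dotProduct [CommRing F] (Q : QuadraticForm F (ι → F)) (v x : ι → F) :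
    Cfsg.polarVec (⇑Q) v ⬝ᵥ x = QuadraticMap.polar (⇑Q) v x := by
  have h := LinearMap.pi_apply_eq_sum_univ (QuadraticMap.polarBilin Q v) x
  rw [QuadraticMap.polarBilin_apply_apply] at h
  rw [h]
  simp only [dotProduct, Cfsg.polarVec, smul_eq_mul, QuadraticMap.polarBilin_apply_apply]
  apply Finset.sum_congr rfl
  intro i _
  rw [mul_comm]
  congr 2
  ext j
  simp [Pi.single_apply, eq_comm]

theorem det_one_add_smul_vecMulVec [CommRing F] (c : F) (u w : ι → F) :
    (1 + c • Matrix.vecMulVec u w).det = 1 + c * (w ⬝ᵥ u) := by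
  rw [← Matrix.smul_vecMulVec, Matrix.vecMulVec_eq Unit,
    Matrix.det_one_add_replicateCol_mul_replicateRow]
  simp [dotProduct_smul]

theorem reflectionMatrix_mulVec [Field F] (Q : QuadraticForm F (ι → F)) (v x : ι → F) :
    Cfsg.reflectionMatrix (⇑Q) v *ᵥ x = x - ((Q v)⁻¹ * QuadraticMap.polar (⇑Q) v x) • v := by
  unfold Cfsg.reflectionMatrix
  rw [Matrix.sub_mulVec, Matrix.one_mulVec, Matrix.smul_mulVec, vecMulVec_mulVec_comm,
    polarVec_dotProduct, smul_smul]

theorem siegelMatrix_mulVec [CommRing F] (Q : QuadraticForm F (ι → F)) (u v x : ι → F) (c : F) :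
    Cfsg.siegelMatrix (⇑Q) u v c *ᵥ x =
      x + c • (QuadraticMap.polar (⇑Q) u x • v - QuadraticMap.polar (⇑Q) v x • u) := by
  unfold Cfsg.siegelMatrix
  rw [Matrix.add_mulVec, Matrix.one_mulVec, Matrix.smul_mulVec, Matrix.sub_mulVec,
    vecMulVec_mulVec_comm, vecMulVec_mulVec_comm, polarVec_dotProduct, polarVec_dotProduct]

end Cfsg.Agent.Lib.Helper19

namespace Cfsg.Agent.Lib.Helper19

open Matrix

variable {ι : Type} [Fintype ι] [DecidableEq ι] {F : Type*}

theorem reflectionMatrix_isometry [Field F] (Q : QuadraticForm F (ι → F)) (v : ι → F)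
    (hv : Q v ≠ 0) (x : ι → F) : Q (Cfsg.reflectionMatrix (⇑Q) v *ᵥ x) = Q x := by
  rw [reflectionMatrix_mulVec, sub_eq_add_neg, ← neg_smul]
  have h1 : Q (x + (-((Q v)⁻¹ * QuadraticMap.polar (⇑Q) v x)) • v) =
      Q x + Q ((-((Q v)⁻¹ * QuadraticMap.polar (⇑Q) v x)) • v) +
        QuadraticMap.polar (⇑Q) x ((-((Q v)⁻¹ * QuadraticMap.polar (⇑Q) v x)) • v) := by
    simp only [QuadraticMap.polar]; ring
  rw [h1, QuadraticMap.map_smul, QuadraticMap.polar_smul_right, QuadraticMap.polar_comm (⇑Q) x v]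
  simp only [smul_eq_mul]
  have h2 : Q v * (Q v)⁻¹ = 1 := mul_inv_cancel₀ hv
  generalize QuadraticMap.polar (⇑Q) v x = b
  generalize (Q v)⁻¹ = i at h2 ⊢
  linear_combination (b ^ 2 * i) * h2

theorem reflectionMatrix_det [Field F] (Q : QuadraticForm F (ι → F)) (v : ι → F)
    (hv : Q v ≠ 0) : (Cfsg.reflectionMatrix (⇑Q) v).det = -1 := by
  unfold Cfsg.reflectionMatrix
  rw [sub_eq_add_neg, ← neg_smul, det_one_add_smul_vecMulVec, polarVec_dotProduct,
    QuadraticMap.polar_self]
  field_simp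
  ring

theorem mem_isometryGroup_iff [Field F] (Q : (ι → F) → F) (g : Matrix.GeneralLinearGroup ι F) :
    g ∈ Cfsg.isometryGroup F Q ↔ ∀ u, Q ((g : Matrix ι ι F) *ᵥ u) = Q u := by
  unfold Cfsg.isometryGroup Cfsg.preserving
  simp only [Subgroup.mem_mk, Submonoid.mem_mk, Subsemigroup.mem_mk, Set.mem_ofPred_eq,
    Units.coeHom_apply]
  constructor
  · intro h u; exact h u u
  · intro h u _; exact h u

/-- An isometry of a quadratic form with nondegenerate polar form has determinant of square one. -/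
theorem det_mul_self_of_isometry [Field F] (Q : QuadraticForm F (ι → F))
    (hQ : (QuadraticMap.polarBilin Q).Nondegenerate) (A : Matrix ι ι F)
    (hA : ∀ u, Q (A *ᵥ u) = Q u) : A.det * A.det = 1 := by
  set B : LinearMap.BilinForm F (ι → F) := QuadraticMap.polarBilin Q with hB
  have hcomp : LinearMap.BilinForm.comp B (Matrix.toLin' A) (Matrix.toLin' A) = B := by
    refine LinearMap.ext₂ fun x y => ?_
    simp only [LinearMap.BilinForm.comp_apply, hB, QuadraticMap.polarBilin_apply_apply,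
      Matrix.toLin'_apply, QuadraticMap.polar]
    rw [← Matrix.mulVec_add, hA, hA, hA]
  have hM := congrArg LinearMap.BilinForm.toMatrix' hcomp
  rw [LinearMap.BilinForm.toMatrix'_comp, LinearMap.toMatrix'_toLin'] at hM
  have hdet := congrArg Matrix.det hM
  rw [Matrix.det_mul, Matrix.det_mul, Matrix.det_transpose] at hdet
  have hne : (LinearMap.BilinForm.toMatrix' B).det ≠ 0 := by
    rw [← Matrix.nondegenerate_iff_det_ne_zero]
    exact LinearMap.BilinForm.nondegenerate_toMatrix'_iff.mpr hQ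
  have : (A.det * A.det - 1) * (LinearMap.BilinForm.toMatrix' B).det = 0 := by
    linear_combination hdet
  rcases mul_eq_zero.mp this with h | h
  · linear_combination h
  · exact absurd h hne

end Cfsg.Agent.Lib.Helper19
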