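import Mathlib
import Cfsg.Agent.S0802
import Cfsg.Agent.S0805
import Cfsg.Agent.S2231

set_option autoImplicit false
set_option linter.unusedSimpArgs false
set_option linter.unusedSectionVars false

namespace Cfsg.Agent.Lib.Helper19.TwoTrans

open Matrix Cfsg.Agent.Lib.Helper60 Cfsg.Agent.S0807 Cfsg.Agent.S0808 Cfsg.Agent.S0802

section mats
variable {F : Type*} [Field F]

/-- lower unitriangular matrices -/
def lmat (b : F) : Matrix.SpecialLinearGroup (Fin 2) F :=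
  ⟨!![1, 0; b, 1], by simp [Matrix.det_fin_two]⟩

/-- antidiagonal elements -/
def wmat (a : F) (ha : a ≠ 0) : Matrix.SpecialLinearGroup (Fin 2) F :=
  ⟨!![0, a; -a⁻¹, 0], by simp [Matrix.det_fin_two, ha]⟩

/-- diagonal elements -/
def tmat (t : F) (ht : t ≠ 0) : Matrix.SpecialLinearGroup (Fin 2) F :=
  ⟨!![t, 0; 0, t⁻¹], by simp [Matrix.det_fin_two, ht]⟩

@[simp] theorem lmat00 (b : F) : (lmat b).1 0 0 = 1 := rfl
@[simp] theorem lmat01 (b : F) : (lmat b).1 0 1 = 0 := rfl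
@[simp] theorem lmat10 (b : F) : (lmat b).1 1 0 = b := rfl
@[simp] theorem lmat11 (b : F) : (lmat b).1 1 1 = 1 := rfl
@[simp] theorem wmat00 (a : F) (ha : a ≠ 0) : (wmat a ha).1 0 0 = 0 := rfl
@[simp] theorem wmat01 (a : F) (ha : a ≠ 0) : (wmat a ha).1 0 1 = a := rfl
@[simp] theorem wmat10 (a : F) (ha : a ≠ 0) : (wmat a ha).1 1 0 = -a⁻¹ := rfl
@[simp] theorem wmat11 (a : F) (ha : a ≠ 0) : (wmat a ha).1 1 1 = 0 := rfl
@[simp] theorem tmat00 (t : F) (ht : t ≠ 0) : (tmat t ht).1 0 0 = t := rfl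
@[simp] theorem tmat01 (t : F) (ht : t ≠ 0) : (tmat t ht).1 0 1 = 0 := rfl
@[simp] theorem tmat10 (t : F) (ht : t ≠ 0) : (tmat t ht).1 1 0 = 0 := rfl
@[simp] theorem tmat11 (t : F) (ht : t ≠ 0) : (tmat t ht).1 1 1 = t⁻¹ := rfl

theorem mul_entries (A B : Matrix.SpecialLinearGroup (Fin 2) F) :
    (A * B).1 0 0 = A.1 0 0 * B.1 0 0 + A.1 0 1 * B.1 1 0 ∧
    (A * B).1 0 1 = A.1 0 0 * B.1 0 1 + A.1 0 1 * B.1 1 1 ∧
    (A * B).1 1 0 = A.1 1 0 * B.1 0 0 + A.1 1 1 * B.1 1 0 ∧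
    (A * B).1 1 1 = A.1 1 0 * B.1 0 1 + A.1 1 1 * B.1 1 1 := by
  refine ⟨?_, ?_, ?_, ?_⟩ <;>
    simp [Matrix.SpecialLinearGroup.coe_mul, mmul00, mmul01, mmul10, mmul11]

theorem m00 (A B : Matrix.SpecialLinearGroup (Fin 2) F) :
    (A * B).1 0 0 = A.1 0 0 * B.1 0 0 + A.1 0 1 * B.1 1 0 := (mul_entries A B).1
theorem m01 (A B : Matrix.SpecialLinearGroup (Fin 2) F) :
    (A * B).1 0 1 = A.1 0 0 * B.1 0 1 + A.1 0 1 * B.1 1 1 := (mul_entries A B).2.1
theorem m10 (A B : Matrix.SpecialLinearGroup (Fin 2) F) :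
    (A * B).1 1 0 = A.1 1 0 * B.1 0 0 + A.1 1 1 * B.1 1 0 := (mul_entries A B).2.2.1
theorem m11 (A B : Matrix.SpecialLinearGroup (Fin 2) F) :
    (A * B).1 1 1 = A.1 1 0 * B.1 0 1 + A.1 1 1 * B.1 1 1 := (mul_entries A B).2.2.2

theorem i00 (g : Matrix.SpecialLinearGroup (Fin 2) F) : (g⁻¹).1 0 0 = g.1 1 1 := (inv_entries g).1
theorem i01 (g : Matrix.SpecialLinearGroup (Fin 2) F) : (g⁻¹).1 0 1 = -g.1 0 1 := (inv_entries g).2.1
theorem i10 (g : Matrix.SpecialLinearGroup (Fin 2) F) : (g⁻¹).1 1 0 = -g.1 1 0 := (inv_entries g).2.2.1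
theorem i11 (g : Matrix.SpecialLinearGroup (Fin 2) F) : (g⁻¹).1 1 1 = g.1 0 0 := (inv_entries g).2.2.2

theorem umat_add (a b : F) : umat (a + b) = umat a * umat b := by
  apply sl_ext <;> simp [m00, m01, m10, m11]
  ring

theorem umat_zero : umat (0 : F) = 1 := by
  apply sl_ext <;> simp

theorem umat_neg (a : F) : umat (-a) = (umat a)⁻¹ := by
  apply sl_ext <;> simp [i00, i01, i10, i11]

theorem umat_inj {a b : F} (h : umat a = umat b) : a = b := by
  have := congrArg (fun M : Matrix.SpecialLinearGroup (Fin 2) F => M.1 0 1) h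
  simpa using this

theorem lmat_neg (a : F) : lmat (-a) = (lmat a)⁻¹ := by
  apply sl_ext <;> simp [i00, i01, i10, i11]

theorem uluw (a : F) (ha : a ≠ 0) : umat a * lmat (-a⁻¹) * umat a = wmat a ha := by
  apply sl_ext <;> simp [m00, m01, m10, m11, ha]

theorem wwt (a b : F) (ha : a ≠ 0) (hb : b ≠ 0) :
    wmat a ha * (wmat b hb)⁻¹ = tmat (a / b) (div_ne_zero ha hb) := by
  apply sl_ext <;> simp [m00, m01, m10, m11, i00, i01, i10, i11, ha, hb]
  · field_simp
  · field_simp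

theorem tut (t : F) (ht : t ≠ 0) (c : F) :
    tmat t ht * umat c * (tmat t ht)⁻¹ = umat (t ^ 2 * c) := by
  apply sl_ext <;> simp [m00, m01, m10, m11, i00, i01, i10, i11, ht]
  ring

end mats

section star
variable {F : Type*} [Field F] [Finite F]

/-- the point `g ∞` of the projective line -/
noncomputable def ptOf (h : Matrix.SpecialLinearGroup (Fin 2) F) : Option F :=
  by classical exact if h.1 1 0 = 0 then none else some (h.1 0 0 / h.1 1 0)

theorem ptOf_eq_iff (h h₀ : Matrix.SpecialLinearGroup (Fin 2) F) :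
    ptOf h = ptOf h₀ ↔ (h₀⁻¹ * h).1 1 0 = 0 := by
  classical
  rw [m10, i10, i11]
  have hd := sl2_det h
  have hd₀ := sl2_det h₀
  unfold ptOf
  by_cases hg : h.1 1 0 = 0
  · have ha : h.1 0 0 ≠ 0 := by
      intro ha; rw [hg, ha] at hd; simp at hd
    by_cases hg₀ : h₀.1 1 0 = 0
    · simp [hg, hg₀]
    · simp [hg, hg₀, ha]
  · by_cases hg₀ : h₀.1 1 0 = 0
    · have ha₀ : h₀.1 0 0 ≠ 0 := by
        intro ha; rw [hg₀, ha] at hd₀; simp at hd₀
      simp [hg, hg₀, ha₀]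
    · simp only [hg, hg₀, if_false, Option.some.injEq]
      rw [div_eq_div_iff hg hg₀]
      constructor
      · intro h1; linear_combination -h1
      · intro h1; linear_combination -h1

/-- Counting cosets of the Borel part: every element of `L` maps `∞` into `A ∪ {∞}`. -/
theorem star (L : Subgroup (Matrix.SpecialLinearGroup (Fin 2) F)) (A : Set F) (P m : ℕ)
    (hAc : A.ncard = P) (hA : ∀ a ∈ A, umat a ∈ L)
    (h₁ : Matrix.SpecialLinearGroup (Fin 2) F) (h₁L : h₁ ∈ L) (h₁0 : h₁.1 0 0 = 0)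
    (hN : m ≤ Nat.card {h : Matrix.SpecialLinearGroup (Fin 2) F // h ∈ L ∧ h.1 1 0 = 0})
    (hL : Nat.card L = (P + 1) * m) :
    (∀ h ∈ L, h.1 1 0 ≠ 0 → h.1 0 0 / h.1 1 0 ∈ A) ∧
      Nat.card {h : Matrix.SpecialLinearGroup (Fin 2) F // h ∈ L ∧ h.1 1 0 = 0} = m := by
  classical
  have : Fintype F := Fintype.ofFinite F
  have : Fintype L := Fintype.ofFinite L
  have hAfin : A.Finite := Set.toFinite A
  set S : Finset (Option F) := Finset.univ.image (fun h : L => ptOf h.1) with hS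
  set n := Nat.card {h : Matrix.SpecialLinearGroup (Fin 2) F // h ∈ L ∧ h.1 1 0 = 0} with hn
  have hn0 : n ≠ 0 := by
    have : Nonempty {h : Matrix.SpecialLinearGroup (Fin 2) F // h ∈ L ∧ h.1 1 0 = 0} :=
      ⟨⟨1, L.one_mem, by simp⟩⟩
    exact Nat.card_pos.ne'
  -- fibres
  have hfib : ∀ h₀ : L, (Finset.univ.filter (fun h : L => ptOf h.1 = ptOf h₀.1)).card = n := by
    intro h₀
    rw [hn, ← Cfsg.Agent.S0807.filter_card_eq_natCard]
    apply Finset.card_bij (fun h _ => h₀.1⁻¹ * h.1)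
    · intro h hh
      simp only [Finset.mem_filter, Finset.mem_univ, true_and] at hh ⊢
      exact ⟨L.mul_mem (L.inv_mem h₀.2) h.2, (ptOf_eq_iff h.1 h₀.1).mp hh⟩
    · intro a _ b _ hab
      exact Subtype.ext (mul_left_cancel hab)
    · intro x hx
      simp only [Finset.mem_filter, Finset.mem_univ, true_and] at hx
      refine ⟨⟨h₀.1 * x, L.mul_mem h₀.2 hx.1⟩, ?_, ?_⟩
      · simp only [Finset.mem_filter, Finset.mem_univ, true_and]
        rw [ptOf_eq_iff]
        have : h₀.1⁻¹ * (h₀.1 * x) = x := by group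
        rw [this]; exact hx.2
      · show h₀.1⁻¹ * (h₀.1 * x) = x
        group
  -- counting
  have hcount : Fintype.card L = S.card * n := by
    rw [← Finset.card_univ]
    rw [Finset.card_eq_sum_card_fiberwise (f := fun h : L => ptOf h.1) (t := S)
      (fun h _ => Finset.mem_image_of_mem _ (Finset.mem_univ h))]
    rw [Finset.sum_const_nat (m := n)]
    intro s hs
    rw [hS, Finset.mem_image] at hs
    obtain ⟨h₀, _, rfl⟩ := hs
    exact hfib h₀
  have hg₁ : h₁.1 1 0 ≠ 0 := by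
    intro h
    have hd := sl2_det h₁
    rw [h₁0, h] at hd
    simp at hd
  set S₀ : Finset (Option F) := insert none (hAfin.toFinset.image some) with hS₀
  have hS₀card : S₀.card = P + 1 := by
    rw [hS₀, Finset.card_insert_of_notMem (by simp),
      Finset.card_image_of_injective _ (Option.some_injective F), ← hAc,
      Set.ncard_eq_toFinset_card A hAfin]
  have hsub : S₀ ⊆ S := by
    intro s hs
    rw [hS₀, Finset.mem_insert] at hs
    rw [hS, Finset.mem_image]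
    rcases hs with rfl | hs
    · refine ⟨⟨1, L.one_mem⟩, Finset.mem_univ _, ?_⟩
      simp [ptOf]
    · rw [Finset.mem_image] at hs
      obtain ⟨a, ha, rfl⟩ := hs
      rw [Set.Finite.mem_toFinset] at ha
      refine ⟨⟨umat a * h₁, L.mul_mem (hA a ha) h₁L⟩, Finset.mem_univ _, ?_⟩
      have e10 : (umat a * h₁).1 1 0 = h₁.1 1 0 := by rw [m10]; simp
      have e00 : (umat a * h₁).1 0 0 = a * h₁.1 1 0 := by rw [m00, h₁0]; simp
      simp only [ptOf, e10, e00, hg₁, if_false]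
      rw [mul_div_assoc, div_self hg₁, mul_one]
  have hle : P + 1 ≤ S.card := by
    rw [← hS₀card]; exact Finset.card_le_card hsub
  rw [Nat.card_eq_fintype_card, hcount] at hL
  have hnm : n = m := by
    have h1 : (P + 1) * n ≤ S.card * n := Nat.mul_le_mul_right _ hle
    have h2 : (P + 1) * m ≤ (P + 1) * n := Nat.mul_le_mul_left _ hN
    have h3 : (P + 1) * n = (P + 1) * m := by omega
    exact Nat.eq_of_mul_eq_mul_left (Nat.succ_pos P) h3
  have hScard : S.card = P + 1 := by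
    rw [← hnm] at hL
    exact Nat.eq_of_mul_eq_mul_right (Nat.pos_of_ne_zero hn0) hL
  have hSS : S₀ = S := Finset.eq_of_subset_of_card_le hsub (by rw [hScard, hS₀card])
  refine ⟨?_, hnm⟩
  intro h hh hg
  have hmem : ptOf h ∈ S := by
    rw [hS, Finset.mem_image]
    exact ⟨⟨h, hh⟩, Finset.mem_univ _, rfl⟩
  rw [← hSS, hS₀, Finset.mem_insert] at hmem
  simp only [ptOf, hg, if_false] at hmem
  rcases hmem with hmem | hmem
  · exact absurd hmem (by simp)
  · rw [Finset.mem_image] at hmem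
    obtain ⟨a, ha, hae⟩ := hmem
    rw [Set.Finite.mem_toFinset] at ha
    rw [Option.some.injEq] at hae
    rw [← hae]; exact ha

end star



section upstairs
variable {F : Type*} [Field F] [Finite F]
variable (L : Subgroup (Matrix.SpecialLinearGroup (Fin 2) F))

/-- the parameters of the upper unitriangular elements of `L` -/
def Aset : Set F := {a | umat a ∈ L}

theorem mem_Aset (a : F) : a ∈ Aset L ↔ umat a ∈ L := Iff.rfl

theorem Aset_zero : (0 : F) ∈ Aset L := by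
  show umat 0 ∈ L
  rw [umat_zero]; exact L.one_mem

theorem Aset_add {a b : F} (ha : a ∈ Aset L) (hb : b ∈ Aset L) : a + b ∈ Aset L := by
  show umat (a + b) ∈ L
  rw [umat_add]; exact L.mul_mem ha hb

theorem Aset_neg {a : F} (ha : a ∈ Aset L) : -a ∈ Aset L := by
  show umat (-a) ∈ L
  rw [umat_neg]; exact L.inv_mem ha

theorem conj_h1 (h₁ : Matrix.SpecialLinearGroup (Fin 2) F) (h₁0 : h₁.1 0 0 = 0) (a : F) :
    h₁ * umat a * h₁⁻¹ = lmat (-a * (h₁.1 1 0) ^ 2) := by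
  have hd := sl2_det h₁
  rw [h₁0] at hd
  apply sl_ext <;> simp [m00, m01, m10, m11, i00, i01, i10, i11, h₁0]
  · linear_combination hd
  · ring
  · linear_combination hd

variable (hstar : ∀ h ∈ L, h.1 1 0 ≠ 0 → h.1 0 0 / h.1 1 0 ∈ Aset L)
include hstar

theorem l_inv_mem {b : F} (hb : lmat b ∈ L) (hb0 : b ≠ 0) : b⁻¹ ∈ Aset L := by
  have := hstar _ hb (by simpa using hb0)
  simpa using this

theorem l_mem (h₁ : Matrix.SpecialLinearGroup (Fin 2) F) (h₁L : h₁ ∈ L) (h₁0 : h₁.1 0 0 = 0)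
    {a : F} (ha : a ∈ Aset L) (ha0 : a ≠ 0) : lmat a⁻¹ ∈ L := by
  have hd := sl2_det h₁
  rw [h₁0] at hd
  have hγ : h₁.1 1 0 ≠ 0 := by
    intro h; rw [h] at hd; simp at hd
  set γ := h₁.1 1 0 with hγdef
  let T := {a : F // a ∈ Aset L ∧ a ≠ 0}
  have hmemL : ∀ a : F, a ∈ Aset L → lmat (-a * γ ^ 2) ∈ L := by
    intro a ha
    rw [← conj_h1 h₁ h₁0 a]
    exact L.mul_mem (L.mul_mem h₁L ha) (L.inv_mem h₁L)
  have hne : ∀ a : F, a ≠ 0 → -a * γ ^ 2 ≠ 0 := by
    intro a ha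
    exact mul_ne_zero (neg_ne_zero.mpr ha) (pow_ne_zero 2 hγ)
  let φ : T → T := fun a => ⟨(-a.1 * γ ^ 2)⁻¹,
    l_inv_mem L hstar (hmemL a.1 a.2.1) (hne a.1 a.2.2), inv_ne_zero (hne a.1 a.2.2)⟩
  have hinj : Function.Injective φ := by
    intro a b hab
    have h1 : (-a.1 * γ ^ 2)⁻¹ = (-b.1 * γ ^ 2)⁻¹ := congrArg Subtype.val hab
    have h2 := inv_injective h1
    have h3 : a.1 = b.1 := by
      have := mul_right_cancel₀ (pow_ne_zero 2 hγ) h2
      exact neg_injective this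
    exact Subtype.ext h3
  have hsurj : Function.Surjective φ := Finite.surjective_of_injective hinj
  obtain ⟨b, hb⟩ := hsurj ⟨a, ha, ha0⟩
  have h1 : (-b.1 * γ ^ 2)⁻¹ = a := congrArg Subtype.val hb
  rw [← h1, inv_inv]
  exact hmemL b.1 b.2.1

theorem w_mem (h₁ : Matrix.SpecialLinearGroup (Fin 2) F) (h₁L : h₁ ∈ L) (h₁0 : h₁.1 0 0 = 0)
    {a : F} (ha : a ∈ Aset L) (ha0 : a ≠ 0) : wmat a ha0 ∈ L := by
  rw [← uluw a ha0]
  have h1 : lmat (-a⁻¹) ∈ L := by
    have := l_mem L hstar h₁ h₁L h₁0 (Aset_neg L ha) (neg_ne_zero.mpr ha0)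
    rwa [inv_neg] at this
  exact L.mul_mem (L.mul_mem ha h1) ha

theorem t_mem (h₁ : Matrix.SpecialLinearGroup (Fin 2) F) (h₁L : h₁ ∈ L) (h₁0 : h₁.1 0 0 = 0)
    {a b : F} (ha : a ∈ Aset L) (ha0 : a ≠ 0) (hb : b ∈ Aset L) (hb0 : b ≠ 0) :
    tmat (a / b) (div_ne_zero ha0 hb0) ∈ L := by
  rw [← wwt a b ha0 hb0]
  exact L.mul_mem (w_mem L hstar h₁ h₁L h₁0 ha ha0) (L.inv_mem (w_mem L hstar h₁ h₁L h₁0 hb hb0))

theorem sq_mul_mem (h₁ : Matrix.SpecialLinearGroup (Fin 2) F) (h₁L : h₁ ∈ L) (h₁0 : h₁.1 0 0 = 0)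
    {a b c : F} (ha : a ∈ Aset L) (ha0 : a ≠ 0) (hb : b ∈ Aset L) (hb0 : b ≠ 0)
    (hc : c ∈ Aset L) : (a / b) ^ 2 * c ∈ Aset L := by
  show umat ((a / b) ^ 2 * c) ∈ L
  rw [← tut (a / b) (div_ne_zero ha0 hb0) c]
  have ht := t_mem L hstar h₁ h₁L h₁0 ha ha0 hb hb0
  exact L.mul_mem (L.mul_mem ht hc) (L.inv_mem ht)

end upstairs



section field
variable {F : Type*} [Field F] [Finite F]

theorem mul_closed (p : ℕ) [Fact p.Prime] [CharP F p] (S : AddSubgroup F) (h1 : (1 : F) ∈ S)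
    (hsq : ∀ x ∈ S, ∀ y ∈ S, x ^ 2 * y ∈ S) : ∀ x ∈ S, ∀ y ∈ S, x * y ∈ S := by
  intro x hx y hy
  by_cases hp : p = 2
  · subst hp
    have h2 : (2 : F) = 0 := by exact_mod_cast CharP.cast_eq_zero F 2
    let φ : S → S := fun x => ⟨x.1 ^ 2, by simpa using hsq x.1 x.2 1 h1⟩
    have hinj : Function.Injective φ := by
      intro a b hab
      have h : a.1 ^ 2 = b.1 ^ 2 := congrArg Subtype.val hab
      have h3 : (a.1 - b.1) ^ 2 = 0 := by linear_combination h + (b.1 ^ 2 - a.1 * b.1) * h2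
      have h4 : a.1 - b.1 = 0 := by simpa using h3
      exact Subtype.ext (sub_eq_zero.mp h4)
    obtain ⟨z, hz⟩ := Finite.surjective_of_injective hinj ⟨x, hx⟩
    have hzx : z.1 ^ 2 = x := congrArg Subtype.val hz
    rw [← hzx]; exact hsq z.1 z.2 y hy
  · have h2xy : 2 * (x * y) ∈ S := by
      have e : 2 * (x * y) = (x + 1) ^ 2 * y - x ^ 2 * y - y := by ring
      rw [e]
      exact S.sub_mem (S.sub_mem (hsq _ (S.add_mem hx h1) _ hy) (hsq _ hx _ hy)) hy
    obtain ⟨c, hc⟩ : ∃ c : ℕ, (c : F) * 2 = 1 := by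
      have hodd : Odd p := (Fact.out : p.Prime).odd_of_ne_two hp
      obtain ⟨j, hj⟩ := hodd
      refine ⟨j + 1, ?_⟩
      have h0 : ((p : ℕ) : F) = 0 := CharP.cast_eq_zero F p
      rw [hj] at h0
      push_cast at h0 ⊢
      linear_combination h0
    have e : x * y = c • (2 * (x * y)) := by
      rw [nsmul_eq_mul]; linear_combination (-(x * y)) * hc
    rw [e]; exact S.nsmul_mem h2xy c

theorem pow_closed (S : AddSubgroup F) (h1 : (1 : F) ∈ S)
    (hmul : ∀ x ∈ S, ∀ y ∈ S, x * y ∈ S) (x : F) (hx : x ∈ S) (n : ℕ) : x ^ n ∈ S := by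
  induction n with
  | zero => simpa using h1
  | succ n ih => rw [pow_succ]; exact hmul _ ih _ hx

theorem inv_closed (S : AddSubgroup F) (h1 : (1 : F) ∈ S)
    (hmul : ∀ x ∈ S, ∀ y ∈ S, x * y ∈ S) (x : F) (hx : x ∈ S) : x⁻¹ ∈ S := by
  by_cases hx0 : x = 0
  · rw [hx0, _root_.inv_zero]; exact S.zero_mem
  · have := Fintype.ofFinite F
    have h := FiniteField.pow_card_sub_one_eq_one x hx0
    have hq : 2 ≤ Fintype.card F := Fintype.one_lt_card
    have e : x⁻¹ = x ^ (Fintype.card F - 2) := by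
      have h' : x * x ^ (Fintype.card F - 2) = 1 := by
        rw [← pow_succ']
        have : Fintype.card F - 2 + 1 = Fintype.card F - 1 := by omega
        rw [this]; exact h
      exact (eq_inv_of_mul_eq_one_right h').symm ▸ rfl
    rw [e]; exact pow_closed S h1 hmul x hx _

/-- a multiplicatively closed additive subgroup containing `1` is a subfield -/
def mkSubfield (S : AddSubgroup F) (h1 : (1 : F) ∈ S)
    (hmul : ∀ x ∈ S, ∀ y ∈ S, x * y ∈ S) : Subfield F where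
  carrier := S
  mul_mem' := fun {a b} ha hb => hmul a ha b hb
  one_mem' := h1
  add_mem' := fun ha hb => S.add_mem ha hb
  zero_mem' := S.zero_mem
  neg_mem' := fun ha => S.neg_mem ha
  inv_mem' := fun a ha => inv_closed S h1 hmul a ha

theorem mem_mkSubfield (S : AddSubgroup F) (h1 : (1 : F) ∈ S)
    (hmul : ∀ x ∈ S, ∀ y ∈ S, x * y ∈ S) (x : F) : x ∈ mkSubfield S h1 hmul ↔ x ∈ S := Iff.rfl

variable (L : Subgroup (Matrix.SpecialLinearGroup (Fin 2) F))

/-- the rescaled parameter set as an additive subgroup -/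
def KsAdd (a₀ : F) : AddSubgroup F where
  carrier := {x | a₀ * x ∈ Aset L}
  zero_mem' := by
    show a₀ * 0 ∈ Aset L
    rw [mul_zero]; exact Aset_zero L
  add_mem' := by
    intro x y hx hy
    show a₀ * (x + y) ∈ Aset L
    rw [mul_add]; exact Aset_add L hx hy
  neg_mem' := by
    intro x hx
    show a₀ * (-x) ∈ Aset L
    rw [mul_neg]; exact Aset_neg L hx

theorem mem_KsAdd (a₀ x : F) : x ∈ KsAdd L a₀ ↔ a₀ * x ∈ Aset L := Iff.rfl

theorem exists_subfield (p : ℕ) [Fact p.Prime] [CharP F p]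
    (hstar : ∀ h ∈ L, h.1 1 0 ≠ 0 → h.1 0 0 / h.1 1 0 ∈ Aset L)
    (h₁ : Matrix.SpecialLinearGroup (Fin 2) F) (h₁L : h₁ ∈ L) (h₁0 : h₁.1 0 0 = 0)
    (a₀ : F) (ha₀ : a₀ ∈ Aset L) (ha₀0 : a₀ ≠ 0) :
    ∃ K : Subfield F, ∀ x, x ∈ K ↔ a₀ * x ∈ Aset L := by
  have h1 : (1 : F) ∈ KsAdd L a₀ := by
    rw [mem_KsAdd, mul_one]; exact ha₀
  have hsq : ∀ x ∈ KsAdd L a₀, ∀ y ∈ KsAdd L a₀, x ^ 2 * y ∈ KsAdd L a₀ := by
    intro x hx y hy
    by_cases hx0 : x = 0
    · rw [hx0]; simp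
    · rw [mem_KsAdd] at hx hy ⊢
      have := sq_mul_mem L hstar h₁ h₁L h₁0 hx (mul_ne_zero ha₀0 hx0) ha₀ ha₀0 hy
      have e : (a₀ * x / a₀) ^ 2 * (a₀ * y) = a₀ * (x ^ 2 * y) := by
        field_simp
      rwa [e] at this
  have hmul := mul_closed p (KsAdd L a₀) h1 hsq
  exact ⟨mkSubfield (KsAdd L a₀) h1 hmul, fun x => Iff.rfl⟩

end field



section bruhat
variable {F : Type*} [Field F] [Finite F]
variable (L : Subgroup (Matrix.SpecialLinearGroup (Fin 2) F))

theorem tmat_congr {t t' : F} (h : t = t') (ht : t ≠ 0) (ht' : t' ≠ 0) :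
    tmat t ht = tmat t' ht' := by
  subst h; rfl

theorem wmat_congr {t t' : F} (h : t = t') (ht : t ≠ 0) (ht' : t' ≠ 0) :
    wmat t ht = wmat t' ht' := by
  subst h; rfl

theorem bruhat_upper (M : Matrix.SpecialLinearGroup (Fin 2) F) (h10 : M.1 1 0 = 0)
    (h00 : M.1 0 0 ≠ 0) : M = tmat (M.1 0 0) h00 * umat (M.1 0 1 / M.1 0 0) := by
  have hd := sl2_det M
  rw [h10, mul_zero, sub_zero] at hd
  apply sl_ext <;> simp [m00, m01, m10, m11, h10]
  · field_simp
  · exact eq_inv_of_mul_eq_one_right hd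

theorem bruhat_big (M : Matrix.SpecialLinearGroup (Fin 2) F) (h10 : M.1 1 0 ≠ 0) :
    M = umat (M.1 0 0 / M.1 1 0) * wmat (-(M.1 1 0)⁻¹) (neg_ne_zero.mpr (inv_ne_zero h10)) *
      umat (M.1 1 1 / M.1 1 0) := by
  have hd := sl2_det M
  apply sl_ext <;> simp [m00, m01, m10, m11, h10]
  · field_simp
    linear_combination (-1 : F) * hd
  · field_simp

theorem mem_of_tw (K : Subfield F) (a₀ : F) (ha₀0 : a₀ ≠ 0)
    (hK : ∀ x, x ∈ K ↔ a₀ * x ∈ Aset L)
    (hw : ∀ (a : F) (ha : a ≠ 0), a ∈ Aset L → wmat a ha ∈ L)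
    (ht : ∀ (a b : F) (ha : a ≠ 0) (hb : b ≠ 0), a ∈ Aset L → b ∈ Aset L →
      tmat (a / b) (div_ne_zero ha hb) ∈ L)
    (M : Matrix.SpecialLinearGroup (Fin 2) F) (h00 : M.1 0 0 ∈ K) (h01 : a₀⁻¹ * M.1 0 1 ∈ K)
    (h10 : a₀ * M.1 1 0 ∈ K) (h11 : M.1 1 1 ∈ K) : M ∈ L := by
  have ha₀ : a₀ ∈ Aset L := by
    have := (hK 1).mp K.one_mem
    rwa [mul_one] at this
  have hA : ∀ x ∈ K, a₀ * x ∈ Aset L := fun x hx => (hK x).mp hx
  by_cases hγ : M.1 1 0 = 0
  · have hd := sl2_det M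
    rw [hγ, mul_zero, sub_zero] at hd
    have hα : M.1 0 0 ≠ 0 := by
      intro h; rw [h, zero_mul] at hd; exact zero_ne_one hd
    rw [bruhat_upper M hγ hα]
    apply L.mul_mem
    · have h1 := ht (a₀ * M.1 0 0) a₀ (mul_ne_zero ha₀0 hα) ha₀0 (hA _ h00) ha₀
      have e : a₀ * M.1 0 0 / a₀ = M.1 0 0 := by field_simp
      rw [tmat_congr e _ hα] at h1
      exact h1
    · show M.1 0 1 / M.1 0 0 ∈ Aset L
      have h1 := hA _ (K.mul_mem h01 (K.inv_mem h00))
      have e : a₀ * (a₀⁻¹ * M.1 0 1 * (M.1 0 0)⁻¹) = M.1 0 1 / M.1 0 0 := by field_simp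
      rwa [e] at h1
  · rw [bruhat_big M hγ]
    have hγK : (a₀ * M.1 1 0)⁻¹ ∈ K := K.inv_mem h10
    apply L.mul_mem (L.mul_mem _ _)
    · show M.1 1 1 / M.1 1 0 ∈ Aset L
      have h1 := hA _ (K.mul_mem h11 hγK)
      have e : a₀ * (M.1 1 1 * (a₀ * M.1 1 0)⁻¹) = M.1 1 1 / M.1 1 0 := by field_simp
      rwa [e] at h1
    · show M.1 0 0 / M.1 1 0 ∈ Aset L
      have h1 := hA _ (K.mul_mem h00 hγK)
      have e : a₀ * (M.1 0 0 * (a₀ * M.1 1 0)⁻¹) = M.1 0 0 / M.1 1 0 := by field_simp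
      rwa [e] at h1
    · apply hw
      have h1 := hA _ (K.neg_mem hγK)
      have e : a₀ * -(a₀ * M.1 1 0)⁻¹ = -(M.1 1 0)⁻¹ := by field_simp
      rwa [e] at h1

end bruhat



section embed
variable {F : Type*} [Field F] {K : Type*} [Field K]

/-- the entrywise map twisted by conjugation with `diag(a₀, 1)` -/
def twf (f : K →+* F) (a₀ : F) (M : Matrix (Fin 2) (Fin 2) K) : Matrix (Fin 2) (Fin 2) F :=
  !![f (M 0 0), a₀ * f (M 0 1); a₀⁻¹ * f (M 1 0), f (M 1 1)]

@[simp] theorem twf00 (f : K →+* F) (a₀ : F) (M : Matrix (Fin 2) (Fin 2) K) :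
    twf f a₀ M 0 0 = f (M 0 0) := rfl
@[simp] theorem twf01 (f : K →+* F) (a₀ : F) (M : Matrix (Fin 2) (Fin 2) K) :
    twf f a₀ M 0 1 = a₀ * f (M 0 1) := rfl
@[simp] theorem twf10 (f : K →+* F) (a₀ : F) (M : Matrix (Fin 2) (Fin 2) K) :
    twf f a₀ M 1 0 = a₀⁻¹ * f (M 1 0) := rfl
@[simp] theorem twf11 (f : K →+* F) (a₀ : F) (M : Matrix (Fin 2) (Fin 2) K) :
    twf f a₀ M 1 1 = f (M 1 1) := rfl

theorem twf_mul (f : K →+* F) (a₀ : F) (ha₀ : a₀ ≠ 0) (A B : Matrix (Fin 2) (Fin 2) K) :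
    twf f a₀ (A * B) = twf f a₀ A * twf f a₀ B := by
  ext i j
  fin_cases i <;> fin_cases j <;>
    simp [mmul00, mmul01, mmul10, mmul11] <;> field_simp

theorem twf_one (f : K →+* F) (a₀ : F) : twf f a₀ 1 = 1 := by
  ext i j
  fin_cases i <;> fin_cases j <;> simp

theorem twf_det (f : K →+* F) (a₀ : F) (ha₀ : a₀ ≠ 0) (A : Matrix (Fin 2) (Fin 2) K) :
    (twf f a₀ A).det = f A.det := by
  rw [Matrix.det_fin_two, Matrix.det_fin_two]
  simp only [twf00, twf01, twf10, twf11, map_sub, map_mul]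
  field_simp

theorem twf_injective (f : K →+* F) (a₀ : F) (ha₀ : a₀ ≠ 0) :
    Function.Injective (twf f a₀) := by
  intro A B h
  have h00 := congrFun (congrFun h 0) 0
  have h01 := congrFun (congrFun h 0) 1
  have h10 := congrFun (congrFun h 1) 0
  have h11 := congrFun (congrFun h 1) 1
  simp only [twf00, twf01, twf10, twf11] at h00 h01 h10 h11
  ext i j
  fin_cases i <;> fin_cases j
  · exact f.injective h00
  · exact f.injective (mul_left_cancel₀ ha₀ h01)
  · exact f.injective (mul_left_cancel₀ (inv_ne_zero ha₀) h10)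
  · exact f.injective h11

theorem twf_neg (f : K →+* F) (a₀ : F) (A : Matrix (Fin 2) (Fin 2) K) :
    twf f a₀ (-A) = -twf f a₀ A := by
  ext i j
  fin_cases i <;> fin_cases j <;> simp

/-- the twisted embedding of `SL₂` -/
def tau (f : K →+* F) (a₀ : F) (ha₀ : a₀ ≠ 0) :
    Matrix.SpecialLinearGroup (Fin 2) K →* Matrix.SpecialLinearGroup (Fin 2) F where
  toFun M := ⟨twf f a₀ M.1, by rw [twf_det f a₀ ha₀, M.2, map_one]⟩
  map_one' := by
    apply Subtype.ext
    simp [twf_one]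
  map_mul' := by
    intro A B
    apply Subtype.ext
    show twf f a₀ (A.1 * B.1) = twf f a₀ A.1 * twf f a₀ B.1
    exact twf_mul f a₀ ha₀ A.1 B.1

@[simp] theorem tau_coe (f : K →+* F) (a₀ : F) (ha₀ : a₀ ≠ 0)
    (M : Matrix.SpecialLinearGroup (Fin 2) K) : (tau f a₀ ha₀ M).1 = twf f a₀ M.1 := rfl

theorem tau_injective (f : K →+* F) (a₀ : F) (ha₀ : a₀ ≠ 0) :
    Function.Injective (tau f a₀ ha₀) := by
  intro A B h
  apply Subtype.ext
  apply twf_injective f a₀ ha₀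
  exact congrArg Subtype.val h

theorem tau_neg (f : K →+* F) (a₀ : F) (ha₀ : a₀ ≠ 0) (M : Matrix.SpecialLinearGroup (Fin 2) K) :
    tau f a₀ ha₀ (-M) = -tau f a₀ ha₀ M := by
  apply Subtype.ext
  simp [twf_neg]

/-- the induced map to `PSL₂` -/
def rho (f : K →+* F) (a₀ : F) (ha₀ : a₀ ≠ 0) :
    Matrix.SpecialLinearGroup (Fin 2) K →* Matrix.ProjectiveSpecialLinearGroup (Fin 2) F :=
  (QuotientGroup.mk' (Subgroup.center _)).comp (tau f a₀ ha₀)

theorem rho_ker (f : K →+* F) (a₀ : F) (ha₀ : a₀ ≠ 0) :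
    (rho f a₀ ha₀).ker = Subgroup.center (Matrix.SpecialLinearGroup (Fin 2) K) := by
  ext A
  rw [MonoidHom.mem_ker, mem_center_iff']
  show (QuotientGroup.mk (tau f a₀ ha₀ A) : Matrix.ProjectiveSpecialLinearGroup (Fin 2) F) = 1 ↔ _
  rw [mk_eq_one_iff]
  constructor
  · rintro (h | h)
    · left
      apply tau_injective f a₀ ha₀
      rw [h, map_one]
    · right
      apply tau_injective f a₀ ha₀
      rw [h, tau_neg, map_one]
  · rintro (h | h)
    · left; rw [h, map_one]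
    · right; rw [h, tau_neg, map_one]

theorem psl_of_embed [Finite F] [Finite K] (f : K →+* F) (a₀ : F) (ha₀ : a₀ ≠ 0)
    (H : Subgroup (Matrix.ProjectiveSpecialLinearGroup (Fin 2) F))
    (hsub : ∀ M : Matrix.SpecialLinearGroup (Fin 2) K,
      (QuotientGroup.mk (tau f a₀ ha₀ M) : Matrix.ProjectiveSpecialLinearGroup (Fin 2) F) ∈ H)
    (hcard : Nat.card H = Nat.card (Matrix.ProjectiveSpecialLinearGroup (Fin 2) K)) :
    Nonempty (H ≃* Matrix.ProjectiveSpecialLinearGroup (Fin 2) K) := by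
  have e : (rho f a₀ ha₀).range ≃* Matrix.ProjectiveSpecialLinearGroup (Fin 2) K :=
    ((QuotientGroup.quotientKerEquivRange (rho f a₀ ha₀)).symm).trans
      (QuotientGroup.quotientMulEquivOfEq (rho_ker f a₀ ha₀))
  have hle : (rho f a₀ ha₀).range ≤ H := by
    rintro _ ⟨M, rfl⟩
    exact hsub M
  have heq : (rho f a₀ ha₀).range = H := by
    apply Subgroup.eq_of_le_of_card_ge hle
    rw [hcard, Nat.card_congr e.toEquiv]
  exact ⟨(MulEquiv.subgroupCongr heq.symm).trans e⟩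



/-- the normalised twisted matrix -/
noncomputable def normMat' (f : K →+* F) (a₀ : F) (ha₀ : a₀ ≠ 0) (s : F)
    (A : Matrix (Fin 2) (Fin 2) K)
    (hs : s * s = f A.det) (hs0 : s ≠ 0) : Matrix.SpecialLinearGroup (Fin 2) F :=
  ⟨s⁻¹ • twf f a₀ A, by
    rw [Matrix.det_smul, twf_det f a₀ ha₀, Fintype.card_fin, ← hs]
    field_simp⟩

theorem normMat'_mul (f : K →+* F) (a₀ : F) (ha₀ : a₀ ≠ 0) (s t u : F)
    (A B : Matrix (Fin 2) (Fin 2) K)
    (hs : s * s = f A.det) (hs0 : s ≠ 0) (ht : t * t = f B.det) (ht0 : t ≠ 0)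
    (hu : u * u = f (A * B).det) (hu0 : u ≠ 0) :
    (QuotientGroup.mk (normMat' f a₀ ha₀ u (A * B) hu hu0) :
        Matrix.ProjectiveSpecialLinearGroup (Fin 2) F) =
      QuotientGroup.mk (normMat' f a₀ ha₀ s A hs hs0) *
        QuotientGroup.mk (normMat' f a₀ ha₀ t B ht ht0) := by
  have h1 : u * u = (s * t) * (s * t) := by
    rw [hu, Matrix.det_mul, map_mul, ← hs, ← ht]; ring
  rw [← QuotientGroup.mk_mul]
  rcases mul_self_eq_mul_self_iff.mp h1 with h | h
  · congr 1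
    apply Subtype.ext
    rw [Matrix.SpecialLinearGroup.coe_mul]
    simp only [normMat']
    rw [h, twf_mul f a₀ ha₀, Matrix.smul_mul, Matrix.mul_smul, smul_smul, mul_inv]
  · rw [← Cfsg.Agent.S0807.mk_neg]
    congr 1
    apply Subtype.ext
    rw [Matrix.SpecialLinearGroup.coe_neg, Matrix.SpecialLinearGroup.coe_mul]
    simp only [normMat']
    rw [h, twf_mul f a₀ ha₀, Matrix.smul_mul, Matrix.mul_smul, smul_smul, inv_neg, mul_inv,
      neg_smul, neg_neg]

theorem pgl_of_embed [Finite F] [Finite K] (f : K →+* F) (a₀ : F) (ha₀ : a₀ ≠ 0)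
    (H : Subgroup (Matrix.ProjectiveSpecialLinearGroup (Fin 2) F))
    (hsq : ∀ c : K, c ≠ 0 → IsSquare (f c))
    (hsub : ∀ (A : Matrix (Fin 2) (Fin 2) K) (s : F) (hs : s * s = f A.det) (hs0 : s ≠ 0),
      (QuotientGroup.mk (normMat' f a₀ ha₀ s A hs hs0) :
        Matrix.ProjectiveSpecialLinearGroup (Fin 2) F) ∈ H)
    (hcard : Nat.card H = Nat.card (Matrix.ProjGenLinGroup (Fin 2) K)) :
    Nonempty (H ≃* Matrix.ProjGenLinGroup (Fin 2) K) := by
  classical
  have hdet0 : ∀ A : GL (Fin 2) K, (A : Matrix (Fin 2) (Fin 2) K).det ≠ 0 := by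
    intro A
    rw [← Matrix.GeneralLinearGroup.val_det_apply]; exact Units.ne_zero _
  have hex : ∀ A : GL (Fin 2) K, ∃ s : F, s * s = f (A : Matrix (Fin 2) (Fin 2) K).det := by
    intro A; obtain ⟨s, hs⟩ := hsq _ (hdet0 A); exact ⟨s, hs.symm⟩
  choose sq hsq' using hex
  have hsq0 : ∀ A, sq A ≠ 0 := by
    intro A h
    have := hsq' A
    rw [h, mul_zero] at this
    exact (hdet0 A) (f.injective (by rw [← this, map_zero]))
  let ψ₀ : GL (Fin 2) K → Matrix.ProjectiveSpecialLinearGroup (Fin 2) F := fun A =>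
    QuotientGroup.mk (normMat' f a₀ ha₀ (sq A) A (hsq' A) (hsq0 A))
  have hmul : ∀ A B, ψ₀ (A * B) = ψ₀ A * ψ₀ B := by
    intro A B
    exact normMat'_mul f a₀ ha₀ (sq A) (sq B) (sq (A * B)) A B (hsq' A) (hsq0 A) (hsq' B) (hsq0 B)
      (hsq' (A * B)) (hsq0 (A * B))
  let ψ : GL (Fin 2) K →* Matrix.ProjectiveSpecialLinearGroup (Fin 2) F := MonoidHom.mk' ψ₀ hmul
  have hker : ψ.ker = Subgroup.center (GL (Fin 2) K) := by
    ext A
    rw [MonoidHom.mem_ker, Matrix.GeneralLinearGroup.center_eq_range_scalar, MonoidHom.mem_range]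
    show (QuotientGroup.mk (normMat' f a₀ ha₀ (sq A) A (hsq' A) (hsq0 A)) :
      Matrix.ProjectiveSpecialLinearGroup (Fin 2) F) = 1 ↔ _
    rw [QuotientGroup.eq_one_iff, Matrix.SpecialLinearGroup.mem_center_iff]
    constructor
    · rintro ⟨r, hr, hrA⟩
      have hM : ∀ i j, twf f a₀ (A : Matrix (Fin 2) (Fin 2) K) i j =
          sq A * (Matrix.scalar (Fin 2) r) i j := by
        intro i j
        rw [hrA]
        simp only [normMat', Matrix.smul_apply, smul_eq_mul]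
        rw [← mul_assoc, mul_inv_cancel₀ (hsq0 A), one_mul]
      have h01 : (A : Matrix (Fin 2) (Fin 2) K) 0 1 = 0 := by
        apply f.injective
        have := hM 0 1
        rw [twf01] at this
        rw [map_zero]
        have h2 : a₀ * f ((A : Matrix (Fin 2) (Fin 2) K) 0 1) = 0 := by rw [this]; simp
        exact (mul_eq_zero.mp h2).resolve_left ha₀
      have h10 : (A : Matrix (Fin 2) (Fin 2) K) 1 0 = 0 := by
        apply f.injective
        have := hM 1 0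
        rw [twf10] at this
        rw [map_zero]
        have h2 : a₀⁻¹ * f ((A : Matrix (Fin 2) (Fin 2) K) 1 0) = 0 := by rw [this]; simp
        exact (mul_eq_zero.mp h2).resolve_left (inv_ne_zero ha₀)
      have h11 : (A : Matrix (Fin 2) (Fin 2) K) 1 1 = (A : Matrix (Fin 2) (Fin 2) K) 0 0 := by
        apply f.injective
        have h1 := hM 1 1
        have h0 := hM 0 0
        rw [twf11] at h1
        rw [twf00] at h0
        rw [h1, h0]; simp
      have h00 : (A : Matrix (Fin 2) (Fin 2) K) 0 0 ≠ 0 := by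
        intro h
        apply hdet0 A
        rw [Matrix.det_fin_two, h01, h10, h11, h]
        ring
      refine ⟨Units.mk0 _ h00, ?_⟩
      apply Units.ext
      rw [Matrix.GeneralLinearGroup.coe_scalar]
      ext i j
      fin_cases i <;> fin_cases j <;> simp [h01, h10, h11]
    · rintro ⟨u, rfl⟩
      have hs := hsq' (Matrix.GeneralLinearGroup.scalar (Fin 2) u)
      have hdet : ((Matrix.GeneralLinearGroup.scalar (Fin 2) u : GL (Fin 2) K) :
          Matrix (Fin 2) (Fin 2) K).det = (u : K) * u := by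
        rw [Matrix.GeneralLinearGroup.coe_scalar]
        simp [pow_two]
      have hu0 : f (u : K) ≠ 0 := by
        intro h
        exact u.ne_zero (f.injective (by rw [h, map_zero]))
      rw [hdet, map_mul] at hs
      rcases mul_self_eq_mul_self_iff.mp hs with h | h
      · refine ⟨1, by simp, ?_⟩
        ext i j
        fin_cases i <;> fin_cases j <;>
          simp [normMat', h, hu0, Matrix.GeneralLinearGroup.coe_scalar]
      · refine ⟨-1, by simp, ?_⟩
        ext i j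
        fin_cases i <;> fin_cases j <;>
          simp [normMat', h, hu0, Matrix.GeneralLinearGroup.coe_scalar]
  have e : ψ.range ≃* Matrix.ProjGenLinGroup (Fin 2) K :=
    ((QuotientGroup.quotientKerEquivRange ψ).symm).trans
      (QuotientGroup.quotientMulEquivOfEq hker)
  have hle : ψ.range ≤ H := by
    rintro _ ⟨M, rfl⟩
    exact hsub _ _ _ _
  have heq : ψ.range = H := by
    apply Subgroup.eq_of_le_of_card_ge hle
    rw [hcard, Nat.card_congr e.toEquiv]
  exact ⟨(MulEquiv.subgroupCongr heq.symm).trans e⟩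

end embed



section torus
variable {F : Type*} [Field F] [Finite F]
variable (L : Subgroup (Matrix.SpecialLinearGroup (Fin 2) F))

theorem bub (h : Matrix.SpecialLinearGroup (Fin 2) F) (h10 : h.1 1 0 = 0) (c : F) :
    h * umat c * h⁻¹ = umat ((h.1 0 0) ^ 2 * c) := by
  have hd := sl2_det h
  rw [h10, mul_zero, sub_zero] at hd
  apply sl_ext <;> simp [m00, m01, m10, m11, i00, i01, i10, i11, h10]
  · exact hd
  · ring
  · rw [mul_comm]; exact hd

/-- the upper triangular part of `L` -/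
def NB : Subgroup (Matrix.SpecialLinearGroup (Fin 2) F) where
  carrier := {h | h ∈ L ∧ h.1 1 0 = 0}
  one_mem' := ⟨L.one_mem, by simp⟩
  mul_mem' := by
    rintro a b ⟨ha, ha0⟩ ⟨hb, hb0⟩
    exact ⟨L.mul_mem ha hb, by rw [m10, ha0, hb0]; simp⟩
  inv_mem' := by
    rintro a ⟨ha, ha0⟩
    exact ⟨L.inv_mem ha, by rw [i10, ha0]; simp⟩

theorem mem_NB (h : Matrix.SpecialLinearGroup (Fin 2) F) : h ∈ NB L ↔ h ∈ L ∧ h.1 1 0 = 0 :=
  Iff.rfl

/-- the diagonal character of the upper triangular part -/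
def theta : NB L →* F where
  toFun h := h.1.1 0 0
  map_one' := by simp
  map_mul' := by
    intro a b
    show (a.1 * b.1).1 0 0 = _
    rw [m00, b.2.2]; simp

theorem theta_apply (h : NB L) : theta L h = h.1.1 0 0 := rfl

theorem card_ker_theta : Nat.card (theta L).toHomUnits.ker = (Aset L).ncard := by
  rw [← Nat.card_coe_set_eq]
  symm
  have hmem : ∀ a : Aset L, (⟨umat a.1, ⟨a.2, by simp⟩⟩ : NB L) ∈ (theta L).toHomUnits.ker := by
    intro a
    rw [MonoidHom.mem_ker]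
    apply Units.ext
    rw [MonoidHom.coe_toHomUnits, theta_apply]
    simp
  apply Nat.card_congr
  apply Equiv.ofBijective (fun a : Aset L => (⟨⟨umat a.1, ⟨a.2, by simp⟩⟩, hmem a⟩ :
    (theta L).toHomUnits.ker))
  constructor
  · intro a b hab
    have h1 : umat a.1 = umat b.1 := congrArg (fun x => x.1.1) hab
    exact Subtype.ext (umat_inj h1)
  · rintro ⟨⟨h, hL, h10⟩, hk⟩
    rw [MonoidHom.mem_ker] at hk
    have h00 : h.1 0 0 = 1 := by
      have := congrArg Units.val hk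
      rwa [MonoidHom.coe_toHomUnits, theta_apply] at this
    have hd := sl2_det h
    rw [h10, h00, mul_zero, sub_zero, one_mul] at hd
    have he : h = umat (h.1 0 1) := by
      apply sl_ext <;> simp [h00, h10, hd]
    refine ⟨⟨h.1 0 1, ?_⟩, ?_⟩
    · show umat (h.1 0 1) ∈ L
      rw [← he]; exact hL
    · apply Subtype.ext
      apply Subtype.ext
      exact he.symm



theorem ncard_subfield (K : Subfield F) (a₀ : F) (ha₀0 : a₀ ≠ 0)
    (hK : ∀ x, x ∈ K ↔ a₀ * x ∈ Aset L) : (K : Set F).ncard = (Aset L).ncard := by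
  have : Aset L = (fun x => a₀ * x) '' (K : Set F) := by
    ext a
    constructor
    · intro ha
      refine ⟨a₀⁻¹ * a, ?_, ?_⟩
      · rw [SetLike.mem_coe, hK, ← mul_assoc, mul_inv_cancel₀ ha₀0, one_mul]; exact ha
      · show a₀ * (a₀⁻¹ * a) = a
        rw [← mul_assoc, mul_inv_cancel₀ ha₀0, one_mul]
    · rintro ⟨x, hx, rfl⟩
      exact (hK x).mp hx
  rw [this, Set.ncard_image_of_injective _ (mul_right_injective₀ ha₀0)]

theorem torus_sq (K : Subfield F) (a₀ : F) (ha₀0 : a₀ ≠ 0)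
    (hK : ∀ x, x ∈ K ↔ a₀ * x ∈ Aset L) (P : ℕ) (hP : (Aset L).ncard = P)
    (hNB : Nat.card {h : Matrix.SpecialLinearGroup (Fin 2) F // h ∈ L ∧ h.1 1 0 = 0} =
      2 * P * (P - 1)) :
    ∀ c ∈ K, c ≠ 0 → ∃ h ∈ L, h.1 1 0 = 0 ∧ (h.1 0 0) ^ 2 = c := by
  classical
  have : Fintype F := Fintype.ofFinite F
  have ha₀ : a₀ ∈ Aset L := by
    have := (hK 1).mp K.one_mem
    rwa [mul_one] at this
  have hP0 : 0 < P := by
    rw [← hP]; exact (Set.ncard_pos (Set.toFinite _)).mpr ⟨0, Aset_zero L⟩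
  have hKc : (K : Set F).ncard = P := by rw [ncard_subfield L K a₀ ha₀0 hK, hP]
  set θu := (theta L).toHomUnits with hθu
  have hker1 : Nat.card θu.ker = P := by rw [card_ker_theta, hP]
  have hNB' : Nat.card (NB L) = 2 * P * (P - 1) := hNB
  have h1 : Nat.card (NB L) = Nat.card θu.range * P := by
    rw [← hker1, ← Nat.card_congr (QuotientGroup.quotientKerEquivRange θu).toEquiv]
    exact Subgroup.card_eq_card_quotient_mul_card_subgroup _
  have hR : Nat.card θu.range = 2 * (P - 1) := by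
    rw [hNB'] at h1
    have h3 : P * (2 * (P - 1)) = P * Nat.card θu.range := by
      rw [mul_comm P (Nat.card _), ← h1]; ring
    exact (Nat.eq_of_mul_eq_mul_left hP0 h3).symm
  let σR : θu.range →* Fˣ := (powMonoidHom 2).comp θu.range.subtype
  have h2 : Nat.card θu.range = Nat.card σR.range * Nat.card σR.ker := by
    rw [← Nat.card_congr (QuotientGroup.quotientKerEquivRange σR).toEquiv]
    exact Subgroup.card_eq_card_quotient_mul_card_subgroup _
  have hker2 : Nat.card σR.ker ≤ 2 := by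
    have hmem : ∀ t : σR.ker, t.1.1 ∈ rootsOfUnity 2 F := by
      intro t
      have := t.2
      rw [MonoidHom.mem_ker] at this
      rw [mem_rootsOfUnity]; exact this
    have hinj : Function.Injective (fun t : σR.ker => (⟨t.1.1, hmem t⟩ : rootsOfUnity 2 F)) := by
      intro a b hab
      have h3 : (a.1.1 : Fˣ) = b.1.1 := congrArg (fun z : rootsOfUnity 2 F => (z.1 : Fˣ)) hab
      exact Subtype.ext (Subtype.ext h3)
    have := Nat.card_le_card_of_injective _ hinj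
    rw [Cfsg.Agent.Lib.Helper07.card_rootsOfUnity_field] at this
    exact this.trans (Nat.gcd_le_left _ (by norm_num))
  have hrange : P - 1 ≤ Nat.card σR.range := by
    have : 2 * (P - 1) ≤ Nat.card σR.range * 2 := by
      rw [← hR, h2]; exact Nat.mul_le_mul_left _ hker2
    omega
  let T : Set F := (K : Set F) \ {0}
  have hTc : Nat.card T = P - 1 := by
    rw [Nat.card_coe_set_eq, Set.ncard_sdiff_singleton_of_mem (K.zero_mem), hKc]
  have hsqK : ∀ h : NB L, (h.1.1 0 0) ^ 2 ∈ K := by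
    intro h
    rw [hK, mul_comm]
    show umat ((h.1.1 0 0) ^ 2 * a₀) ∈ L
    rw [← bub h.1 h.2.2 a₀]
    exact L.mul_mem (L.mul_mem h.2.1 ha₀) (L.inv_mem h.2.1)
  have hmemT : ∀ y : σR.range, ((y.1 : Fˣ) : F) ∈ T := by
    rintro ⟨y, ⟨⟨t, ⟨h, rfl⟩⟩, rfl⟩⟩
    refine ⟨?_, ?_⟩
    · show ((θu h ^ 2 : Fˣ) : F) ∈ K
      rw [Units.val_pow_eq_pow_val, hθu, MonoidHom.coe_toHomUnits, theta_apply]
      exact hsqK h
    · exact Units.ne_zero _
  let ι : σR.range → T := fun y => ⟨((y.1 : Fˣ) : F), hmemT y⟩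
  have hιinj : Function.Injective ι := by
    intro a b hab
    apply Subtype.ext
    apply Units.ext
    exact congrArg Subtype.val hab
  have hιbij : Function.Bijective ι :=
    hιinj.bijective_of_nat_card_le (by rw [hTc]; exact hrange)
  intro c hc hc0
  obtain ⟨⟨y, ⟨⟨t, ⟨h, rfl⟩⟩, rfl⟩⟩, hy⟩ := hιbij.2 ⟨c, hc, hc0⟩
  have hy' : ((θu h ^ 2 : Fˣ) : F) = c := congrArg Subtype.val hy
  rw [Units.val_pow_eq_pow_val, hθu, MonoidHom.coe_toHomUnits, theta_apply] at hy'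
  exact ⟨h.1, h.2.1, h.2.2, hy'⟩

theorem torus (hstar : ∀ h ∈ L, h.1 1 0 ≠ 0 → h.1 0 0 / h.1 1 0 ∈ Aset L)
    (K : Subfield F) (a₀ : F) (ha₀0 : a₀ ≠ 0)
    (hK : ∀ x, x ∈ K ↔ a₀ * x ∈ Aset L) (hw : wmat a₀ ha₀0 ∈ L)
    (P : ℕ) (hP : (Aset L).ncard = P)
    (hNB : Nat.card {h : Matrix.SpecialLinearGroup (Fin 2) F // h ∈ L ∧ h.1 1 0 = 0} =
      2 * P * (P - 1)) :
    ∀ c ∈ K, c ≠ 0 → ∃ (t : F) (ht : t ≠ 0), t * t = c ∧ tmat t ht ∈ L := by
  intro c hc hc0
  obtain ⟨h, hL, h10, hsq⟩ := torus_sq L K a₀ ha₀0 hK P hP hNB c hc hc0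
  have hd := sl2_det h
  rw [h10, mul_zero, sub_zero] at hd
  have ht0 : h.1 0 0 ≠ 0 := by
    intro h0; rw [h0, zero_mul] at hd; exact zero_ne_one hd
  have h11 : h.1 1 1 = (h.1 0 0)⁻¹ := eq_inv_of_mul_eq_one_right hd
  have h110 : h.1 1 1 ≠ 0 := by rw [h11]; exact inv_ne_zero ht0
  refine ⟨h.1 0 0, ht0, by rw [← hsq]; ring, ?_⟩
  -- the element `h * w`
  have hg : h * wmat a₀ ha₀0 ∈ L := L.mul_mem hL hw
  have hg10 : (h * wmat a₀ ha₀0).1 1 0 = -(h.1 1 1 * a₀⁻¹) := by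
    rw [m10, h10]; simp
  have hg00 : (h * wmat a₀ ha₀0).1 0 0 = -(h.1 0 1 * a₀⁻¹) := by
    rw [m00]; simp
  have hne : (h * wmat a₀ ha₀0).1 1 0 ≠ 0 := by
    rw [hg10]; exact neg_ne_zero.mpr (mul_ne_zero h110 (inv_ne_zero ha₀0))
  have hbt := hstar _ hg hne
  rw [hg10, hg00] at hbt
  have hbt' : h.1 0 1 / h.1 1 1 ∈ Aset L := by
    have e : -(h.1 0 1 * a₀⁻¹) / -(h.1 1 1 * a₀⁻¹) = h.1 0 1 / h.1 1 1 := by
      field_simp
    rwa [e] at hbt
  have hx : a₀⁻¹ * (h.1 0 1 / h.1 1 1) ∈ K := by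
    rw [hK, ← mul_assoc, mul_inv_cancel₀ ha₀0, one_mul]; exact hbt'
  have hx2 : a₀⁻¹ * (h.1 0 1 / h.1 1 1) * c⁻¹ ∈ K := K.mul_mem hx (K.inv_mem hc)
  have hbt2 : h.1 0 1 / h.1 0 0 ∈ Aset L := by
    have := (hK _).mp hx2
    have e : a₀ * (a₀⁻¹ * (h.1 0 1 / h.1 1 1) * c⁻¹) = h.1 0 1 / h.1 0 0 := by
      rw [← hsq, h11]
      field_simp
    rwa [e] at this
  have he : tmat (h.1 0 0) ht0 = h * umat (-(h.1 0 1 / h.1 0 0)) := by
    apply sl_ext <;> simp [m00, m01, m10, m11, h10, h11]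
    field_simp
    ring
  rw [he]
  exact L.mul_mem hL (Aset_neg L hbt2)

end torus



section grp
variable {G : Type*} [Group G]

/-- the numerical hypotheses of the two-transitive case -/
structure Hyp (p P k : ℕ) (H Q : Subgroup G) : Prop where
  hQH : Q ≤ H
  hQp : IsPGroup p Q
  hQ : Nat.card Q = P
  hN : Nat.card (H ⊓ Subgroup.normalizer (Q : Set G) : Subgroup G) = P * k
  hH : Nat.card H = (P + 1) * P * k

theorem Hyp.conj {p P k : ℕ} {H Q : Subgroup G} (h : Hyp p P k H Q) (x : G) :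
    Hyp p P k (H.map (MulAut.conj x).toMonoidHom) (Q.map (MulAut.conj x).toMonoidHom) where
  hQH := Subgroup.map_mono h.hQH
  hQp := h.hQp.map _
  hQ := by rw [Subgroup.card_map_of_injective (MulAut.conj x).injective, h.hQ]
  hN := by
    rw [← Subgroup.map_equiv_normalizer_eq, ← Subgroup.map_inf _ _ _ (MulAut.conj x).injective,
      Subgroup.card_map_of_injective (MulAut.conj x).injective, h.hN]
  hH := by rw [Subgroup.card_map_of_injective (MulAut.conj x).injective, h.hH]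

theorem sylow_max [Finite G] (p : ℕ) [Fact p.Prime] {P k : ℕ} {H Q : Subgroup G}
    (h : Hyp p P k H Q) (hP : 1 < P) (hk : k = P - 1 ∨ 2 * k = P - 1)
    (R : Subgroup G) (hR : IsPGroup p R) (hQR : Q ≤ R) (hRH : R ≤ H) : R = Q := by
  have pp : p.Prime := Fact.out
  obtain ⟨i, hi⟩ := h.hQp.exists_card_eq
  obtain ⟨j, hj⟩ := hR.exists_card_eq
  rw [h.hQ] at hi
  have hi0 : i ≠ 0 := by
    rintro rfl
    rw [pow_zero] at hi; omega
  have hpP : p ∣ P := by rw [hi]; exact dvd_pow_self p hi0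
  have hp1 : ¬ p ∣ (P + 1) := by
    intro hd
    have := (Nat.dvd_add_right hpP).mp hd
    exact pp.one_lt.ne' (Nat.dvd_one.mp this)
  have hpk : ¬ p ∣ k := by
    intro hd
    have hd' : p ∣ P - 1 := by
      rcases hk with hk | hk
      · rwa [hk] at hd
      · rw [← hk]; exact dvd_mul_of_dvd_right hd 2
    have h1 : p ∣ P - (P - 1) := Nat.dvd_sub hpP hd'
    have h2 : P - (P - 1) = 1 := by omega
    rw [h2] at h1
    exact pp.one_lt.ne' (Nat.dvd_one.mp h1)
  have hcop : Nat.Coprime (p ^ j) ((P + 1) * k) := by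
    apply Nat.Coprime.pow_left
    exact Nat.Coprime.mul_right ((Nat.Prime.coprime_iff_not_dvd pp).mpr hp1)
      ((Nat.Prime.coprime_iff_not_dvd pp).mpr hpk)
  have hdvd : p ^ j ∣ (P + 1) * P * k := by
    rw [← hj, ← h.hH]; exact Subgroup.card_dvd_of_le hRH
  have hdvd' : p ^ j ∣ P := by
    have e : (P + 1) * P * k = P * ((P + 1) * k) := by ring
    rw [e] at hdvd
    exact hcop.dvd_of_dvd_mul_right hdvd
  have hle : Nat.card R ≤ Nat.card Q := by
    rw [hj, h.hQ]; exact Nat.le_of_dvd (by omega) hdvd'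
  exact (Subgroup.eq_of_le_of_card_ge hQR hle).symm

theorem card_comap_mk [Finite G] (N : Subgroup G) [N.Normal] (H : Subgroup (G ⧸ N)) :
    Nat.card (H.comap (QuotientGroup.mk' N)) = Nat.card N * Nat.card H := by
  have h1 : (H.comap (QuotientGroup.mk' N)).index = H.index :=
    Subgroup.index_comap_of_surjective H (QuotientGroup.mk'_surjective N)
  have h2 := Subgroup.card_mul_index (H.comap (QuotientGroup.mk' N))
  have h3 := Subgroup.card_mul_index H
  have h4 : Nat.card G = Nat.card (G ⧸ N) * Nat.card N :=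
    Subgroup.card_eq_card_quotient_mul_card_subgroup N
  have hpos : 0 < H.index := Nat.pos_of_ne_zero Subgroup.index_ne_zero_of_finite
  rw [h1, h4, ← h3] at h2
  apply Nat.eq_of_mul_eq_mul_right hpos
  rw [h2]; ring

end grp



section wrapper
variable {F : Type*} [Field F]

/-- the image of the upper unitriangular group in `PSL₂` -/
def Ubar (F : Type*) [Field F] : Subgroup (Matrix.ProjectiveSpecialLinearGroup (Fin 2) F) where
  carrier := {x | ∃ a : F, x = QuotientGroup.mk (umat a)}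
  one_mem' := ⟨0, by rw [umat_zero]; rfl⟩
  mul_mem' := by
    rintro _ _ ⟨a, rfl⟩ ⟨b, rfl⟩
    exact ⟨a + b, by rw [umat_add]; rfl⟩
  inv_mem' := by
    rintro _ ⟨a, rfl⟩
    exact ⟨-a, by rw [umat_neg]; rfl⟩

theorem mem_Ubar (x : Matrix.ProjectiveSpecialLinearGroup (Fin 2) F) :
    x ∈ Ubar F ↔ ∃ a : F, x = QuotientGroup.mk (umat a) := Iff.rfl

theorem umat_pow (a : F) (n : ℕ) : umat a ^ n = umat (n • a) := by
  induction n with
  | zero => simp [umat_zero]
  | succ n ih => rw [pow_succ, ih, ← umat_add, succ_nsmul]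

theorem Ubar_pGroup (p : ℕ) [Fact p.Prime] [CharP F p] : IsPGroup p (Ubar F) := by
  rintro ⟨_, a, rfl⟩
  refine ⟨1, ?_⟩
  apply Subtype.ext
  show (QuotientGroup.mk (umat a) : Matrix.ProjectiveSpecialLinearGroup (Fin 2) F) ^ p ^ 1 = 1
  rw [pow_one, ← QuotientGroup.mk_pow, umat_pow]
  have : p • a = 0 := by
    rw [nsmul_eq_mul, CharP.cast_eq_zero F p, zero_mul]
  rw [this, umat_zero]; rfl

theorem mk_umat_inj {a b : F}
    (h : (QuotientGroup.mk (umat a) : Matrix.ProjectiveSpecialLinearGroup (Fin 2) F) =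
      QuotientGroup.mk (umat b)) : a = b := by
  rw [mk_eq_mk_iff] at h
  rcases h with h | h
  · exact umat_inj h
  · have h00 := congrArg (fun M : Matrix.SpecialLinearGroup (Fin 2) F => M.1 0 0) h
    have h01 := congrArg (fun M : Matrix.SpecialLinearGroup (Fin 2) F => M.1 0 1) h
    simp at h00 h01
    rw [h01]
    linear_combination (-b) * h00

theorem conj_u10 (h : Matrix.SpecialLinearGroup (Fin 2) F) (a : F) :
    (h * umat a * h⁻¹).1 1 0 = -(a * (h.1 1 0) ^ 2) := by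
  simp [m00, m01, m10, m11, i00, i01, i10, i11]
  ring

theorem tmat_neg (t : F) (ht : t ≠ 0) : tmat (-t) (neg_ne_zero.mpr ht) = -tmat t ht := by
  apply sl_ext <;> simp [inv_neg]



theorem main_normalized [Fintype F] (p : ℕ) [Fact p.Prime] [CharP F p]
    (H Q : Subgroup (Matrix.ProjectiveSpecialLinearGroup (Fin 2) F)) (P k : ℕ)
    (hyp : Hyp p P k H Q) (hP : 1 < P) (hk : k = P - 1 ∨ 2 * k = P - 1)
    (hQU : Q ≤ Ubar F) (h₁ : Matrix.SpecialLinearGroup (Fin 2) F)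
    (h₁H : (QuotientGroup.mk h₁ : Matrix.ProjectiveSpecialLinearGroup (Fin 2) F) ∈ H)
    (h₁0 : h₁.1 0 0 = 0) :
    ∃ (K : Type) (_ : Field K) (_ : Fintype K) (m : ℕ), Fintype.card K ^ m = Fintype.card F ∧
      (Nonempty (H ≃* Matrix.ProjectiveSpecialLinearGroup (Fin 2) K) ∨
        Nonempty (H ≃* Matrix.ProjGenLinGroup (Fin 2) K)) := by
  classical
  have pp : p.Prime := Fact.out
  set L : Subgroup (Matrix.SpecialLinearGroup (Fin 2) F) :=
    H.comap (QuotientGroup.mk' (Subgroup.center _)) with hL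
  have hmemL : ∀ x, x ∈ L ↔
      (QuotientGroup.mk x : Matrix.ProjectiveSpecialLinearGroup (Fin 2) F) ∈ H := fun x => Iff.rfl
  -- `Q = H ⊓ Ubar`
  have hQeq : H ⊓ Ubar F = Q :=
    sylow_max p hyp hP hk (H ⊓ Ubar F) ((Ubar_pGroup p).to_le inf_le_right)
      (le_inf hyp.hQH hQU) inf_le_left
  have hAmem : ∀ a, a ∈ Aset L ↔
      (QuotientGroup.mk (umat a) : Matrix.ProjectiveSpecialLinearGroup (Fin 2) F) ∈ Q := by
    intro a
    rw [← hQeq, Subgroup.mem_inf]
    exact ⟨fun h => ⟨h, a, rfl⟩, fun h => h.1⟩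
  have hAc : (Aset L).ncard = P := by
    rw [← hyp.hQ, ← Nat.card_coe_set_eq]
    apply Nat.card_congr
    apply Equiv.ofBijective (fun a : Aset L =>
      (⟨QuotientGroup.mk (umat a.1), (hAmem a.1).mp a.2⟩ : Q))
    constructor
    · intro a b hab
      exact Subtype.ext (mk_umat_inj (congrArg Subtype.val hab))
    · rintro ⟨x, hx⟩
      obtain ⟨a, rfl⟩ := hQU hx
      exact ⟨⟨a, (hAmem a).mpr hx⟩, rfl⟩
  set d := Nat.card (Subgroup.center (Matrix.SpecialLinearGroup (Fin 2) F)) with hd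
  have hLcard : Nat.card L = (P + 1) * (d * P * k) := by
    rw [hL, card_comap_mk, hyp.hH]; ring
  obtain ⟨a₀, ha₀, ha₀0⟩ : ∃ a, a ∈ Aset L ∧ a ≠ 0 := by
    by_contra hcon
    push Not at hcon
    have h1 : Aset L ⊆ {0} := fun a ha => hcon a ha
    have h2 := Set.ncard_le_ncard h1 (Set.finite_singleton _)
    rw [hAc, Set.ncard_singleton] at h2
    omega
  -- the normaliser part is upper triangular
  have hNle : d * P * k ≤
      Nat.card {h : Matrix.SpecialLinearGroup (Fin 2) F // h ∈ L ∧ h.1 1 0 = 0} := by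
    have hc : Nat.card ((H ⊓ Subgroup.normalizer (Q : Set _) : Subgroup _).comap
        (QuotientGroup.mk' (Subgroup.center (Matrix.SpecialLinearGroup (Fin 2) F)))) =
        d * (P * k) := by
      rw [card_comap_mk, hyp.hN]
    rw [mul_assoc, ← hc]
    have hprop : ∀ x : ((H ⊓ Subgroup.normalizer (Q : Set _) : Subgroup _).comap
        (QuotientGroup.mk' (Subgroup.center (Matrix.SpecialLinearGroup (Fin 2) F)))),
        x.1 ∈ L ∧ x.1.1 1 0 = 0 := by
      rintro ⟨x, hx⟩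
      have hx' : (QuotientGroup.mk x : Matrix.ProjectiveSpecialLinearGroup (Fin 2) F) ∈
          H ⊓ Subgroup.normalizer (Q : Set _) := hx
      rw [Subgroup.mem_inf] at hx'
      refine ⟨hx'.1, ?_⟩
      have h1 := (Subgroup.mem_normalizer_iff.mp hx'.2 _).mp ((hAmem a₀).mp ha₀)
      rw [← QuotientGroup.mk_mul, ← QuotientGroup.mk_inv, ← QuotientGroup.mk_mul] at h1
      obtain ⟨a', ha'⟩ := hQU h1
      rw [mk_eq_mk_iff] at ha'
      have h2 : (x * umat a₀ * x⁻¹).1 1 0 = 0 := by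
        rcases ha' with h | h
        · rw [h]; simp
        · rw [h]; simp
      rw [conj_u10] at h2
      have h3 : a₀ * (x.1 1 0) ^ 2 = 0 := neg_eq_zero.mp h2
      rcases mul_eq_zero.mp h3 with h | h
      · exact absurd h ha₀0
      · exact pow_eq_zero_iff (two_ne_zero) |>.mp h
    apply Nat.card_le_card_of_injective (fun x => (⟨x.1, hprop x⟩ :
      {h : Matrix.SpecialLinearGroup (Fin 2) F // h ∈ L ∧ h.1 1 0 = 0}))
    intro x y hxy
    have h3 : x.1 = y.1 := congrArg (fun z :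
      {h : Matrix.SpecialLinearGroup (Fin 2) F // h ∈ L ∧ h.1 1 0 = 0} => z.1) hxy
    exact Subtype.ext h3
  obtain ⟨hstar, hNcard⟩ := star L (Aset L) P (d * P * k) hAc (fun a ha => ha) h₁ h₁H h₁0
    hNle hLcard
  obtain ⟨K, hK⟩ := exists_subfield L p hstar h₁ h₁H h₁0 a₀ ha₀ ha₀0
  have hw : ∀ (a : F) (ha : a ≠ 0), a ∈ Aset L → wmat a ha ∈ L :=
    fun a ha haA => w_mem L hstar h₁ h₁H h₁0 haA ha
  have ht : ∀ (a b : F) (ha : a ≠ 0) (hb : b ≠ 0), a ∈ Aset L → b ∈ Aset L →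
      tmat (a / b) (div_ne_zero ha hb) ∈ L :=
    fun a b ha hb haA hbA => t_mem L hstar h₁ h₁H h₁0 haA ha hbA hb
  -- the small field
  let e : Shrink.{0} ↥K ≃+* ↥K := Shrink.ringEquiv.{0} ↥K
  let f : Shrink.{0} ↥K →+* F := K.subtype.comp e.toRingHom
  have hfin : Finite (Shrink.{0} ↥K) := Finite.of_equiv _ e.toEquiv.symm
  let _ : Fintype (Shrink.{0} ↥K) := Fintype.ofFinite _
  have hfK : ∀ x : Shrink.{0} ↥K, f x ∈ K := fun x => (e x).2
  have hfinj : Function.Injective f := f.injective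
  have hcardK : Fintype.card (Shrink.{0} ↥K) = P := by
    rw [← Nat.card_eq_fintype_card, Nat.card_congr e.toEquiv, ← hAc,
      ← ncard_subfield L K a₀ ha₀0 hK, ← Nat.card_coe_set_eq]
    rfl
  obtain ⟨m, hm⟩ : ∃ m, Fintype.card (Shrink.{0} ↥K) ^ m = Fintype.card F := by
    let _ := f.toAlgebra
    exact ⟨Module.finrank (Shrink.{0} ↥K) F, Module.card_eq_pow_finrank.symm⟩
  refine ⟨Shrink.{0} ↥K, inferInstance, inferInstance, m, hm, ?_⟩
  -- `SL₂` of the small field lands in `L`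
  have hτ : ∀ M : Matrix.SpecialLinearGroup (Fin 2) (Shrink.{0} ↥K),
      (QuotientGroup.mk (tau f a₀ ha₀0 M) : Matrix.ProjectiveSpecialLinearGroup (Fin 2) F) ∈ H := by
    intro M
    rw [← hmemL]
    apply mem_of_tw L K a₀ ha₀0 hK hw ht
    · exact hfK _
    · show a₀⁻¹ * (a₀ * f (M.1 0 1)) ∈ K
      rw [← mul_assoc, inv_mul_cancel₀ ha₀0, one_mul]; exact hfK _
    · show a₀ * (a₀⁻¹ * f (M.1 1 0)) ∈ K
      rw [← mul_assoc, mul_inv_cancel₀ ha₀0, one_mul]; exact hfK _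
    · exact hfK _
  -- cardinalities
  obtain ⟨n, hn0, hqn⟩ : ∃ n : ℕ, n ≠ 0 ∧ Fintype.card F = p ^ n := by
    obtain ⟨n, _, hn⟩ := FiniteField.card F p
    exact ⟨n, n.ne_zero, hn⟩
  obtain ⟨i, hi⟩ := hyp.hQp.exists_card_eq
  rw [hyp.hQ] at hi
  have hi0 : i ≠ 0 := by
    rintro rfl
    rw [pow_zero] at hi; omega
  have hSL : Nat.card (Matrix.SpecialLinearGroup (Fin 2) (Shrink.{0} ↥K)) = P * (P * P - 1) := by
    rw [card_sl2, hcardK]
  have hPSL : Nat.card (Matrix.SpecialLinearGroup (Fin 2) (Shrink.{0} ↥K)) =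
      Nat.card (Matrix.ProjectiveSpecialLinearGroup (Fin 2) (Shrink.{0} ↥K)) *
        Nat.gcd 2 (P - 1) := by
    rw [Cfsg.Agent.Lib.Helper07.card_sl_eq_card_psl_mul 2 (by norm_num), hcardK]
  have hPGL : Nat.card (Matrix.ProjGenLinGroup (Fin 2) (Shrink.{0} ↥K)) =
      Nat.card (Matrix.SpecialLinearGroup (Fin 2) (Shrink.{0} ↥K)) :=
    Cfsg.Agent.Lib.Helper07.card_pgl_eq_card_sl 2
  have hPP : P * (P * P - 1) = (P + 1) * P * (P - 1) := by
    obtain ⟨j, rfl⟩ : ∃ j, P = j + 1 := ⟨P - 1, by omega⟩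
    have h1 : (j + 1) * (j + 1) - 1 = j * (j + 2) := by
      have : (j + 1) * (j + 1) = j * (j + 2) + 1 := by ring
      rw [this]; omega
    have h2 : j + 1 - 1 = j := by omega
    rw [h1, h2]; ring
  by_cases hp2 : p = 2
  · have hPeven : Even P := by
      rw [hi, hp2]; exact (Nat.even_pow.mpr ⟨even_two, hi0⟩)
    have hkeq : k = P - 1 := by
      rcases hk with h | h
      · exact h
      · exfalso
        obtain ⟨c, hc⟩ := hPeven
        omega
    have hg : Nat.gcd 2 (P - 1) = 1 := by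
      have h1 : Nat.gcd 2 (P - 1) ∣ 2 := Nat.gcd_dvd_left _ _
      have h2 : Nat.gcd 2 (P - 1) ∣ P - 1 := Nat.gcd_dvd_right _ _
      have h3 : Nat.gcd 2 (P - 1) = 1 ∨ Nat.gcd 2 (P - 1) = 2 :=
        (Nat.dvd_prime Nat.prime_two).mp h1
      rcases h3 with h3 | h3
      · exact h3
      · exfalso
        rw [h3] at h2
        obtain ⟨c, hc⟩ := hPeven
        obtain ⟨c', hc'⟩ := h2
        omega
    left
    apply psl_of_embed f a₀ ha₀0 H hτ
    rw [hg, mul_one] at hPSL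
    rw [hyp.hH, hkeq, ← hPSL, hSL, hPP]
  · have hpodd : Odd p := pp.odd_of_ne_two hp2
    have hPodd : Odd P := by rw [hi]; exact hpodd.pow
    have hqodd : Odd (Fintype.card F) := by rw [hqn]; exact hpodd.pow
    have hg : Nat.gcd 2 (P - 1) = 2 := by
      apply Nat.gcd_eq_left
      obtain ⟨c, hc⟩ := hPodd
      exact ⟨c, by omega⟩
    have hd2 : d = 2 := card_center_two hqodd
    rcases hk with hk1 | hk2
    · right
      have hNB : Nat.card {h : Matrix.SpecialLinearGroup (Fin 2) F // h ∈ L ∧ h.1 1 0 = 0} =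
          2 * P * (P - 1) := by rw [hNcard, hd2, hk1]
      have htor := torus L hstar K a₀ ha₀0 hK (hw a₀ ha₀0 ha₀) P hAc hNB
      have hneg1 : ∀ X : Matrix.SpecialLinearGroup (Fin 2) F, X ∈ L → -X ∈ L := by
        intro X hX
        rw [hmemL, Cfsg.Agent.S0807.mk_neg]; exact hX
      apply pgl_of_embed f a₀ ha₀0 H
      · intro c hc0
        have hfc0 : f c ≠ 0 := by
          intro h; exact hc0 (hfinj (by rw [h, map_zero]))
        obtain ⟨t, _, htt, _⟩ := htor (f c) (hfK c) hfc0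
        exact ⟨t, htt.symm⟩
      · intro A s hs hs0
        rw [← hmemL]
        have hc : f A.det ∈ K := hfK _
        have hc0 : f A.det ≠ 0 := by rw [← hs]; exact mul_ne_zero hs0 hs0
        obtain ⟨t, ht0, htt, htL⟩ := htor (f A.det) hc hc0
        have hsL : tmat s hs0 ∈ L := by
          rcases mul_self_eq_mul_self_iff.mp (hs.trans htt.symm) with h | h
          · rw [tmat_congr h hs0 ht0]; exact htL
          · rw [tmat_congr h hs0 (neg_ne_zero.mpr ht0), tmat_neg t ht0]; exact hneg1 _ htL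
        have hentry : ∀ i j, (normMat' f a₀ ha₀0 s A hs hs0).1 i j = s⁻¹ * twf f a₀ A i j :=
          fun i j => rfl
        have hN : normMat' f a₀ ha₀0 s A hs hs0 * tmat s hs0 ∈ L := by
          apply mem_of_tw L K a₀ ha₀0 hK hw ht
          · have e1 : (normMat' f a₀ ha₀0 s A hs hs0 * tmat s hs0).1 0 0 = f (A 0 0) := by
              rw [m00, hentry, hentry]; simp; field_simp
            rw [e1]; exact hfK _
          · have e1 : a₀⁻¹ * (normMat' f a₀ ha₀0 s A hs hs0 * tmat s hs0).1 0 1 =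
                f (A 0 1) * (f A.det)⁻¹ := by
              rw [m01, hentry, hentry, ← hs]; simp; field_simp
            rw [e1]; exact K.mul_mem (hfK _) (K.inv_mem hc)
          · have e1 : a₀ * (normMat' f a₀ ha₀0 s A hs hs0 * tmat s hs0).1 1 0 = f (A 1 0) := by
              rw [m10, hentry, hentry]; simp; field_simp
            rw [e1]; exact hfK _
          · have e1 : (normMat' f a₀ ha₀0 s A hs hs0 * tmat s hs0).1 1 1 =
                f (A 1 1) * (f A.det)⁻¹ := by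
              rw [m11, hentry, hentry, ← hs]; simp; field_simp
            rw [e1]; exact K.mul_mem (hfK _) (K.inv_mem hc)
        have e2 : normMat' f a₀ ha₀0 s A hs hs0 =
            (normMat' f a₀ ha₀0 s A hs hs0 * tmat s hs0) * (tmat s hs0)⁻¹ := by group
        rw [e2]; exact L.mul_mem hN (L.inv_mem hsL)
      · rw [hyp.hH, hk1, hPGL, hSL, hPP]
    · left
      apply psl_of_embed f a₀ ha₀0 H hτ
      rw [hyp.hH]
      apply Nat.eq_of_mul_eq_mul_right (two_pos)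
      have e1 : (P + 1) * P * k * 2 = (P + 1) * P * (2 * k) := by ring
      rw [e1, hk2, ← hPP, ← hSL, hPSL, hg]



theorem exists_col (v : Fin 2 → F) (hv : v ≠ 0) :
    ∃ g : Matrix.SpecialLinearGroup (Fin 2) F, g.1 0 0 = v 0 ∧ g.1 1 0 = v 1 := by
  by_cases hx : v 0 = 0
  · have hy : v 1 ≠ 0 := by
      intro hy
      apply hv
      ext i; fin_cases i <;> simp [hx, hy]
    exact ⟨⟨!![v 0, -(v 1)⁻¹; v 1, 0], by simp [Matrix.det_fin_two, hy]⟩, rfl, rfl⟩
  · exact ⟨⟨!![v 0, 0; v 1, (v 0)⁻¹], by simp [Matrix.det_fin_two, hx]⟩, rfl, rfl⟩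

theorem conj_fix (g t : Matrix.SpecialLinearGroup (Fin 2) F)
    (h0 : t.1 0 0 * g.1 0 0 + t.1 0 1 * g.1 1 0 = g.1 0 0)
    (h1 : t.1 1 0 * g.1 0 0 + t.1 1 1 * g.1 1 0 = g.1 1 0) :
    ∃ b, g⁻¹ * t * g = umat b := by
  have hdg := sl2_det g
  have hds := sl2_det (g⁻¹ * t * g)
  have e00 : (g⁻¹ * t * g).1 0 0 = 1 := by
    rw [mul_assoc, m00, m00, m10, i00, i01]
    linear_combination g.1 1 1 * h0 - g.1 0 1 * h1 + hdg
  have e10 : (g⁻¹ * t * g).1 1 0 = 0 := by
    rw [mul_assoc, m10, m00, m10, i10, i11]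
    linear_combination -g.1 1 0 * h0 + g.1 0 0 * h1
  have e11 : (g⁻¹ * t * g).1 1 1 = 1 := by
    rw [e00, e10] at hds
    linear_combination hds
  exact ⟨(g⁻¹ * t * g).1 0 1, by apply sl_ext <;> simp [e00, e10, e11]⟩

theorem normalize1 [Fintype F] (p : ℕ) [Fact p.Prime] [CharP F p]
    (Q : Subgroup (Matrix.ProjectiveSpecialLinearGroup (Fin 2) F)) (hQp : IsPGroup p Q) :
    ∃ x : Matrix.ProjectiveSpecialLinearGroup (Fin 2) F,
      Q.map (MulAut.conj x).toMonoidHom ≤ Ubar F := by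
  classical
  obtain ⟨T, hT, hTQ⟩ := Cfsg.Agent.S2231.exists_pGroup_lift
    (QuotientGroup.mk' (Subgroup.center (Matrix.SpecialLinearGroup (Fin 2) F)))
    (QuotientGroup.mk'_surjective _) Q hQp
  have hpK : p ∣ Fintype.card F := (CharP.cast_eq_zero_iff F p (Fintype.card F)).1 (by simp)
  have hcard : p ∣ Nat.card (Fin 2 → F) := by
    rw [Nat.card_eq_fintype_card, Fintype.card_fun, Fintype.card_fin]
    exact dvd_pow hpK two_ne_zero
  have h0 : (0 : Fin 2 → F) ∈ MulAction.fixedPoints T (Fin 2 → F) := fun g => smul_zero g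
  obtain ⟨v, hvfix, hv0⟩ :=
    hT.exists_fixed_point_of_prime_dvd_card_of_fixed_point (Fin 2 → F) hcard h0
  have hfix : ∀ t ∈ T, t.1.mulVec v = v := fun t ht => hvfix ⟨t, ht⟩
  obtain ⟨g, hg0, hg1⟩ := exists_col v (Ne.symm hv0)
  refine ⟨QuotientGroup.mk g⁻¹, ?_⟩
  rintro _ ⟨y, hy, rfl⟩
  rw [← hTQ] at hy
  obtain ⟨t, ht, rfl⟩ := hy
  have hf := hfix t ht
  have h0' := congrFun hf 0
  have h1' := congrFun hf 1
  simp only [Matrix.mulVec, dotProduct, Fin.sum_univ_two] at h0' h1'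
  obtain ⟨b, hb⟩ := conj_fix g t (by rw [hg0, hg1]; exact h0') (by rw [hg0, hg1]; exact h1')
  refine ⟨b, ?_⟩
  show (MulAut.conj (QuotientGroup.mk g⁻¹ : Matrix.ProjectiveSpecialLinearGroup (Fin 2) F))
    (QuotientGroup.mk t) = QuotientGroup.mk (umat b)
  rw [MulAut.conj_apply, ← hb]
  simp [QuotientGroup.mk_mul, QuotientGroup.mk_inv]

theorem normalize2 [Fintype F] (p : ℕ) [Fact p.Prime] [CharP F p]
    (H Q : Subgroup (Matrix.ProjectiveSpecialLinearGroup (Fin 2) F)) (P k : ℕ)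
    (hyp : Hyp p P k H Q) (hP : 1 < P) (hk : k = P - 1 ∨ 2 * k = P - 1)
    (hQU : Q ≤ Ubar F) :
    ∃ h : Matrix.SpecialLinearGroup (Fin 2) F,
      (QuotientGroup.mk h : Matrix.ProjectiveSpecialLinearGroup (Fin 2) F) ∈ H ∧ h.1 1 0 ≠ 0 := by
  by_contra hcon
  push Not at hcon
  have hQeq : H ⊓ Ubar F = Q :=
    sylow_max p hyp hP hk (H ⊓ Ubar F) ((Ubar_pGroup p).to_le inf_le_right)
      (le_inf hyp.hQH hQU) inf_le_left
  have hstep : ∀ h : Matrix.SpecialLinearGroup (Fin 2) F,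
      (QuotientGroup.mk h : Matrix.ProjectiveSpecialLinearGroup (Fin 2) F) ∈ H → ∀ z ∈ Q,
      (QuotientGroup.mk h : Matrix.ProjectiveSpecialLinearGroup (Fin 2) F) * z *
        (QuotientGroup.mk h)⁻¹ ∈ Q := by
    intro h hh z hz
    rw [← hQeq, Subgroup.mem_inf]
    refine ⟨H.mul_mem (H.mul_mem hh (hyp.hQH hz)) (H.inv_mem hh), ?_⟩
    obtain ⟨a, rfl⟩ := hQU hz
    refine ⟨(h.1 0 0) ^ 2 * a, ?_⟩
    rw [← bub h (hcon h hh) a]
    simp [QuotientGroup.mk_mul, QuotientGroup.mk_inv]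
  have hle : H ≤ Subgroup.normalizer (Q : Set _) := by
    intro y hy
    obtain ⟨h, rfl⟩ := QuotientGroup.mk_surjective y
    rw [Subgroup.mem_normalizer_iff]
    intro z
    constructor
    · exact hstep h hy z
    · intro hz
      have := hstep h⁻¹ (by rw [QuotientGroup.mk_inv]; exact H.inv_mem hy) _ hz
      simpa [QuotientGroup.mk_inv, mul_assoc] using this
  have h2 : H ⊓ Subgroup.normalizer (Q : Set _) = H := inf_eq_left.mpr hle
  have h1 := hyp.hN
  rw [h2, hyp.hH] at h1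
  have hk0 : 0 < k := by omega
  have h3 : 0 < P * k := Nat.mul_pos (by omega) hk0
  nlinarith

theorem normalize [Fintype F] (p : ℕ) [Fact p.Prime] [CharP F p]
    (H Q : Subgroup (Matrix.ProjectiveSpecialLinearGroup (Fin 2) F)) (P k : ℕ)
    (hyp : Hyp p P k H Q) (hP : 1 < P) (hk : k = P - 1 ∨ 2 * k = P - 1) :
    ∃ x : Matrix.ProjectiveSpecialLinearGroup (Fin 2) F,
      Q.map (MulAut.conj x).toMonoidHom ≤ Ubar F ∧
      ∃ h₁ : Matrix.SpecialLinearGroup (Fin 2) F,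
        (QuotientGroup.mk h₁ : Matrix.ProjectiveSpecialLinearGroup (Fin 2) F) ∈
          H.map (MulAut.conj x).toMonoidHom ∧ h₁.1 0 0 = 0 := by
  obtain ⟨x₀, hx₀⟩ := normalize1 p Q hyp.hQp
  have hyp₀ := hyp.conj x₀
  obtain ⟨h, hh, h10⟩ := normalize2 p _ _ P k hyp₀ hP hk hx₀
  set t := -(h.1 0 0 / h.1 1 0) with ht
  refine ⟨QuotientGroup.mk (umat t) * x₀, ?_, umat t * h * (umat t)⁻¹, ?_, ?_⟩
  · rintro _ ⟨y, hy, rfl⟩
    have h1 : (MulAut.conj x₀) y ∈ Ubar F := hx₀ (Subgroup.mem_map_of_mem _ hy)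
    obtain ⟨a, ha⟩ := h1
    refine ⟨a, ?_⟩
    show MulAut.conj (QuotientGroup.mk (umat t) * x₀) y = _
    rw [map_mul, MulAut.mul_apply, ha, MulAut.conj_apply, ← QuotientGroup.mk_inv,
      ← QuotientGroup.mk_mul, ← QuotientGroup.mk_mul]
    congr 1
    rw [← umat_neg, ← umat_add, ← umat_add]
    congr 1
    ring
  · obtain ⟨y, hy, hyh⟩ := hh
    refine ⟨y, hy, ?_⟩
    show MulAut.conj (QuotientGroup.mk (umat t) * x₀) y = _
    have hyh' : (MulAut.conj x₀) y = QuotientGroup.mk h := hyh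
    rw [map_mul, MulAut.mul_apply, hyh', MulAut.conj_apply, ← QuotientGroup.mk_inv,
      ← QuotientGroup.mk_mul, ← QuotientGroup.mk_mul]
  · rw [m00, m00, m01, i00, i10]
    simp
    rw [ht]
    field_simp
    ring

/-- **The two-transitive case of Dickson's theorem.** -/
theorem two_transitive_case {F : Type*} [Field F] [Fintype F] (p : ℕ) [Fact p.Prime] [CharP F p]
    (H Q : Subgroup (Matrix.ProjectiveSpecialLinearGroup (Fin 2) F)) (hQH : Q ≤ H)
    (hQp : IsPGroup p Q)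
    (P k : ℕ) (hP : 1 < P) (hQ : Nat.card Q = P)
    (hN : Nat.card (H ⊓ Subgroup.normalizer (Q : Set _) : Subgroup _) = P * k)
    (hH : Nat.card H = (P + 1) * P * k) (hk : k = P - 1 ∨ 2 * k = P - 1) :
    ∃ (K : Type) (_ : Field K) (_ : Fintype K) (m : ℕ), Fintype.card K ^ m = Fintype.card F ∧
      (Nonempty (H ≃* Matrix.ProjectiveSpecialLinearGroup (Fin 2) K) ∨
        Nonempty (H ≃* Matrix.ProjGenLinGroup (Fin 2) K)) := by
  have hyp : Hyp p P k H Q := ⟨hQH, hQp, hQ, hN, hH⟩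
  obtain ⟨x, hQU, h₁, h₁H, h₁0⟩ := normalize p H Q P k hyp hP hk
  obtain ⟨K, i1, i2, m, hm, hiso⟩ :=
    main_normalized p _ _ P k (hyp.conj x) hP hk hQU h₁ h₁H h₁0
  refine ⟨K, i1, i2, m, hm, ?_⟩
  have e : H ≃* H.map (MulAut.conj x).toMonoidHom :=
    H.equivMapOfInjective _ (MulAut.conj x).injective
  rcases hiso with h | h
  · obtain ⟨e'⟩ := h
    left; exact ⟨e.trans e'⟩
  · obtain ⟨e'⟩ := h
    right; exact ⟨e.trans e'⟩

end wrapper

end Cfsg.Agent.Lib.Helper19.TwoTrans
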