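import Mathlib
import Cfsg.Agent.Lib.Helper19.TwoTrans

set_option autoImplicit false
set_option linter.unusedSimpArgs false
set_option linter.unusedSectionVars false

/-! # Consequences of Dickson's theorem: orders of the subgroups of `PSL₂(q)` -/

namespace Cfsg.Agent.Lib.Helper19.DicksonUse

open Matrix Cfsg.Agent.Lib.Helper60 Cfsg.Agent.S0807 Cfsg.Agent.S0808 Cfsg.Agent.S0802
open Cfsg.Agent.Lib.Helper19.TwoTrans

/-- the conclusion of Dickson's theorem (statement S0799) -/
def DConcl (F : Type*) [Field F] [Fintype F] (q p : ℕ) [Fact p.Prime]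
    (H : Subgroup (Matrix.ProjectiveSpecialLinearGroup (Fin 2) F)) : Prop :=
  (∃ k : ℕ, (k ∣ (q + 1) / Nat.gcd 2 (q - 1) ∨ k ∣ (q - 1) / Nat.gcd 2 (q - 1)) ∧ ((IsCyclic H ∧ Nat.card H = k) ∨ Nonempty (H ≃* DihedralGroup k))) ∨ (∃ (P : Sylow p (Matrix.ProjectiveSpecialLinearGroup (Fin 2) F)) (K : Subgroup (Matrix.ProjectiveSpecialLinearGroup (Fin 2) F)), K ≤ Subgroup.normalizer ((P : Subgroup (Matrix.ProjectiveSpecialLinearGroup (Fin 2) F)) : Set (Matrix.ProjectiveSpecialLinearGroup (Fin 2) F)) ∧ Nonempty (H ≃* K)) ∨ Nonempty (H ≃* alternatingGroup (Fin 4)) ∨ Nonempty (H ≃* Equiv.Perm (Fin 4)) ∨ Nonempty (H ≃* alternatingGroup (Fin 5)) ∨ (∃ (K : Type) (_ : Field K) (_ : Fintype K) (m : ℕ), Fintype.card K ^ m = q ∧ (Nonempty (H ≃* Matrix.ProjectiveSpecialLinearGroup (Fin 2) K) ∨ Nonempty (H ≃* Matrix.ProjGenLinGroup (Fin 2) K)))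

section
variable {F : Type*} [Field F] [Fintype F]

/-- `|PSL₂(q)| · gcd(2, q - 1) = q (q² - 1)` -/
theorem card_psl_mul_d :
    Nat.card (Matrix.ProjectiveSpecialLinearGroup (Fin 2) F) * Nat.gcd 2 (Fintype.card F - 1) =
      Fintype.card F * (Fintype.card F * Fintype.card F - 1) := by
  rw [← Cfsg.Agent.Lib.Helper07.card_sl_eq_card_psl_mul 2 (by norm_num), card_sl2]

/-- the upper triangular subgroup of `SL₂` has order `q (q - 1)` -/
theorem card_upper :
    Nat.card {h : Matrix.SpecialLinearGroup (Fin 2) F // h.1 1 0 = 0} =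
      Fintype.card F * (Fintype.card F - 1) := by
  classical
  have e : {h : Matrix.SpecialLinearGroup (Fin 2) F // h.1 1 0 = 0} ≃ Fˣ × F :=
    { toFun := fun h => (Units.mk0 (h.1.1 0 0) (by
        intro h0
        have hd := sl2_det h.1
        rw [h.2, h0] at hd
        simp at hd), h.1.1 0 1)
      invFun := fun tb => ⟨⟨!![(tb.1 : F), tb.2; 0, ((tb.1⁻¹ : Fˣ) : F)], by
        simp [Matrix.det_fin_two]⟩, rfl⟩
      left_inv := by
        rintro ⟨h, h10⟩
        apply Subtype.ext
        have hd := sl2_det h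
        rw [h10, mul_zero, sub_zero] at hd
        apply sl_ext
        · simp
        · simp
        · simp [h10]
        · simp
          exact (eq_inv_of_mul_eq_one_right hd).symm
      right_inv := by
        rintro ⟨t, b⟩
        apply Prod.ext
        · apply Units.ext; simp
        · simp }
  rw [Nat.card_congr e, Nat.card_prod, Cfsg.Agent.Lib.Helper07.card_units_field,
    Nat.card_eq_fintype_card, mul_comm]


theorem index_ge_of_small (H : Subgroup (Matrix.ProjectiveSpecialLinearGroup (Fin 2) F))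
    (h : Nat.card H * Nat.gcd 2 (Fintype.card F - 1) <
      Fintype.card F * Fintype.card F - 1) : Fintype.card F + 1 ≤ H.index := by
  by_contra hcon
  push Not at hcon
  have hi : H.index ≤ Fintype.card F := by omega
  have h1 := Subgroup.card_mul_index H
  have h2 := card_psl_mul_d (F := F)
  rw [← h1] at h2
  have h3 : Nat.card H * H.index * Nat.gcd 2 (Fintype.card F - 1) ≤
      Fintype.card F * (Nat.card H * Nat.gcd 2 (Fintype.card F - 1)) := by
    calc Nat.card H * H.index * Nat.gcd 2 (Fintype.card F - 1)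
        = H.index * (Nat.card H * Nat.gcd 2 (Fintype.card F - 1)) := by ring
      _ ≤ Fintype.card F * (Nat.card H * Nat.gcd 2 (Fintype.card F - 1)) :=
          Nat.mul_le_mul_right _ hi
  have hq : 0 < Fintype.card F := Fintype.card_pos
  have h4 : Fintype.card F * (Nat.card H * Nat.gcd 2 (Fintype.card F - 1)) <
      Fintype.card F * (Fintype.card F * Fintype.card F - 1) :=
    Nat.mul_lt_mul_of_pos_left h hq
  omega

theorem card_Ubar : Nat.card (Ubar F) = Fintype.card F := by
  rw [← Nat.card_eq_fintype_card]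
  symm
  apply Nat.card_congr
  apply Equiv.ofBijective (fun a : F => (⟨QuotientGroup.mk (umat a), ⟨a, rfl⟩⟩ : Ubar F))
  constructor
  · intro a b hab
    exact mk_umat_inj (congrArg Subtype.val hab)
  · rintro ⟨x, a, rfl⟩
    exact ⟨a, rfl⟩

/-- the normaliser of a Sylow `p`-subgroup has order at most `q (q - 1) / d` -/
theorem card_normalizer_sylow_le (p : ℕ) [Fact p.Prime] [CharP F p]
    (P : Sylow p (Matrix.ProjectiveSpecialLinearGroup (Fin 2) F)) :
    Nat.card (Subgroup.normalizer ((P : Subgroup (Matrix.ProjectiveSpecialLinearGroup (Fin 2) F)) :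
      Set (Matrix.ProjectiveSpecialLinearGroup (Fin 2) F))) * Nat.gcd 2 (Fintype.card F - 1) ≤
      Fintype.card F * (Fintype.card F - 1) := by
  classical
  have pp : p.Prime := Fact.out
  obtain ⟨x, hx⟩ := normalize1 p (P : Subgroup (Matrix.ProjectiveSpecialLinearGroup (Fin 2) F)) P.isPGroup'
  set Q := (P : Subgroup (Matrix.ProjectiveSpecialLinearGroup (Fin 2) F)).map
    (MulAut.conj x).toMonoidHom with hQ
  have hNQ : Nat.card (Subgroup.normalizer (Q : Set (Matrix.ProjectiveSpecialLinearGroup (Fin 2) F))) =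
      Nat.card (Subgroup.normalizer ((P : Subgroup
        (Matrix.ProjectiveSpecialLinearGroup (Fin 2) F)) :
          Set (Matrix.ProjectiveSpecialLinearGroup (Fin 2) F))) := by
    rw [hQ, ← Subgroup.map_equiv_normalizer_eq,
      Subgroup.card_map_of_injective (MulAut.conj x).injective]
  rw [← hNQ]
  -- `Q` is nontrivial
  have hpq : p ∣ Fintype.card F := (CharP.cast_eq_zero_iff F p (Fintype.card F)).1 (by simp)
  have hpG : p ∣ Nat.card (Matrix.ProjectiveSpecialLinearGroup (Fin 2) F) := by
    refine dvd_trans hpq ?_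
    rw [← card_Ubar]
    exact Subgroup.card_subgroup_dvd_card _
  have hPne : (P : Subgroup (Matrix.ProjectiveSpecialLinearGroup (Fin 2) F)) ≠ ⊥ :=
    P.ne_bot_of_dvd_card hpG
  obtain ⟨z, hz1⟩ := (Subgroup.ne_bot_iff_exists_ne_one).mp hPne
  have hzQ : (MulAut.conj x) z.1 ∈ Q := Subgroup.mem_map_of_mem _ z.2
  obtain ⟨a, ha⟩ := hx hzQ
  have ha0 : a ≠ 0 := by
    rintro rfl
    rw [umat_zero] at ha
    have h1 : (MulAut.conj x) z.1 = 1 := ha
    have h2 : z.1 = 1 := by
      have := (MulAut.conj x).injective (h1.trans (map_one _).symm)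
      exact this
    exact hz1 (Subtype.ext h2)
  have hc := card_comap_mk (Subgroup.center (Matrix.SpecialLinearGroup (Fin 2) F))
    (Subgroup.normalizer (Q : Set (Matrix.ProjectiveSpecialLinearGroup (Fin 2) F)))
  rw [Cfsg.Agent.Lib.Helper07.card_center_sl 2 (by norm_num)] at hc
  rw [mul_comm, ← hc, ← card_upper]
  have hprop : ∀ y : ((Subgroup.normalizer (Q : Set (Matrix.ProjectiveSpecialLinearGroup (Fin 2) F))).comap
      (QuotientGroup.mk' (Subgroup.center (Matrix.SpecialLinearGroup (Fin 2) F)))),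
      y.1.1 1 0 = 0 := by
    rintro ⟨y, hy⟩
    have hy' : (QuotientGroup.mk y : Matrix.ProjectiveSpecialLinearGroup (Fin 2) F) ∈
        Subgroup.normalizer (Q : Set (Matrix.ProjectiveSpecialLinearGroup (Fin 2) F)) := hy
    have h1 := (Subgroup.mem_normalizer_iff.mp hy' _).mp hzQ
    rw [ha, ← QuotientGroup.mk_mul, ← QuotientGroup.mk_inv, ← QuotientGroup.mk_mul] at h1
    obtain ⟨a', ha'⟩ := hx h1
    rw [mk_eq_mk_iff] at ha'
    have h2 : (y * umat a * y⁻¹).1 1 0 = 0 := by
      rcases ha' with h | h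
      · rw [h]; simp
      · rw [h]; simp
    rw [conj_u10] at h2
    have h3 : a * (y.1 1 0) ^ 2 = 0 := neg_eq_zero.mp h2
    rcases mul_eq_zero.mp h3 with h | h
    · exact absurd h ha0
    · exact pow_eq_zero_iff (two_ne_zero) |>.mp h
  apply Nat.card_le_card_of_injective (fun y => (⟨y.1, hprop y⟩ :
    {h : Matrix.SpecialLinearGroup (Fin 2) F // h.1 1 0 = 0}))
  intro y y' hyy
  have h3 : y.1 = y'.1 := congrArg (fun z :
    {h : Matrix.SpecialLinearGroup (Fin 2) F // h.1 1 0 = 0} => z.1) hyy
  exact Subtype.ext h3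


theorem gcd_two_odd {n : ℕ} (h : Odd n) : Nat.gcd 2 (n - 1) = 2 := by
  apply Nat.gcd_eq_left
  obtain ⟨c, hc⟩ := h
  exact ⟨c, by omega⟩

theorem gcd_two_even {n : ℕ} (h : Even n) (hn : 0 < n) : Nat.gcd 2 (n - 1) = 1 := by
  have h1 : Nat.gcd 2 (n - 1) ∣ 2 := Nat.gcd_dvd_left _ _
  have h2 : Nat.gcd 2 (n - 1) ∣ n - 1 := Nat.gcd_dvd_right _ _
  rcases (Nat.dvd_prime Nat.prime_two).mp h1 with h3 | h3
  · exact h3
  · exfalso
    rw [h3] at h2
    obtain ⟨c, hc⟩ := h
    obtain ⟨c', hc'⟩ := h2
    omega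

theorem gcd_two_le (n : ℕ) : Nat.gcd 2 n ≤ 2 := Nat.gcd_le_left _ (by norm_num)

theorem gcd_two_pos (n : ℕ) : 0 < Nat.gcd 2 n := Nat.gcd_pos_of_pos_left _ (by norm_num)

theorem card_psl_le_sl (K : Type*) [Field K] [Fintype K] :
    Nat.card (Matrix.ProjectiveSpecialLinearGroup (Fin 2) K) ≤
      Fintype.card K * (Fintype.card K * Fintype.card K - 1) := by
  have h := card_psl_mul_d (F := K)
  have hpos := gcd_two_pos (Fintype.card K - 1)
  calc Nat.card (Matrix.ProjectiveSpecialLinearGroup (Fin 2) K)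
      ≤ Nat.card (Matrix.ProjectiveSpecialLinearGroup (Fin 2) K) *
          Nat.gcd 2 (Fintype.card K - 1) := Nat.le_mul_of_pos_right _ hpos
    _ = _ := h

theorem card_pgl (K : Type*) [Field K] [Fintype K] :
    Nat.card (Matrix.ProjGenLinGroup (Fin 2) K) =
      Fintype.card K * (Fintype.card K * Fintype.card K - 1) := by
  rw [Cfsg.Agent.Lib.Helper07.card_pgl_eq_card_sl 2, card_sl2]

theorem lt_pred_of {a b : ℕ} (h : a + 1 < b) : a < b - 1 := by omega

theorem index_ge_of_dickson (hq : Fintype.card F ∉ ({2, 3, 5, 7, 9, 11} : Finset ℕ)) (p : ℕ)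
    [Fact p.Prime] [CharP F p]
    (H : Subgroup (Matrix.ProjectiveSpecialLinearGroup (Fin 2) F)) (hH : H ≠ ⊤)
    (hD : DConcl F (Fintype.card F) p H) : Fintype.card F + 1 ≤ H.index := by
  classical
  set q := Fintype.card F with hqdef
  have hq2 : 2 ≤ q := Fintype.one_lt_card
  simp only [Finset.mem_insert, Finset.mem_singleton, not_or] at hq
  obtain ⟨hq_2, hq_3, hq_5, hq_7, hq_9, hq_11⟩ := hq
  have hq4 : 4 ≤ q := by omega
  set d := Nat.gcd 2 (q - 1) with hd
  have hd2 : d ≤ 2 := gcd_two_le _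
  have hdpos : 0 < d := gcd_two_pos _
  have hqq : q * q ≥ 4 * q := Nat.mul_le_mul_right q hq4
  have hGd := card_psl_mul_d (F := F)
  rw [← hqdef, ← hd] at hGd
  have hlag : Nat.card H ∣ Nat.card (Matrix.ProjectiveSpecialLinearGroup (Fin 2) F) :=
    Subgroup.card_subgroup_dvd_card H
  rcases hD with ⟨k, hk, hH'⟩ | ⟨P, K, hK, ⟨e⟩⟩ | ⟨⟨e⟩⟩ | ⟨⟨e⟩⟩ | ⟨⟨e⟩⟩ | ⟨K, _, _, m, hm, hH'⟩
  · -- cyclic or dihedral
    have hkd : k * d ≤ q + 1 := by
      rcases hk with hk | hk
      · have hpos : 0 < (q + 1) / d := Nat.div_pos (by omega) hdpos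
        have h1 := Nat.le_of_dvd hpos hk
        calc k * d ≤ (q + 1) / d * d := Nat.mul_le_mul_right _ h1
          _ ≤ q + 1 := Nat.div_mul_le_self _ _
      · have hpos : 0 < (q - 1) / d := Nat.div_pos (by omega) hdpos
        have h1 := Nat.le_of_dvd hpos hk
        calc k * d ≤ (q - 1) / d * d := Nat.mul_le_mul_right _ h1
          _ ≤ q - 1 := Nat.div_mul_le_self _ _
          _ ≤ q + 1 := by omega
    apply index_ge_of_small
    rw [← hqdef, ← hd]
    apply lt_pred_of
    rcases hH' with ⟨_, hc⟩ | ⟨⟨e⟩⟩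
    · rw [hc]; nlinarith
    · rw [Nat.card_congr e.toEquiv, DihedralGroup.nat_card]
      nlinarith
  · -- inside the normaliser of a Sylow subgroup
    apply index_ge_of_small
    rw [← hqdef, ← hd]
    have h1 : Nat.card H ≤ Nat.card (Subgroup.normalizer ((P : Subgroup
        (Matrix.ProjectiveSpecialLinearGroup (Fin 2) F)) :
          Set (Matrix.ProjectiveSpecialLinearGroup (Fin 2) F))) := by
      rw [Nat.card_congr e.toEquiv]
      exact Subgroup.card_le_of_le hK
    have h2 := card_normalizer_sylow_le p P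
    rw [← hqdef, ← hd] at h2
    have h3 : Nat.card H * d ≤ q * (q - 1) := le_trans (Nat.mul_le_mul_right _ h1) h2
    have h4 : q * (q - 1) < q * q - 1 := by
      rw [Nat.mul_sub_one]; omega
    omega
  · -- A4
    have hc : Nat.card H = 12 := by
      rw [Nat.card_congr e.toEquiv, nat_card_alternatingGroup]; simp; decide
    apply index_ge_of_small
    rw [← hqdef, ← hd, hc]
    apply lt_pred_of
    by_cases hq6 : 6 ≤ q
    · have : q * q ≥ 6 * q := Nat.mul_le_mul_right q hq6
      nlinarith
    · have hq4' : q = 4 := by omega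
      rw [hq4'] at hd
      have hd1 : d = 1 := by rw [hd]; decide
      rw [hd1, hq4']
      norm_num
  · -- S4
    have hc : Nat.card H = 24 := by
      rw [Nat.card_congr e.toEquiv, Nat.card_perm]; simp; decide
    by_cases hq6 : 6 ≤ q
    · apply index_ge_of_small
      rw [← hqdef, ← hd, hc]
      apply lt_pred_of
      have : q * q ≥ 6 * q := Nat.mul_le_mul_right q hq6
      by_cases hq8 : 8 ≤ q
      · have : q * q ≥ 8 * q := Nat.mul_le_mul_right q hq8
        nlinarith
      · have hq6' : q = 6 := by omega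
        rw [hq6'] at hd
        have : d = 1 := by rw [hd]; decide
        rw [this, hq6']
        norm_num
    · exfalso
      have hq4' : q = 4 := by omega
      rw [hq4'] at hd
      have hd1 : d = 1 := by rw [hd]; decide
      rw [hd1, hq4', mul_one] at hGd
      rw [hc, hGd] at hlag
      revert hlag; decide
  · -- A5
    have hc : Nat.card H = 60 := by
      rw [Nat.card_congr e.toEquiv, nat_card_alternatingGroup]; simp; decide
    by_cases hq8 : 8 ≤ q
    · apply index_ge_of_small
      rw [← hqdef, ← hd, hc]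
      apply lt_pred_of
      have h8 : q * q ≥ 8 * q := Nat.mul_le_mul_right q hq8
      rcases Nat.even_or_odd q with he | ho
      · have : d = 1 := gcd_two_even he (by omega)
        rw [this]; nlinarith
      · have hq13 : 13 ≤ q := by
          obtain ⟨c, hc'⟩ := ho
          omega
        have : q * q ≥ 13 * q := Nat.mul_le_mul_right q hq13
        nlinarith
    · exfalso
      have hq46 : q = 4 ∨ q = 6 := by omega
      rcases hq46 with h4 | h6
      · rw [h4] at hd
        have hd1 : d = 1 := by rw [hd]; decide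
        rw [hd1, h4, mul_one] at hGd
        apply hH
        apply Subgroup.eq_top_of_card_eq
        rw [hc, hGd]
      · rw [h6] at hd
        have hd1 : d = 1 := by rw [hd]; decide
        rw [hd1, h6, mul_one] at hGd
        rw [hc, hGd] at hlag
        revert hlag; decide
  · -- subfield subgroups
    set r := Fintype.card K with hr
    have hr2 : 2 ≤ r := Fintype.one_lt_card
    have hHr : Nat.card H ≤ r * (r * r - 1) := by
      rcases hH' with ⟨⟨e⟩⟩ | ⟨⟨e⟩⟩
      · rw [Nat.card_congr e.toEquiv]; exact card_psl_le_sl K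
      · rw [Nat.card_congr e.toEquiv, card_pgl K]
    rcases Nat.lt_or_ge m 2 with hm2 | hm2
    · exfalso
      have hm01 : m = 0 ∨ m = 1 := by omega
      rcases hm01 with rfl | rfl
      · rw [pow_zero] at hm; omega
      · rw [pow_one] at hm
        apply hH
        apply Subgroup.eq_top_of_le_card
        rcases hH' with ⟨⟨e⟩⟩ | ⟨⟨e⟩⟩
        · rw [Nat.card_congr e.toEquiv]
          have h1 := card_psl_mul_d (F := K)
          rw [← hr, hm] at h1
          have : Nat.card (Matrix.ProjectiveSpecialLinearGroup (Fin 2) K) * d =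
              Nat.card (Matrix.ProjectiveSpecialLinearGroup (Fin 2) F) * d := by
            rw [h1, hGd]
          exact (Nat.eq_of_mul_eq_mul_right hdpos this).ge
        · rw [Nat.card_congr e.toEquiv, card_pgl K, ← hr, hm, ← hGd]
          exact Nat.le_mul_of_pos_right _ hdpos
    · apply index_ge_of_small
      rw [← hqdef, ← hd]
      have hqr : r * r ≤ q := by
        rw [← hm]
        calc r * r = r ^ 2 := (pow_two r).symm
          _ ≤ r ^ m := Nat.pow_le_pow_right (by omega) hm2
      have hrr : r * r ≥ 2 * r := Nat.mul_le_mul_right r hr2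
      obtain ⟨t, ht⟩ : ∃ t, r * r = t + 4 := ⟨r * r - 4, by omega⟩
      have h1 : r * r - 1 = t + 3 := by omega
      have h2 : 2 * r < r * r + 1 := by nlinarith
      have h3 : Nat.card H * d ≤ r * (t + 3) * 2 := by
        rw [h1] at hHr
        calc Nat.card H * d ≤ r * (t + 3) * d := Nat.mul_le_mul_right _ hHr
          _ ≤ r * (t + 3) * 2 := Nat.mul_le_mul_left _ hd2
      have h4 : r * (t + 3) * 2 < (t + 3) * (t + 5) := by
        have : 2 * r < t + 5 := by omega
        nlinarith
      have h5 : (t + 3) * (t + 5) = (r * r) * (r * r) - 1 := by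
        rw [ht]
        have : (t + 4) * (t + 4) = (t + 3) * (t + 5) + 1 := by ring
        omega
      have h6 : (r * r) * (r * r) ≤ q * q := Nat.mul_le_mul hqr hqr
      omega


/-- the image of the upper triangular group in `PSL₂` -/
def Bbar (F : Type*) [Field F] : Subgroup (Matrix.ProjectiveSpecialLinearGroup (Fin 2) F) :=
  (NB (⊤ : Subgroup (Matrix.SpecialLinearGroup (Fin 2) F))).map
    (QuotientGroup.mk' (Subgroup.center _))

theorem comap_Bbar :
    (Bbar F).comap (QuotientGroup.mk' (Subgroup.center (Matrix.SpecialLinearGroup (Fin 2) F))) =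
      NB (⊤ : Subgroup (Matrix.SpecialLinearGroup (Fin 2) F)) := by
  rw [Bbar, Subgroup.comap_map_eq, QuotientGroup.ker_mk']
  apply sup_eq_left.mpr
  intro z hz
  rw [mem_center_iff'] at hz
  refine ⟨Subgroup.mem_top _, ?_⟩
  rcases hz with rfl | rfl <;> simp

theorem card_NB_top :
    Nat.card (NB (⊤ : Subgroup (Matrix.SpecialLinearGroup (Fin 2) F))) =
      Fintype.card F * (Fintype.card F - 1) := by
  rw [← card_upper]
  apply Nat.card_congr
  exact Equiv.subtypeEquivRight (fun h => ⟨fun hh => hh.2, fun hh => ⟨Subgroup.mem_top _, hh⟩⟩)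

theorem index_Bbar : (Bbar F).index = Fintype.card F + 1 := by
  rw [← Subgroup.index_comap_of_surjective (Bbar F) (QuotientGroup.mk'_surjective _), comap_Bbar]
  have h1 := Subgroup.card_mul_index (NB (⊤ : Subgroup (Matrix.SpecialLinearGroup (Fin 2) F)))
  rw [card_NB_top, card_sl2] at h1
  have hq2 : 2 ≤ Fintype.card F := Fintype.one_lt_card
  set q := Fintype.card F with hq
  have hpos : 0 < q * (q - 1) := Nat.mul_pos (by omega) (by omega)
  apply Nat.eq_of_mul_eq_mul_left hpos
  rw [h1]
  obtain ⟨j, hj⟩ : ∃ j, q = j + 1 := ⟨q - 1, by omega⟩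
  have hj1 : q - 1 = j := by omega
  have h2 : q * q - 1 = j * (j + 2) := by
    have h3 : q * q = j * (j + 2) + 1 := by rw [hj]; ring
    omega
  rw [h2, hj1, hj]; ring

end

end Cfsg.Agent.Lib.Helper19.DicksonUse
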