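import Cfsg.Agent.Lib.Helper07.OrthTf
import Cfsg.Agent.Lib.Helper49.PrimeOrderOrth
import Cfsg.Agent.Lib.Helper50.SpinorCrit
import Cfsg.Agent.Lib.Helper19.QuadMat

set_option autoImplicit false
set_option linter.unusedSectionVars false
set_option linter.unusedVariables false

/-! Keystone K-S2721-B (272106; parallel hand): a similarity in the centraliser of a semisimple
isometry of odd order with prescribed multiplier and `delta = 1`. -/

namespace Cfsg.Agent.Lib.Helper19.S2721K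

open Module Matrix Cfsg.Agent.Lib.Helper08 Cfsg.Agent.Lib.Helper07.OG

universe u

section generic2

variable {F : Type u} [Field F] [Fintype F] [DecidableEq F] {ι : Type} [Fintype ι] [DecidableEq ι]
variable {Q : QuadraticForm F (ι → F)}

/-- the Gram matrix of the polar form and similarities -/
theorem gram_of_similarity (A : Matrix ι ι F) (ν : F) (hA : ∀ v, Q (A *ᵥ v) = ν * Q v) :
    Aᵀ * LinearMap.BilinForm.toMatrix' (QuadraticMap.polarBilin Q) * A =
      ν • LinearMap.BilinForm.toMatrix' (QuadraticMap.polarBilin Q) := by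
  have h1 : LinearMap.BilinForm.comp (QuadraticMap.polarBilin Q) (Matrix.toLin' A) (Matrix.toLin' A) =
      ν • QuadraticMap.polarBilin Q := by
    apply LinearMap.ext₂
    intro u v
    rw [LinearMap.BilinForm.comp_apply, LinearMap.smul_apply, LinearMap.smul_apply,
      QuadraticMap.polarBilin_apply_apply, QuadraticMap.polarBilin_apply_apply,
      Matrix.toLin'_apply, Matrix.toLin'_apply]
    simp only [QuadraticMap.polar, ← Matrix.mulVec_add, hA, smul_eq_mul]
    ring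
  have h3 := congrArg LinearMap.BilinForm.toMatrix' h1
  rw [LinearMap.BilinForm.toMatrix'_comp, LinearMap.toMatrix'_toLin', map_smul] at h3
  exact h3

set_option maxHeartbeats 1600000 in
theorem exists_comm_sim (C : OC Q) (p : ℕ) [Fact p.Prime] [CharP F p] (h2 : (2 : F) ≠ 0)
    {u0 : ι → F} (hu0 : Q u0 = 1) (n : ℕ) (hcard : Fintype.card ι = 2 * n)
    {r : ℕ} (hro : Odd r) (hrF : (r : F) ≠ 0)
    (hB1 : ∀ (G S c : Matrix ι ι F) (ν : F), Gᵀ = G → IsUnit G.det → Sᵀ * G * S = G →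
      cᵀ * G * c = ν • G → c * S = S * c → S ^ r = 1 → (∀ v : ι → F, S *ᵥ v = v → v = 0) →
      c.det = ν ^ n)
    (hB2 : ∀ (S : Matrix ι ι F), (∀ v, Q (S *ᵥ v) = Q v) → S ^ r = 1 → ∀ w : ι → F, S *ᵥ w = w →
      w ≠ 0 → ∃ u : ι → F, S *ᵥ u = u ∧ Q u ≠ 0)
    (s : ↥(Cfsg.isometryGroup F ⇑Q)) (hs : s ^ r = 1)
    (g₀ : ↥(Cfsg.Geo.quadSimilarityGroup (F := F) ⇑Q)) (hg₀ : delta Q hu0 n g₀ = 1) :
    ∃ c : ↥(Cfsg.Geo.quadSimilarityGroup (F := F) ⇑Q),
      (c : GL ι F) * ((s : ↥(Cfsg.isometryGroup F ⇑Q)) : GL ι F) =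
        ((s : ↥(Cfsg.isometryGroup F ⇑Q)) : GL ι F) * (c : GL ι F) ∧
      multFun Q c = multFun Q g₀ ∧ delta Q hu0 n c = 1 := by
  classical
  have hQ := C.hQ
  obtain ⟨S, hS⟩ : ∃ S : Matrix ι ι F, S = ((s : GL ι F) : Matrix ι ι F) := ⟨_, rfl⟩
  obtain ⟨G0, hG0⟩ : ∃ G0 : Matrix ι ι F, G0 = ((g₀ : GL ι F) : Matrix ι ι F) := ⟨_, rfl⟩
  obtain ⟨G0i, hG0i⟩ : ∃ G0i : Matrix ι ι F,
      G0i = (((g₀ : GL ι F)⁻¹ : GL ι F) : Matrix ι ι F) := ⟨_, rfl⟩
  have h01 : G0 * G0i = 1 := by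
    rw [hG0, hG0i, ← Units.val_mul, mul_inv_cancel, Units.val_one]
  have h10 : G0i * G0 = 1 := by
    rw [hG0, hG0i, ← Units.val_mul, inv_mul_cancel, Units.val_one]
  obtain ⟨μ, hμ⟩ : ∃ μ : F, μ = ((multFun Q g₀ : Fˣ) : F) := ⟨_, rfl⟩
  have hμ0 : μ ≠ 0 := by rw [hμ]; exact Units.ne_zero _
  have hG0Q : ∀ v, Q (G0 *ᵥ v) = μ * Q v := by
    intro v; rw [hG0, hμ]; exact multFun_spec Q g₀ v
  have hG0iQ : ∀ v, Q (G0i *ᵥ v) = μ⁻¹ * Q v := by
    intro v
    have h1 := hG0Q (G0i *ᵥ v)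
    rw [Matrix.mulVec_mulVec, h01, Matrix.one_mulVec] at h1
    rw [h1]
    field_simp
  have hSQ : ∀ v, Q (S *ᵥ v) = Q v := by
    intro v; rw [hS]; exact Cfsg.Agent.Lib.Helper50.O_isometry (⇑Q) s v
  have hSr : S ^ r = 1 := by
    rw [hS]
    have := Cfsg.Agent.Lib.Helper49.omat_pow Q s r
    rw [hs] at this
    exact this.symm
  obtain ⟨B', hB'⟩ : ∃ B' : Matrix ι ι F, B' = G0 * S * G0i := ⟨_, rfl⟩
  have hB'Q : ∀ v, Q (B' *ᵥ v) = Q v := by
    intro v
    rw [hB', ← Matrix.mulVec_mulVec, ← Matrix.mulVec_mulVec, hG0Q, hSQ, hG0iQ]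
    field_simp
  have hak : Matrix.toLin' S ^ r = 1 := by
    rw [← Matrix.toLin'_pow, hSr, Matrix.toLin'_one]; rfl
  obtain ⟨x, hx⟩ : ∃ x : (ι → F) ≃ₗ[F] (ι → F), ∀ v, x v = G0 *ᵥ v :=
    ⟨Matrix.toLin'OfInv h10 h01, fun v => by
      show Matrix.toLin' G0 v = _
      rw [Matrix.toLin'_apply]⟩
  obtain ⟨g, hgQ, hg⟩ := Cfsg.Agent.Lib.Helper49.exists_orth_conj r hrF hro (Matrix.toLin' S)
    (Matrix.toLin' B') hak Q hQ (fun v => by rw [Matrix.toLin'_apply]; exact hSQ v)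
    (fun v => by rw [Matrix.toLin'_apply]; exact hB'Q v) x (fun v => by
      rw [hx, hx, Matrix.toLin'_apply, Matrix.toLin'_apply, hB', Matrix.mulVec_mulVec,
        Matrix.mulVec_mulVec, Matrix.mul_assoc, Matrix.mul_assoc, h10, Matrix.mul_one])
  obtain ⟨gO, hgO⟩ := Cfsg.Agent.Lib.Helper49.exists_isometryGroup_of_equiv Q g hgQ
  obtain ⟨Gm, hGm⟩ : ∃ Gm : Matrix ι ι F, Gm = ((gO : GL ι F) : Matrix ι ι F) := ⟨_, rfl⟩
  have hGmv : ∀ v, Gm *ᵥ v = g v := by
    intro v
    have := congrArg (fun f : (ι → F) →ₗ[F] (ι → F) => f v) hgO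
    simp only [Matrix.toLin'_apply] at this
    rw [hGm]
    exact this
  have hcomm0 : Gm * B' = S * Gm := by
    apply Matrix.toLin'.injective
    apply LinearMap.ext
    intro v
    rw [Matrix.toLin'_apply, Matrix.toLin'_apply, ← Matrix.mulVec_mulVec, ← Matrix.mulVec_mulVec,
      hGmv, hGmv]
    have := hg v
    rw [Matrix.toLin'_apply, Matrix.toLin'_apply] at this
    exact this
  have hcomm1 : Gm * G0 * S = S * (Gm * G0) := by
    have h1 : Gm * G0 * S = Gm * B' * G0 := by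
      rw [hB', Matrix.mul_assoc, Matrix.mul_assoc, Matrix.mul_assoc, Matrix.mul_assoc, h10,
        Matrix.mul_one]
    rw [h1, hcomm0, Matrix.mul_assoc]
  -- the candidate
  obtain ⟨c', hc'⟩ : ∃ c' : ↥(Cfsg.Geo.quadSimilarityGroup (F := F) ⇑Q), c' = inclGO Q gO * g₀ :=
    ⟨_, rfl⟩
  have hc'val : ((c' : GL ι F) : Matrix ι ι F) = Gm * G0 := by
    rw [hc', Subgroup.coe_mul, Units.val_mul, inclGO_val, hGm, hG0]
  have hc'μ : multFun Q c' = multFun Q g₀ := by
    rw [hc', ← mult_apply Q hu0, map_mul, mult_apply, mult_apply, multFun_inclGO Q hu0, one_mul]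
  have hc'comm : (c' : GL ι F) * ((s : ↥(Cfsg.isometryGroup F ⇑Q)) : GL ι F) =
      ((s : ↥(Cfsg.isometryGroup F ⇑Q)) : GL ι F) * (c' : GL ι F) := by
    apply Units.ext
    rw [Units.val_mul, Units.val_mul, hc'val, ← hS]
    exact hcomm1
  rcases delta_cases Q hu0 n hQ hcard c' with hδ | hδ
  · exact ⟨c', hc'comm, hc'μ, hδ⟩
  · by_cases hfix : ∃ w : ι → F, S *ᵥ w = w ∧ w ≠ 0
    · obtain ⟨w, hw, hw0⟩ := hfix
      obtain ⟨u, hu, hQu⟩ := hB2 S hSQ hSr w hw hw0
      have hδr : delta Q hu0 n (inclGO Q (Cfsg.Agent.Lib.Helper50.reflO Q u)) = -1 := by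
        apply Units.ext
        rw [delta_apply, multFun_inclGO Q hu0]
        simp only [inv_one, one_pow, mul_one, detGO_val, inclGO_val, Units.val_neg, Units.val_one]
        rw [Cfsg.Agent.Lib.Helper50.reflO_val Q u hQu]
        exact Cfsg.Agent.Lib.Helper19.reflectionMatrix_det Q u hQu
      refine ⟨inclGO Q (Cfsg.Agent.Lib.Helper50.reflO Q u) * c', ?_, ?_, ?_⟩
      · rw [Subgroup.coe_mul, mul_assoc, hc'comm, ← mul_assoc, ← mul_assoc]
        congr 1
        apply Units.ext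
        rw [Units.val_mul, Units.val_mul, inclGO_val,
          Cfsg.Agent.Lib.Helper50.reflO_val Q u hQu, ← hS]
        have := Cfsg.Agent.Lib.Helper50.isometry_mul_reflection Q S hSQ u
        rw [hu] at this
        exact this.symm
      · rw [← mult_apply Q hu0, map_mul, mult_apply, mult_apply, multFun_inclGO Q hu0, one_mul,
          hc'μ]
      · rw [map_mul, hδr, hδ]
        simp
    · exfalso
      push Not at hfix
      have hfix' : ∀ v : ι → F, S *ᵥ v = v → v = 0 := hfix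
      have hGs : (LinearMap.BilinForm.toMatrix' (QuadraticMap.polarBilin Q))ᵀ =
          LinearMap.BilinForm.toMatrix' (QuadraticMap.polarBilin Q) := by
        ext i j
        rw [Matrix.transpose_apply, LinearMap.BilinForm.toMatrix'_apply,
          LinearMap.BilinForm.toMatrix'_apply, QuadraticMap.polarBilin_apply_apply,
          QuadraticMap.polarBilin_apply_apply, QuadraticMap.polar_comm]
      have hGd : IsUnit (LinearMap.BilinForm.toMatrix' (QuadraticMap.polarBilin Q)).det := by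
        rw [isUnit_iff_ne_zero, ← Matrix.nondegenerate_iff_det_ne_zero,
          LinearMap.BilinForm.nondegenerate_toMatrix'_iff]
        exact hQ
      have hSG := gram_of_similarity (Q := Q) S 1 (fun v => by rw [hSQ, one_mul])
      rw [one_smul] at hSG
      have hcG := gram_of_similarity (Q := Q) (Gm * G0) μ (fun v => by
        rw [← Matrix.mulVec_mulVec, hGm]
        rw [Cfsg.Agent.Lib.Helper50.O_isometry (⇑Q) gO, hG0Q])
      have hdet := hB1 _ S (Gm * G0) μ hGs hGd hSG hcG hcomm1 hSr hfix'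
      have h1 : delta Q hu0 n c' = 1 := by
        rw [delta_eq_one_iff, hc'val, hdet, hc'μ, hμ]
      rw [h1] at hδ
      have := congrArg (fun x : Fˣ => (x : F)) hδ
      simp only [Units.val_neg, Units.val_one] at this
      apply h2
      linear_combination this

end generic2

end Cfsg.Agent.Lib.Helper19.S2721K
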