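import Cfsg.Agent.Lib.Helper07.OrthS
import Cfsg.Agent.Lib.Helper08.OmegaCenterCard
import Cfsg.Agent.Lib.Helper43.Dickson

set_option autoImplicit false
set_option linter.unusedSimpArgs false
set_option linter.unusedVariables false
set_option linter.unusedSectionVars false

/-! The order of the image `pgoAut` of the similarity group in `Aut(PΩ(Q))`:
`|Inn(PΩ)| = |PΩ|`, and in characteristic two `|pgoAut| = 2 |PΩ|`. -/

namespace Cfsg.Agent.Lib.Helper19.PgoCard

open Module Matrix Cfsg.Agent.Lib.Helper43 Cfsg.Agent.Lib.Helper07.OG Cfsg.Agent.Lib.Helper08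

variable {F : Type*} [Field F] [Fintype F] {ι : Type} [Fintype ι] [DecidableEq ι]
variable {Q : QuadraticForm F (ι → F)}

local notation "Bf" => QuadraticMap.polarBilin Q

/-- `PΩ` has trivial centre. -/
theorem center_POmega_eq_bot (C : OC Q) (p : ℕ) [Fact p.Prime] [CharP F p] :
    Subgroup.center (Cfsg.POmega F ⇑Q) = ⊥ := by
  have : IsSimpleGroup (Cfsg.POmega F ⇑Q) := isSimpleGroup_POmega Q C.hQ C.hn
  rcases (Subgroup.center (Cfsg.POmega F ⇑Q)).normal_of_characteristic.eq_bot_or_eq_top with h | h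
  · exact h
  · exfalso
    obtain ⟨e, f, he, hf, hef⟩ := exists_hyp C
    have he0 : e ≠ 0 := by
      rintro rfl
      simp at hef
    -- `Qb e` is a normal subgroup
    have hN : (Qb C e).Normal := by
      constructor
      intro n hn g
      have hg : g ∈ Subgroup.center (Cfsg.POmega F ⇑Q) := by rw [h]; trivial
      rw [Subgroup.mem_center_iff] at hg
      rw [← hg n, mul_inv_cancel_right]
      exact hn
    rcases hN.eq_bot_or_eq_top with h1 | h1
    · exact Qb_ne_bot C p he0 he h1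
    · obtain ⟨g, hgΩ, hg⟩ := exists_Omega_move Q C.hQ C.hn e he0
      have h2 : prj (⟨g, hgΩ⟩ : ↥(Cfsg.Omega F ⇑Q)) ∈ Pb (Q := Q) e he0 := by
        apply Qb_le_Pb C he0 he
        rw [h1]
        trivial
      rw [prj_mem_Pb_iff C he0] at h2
      obtain ⟨c, hc⟩ := h2
      exact hg c hc

theorem card_inn_of_center {G : Type*} [Group G] (h : Subgroup.center G = ⊥) :
    Nat.card ↥(Cfsg.Inn G) = Nat.card G := by
  have hinj : Function.Injective (MulAut.conj : G →* MulAut G) := by
    rw [← MonoidHom.ker_eq_bot_iff]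
    rw [eq_bot_iff]
    intro g hg
    rw [← h, Subgroup.mem_center_iff]
    intro x
    have h1 : MulAut.conj g x = x := by rw [MonoidHom.mem_ker.1 hg]; rfl
    rw [MulAut.conj_apply] at h1
    calc x * g = (g * x * g⁻¹) * g := by rw [h1]
      _ = g * x := by group
  exact (Nat.card_congr (MonoidHom.ofInjective hinj).toEquiv).symm

theorem card_inn_POmega (C : OC Q) (p : ℕ) [Fact p.Prime] [CharP F p] :
    Nat.card ↥(Cfsg.Inn (Cfsg.POmega F ⇑Q)) = Nat.card (Cfsg.POmega F ⇑Q) :=
  card_inn_of_center (center_POmega_eq_bot C p)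

/-- a linear map commuting with all Siegel elements is a scalar. -/
theorem scalar_of_commute_sg (C : OC Q) (φ : Module.End F (ι → F))
    (hcomm : ∀ x v : ι → F, Q x = 0 → Bf x v = 0 →
      ∀ y, φ (lo Q (sg C x v) y) = lo Q (sg C x v) (φ y)) :
    ∃ c : F, ∀ x, φ x = c • x := by
  apply scalar_of_fix_lines Q C.hQ C.hn φ
  intro x hx0 hx
  have hfix : ∀ v, Bf x v = 0 → lo Q (sg C x v) (φ x) = φ x := by
    intro v hv
    rw [← hcomm x v hx hv]
    congr 1
    rw [sg_apply C hx hv, polar_self0 hx, hv]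
    simp
  obtain ⟨t, ht⟩ := fixed_of_siegelGrp C hx0 hx hfix
  exact ⟨t, ht⟩

section chartwo

/-- in characteristic two the centre of `Ω` is trivial. -/
theorem center_Omega_char_two (C : OC Q) (h2 : (2 : F) = 0) {z : ↥(Cfsg.Omega F ⇑Q)}
    (hz : z ∈ Subgroup.center ↥(Cfsg.Omega F ⇑Q)) : z = 1 := by
  obtain ⟨c, hc⟩ := center_scalar C hz
  have hcc := center_scalar_sq C hc
  have hc1 : c = 1 := by
    have h3 : (c - 1) * (c - 1) = 0 := by linear_combination hcc - c * h2 + h2
    rcases mul_self_eq_zero.1 h3 with h4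
    exact sub_eq_zero.1 h4
  apply lo_ext
  intro x
  rw [hc, hc1, one_smul, lo_one_apply]

/-- in characteristic two the isometry group acts faithfully on `PΩ`. -/
theorem autO_injective_char_two (C : OC Q) (h2 : (2 : F) = 0) :
    Function.Injective (autO (⇑Q)) := by
  rw [← MonoidHom.ker_eq_bot_iff, eq_bot_iff]
  intro g hg
  rw [MonoidHom.mem_ker] at hg
  rw [Subgroup.mem_bot]
  -- `g` commutes with every element of `Ω`
  have hcomm : ∀ s : ↥(Cfsg.Omega F ⇑Q), g * (s : ↥(Cfsg.isometryGroup F ⇑Q)) =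
      (s : ↥(Cfsg.isometryGroup F ⇑Q)) * g := by
    intro s
    obtain ⟨s', h1, h3⟩ := autO_mk_val (⇑Q) g s
    rw [hg, MulAut.one_apply] at h1
    have hc : s⁻¹ * s' ∈ Subgroup.center ↥(Cfsg.Omega F ⇑Q) := QuotientGroup.eq.mp h1
    have h4 := center_Omega_char_two C h2 hc
    have h5 : s' = s := (inv_mul_eq_one.1 h4).symm
    rw [h5] at h3
    calc g * (s : ↥(Cfsg.isometryGroup F ⇑Q)) = (g * s * g⁻¹) * g := by group
      _ = s * g := by rw [← h3]
  obtain ⟨c, hc⟩ := scalar_of_commute_sg C (linOf Q g) (by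
    intro x v hx hv y
    have h1 := hcomm (sg C x v)
    have h3 := congrArg (fun k => linOf Q k y) h1
    simp only [linOf_mul, LinearMap.comp_apply] at h3
    exact h3)
  -- the scalar is one
  obtain ⟨e, f, he, hf, hef⟩ := exists_hyp C
  have hQ1 : Q (e + f) = 1 := by
    rw [Q_add, he, hf, hef]
    ring
  have h6 := linOf_isometry Q g (e + f)
  rw [hc, Q_smul, hQ1, mul_one] at h6
  have hc1 : c = 1 := by
    have h3 : (c - 1) * (c - 1) = 0 := by linear_combination h6 - c * h2 + h2
    exact sub_eq_zero.1 (mul_self_eq_zero.1 h3)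
  apply linOf_injective Q
  apply LinearMap.ext
  intro x
  rw [hc, hc1, one_smul, linOf_one]
  rfl

/-- the scalar matrix as an element of `GL`. -/
noncomputable def scalGL (d : Fˣ) : GL ι F :=
  Units.map (algebraMap F (Matrix ι ι F)).toMonoidHom d

theorem scalGL_val (d : Fˣ) : ((scalGL d : GL ι F) : Matrix ι ι F) = (d : F) • 1 := by
  simp [scalGL, Algebra.algebraMap_eq_smul_one]

theorem scalGL_comm (d : Fˣ) (A : GL ι F) : scalGL d * A = A * scalGL d := by
  apply Units.ext
  rw [Units.val_mul, Units.val_mul, scalGL_val]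
  simp

/-- in characteristic two every similarity is a scalar multiple of an isometry, so the similarity
group and the isometry group have the same image in `Aut(PΩ)`. -/
theorem range_autPO_char_two (h2 : (2 : F) = 0) :
    (autPO (⇑Q)).range = (autO (⇑Q)).range := by
  have hchar : ringChar F = 2 := by
    have : CharP F 2 := CharTwo.of_one_ne_zero_of_two_eq_zero one_ne_zero h2
    exact ringChar.eq F 2
  apply le_antisymm
  · rintro _ ⟨g, rfl⟩
    obtain ⟨c, hc⟩ := g.2
    obtain ⟨d, hd⟩ := FiniteField.isSquare_of_char_two hchar (c : F)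
    have hd0 : d ≠ 0 := by
      rintro rfl
      rw [mul_zero] at hd
      exact c.ne_zero hd
    obtain ⟨D, hD⟩ : ∃ D : Fˣ, D = Units.mk0 d hd0 := ⟨_, rfl⟩
    have hDv : (D : F) = d := by rw [hD]; rfl
    have hiso : scalGL D⁻¹ * g.1 ∈ Cfsg.isometryGroup F ⇑Q := by
      rw [Cfsg.Agent.Lib.Helper19.mem_isometryGroup_iff]
      intro v
      rw [Units.val_mul, scalGL_val, Matrix.smul_mul, Matrix.one_mul, Matrix.smul_mulVec,
        QuadraticMap.map_smul, hc, hd, Units.val_inv_eq_inv_val, hDv, smul_eq_mul]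
      field_simp
    refine ⟨⟨scalGL D⁻¹ * g.1, hiso⟩, ?_⟩
    rw [autO_apply]
    ext x
    induction x using QuotientGroup.induction_on with
    | H s =>
      obtain ⟨s₁, h1, h3⟩ := autPO_mk_val (⇑Q) ⟨scalGL D⁻¹ * g.1, isometryGroup_le_similarity (⇑Q) hiso⟩ s
      obtain ⟨s₂, h4, h5⟩ := autPO_mk_val (⇑Q) g s
      rw [h1, h4]
      congr 1
      apply Omega_ext
      rw [h3, h5]
      congr 1
      show scalGL D⁻¹ * g.1 * (s.1 : GL ι F) * (scalGL D⁻¹ * g.1)⁻¹ = g.1 * (s.1 : GL ι F) * g.1⁻¹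
      rw [_root_.mul_inv_rev, mul_assoc (scalGL D⁻¹), mul_assoc (scalGL D⁻¹), scalGL_comm]
      group
  · rintro _ ⟨g, rfl⟩
    exact ⟨_, (autO_apply (⇑Q) g).symm⟩

/-- **characteristic two**: `|pgoAut| = 2 |PΩ|`. -/
theorem card_pgoAut_char_two (C : OC Q) (h2 : (2 : F) = 0) :
    Nat.card ↥(Cfsg.pgoAut F ⇑Q) = 2 * Nat.card (Cfsg.POmega F ⇑Q) := by
  have : CharP F 2 := CharTwo.of_one_ne_zero_of_two_eq_zero one_ne_zero h2
  have : Nonempty ι := by
    rw [← Fintype.card_pos_iff]
    have := C.hn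
    omega
  rw [pgoAut_eq, range_autPO_char_two h2,
    ← Nat.card_congr (MonoidHom.ofInjective (autO_injective_char_two C h2)).toEquiv,
    card_isometryGroup_eq (Q := Q),
    index_Omega_char_two Q C.hQ (Or.inr (by have := C.hn; omega))]
  have hcen : Subgroup.center ↥(Cfsg.Omega F ⇑Q) = ⊥ := by
    rw [eq_bot_iff]
    intro z hz
    rw [Subgroup.mem_bot]
    exact center_Omega_char_two C h2 hz
  rw [hcen, Subgroup.card_bot]
  ring

end chartwo

end Cfsg.Agent.Lib.Helper19.PgoCard
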