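import Cfsg.Agent.Lib.Helper50.ClsPar
import Cfsg.Agent.Lib.Helper50.MinusPres
import Cfsg.Agent.Lib.Helper51.OPar4
import Cfsg.Agent.Lib.Helper51.Embed2
import Cfsg.Agent.Lib.Helper19.PgoCard
import Cfsg.Agent.Lib.Helper51.POAut1

set_option autoImplicit false
set_option linter.unusedSimpArgs false
set_option linter.unusedVariables false
set_option linter.unusedSectionVars false

/-! Characteristic two: `Inndiag(PΩ⁻_{2m+2}(F)) = Inn(PΩ⁻_{2m+2}(F))`.  An isometry of the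
minus-type form preserves the two classes of maximal totally singular subspaces over the
quadratic extension iff it lies in `Ω`. -/

namespace Cfsg.Agent.Lib.Helper19.MinusInnTwo

open Matrix Module

section coef

variable {E : Type*} [Field E]

/-- a (non-symmetric) coefficient matrix of the minus-type form -/
def coefMinus (m : ℕ) (a b : E) :
    Matrix ((Fin m ⊕ Fin m) ⊕ Fin 2) ((Fin m ⊕ Fin m) ⊕ Fin 2) E :=
  Matrix.fromBlocks
    (Matrix.fromBlocks (0 : Matrix (Fin m) (Fin m) E) (1 : Matrix (Fin m) (Fin m) E)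
      (0 : Matrix (Fin m) (Fin m) E) (0 : Matrix (Fin m) (Fin m) E))
    (0 : Matrix (Fin m ⊕ Fin m) (Fin 2) E) (0 : Matrix (Fin 2) (Fin m ⊕ Fin m) E)
    (!![1, a; 0, b] : Matrix (Fin 2) (Fin 2) E)

theorem quadFormMinus_eq_coef (m : ℕ) (a b : E) (v : (Fin m ⊕ Fin m) ⊕ Fin 2 → E) :
    Cfsg.quadFormMinus m E a b v = v ⬝ᵥ (coefMinus m a b *ᵥ v) := by
  unfold Cfsg.quadFormMinus coefMinus
  simp only [dotProduct, mulVec, Fintype.sum_sum_type, Matrix.fromBlocks_apply₁₁,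
    Matrix.fromBlocks_apply₁₂, Matrix.fromBlocks_apply₂₁, Matrix.fromBlocks_apply₂₂,
    Matrix.zero_apply, Matrix.one_apply, Fin.sum_univ_two, zero_mul, Finset.sum_const_zero,
    add_zero, zero_add, mul_zero, ite_mul, one_mul, Finset.sum_ite_eq, Finset.mem_univ, if_true,
    Matrix.of_apply, Matrix.cons_val', Matrix.cons_val_zero, Matrix.cons_val_one,
    Matrix.cons_val_fin_one]
  ring

theorem coefMinus_map {K : Type*} [Field K] (φ : E →+* K) (m : ℕ) (a b : E) :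
    (coefMinus m a b).map φ = coefMinus m (φ a) (φ b) := by
  unfold coefMinus
  rw [Matrix.fromBlocks_map, Matrix.fromBlocks_map]
  congr 1
  · simp
  · simp
  · simp
  · ext i j
    fin_cases i <;> fin_cases j <;> simp

/-- isometries of the minus-type form stay isometries after extending scalars (any
characteristic) -/
theorem isometry_baseChange {K : Type*} [Field K] (φ : E →+* K) (m : ℕ) (a b : E)
    (A : Matrix ((Fin m ⊕ Fin m) ⊕ Fin 2) ((Fin m ⊕ Fin m) ⊕ Fin 2) E)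
    (hA : ∀ v, Cfsg.quadFormMinus m E a b (A *ᵥ v) = Cfsg.quadFormMinus m E a b v)
    (w : (Fin m ⊕ Fin m) ⊕ Fin 2 → K) :
    Cfsg.quadFormMinus m K (φ a) (φ b) (A.map φ *ᵥ w) =
      Cfsg.quadFormMinus m K (φ a) (φ b) w := by
  rw [quadFormMinus_eq_coef, quadFormMinus_eq_coef, ← coefMinus_map]
  apply Cfsg.Agent.Lib.Helper51.isometry_map
  intro u
  rw [← quadFormMinus_eq_coef, ← quadFormMinus_eq_coef, hA]

theorem quadFormMinus_comp {K : Type*} [Field K] (φ : E →+* K) (m : ℕ) (a b : E)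
    (v : (Fin m ⊕ Fin m) ⊕ Fin 2 → E) :
    Cfsg.quadFormMinus m K (φ a) (φ b) (fun i => φ (v i)) = φ (Cfsg.quadFormMinus m E a b v) := by
  unfold Cfsg.quadFormMinus
  simp [map_sum]

end coef

theorem prop_aux (A B : Prop) : (((A ↔ B) ↔ A) ↔ B) := by tauto

section overK

universe u

open Cfsg.Agent.Lib.Helper50 Cfsg.Agent.Lib.Helper43 Cfsg.Agent.Lib.Helper19
open Cfsg.Agent.Lib.Helper51.POAut

variable {F : Type u} [Field F] (m : ℕ) (a b : F)

/-- the class predicate read over the extension `K` -/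
def PK (K : Type u) [Field K] [Algebra F K] (g : GL ((Fin m ⊕ Fin m) ⊕ Fin 2) F) : Prop :=
  Cfsg.PreservesSingularClasses
    (Cfsg.quadFormMinus m K (algebraMap F K a) (algebraMap F K b))
    ((g : Matrix ((Fin m ⊕ Fin m) ⊕ Fin 2) ((Fin m ⊕ Fin m) ⊕ Fin 2) F).map (algebraMap F K))

theorem card_MI : Fintype.card ((Fin m ⊕ Fin m) ⊕ Fin 2) = 2 * (m + 1) := by
  rw [Fintype.card_sum, Fintype.card_sum, Fintype.card_fin, Fintype.card_fin]; ring

variable {K : Type u} [Field K] [Algebra F K]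

theorem iso_map {g : GL ((Fin m ⊕ Fin m) ⊕ Fin 2) F}
    (hg : g ∈ Cfsg.isometryGroup F ⇑(QMinus m F a b)) (v : (Fin m ⊕ Fin m) ⊕ Fin 2 → K) :
    QMinus m K (algebraMap F K a) (algebraMap F K b)
      (((Matrix.GeneralLinearGroup.map (algebraMap F K) g : GL _ K) : Matrix _ _ K) *ᵥ v) =
      1 * QMinus m K (algebraMap F K a) (algebraMap F K b) v := by
  rw [one_mul, QMinus_apply', QMinus_apply', GLmap_val]
  exact isometry_baseChange (algebraMap F K) m a b _ ((mem_isometryGroup_iff _ _).1 hg) v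

theorem compat_QMinus :
    Compat (QMinus m F a b) (QMinus m K (algebraMap F K a) (algebraMap F K b)) (algebraMap F K) := by
  intro v
  exact quadFormMinus_comp (algebraMap F K) m a b v

/-- base change of a reflection matrix (no finiteness) -/
theorem refl_map' {F₀ E : Type*} [Field F₀] [Field E] {κ : Type} [Fintype κ] [DecidableEq κ]
    {Q₀ : QuadraticForm F₀ (κ → F₀)} {Q : QuadraticForm E (κ → E)} {j : F₀ →+* E}
    (hc : Compat Q₀ Q j) (u : κ → F₀) :
    (Cfsg.reflectionMatrix (⇑Q₀) u).map j = Cfsg.reflectionMatrix (⇑Q) (fun k => j (u k)) := by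
  unfold Cfsg.reflectionMatrix
  ext a b
  simp only [Matrix.map_apply, Matrix.sub_apply, Matrix.smul_apply, Matrix.vecMulVec_apply,
    Cfsg.polarVec, smul_eq_mul, map_sub, map_mul, map_inv₀]
  rw [← comp_single (j := j) b, hc.polar, hc, Matrix.one_apply, Matrix.one_apply]
  split_ifs <;> simp

variable
  (hQ : (QuadraticMap.polarBilin (QMinus m K (algebraMap F K a) (algebraMap F K b))).Nondegenerate)
  (θ : K) (hθ : θ ^ 2 + algebraMap F K a * θ + algebraMap F K b = 0)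

include hQ hθ

theorem PK_mul {g h : GL ((Fin m ⊕ Fin m) ⊕ Fin 2) F}
    (hg : g ∈ Cfsg.isometryGroup F ⇑(QMinus m F a b))
    (hh : h ∈ Cfsg.isometryGroup F ⇑(QMinus m F a b)) :
    PK m a b K (g * h) ↔ (PK m a b K g ↔ PK m a b K h) := by
  have key := psc_mul_iff (QMinus m K (algebraMap F K a) (algebraMap F K b)) hQ (m + 1) (card_MI m)
    (YK m θ) (YK_singular m _ _ θ hθ) (finrank_YK m θ)
    (Matrix.GeneralLinearGroup.map (algebraMap F K) g)
    (Matrix.GeneralLinearGroup.map (algebraMap F K) h) 1 1 (iso_map m a b hg) (iso_map m a b hh)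
  rw [← map_mul] at key
  exact key

theorem PK_one : PK m a b K (1 : GL ((Fin m ⊕ Fin m) ⊕ Fin 2) F) := by
  have key := psc_one (QMinus m K (algebraMap F K a) (algebraMap F K b)) hQ (m + 1) (card_MI m)
    (YK m θ) (YK_singular m _ _ θ hθ) (finrank_YK m θ)
  unfold PK
  rw [Units.val_one, Matrix.map_one _ (map_zero _) (map_one _)]
  exact key

theorem PK_inv {g : GL ((Fin m ⊕ Fin m) ⊕ Fin 2) F}
    (hg : g ∈ Cfsg.isometryGroup F ⇑(QMinus m F a b)) :
    PK m a b K g⁻¹ ↔ PK m a b K g := by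
  have key := psc_inv_iff (QMinus m K (algebraMap F K a) (algebraMap F K b)) hQ (m + 1) (card_MI m)
    (YK m θ) (YK_singular m _ _ θ hθ) (finrank_YK m θ)
    (Matrix.GeneralLinearGroup.map (algebraMap F K) g) 1 one_ne_zero (iso_map m a b hg)
  rw [← map_inv] at key
  exact key

theorem not_PK_refl (u : (Fin m ⊕ Fin m) ⊕ Fin 2 → F) (hu : QMinus m F a b u ≠ 0) :
    ¬ PK m a b K (Cfsg.Agent.Lib.Helper43.reflO (QMinus m F a b) u : GL ((Fin m ⊕ Fin m) ⊕ Fin 2) F) := by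
  have hv : QMinus m K (algebraMap F K a) (algebraMap F K b) (fun k => algebraMap F K (u k)) ≠ 0 := by
    rw [compat_QMinus m a b u]
    exact (map_ne_zero (algebraMap F K)).2 hu
  have key := not_psc_reflection (QMinus m K (algebraMap F K a) (algebraMap F K b)) hQ (m + 1)
    (card_MI m) (YK m θ) (YK_singular m _ _ θ hθ) (finrank_YK m θ) (by omega)
    (Matrix.GeneralLinearGroup.map (algebraMap F K)
      (Cfsg.Agent.Lib.Helper43.reflO (QMinus m F a b) u : GL ((Fin m ⊕ Fin m) ⊕ Fin 2) F))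
    (fun k => algebraMap F K (u k)) hv
    (by rw [GLmap_val, Cfsg.Agent.Lib.Helper43.reflO_val _ u hu, refl_map' (compat_QMinus m a b)])
  exact key

/-- the isometries preserving the classes over `K` -/
def clsSub : Subgroup ↥(Cfsg.isometryGroup F ⇑(QMinus m F a b)) where
  carrier := {g | PK m a b K (g : GL ((Fin m ⊕ Fin m) ⊕ Fin 2) F)}
  mul_mem' := by
    intro g h hg hh
    exact (PK_mul m a b hQ θ hθ g.2 h.2).2 ⟨fun _ => hh, fun _ => hg⟩
  one_mem' := PK_one m a b hQ θ hθ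
  inv_mem' := by
    intro g hg
    exact (PK_inv m a b hQ θ hθ g.2).2 hg

theorem mem_clsSub (g : ↥(Cfsg.isometryGroup F ⇑(QMinus m F a b))) :
    g ∈ clsSub m a b hQ θ hθ ↔ PK m a b K (g : GL ((Fin m ⊕ Fin m) ⊕ Fin 2) F) := Iff.rfl

theorem Omega_le_clsSub : Cfsg.Omega F ⇑(QMinus m F a b) ≤ clsSub m a b hQ θ hθ := by
  unfold Cfsg.Omega
  rw [commutator_def, Subgroup.commutator_le]
  intro g _ h _
  rw [mem_clsSub, commutatorElement_def]
  have hg := g.2
  have hh := h.2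
  have hgi := inv_mem hg
  have hhi := inv_mem hh
  have e3 := PK_mul m a b hQ θ hθ hg hh
  have e2 := PK_mul m a b hQ θ hθ (mul_mem hg hh) hgi
  have e1 := PK_mul m a b hQ θ hθ (mul_mem (mul_mem hg hh) hgi) hhi
  have e4 := PK_inv m a b hQ θ hθ hg
  have e5 := PK_inv m a b hQ θ hθ hh
  have goal : PK m a b K ((g : GL ((Fin m ⊕ Fin m) ⊕ Fin 2) F) *
      (h : GL ((Fin m ⊕ Fin m) ⊕ Fin 2) F) *
      (g : GL ((Fin m ⊕ Fin m) ⊕ Fin 2) F)⁻¹ * (h : GL ((Fin m ⊕ Fin m) ⊕ Fin 2) F)⁻¹) := by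
    rw [e1, e2, e3, e4, e5]
    exact prop_aux _ _
  exact goal

end overK

section final

universe u

open Cfsg.Agent.Lib.Helper50 Cfsg.Agent.Lib.Helper43 Cfsg.Agent.Lib.Helper19
open Cfsg.Agent.Lib.Helper08 Cfsg.Agent.Lib.Helper19.PgoCard

theorem nondeg_QMinus {E : Type*} [Field E] (m : ℕ) (a b : E) (hd : a ^ 2 - 4 * b ≠ 0) :
    (QuadraticMap.polarBilin (QMinus m E a b)).Nondegenerate := by
  have hdet : (Matrix.fromBlocks
        (Matrix.fromBlocks (0 : Matrix (Fin m) (Fin m) E) (1 : Matrix (Fin m) (Fin m) E)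
        (1 : Matrix (Fin m) (Fin m) E) (0 : Matrix (Fin m) (Fin m) E))
        (0 : Matrix (Fin m ⊕ Fin m) (Fin 2) E) (0 : Matrix (Fin 2) (Fin m ⊕ Fin m) E)
        (!![2, a; a, 2 * b] : Matrix (Fin 2) (Fin 2) E)).det ≠ 0 := by
    rw [det_minus_gram]
    exact mul_ne_zero (pow_ne_zero _ (neg_ne_zero.mpr one_ne_zero)) hd
  exact qfOfPolar_nondegenerate _ _ _ _ hdet

/-- scalar multiples do not matter for the class condition -/
theorem psc_smul {E : Type*} [Field E] {κ : Type} [Fintype κ] [DecidableEq κ]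
    (q : (κ → E) → E) (c : E) (hc : c ≠ 0) (A : Matrix κ κ E) :
    Cfsg.PreservesSingularClasses q (c • A) ↔ Cfsg.PreservesSingularClasses q A := by
  have h : ∀ U : Submodule E (κ → E), Cfsg.imageSubmodule (c • A) U = Cfsg.imageSubmodule A U := by
    intro U
    unfold Cfsg.imageSubmodule
    rw [map_smul, Submodule.map_smul _ _ c hc]
  unfold Cfsg.PreservesSingularClasses
  simp only [h]

variable {F : Type u} [Field F] [Fintype F] (m : ℕ) (a b : F)

theorem psc_minus_smul (c : F) (hc : c ≠ 0)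
    (A : Matrix ((Fin m ⊕ Fin m) ⊕ Fin 2) ((Fin m ⊕ Fin m) ⊕ Fin 2) F) :
    Cfsg.PreservesSingularClassesMinus m a b (c • A) ↔
      Cfsg.PreservesSingularClassesMinus m a b A := by
  unfold Cfsg.PreservesSingularClassesMinus
  have h : ∀ (K : Type u) [Field K] [Algebra F K], (c • A).map (algebraMap F K) =
      algebraMap F K c • A.map (algebraMap F K) := by
    intro K _ _
    ext i j
    simp
  constructor
  · rintro ⟨K, hKf, hKa, hK, hP⟩
    refine ⟨K, hKf, hKa, hK, ?_⟩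
    rw [h K] at hP
    exact (psc_smul _ _ ((map_ne_zero (algebraMap F K)).2 hc) _).1 hP
  · rintro ⟨K, hKf, hKa, hK, hP⟩
    refine ⟨K, hKf, hKa, hK, ?_⟩
    rw [h K]
    exact (psc_smul _ _ ((map_ne_zero (algebraMap F K)).2 hc) _).2 hP

variable (h2 : (2 : F) = 0) (hm : 3 ≤ m)
  (hab : ∀ z₁ z₂ : F, z₁ ^ 2 + a * z₁ * z₂ + b * z₂ ^ 2 = 0 → z₁ = 0 ∧ z₂ = 0)

include h2 hab in
theorem disc_ne_zero : a ^ 2 - 4 * b ≠ 0 := by
  have : CharP F 2 := CharTwo.of_one_ne_zero_of_two_eq_zero one_ne_zero h2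
  have ha : a ≠ 0 := by
    rintro rfl
    obtain ⟨s, hs⟩ := FiniteField.isSquare_of_char_two (ringChar.eq F 2) b
    have h := hab s 1 (by
      rw [hs]
      have : s ^ 2 + 0 * s * 1 + s * s * 1 ^ 2 = s * s + s * s := by ring
      rw [this, CharTwo.add_self_eq_zero])
    exact one_ne_zero h.2
  have h4 : (4 : F) = 0 := by linear_combination 2 * h2
  rw [h4, zero_mul, sub_zero]
  exact pow_ne_zero _ ha

include h2 hm hab in
/-- over a fixed quadratic extension: class-preserving isometries are exactly `Ω` -/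
theorem PK_iff_mem_Omega {K : Type u} [Field K] [Algebra F K] (hK : finrank F K = 2)
    (g : ↥(Cfsg.isometryGroup F ⇑(QMinus m F a b))) :
    PK m a b K (g : GL ((Fin m ⊕ Fin m) ⊕ Fin 2) F) ↔ g ∈ Cfsg.Omega F ⇑(QMinus m F a b) := by
  have hc2 : CharP F 2 := CharTwo.of_one_ne_zero_of_two_eq_zero one_ne_zero h2
  have hd := disc_ne_zero a b h2 hab
  have hQF := nondeg_QMinus m a b hd
  have hdK : (algebraMap F K a) ^ 2 - 4 * algebraMap F K b ≠ 0 := by
    have e : (algebraMap F K a) ^ 2 - 4 * algebraMap F K b = algebraMap F K (a ^ 2 - 4 * b) := by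
      simp [map_ofNat]
    rw [e]
    exact (map_ne_zero (algebraMap F K)).2 hd
  have hQ := nondeg_QMinus m _ _ hdK
  obtain ⟨θ, hθ⟩ := Cfsg.Agent.Lib.Helper51.OPar.exists_root_in_ext (F := F) (K := K) hK a b hab
  have hle := Omega_le_clsSub m a b hQ θ hθ
  have hne : Nonempty ((Fin m ⊕ Fin m) ⊕ Fin 2) := ⟨Sum.inr 0⟩
  have hidx : (Cfsg.Omega F ⇑(QMinus m F a b)).index = 2 :=
    index_Omega_char_two (QMinus m F a b) hQF (Or.inr (by rw [card_MI]; omega))
  obtain ⟨u, hu⟩ := exists_nonsingular (QMinus m F a b) hQF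
  have hnt : clsSub m a b hQ θ hθ ≠ ⊤ := by
    intro htop
    have hmem : Cfsg.Agent.Lib.Helper43.reflO (QMinus m F a b) u ∈ clsSub m a b hQ θ hθ := by
      rw [htop]; trivial
    exact not_PK_refl m a b hQ θ hθ u hu hmem
  have heq : clsSub m a b hQ θ hθ = Cfsg.Omega F ⇑(QMinus m F a b) := by
    have h1 := Subgroup.relIndex_mul_index hle
    rw [hidx] at h1
    have h3 : (clsSub m a b hQ θ hθ).index ≠ 1 := fun h => hnt (Subgroup.index_eq_one.1 h)
    have h4 : (clsSub m a b hQ θ hθ).index ∣ 2 := Dvd.intro_left _ h1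
    have h5 : (clsSub m a b hQ θ hθ).index = 2 := by
      rcases (Nat.dvd_prime Nat.prime_two).1 h4 with h | h
      · exact absurd h h3
      · exact h
    rw [h5] at h1
    have h6 : (Cfsg.Omega F ⇑(QMinus m F a b)).relIndex (clsSub m a b hQ θ hθ) = 1 := by omega
    exact le_antisymm (Subgroup.relIndex_eq_one.1 h6) hle
  rw [← mem_clsSub m a b hQ θ hθ, heq]

include h2 hm hab in
/-- **characteristic two**: an isometry of the minus-type form preserves the two classes of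
maximal totally singular subspaces (over the quadratic extension) iff it lies in `Ω` -/
theorem psc_iff_mem_Omega (g : ↥(Cfsg.isometryGroup F ⇑(QMinus m F a b))) :
    Cfsg.PreservesSingularClassesMinus m a b
        ((g : GL ((Fin m ⊕ Fin m) ⊕ Fin 2) F) :
          Matrix ((Fin m ⊕ Fin m) ⊕ Fin 2) ((Fin m ⊕ Fin m) ⊕ Fin 2) F) ↔
      g ∈ Cfsg.Omega F ⇑(QMinus m F a b) := by
  constructor
  · rintro ⟨K, hKf, hKa, hK, hP⟩
    exact (PK_iff_mem_Omega m a b h2 hm hab hK g).1 hP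
  · intro hg
    obtain ⟨K, hKf, hKa, hK⟩ := exists_quadratic_extension a b hab
    exact ⟨K, hKf, hKa, hK, (PK_iff_mem_Omega m a b h2 hm hab hK g).2 hg⟩

/-- in characteristic two a similarity is a scalar multiple of an isometry inducing the same
automorphism of `PΩ` -/
theorem exists_isometry_of_similarity {ι : Type} [Fintype ι] [DecidableEq ι]
    (Q : QuadraticForm F (ι → F)) (h2 : (2 : F) = 0)
    (g : ↥(Cfsg.Geo.quadSimilarityGroup (F := F) ⇑Q)) :
    ∃ (d : F) (_ : d ≠ 0) (g₀ : ↥(Cfsg.isometryGroup F ⇑Q)),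
      ((g₀ : GL ι F) : Matrix ι ι F) = d • ((g : GL ι F) : Matrix ι ι F) ∧
      autPO (⇑Q) g = autO (⇑Q) g₀ := by
  have hchar : ringChar F = 2 := by
    have : CharP F 2 := CharTwo.of_one_ne_zero_of_two_eq_zero one_ne_zero h2
    exact ringChar.eq F 2
  obtain ⟨c, hc⟩ := g.2
  obtain ⟨d, hd⟩ := FiniteField.isSquare_of_char_two hchar (c : F)
  have hd0 : d ≠ 0 := by
    rintro rfl
    rw [mul_zero] at hd
    exact c.ne_zero hd
  obtain ⟨D, hD⟩ : ∃ D : Fˣ, D = Units.mk0 d hd0 := ⟨_, rfl⟩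
  have hDv : (D : F) = d := by rw [hD]; rfl
  have hiso : scalGL D⁻¹ * g.1 ∈ Cfsg.isometryGroup F ⇑Q := by
    rw [Cfsg.Agent.Lib.Helper19.mem_isometryGroup_iff]
    intro v
    rw [Units.val_mul, scalGL_val, Matrix.smul_mul, Matrix.one_mul, Matrix.smul_mulVec,
      QuadraticMap.map_smul, hc, hd, Units.val_inv_eq_inv_val, hDv, smul_eq_mul]
    field_simp
  refine ⟨d⁻¹, inv_ne_zero hd0, ⟨scalGL D⁻¹ * g.1, hiso⟩, ?_, ?_⟩
  · show ((scalGL D⁻¹ * g.1 : GL ι F) : Matrix ι ι F) = d⁻¹ • ((g : GL ι F) : Matrix ι ι F)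
    rw [Units.val_mul, scalGL_val, Matrix.smul_mul, Matrix.one_mul, Units.val_inv_eq_inv_val, hDv]
  · rw [autO_apply]
    ext x
    induction x using QuotientGroup.induction_on with
    | H s =>
      obtain ⟨s₁, h1, h3⟩ := autPO_mk_val (⇑Q)
        ⟨scalGL D⁻¹ * g.1, isometryGroup_le_similarity (⇑Q) hiso⟩ s
      obtain ⟨s₂, h4, h5⟩ := autPO_mk_val (⇑Q) g s
      rw [h1, h4]
      congr 1
      apply Omega_ext
      rw [h3, h5]
      congr 1
      show g.1 * (s.1 : GL ι F) * g.1⁻¹ =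
        scalGL D⁻¹ * g.1 * (s.1 : GL ι F) * (scalGL D⁻¹ * g.1)⁻¹
      rw [_root_.mul_inv_rev, mul_assoc (scalGL D⁻¹), mul_assoc (scalGL D⁻¹), scalGL_comm]
      group

include h2 hm hab in
theorem closure_eq_inn :
    Subgroup.closure {β : MulAut (Cfsg.POmega F ⇑(QMinus m F a b)) |
        ∃ g : GL ((Fin m ⊕ Fin m) ⊕ Fin 2) F,
          g ∈ Cfsg.Geo.quadSimilarityGroup (F := F) ⇑(QMinus m F a b) ∧
          Cfsg.PreservesSingularClassesMinus m a b
            (g : Matrix ((Fin m ⊕ Fin m) ⊕ Fin 2) ((Fin m ⊕ Fin m) ⊕ Fin 2) F) ∧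
          Cfsg.IsInducedBySemilinearPOmega (⇑(QMinus m F a b)) g (RingEquiv.refl F) β} =
      Cfsg.Inn (Cfsg.POmega F ⇑(QMinus m F a b)) := by
  have hset : {β : MulAut (Cfsg.POmega F ⇑(QMinus m F a b)) |
        ∃ g : GL ((Fin m ⊕ Fin m) ⊕ Fin 2) F,
          g ∈ Cfsg.Geo.quadSimilarityGroup (F := F) ⇑(QMinus m F a b) ∧
          Cfsg.PreservesSingularClassesMinus m a b
            (g : Matrix ((Fin m ⊕ Fin m) ⊕ Fin 2) ((Fin m ⊕ Fin m) ⊕ Fin 2) F) ∧
          Cfsg.IsInducedBySemilinearPOmega (⇑(QMinus m F a b)) g (RingEquiv.refl F) β} =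
      (((Cfsg.Omega F ⇑(QMinus m F a b)).map (autO ⇑(QMinus m F a b)) :
        Subgroup (MulAut (Cfsg.POmega F ⇑(QMinus m F a b)))) :
        Set (MulAut (Cfsg.POmega F ⇑(QMinus m F a b)))) := by
    ext β
    constructor
    · rintro ⟨g, hg, hP, hI⟩
      have hβ := (isInduced_iff (⇑(QMinus m F a b)) g hg β).mp hI
      obtain ⟨d, hd0, g₀, hval, haut⟩ := exists_isometry_of_similarity (QMinus m F a b) h2 ⟨g, hg⟩
      refine ⟨g₀, ?_, ?_⟩
      · rw [SetLike.mem_coe, ← psc_iff_mem_Omega m a b h2 hm hab, hval]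
        exact (psc_minus_smul m a b d hd0 _).2 hP
      · rw [hβ, haut]
    · rintro ⟨g, hg, rfl⟩
      rw [SetLike.mem_coe] at hg
      exact ⟨g.1, isometryGroup_le_similarity _ g.2,
        (psc_iff_mem_Omega m a b h2 hm hab g).2 hg,
        (isInduced_iff (⇑(QMinus m F a b)) g.1 (isometryGroup_le_similarity _ g.2) _).mpr
          (autO_apply _ g)⟩
  rw [hset, Subgroup.closure_eq, inn_eq]

end final

section statement

universe u

open Cfsg.Agent.Lib.Helper50

variable {F : Type u} [Field F] [Fintype F]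

/-- **characteristic two**: `Inndiag(PΩ⁻_{2m+2}(F)) = Inn(PΩ⁻_{2m+2}(F))`. -/
theorem inndiagPOmegaMinus_eq_inn (h2 : (2 : F) = 0) {m : ℕ} (hm : 3 ≤ m) (a b : F)
    (hab : ∀ z₁ z₂ : F, z₁ ^ 2 + a * z₁ * z₂ + b * z₂ ^ 2 = 0 → z₁ = 0 ∧ z₂ = 0) :
    Cfsg.inndiagPOmegaMinus m F a b =
      Cfsg.Inn (Cfsg.POmega F (Cfsg.quadFormMinus m F a b)) := by
  have key : ∀ q : ((Fin m ⊕ Fin m) ⊕ Fin 2 → F) → F, ⇑(QMinus m F a b) = q →
      Subgroup.closure {β : MulAut (Cfsg.POmega F q) |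
        ∃ g : GL ((Fin m ⊕ Fin m) ⊕ Fin 2) F,
          g ∈ Cfsg.Geo.quadSimilarityGroup (F := F) q ∧
          Cfsg.PreservesSingularClassesMinus m a b
            (g : Matrix ((Fin m ⊕ Fin m) ⊕ Fin 2) ((Fin m ⊕ Fin m) ⊕ Fin 2) F) ∧
          Cfsg.IsInducedBySemilinearPOmega q g (RingEquiv.refl F) β} =
      Cfsg.Inn (Cfsg.POmega F q) := by
    rintro q rfl
    exact closure_eq_inn m a b h2 hm hab
  exact key _ rfl

/-- **characteristic two**: an isometry of `quadFormMinus m F a b` satisfies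
`PreservesSingularClassesMinus` iff it lies in `Ω`. -/
theorem preservesMinus_iff_mem_Omega (h2 : (2 : F) = 0) {m : ℕ} (hm : 3 ≤ m) (a b : F)
    (hab : ∀ z₁ z₂ : F, z₁ ^ 2 + a * z₁ * z₂ + b * z₂ ^ 2 = 0 → z₁ = 0 ∧ z₂ = 0)
    (g : ↥(Cfsg.isometryGroup F (Cfsg.quadFormMinus m F a b))) :
    Cfsg.PreservesSingularClassesMinus m a b
        ((g : GL ((Fin m ⊕ Fin m) ⊕ Fin 2) F) :
          Matrix ((Fin m ⊕ Fin m) ⊕ Fin 2) ((Fin m ⊕ Fin m) ⊕ Fin 2) F) ↔
      g ∈ Cfsg.Omega F (Cfsg.quadFormMinus m F a b) := by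
  have key : ∀ q : ((Fin m ⊕ Fin m) ⊕ Fin 2 → F) → F, ⇑(QMinus m F a b) = q →
      ∀ g : ↥(Cfsg.isometryGroup F q),
      (Cfsg.PreservesSingularClassesMinus m a b
        ((g : GL ((Fin m ⊕ Fin m) ⊕ Fin 2) F) :
          Matrix ((Fin m ⊕ Fin m) ⊕ Fin 2) ((Fin m ⊕ Fin m) ⊕ Fin 2) F) ↔
      g ∈ Cfsg.Omega F q) := by
    rintro q rfl g
    exact psc_iff_mem_Omega m a b h2 hm hab g
  exact key _ rfl g

end statement

end Cfsg.Agent.Lib.Helper19.MinusInnTwo
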