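import Cfsg.Agent.Lib.Helper07.OrthTd
import Cfsg.Agent.Lib.Helper50.PlusKer
import Cfsg.Agent.Lib.Helper19.MinusInnTwo

set_option autoImplicit false
set_option linter.unusedSimpArgs false
set_option linter.unusedVariables false
set_option linter.unusedSectionVars false

/-! Keystone K-S2716-T (characteristic two): inner-ness of a similarity-induced automorphism of
`PΩ(Q)` is invariant under base change along a field embedding. -/

namespace Cfsg.Agent.Lib.Helper19.S2716K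

open Matrix Cfsg.Agent.Lib.Helper08 Cfsg.Agent.Lib.Helper07.OG Cfsg.Agent.Lib.Helper50
open Cfsg.Agent.Lib.Helper51.POAut

universe u v

section generic

variable {F : Type u} [Field F] [Fintype F] {ι : Type} [Fintype ι] [DecidableEq ι]
variable (Q : QuadraticForm F (ι → F))

/-- scalar multiples induce the same automorphism of `PΩ` -/
theorem autPO_eq_of_smul (g g' : ↥(Cfsg.Geo.quadSimilarityGroup (F := F) ⇑Q)) (d : F) (hd : d ≠ 0)
    (h : ((g' : GL ι F) : Matrix ι ι F) = d • ((g : GL ι F) : Matrix ι ι F)) :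
    autPO ⇑Q g' = autPO ⇑Q g := by
  obtain ⟨D, hD⟩ : ∃ D : Fˣ, (D : F) = d := ⟨Units.mk0 d hd, rfl⟩
  have hg' : (g' : GL ι F) = Cfsg.Agent.Lib.Helper19.PgoCard.scalGL D * (g : GL ι F) := by
    apply Units.ext
    rw [h, Units.val_mul, Cfsg.Agent.Lib.Helper19.PgoCard.scalGL_val, Matrix.smul_mul,
      Matrix.one_mul, hD]
  ext x
  induction x using QuotientGroup.induction_on with
  | H s =>
    obtain ⟨s₁, h1, h3⟩ := autPO_mk_val (⇑Q) g' s
    obtain ⟨s₂, h4, h5⟩ := autPO_mk_val (⇑Q) g s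
    rw [h1, h4]
    congr 1
    apply Omega_ext
    rw [h3, h5]
    congr 1
    rw [hg', _root_.mul_inv_rev, mul_assoc (Cfsg.Agent.Lib.Helper19.PgoCard.scalGL D),
      mul_assoc (Cfsg.Agent.Lib.Helper19.PgoCard.scalGL D),
      Cfsg.Agent.Lib.Helper19.PgoCard.scalGL_comm]
    group

/-- characteristic two: an isometry induces an inner automorphism of `PΩ` iff it lies in `Ω` -/
theorem autO_mem_inn_iff (C : OC Q) (h2 : (2 : F) = 0) (s : ↥(Cfsg.isometryGroup F ⇑Q)) :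
    autO ⇑Q s ∈ Cfsg.Inn (Cfsg.POmega F ⇑Q) ↔ s ∈ Cfsg.Omega F ⇑Q := by
  rw [inn_eq]
  constructor
  · rintro ⟨t, ht, hts⟩
    have := Cfsg.Agent.Lib.Helper19.PgoCard.autO_injective_char_two C h2 hts
    rw [← this]
    exact ht
  · intro hs
    exact ⟨s, hs, rfl⟩

/-- characteristic two: a product of reflections lies in `Ω` iff their number is even -/
theorem prod_reflO_mem_Omega_iff [CharP F 2] (hQ : (QuadraticMap.polarBilin Q).Nondegenerate)
    (hgen : Cfsg.Agent.Lib.Helper43.ReflGenerated Q) (l : List (ι → F)) (hl : ∀ u ∈ l, Q u ≠ 0) :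
    (l.map (Cfsg.Agent.Lib.Helper43.reflO Q)).prod ∈ Cfsg.Omega F ⇑Q ↔ Even l.length := by
  rw [Cfsg.Agent.Lib.Helper43.mem_Omega_iff_even_rank Q hQ hgen, Nat.even_iff, Nat.even_iff,
    Cfsg.Agent.Lib.Helper43.rank_parity_prod_reflO Q hQ l hl]

end generic

section K_T

variable {F₀ : Type v} {F : Type u} [Field F₀] [Fintype F₀] [Field F] [Fintype F]
  {ι : Type} [Fintype ι] [DecidableEq ι]
variable (Q₀ : QuadraticForm F₀ (ι → F₀)) (Q : QuadraticForm F (ι → F)) {j : F₀ →+* F}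

omit [Fintype F₀] [Fintype F] in
/-- base change of a product of reflections -/
theorem bc_prod_reflO (hc : Compat Q₀ Q j) (l : List (ι → F₀)) (hl : ∀ u ∈ l, Q₀ u ≠ 0) :
    ((((l.map (Cfsg.Agent.Lib.Helper43.reflO Q₀)).prod : ↥(Cfsg.isometryGroup F₀ ⇑Q₀)) :
        GL ι F₀) : Matrix ι ι F₀).map j =
      (((((l.map (fun u => (fun k => j (u k)))).map (Cfsg.Agent.Lib.Helper43.reflO Q)).prod :
        ↥(Cfsg.isometryGroup F ⇑Q)) : GL ι F) : Matrix ι ι F) := by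
  have hl' : ∀ v ∈ l.map (fun u => (fun k => j (u k))), Q v ≠ 0 := by
    intro v hv
    rw [List.mem_map] at hv
    obtain ⟨u, hu, rfl⟩ := hv
    rw [hc]
    exact (map_ne_zero j).2 (hl u hu)
  rw [Cfsg.Agent.Lib.Helper43.val_prod_reflO Q₀ l hl,
    Cfsg.Agent.Lib.Helper43.val_prod_reflO Q _ hl']
  clear hl hl'
  induction l with
  | nil => simp
  | cons a t ih =>
    rw [List.map_cons, List.prod_cons, Matrix.map_mul, ih,
      Cfsg.Agent.Lib.Helper19.MinusInnTwo.refl_map' hc]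
    simp

/-- K-S2716-T (char 2): inner-ness of a similarity-induced automorphism is invariant under base
change. -/
theorem inn_bcS_iff_char_two (h2 : (2 : F) = 0) (hc : Compat Q₀ Q j) (C : OC Q) (C₀ : OC Q₀)
    (g₀ : ↥(Cfsg.Geo.quadSimilarityGroup (F := F₀) ⇑Q₀)) :
    autPO ⇑Q (bcS hc g₀) ∈ Cfsg.Inn (Cfsg.POmega F ⇑Q) ↔
      autPO ⇑Q₀ g₀ ∈ Cfsg.Inn (Cfsg.POmega F₀ ⇑Q₀) := by
  have h2₀ : (2 : F₀) = 0 := j.injective (by rw [map_ofNat, h2, map_zero])
  have hcF : CharP F 2 := CharTwo.of_one_ne_zero_of_two_eq_zero one_ne_zero h2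
  have hcF₀ : CharP F₀ 2 := CharTwo.of_one_ne_zero_of_two_eq_zero one_ne_zero h2₀
  obtain ⟨d₀, hd₀, s₀, hval₀, haut₀⟩ :=
    Cfsg.Agent.Lib.Helper19.MinusInnTwo.exists_isometry_of_similarity Q₀ h2₀ g₀
  have hgen₀ := Cfsg.Agent.Lib.Helper43.reflGenerated_char_two Q₀ C₀.hQ
    (Or.inr (by have := C₀.hn; omega))
  have hgen := Cfsg.Agent.Lib.Helper43.reflGenerated_char_two Q C.hQ
    (Or.inr (by have := C.hn; omega))
  obtain ⟨l, hl, hs₀⟩ := Cfsg.Agent.Lib.Helper43.exists_list_reflO Q₀ hgen₀ s₀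
  have hl' : ∀ v ∈ l.map (fun u => (fun k => j (u k))), Q v ≠ 0 := by
    intro v hv
    rw [List.mem_map] at hv
    obtain ⟨u, hu, rfl⟩ := hv
    rw [hc]
    exact (map_ne_zero j).2 (hl u hu)
  obtain ⟨t, ht⟩ : ∃ t : ↥(Cfsg.isometryGroup F ⇑Q),
      t = ((l.map (fun u => (fun k => j (u k)))).map (Cfsg.Agent.Lib.Helper43.reflO Q)).prod :=
    ⟨_, rfl⟩
  have htval : ((t : GL ι F) : Matrix ι ι F) =
      ((s₀ : GL ι F₀) : Matrix ι ι F₀).map j := by
    rw [ht, hs₀]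
    exact (bc_prod_reflO Q₀ Q hc l hl).symm
  have haut : autPO ⇑Q (bcS hc g₀) = autO ⇑Q t := by
    rw [autO_apply]
    symm
    apply autPO_eq_of_smul Q (bcS hc g₀) ⟨t.1, isometryGroup_le_similarity (⇑Q) t.2⟩ (j d₀)
      ((map_ne_zero j).2 hd₀)
    show ((t : GL ι F) : Matrix ι ι F) = j d₀ • ((bcS hc g₀ : GL ι F) : Matrix ι ι F)
    rw [htval, hval₀, bcS_val]
    ext a b
    simp
  rw [haut, haut₀, autO_mem_inn_iff Q C h2, autO_mem_inn_iff Q₀ C₀ h2₀, ht, hs₀,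
    prod_reflO_mem_Omega_iff Q C.hQ hgen _ hl', prod_reflO_mem_Omega_iff Q₀ C₀.hQ hgen₀ _ hl,
    List.length_map]

end K_T

end Cfsg.Agent.Lib.Helper19.S2716K
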