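import Cfsg.Agent.Lib.Helper39.OPlus10X9c

set_option autoImplicit false
set_option linter.unusedVariables false

/-! Keystone K-O12-X24 (587104): `|F| = 4`, a decomposition into plus-type planes is stabilised
inside a subfield group over `F₂`.  Thin wrapper around helper39's K-OPlus10-X9c. -/

namespace Cfsg.Agent.Lib.Helper19.O12

open Cfsg Cfsg.Geo
open scoped Matrix

/-- **K-O12-X24** (587104). -/
theorem planes_plus_card_four {F : Type*} [Field F] [Fintype F] {n : ℕ}
    (Q : (Fin n → F) → F) (hQ : IsNondegenerateQuadraticForm Q)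
    (hq : Fintype.card F = 4) {t : ℕ} (D : Fin t → Submodule F (Fin n → F))
    (hD : IsOrthogonalMDecomposition Q 2 D) (hp : ∀ i, IsPlusTypeOn Q (D i)) :
    ∃ (F₀ : Subfield F) (P : GL (Fin n) F), Fintype.card F = Nat.card F₀ ^ 2 ∧
      IsQuadFormRationalStructure Q F₀ P ∧
      decompositionStabilizer D ⊓ isometryGroup F Q ≤ subfieldSubgroup F₀ P := by
  obtain ⟨F₀, P, hF₀, hrat, hle⟩ := Cfsg.Agent.Lib.Helper39.OPlus10.planes_four hq Q hQ D hD hp
  refine ⟨F₀, P, by rw [hq, hF₀]; norm_num, ?_, hle⟩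
  intro u hu
  have := hrat u hu
  simpa using this

end Cfsg.Agent.Lib.Helper19.O12
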