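import Mathlib
import Cfsg.Prelude.Def_GeometricClasses
import Cfsg.Agent.Lib.Helper50.GeoBridge
import Cfsg.Agent.Lib.Helper50.DecompAux

set_option autoImplicit false
set_option linter.unusedSimpArgs false
set_option linter.unusedVariables false
set_option linter.unusedSectionVars false

/-! Keystone K-O12-X42 (587108): `|F| = 2`, a decomposition into plus-type 4-spaces refines
canonically to a decomposition into anisotropic planes. -/

namespace Cfsg.Agent.Lib.Helper19.O12

open Cfsg Cfsg.Geo Module QuadraticMap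
open scoped Matrix

namespace X42

variable {F : Type*} [Field F] [Fintype F] {n : ℕ}

theorem eq_zero_or_one (hq : Fintype.card F = 2) (x : F) : x = 0 ∨ x = 1 := by
  classical
  by_contra h
  push Not at h
  have h1 : ({0, 1, x} : Finset F).card ≤ Fintype.card F := Finset.card_le_univ _
  rw [Finset.card_insert_of_notMem, Finset.card_insert_of_notMem, Finset.card_singleton, hq] at h1
  · omega
  · simp [h.2.symm]
  · simp [h.1.symm]

theorem two_eq_zero (hq : Fintype.card F = 2) : (2 : F) = 0 := by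
  have h := Nat.cast_card_eq_zero F
  rw [hq] at h
  exact_mod_cast h

/-- the anisotropic binary form -/
def N (x y : F) : F := x ^ 2 + x * y + y ^ 2

theorem N_cases (hq : Fintype.card F = 2) (x y : F) :
    (N x y = 0 ∧ x = 0 ∧ y = 0) ∨ N x y = 1 := by
  have h2 := two_eq_zero hq
  rcases eq_zero_or_one hq x with rfl | rfl <;> rcases eq_zero_or_one hq y with rfl | rfl
  · left; simp [N]
  · right; simp [N]
  · right; simp [N]
  · right
    unfold N
    linear_combination h2

theorem N_eq_zero (hq : Fintype.card F = 2) {x y : F} (h : N x y = 0) : x = 0 ∧ y = 0 := by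
  rcases N_cases hq x y with h1 | h1
  · exact h1.2
  · rw [h] at h1
    exact absurd h1 zero_ne_one

section Form

variable (Q : (Fin n → F) → F) (hQ : IsNondegenerateQuadraticForm Q)

omit [Fintype F] in
theorem Q_add (u v : Fin n → F) : Q (u + v) = Q u + Q v + polar Q u v := by
  unfold polar
  ring

omit [Fintype F] in
include hQ in
theorem Q_zero : Q 0 = 0 := by
  have := hQ.smul 0 0
  rw [zero_smul] at this
  rw [this]
  ring

include hQ in
/-- a plus type 4-space over `F₂` is the orthogonal sum of two anisotropic planes -/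
theorem exists_frame (hq : Fintype.card F = 2) (W : Submodule F (Fin n → F))
    (hfr : finrank F W = 4) (hnd : IsNondegenerateOn (polar Q) W) (hplus : IsPlusTypeOn Q W) :
    ∃ a₁ b₁ a₂ b₂ : Fin n → F, a₁ ∈ W ∧ b₁ ∈ W ∧ a₂ ∈ W ∧ b₂ ∈ W ∧
      (∀ x y z u : F, Q (x • a₁ + y • b₁ + z • a₂ + u • b₂) = N x y + N z u) ∧
      (∀ w ∈ W, ∃ x y z u : F, w = x • a₁ + y • b₁ + z • a₂ + u • b₂) := by
  have h2 := two_eq_zero hq
  obtain ⟨φ, hφ⟩ := Cfsg.Agent.Lib.Helper50.exists_plus_coords
    (Cfsg.Agent.Lib.Helper50.geoForm Q hQ) W 2 (by rw [hfr]) hnd hplus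
  have hφ' : ∀ p : Fin 2 ⊕ Fin 2 → F, Q ((φ.symm p : ↥W) : Fin n → F) = quadFormPlus 2 F p := by
    intro p
    have := hφ (φ.symm p)
    rw [LinearEquiv.apply_symm_apply] at this
    rw [this]
    rfl
  let pa₁ : Fin 2 ⊕ Fin 2 → F := Sum.elim ![1, 1] ![1, 0]
  let pb₁ : Fin 2 ⊕ Fin 2 → F := Sum.elim ![1, 0] ![1, 1]
  let pa₂ : Fin 2 ⊕ Fin 2 → F := Sum.elim ![1, 1] ![0, 1]
  let pb₂ : Fin 2 ⊕ Fin 2 → F := Sum.elim ![0, 1] ![1, 1]
  have hcomb : ∀ x y z u : F, x • ((φ.symm pa₁ : ↥W) : Fin n → F) + y • ((φ.symm pb₁ : ↥W) : Fin n → F)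
      + z • ((φ.symm pa₂ : ↥W) : Fin n → F) + u • ((φ.symm pb₂ : ↥W) : Fin n → F) =
      ((φ.symm (x • pa₁ + y • pb₁ + z • pa₂ + u • pb₂) : ↥W) : Fin n → F) := by
    intro x y z u
    rw [map_add, map_add, map_add, map_smul, map_smul, map_smul, map_smul]
    rfl
  refine ⟨(φ.symm pa₁ : ↥W), (φ.symm pb₁ : ↥W), (φ.symm pa₂ : ↥W), (φ.symm pb₂ : ↥W),
    (φ.symm pa₁).2, (φ.symm pb₁).2, (φ.symm pa₂).2, (φ.symm pb₂).2, ?_, ?_⟩
  · intro x y z u
    rw [hcomb, hφ']
    simp only [quadFormPlus, Fin.sum_univ_two, Pi.add_apply, Pi.smul_apply, smul_eq_mul, pa₁, pb₁,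
      pa₂, pb₂, Sum.elim_inl, Sum.elim_inr, Matrix.cons_val_zero, Matrix.cons_val_one, N]
    linear_combination (x * y + z * u + (x + y) * (z + u)) * h2
  · intro w hw
    set p := φ ⟨w, hw⟩ with hp
    set S := p (Sum.inl 0) + p (Sum.inr 0) + p (Sum.inl 1) + p (Sum.inr 1) with hS
    refine ⟨S + p (Sum.inr 1), S + p (Sum.inl 1), S + p (Sum.inr 0), S + p (Sum.inl 0), ?_⟩
    rw [hcomb]
    have hpe : (S + p (Sum.inr 1)) • pa₁ + (S + p (Sum.inl 1)) • pb₁ + (S + p (Sum.inr 0)) • pa₂ +
        (S + p (Sum.inl 0)) • pb₂ = p := by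
      funext j
      rcases j with j | j <;> fin_cases j <;>
        simp only [Pi.add_apply, Pi.smul_apply, smul_eq_mul, pa₁, pb₁,
          pa₂, pb₂, Sum.elim_inl, Sum.elim_inr, Matrix.cons_val_zero, Matrix.cons_val_one, hS] <;>
        simp <;> ring_nf
      · linear_combination (p (Sum.inl 0) + 2 * p (Sum.inr 0) + 2 * p (Sum.inl 1) +
          2 * p (Sum.inr 1)) * h2
      · linear_combination (2 * p (Sum.inl 0) + 2 * p (Sum.inr 0) + p (Sum.inl 1) +
          2 * p (Sum.inr 1)) * h2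
      · linear_combination (2 * p (Sum.inl 0) + p (Sum.inr 0) + 2 * p (Sum.inl 1) +
          2 * p (Sum.inr 1)) * h2
      · linear_combination (2 * p (Sum.inl 0) + 2 * p (Sum.inr 0) + 2 * p (Sum.inl 1) +
          p (Sum.inr 1)) * h2
    rw [hpe, hp, LinearEquiv.symm_apply_apply]


/-! ### anisotropic planes with a frame -/

omit [Fintype F] in
/-- the parametrisation of the plane spanned by `a, b` -/
def ell (a b : Fin n → F) : (Fin 2 → F) →ₗ[F] (Fin n → F) where
  toFun x := x 0 • a + x 1 • b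
  map_add' x y := by
    simp only [Pi.add_apply, add_smul]
    abel
  map_smul' c x := by
    simp only [Pi.smul_apply, smul_eq_mul, RingHom.id_apply, smul_add, smul_smul]

omit [Fintype F] in
theorem ell_apply (a b : Fin n → F) (x : Fin 2 → F) : ell a b x = x 0 • a + x 1 • b := rfl

/-- the plane spanned by `a, b` -/
def plane (a b : Fin n → F) : Submodule F (Fin n → F) := LinearMap.range (ell a b)

omit [Fintype F] in
theorem mem_plane {a b w : Fin n → F} : w ∈ plane a b ↔ ∃ x y : F, w = x • a + y • b := by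
  constructor
  · rintro ⟨x, rfl⟩
    exact ⟨x 0, x 1, rfl⟩
  · rintro ⟨x, y, rfl⟩
    exact ⟨![x, y], by rw [ell_apply]; simp⟩

omit [Fintype F] in
theorem left_mem_plane (a b : Fin n → F) : a ∈ plane a b :=
  mem_plane.2 ⟨1, 0, by simp⟩

omit [Fintype F] in
theorem right_mem_plane (a b : Fin n → F) : b ∈ plane a b :=
  mem_plane.2 ⟨0, 1, by simp⟩

/-- `a, b` is a frame of an anisotropic plane -/
def IsFr (a b : Fin n → F) : Prop := ∀ x y : F, Q (x • a + y • b) = N x y

variable {Q}

include hQ in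
theorem IsFr.polar_eq (h2 : (2 : F) = 0) {a b : Fin n → F} (h : IsFr Q a b) (x y x' y' : F) :
    polar Q (x • a + y • b) (x' • a + y' • b) = x * y' + y * x' := by
  have e : (x • a + y • b) + (x' • a + y' • b) = (x + x') • a + (y + y') • b := by
    rw [add_smul, add_smul]
    abel
  unfold QuadraticMap.polar
  rw [e, h, h, h]
  unfold N
  linear_combination (x * x' + y * y') * h2

include hQ in
theorem IsFr.Q_left (h2 : (2 : F) = 0) {a b : Fin n → F} (h : IsFr Q a b) : Q a = 1 := by
  have := h 1 0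
  simpa [N] using this

include hQ in
theorem IsFr.Q_right (h2 : (2 : F) = 0) {a b : Fin n → F} (h : IsFr Q a b) : Q b = 1 := by
  have := h 0 1
  simpa [N] using this

include hQ in
theorem IsFr.polar_ab (h2 : (2 : F) = 0) {a b : Fin n → F} (h : IsFr Q a b) : polar Q a b = 1 := by
  have := h.polar_eq hQ h2 1 0 0 1
  simpa using this

include hQ in
theorem IsFr.injective (hq : Fintype.card F = 2) {a b : Fin n → F} (h : IsFr Q a b) :
    Function.Injective (ell a b) := by
  rw [← LinearMap.ker_eq_bot, LinearMap.ker_eq_bot']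
  intro x hx
  rw [ell_apply] at hx
  have h1 := h (x 0) (x 1)
  rw [hx, Q_zero Q hQ] at h1
  obtain ⟨h3, h4⟩ := N_eq_zero hq h1.symm
  funext i
  fin_cases i
  · exact h3
  · exact h4

include hQ in
theorem IsFr.finrank_plane (hq : Fintype.card F = 2) {a b : Fin n → F} (h : IsFr Q a b) :
    finrank F (plane a b) = 2 := by
  unfold plane
  rw [LinearMap.finrank_range_of_inj (h.injective hQ hq)]
  simp

include hQ in
theorem IsFr.nondeg (h2 : (2 : F) = 0) {a b : Fin n → F} (h : IsFr Q a b) :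
    IsNondegenerateOn (polar Q) (plane a b) := by
  intro w hw hw0
  obtain ⟨x, y, rfl⟩ := mem_plane.1 hw
  have hxy : x ≠ 0 ∨ y ≠ 0 := by
    by_contra hc
    push Not at hc
    apply hw0
    rw [hc.1, hc.2, zero_smul, zero_smul, add_zero]
  have h1 : polar Q (x • a + y • b) b = x := by
    have := h.polar_eq hQ h2 x y 0 1
    simpa using this
  have h3 : polar Q (x • a + y • b) a = y := by
    have := h.polar_eq hQ h2 x y 1 0
    simpa using this
  rcases hxy with hx | hy
  · exact ⟨⟨b, right_mem_plane a b, by rw [polar_comm, h1]; exact hx⟩,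
      ⟨b, right_mem_plane a b, by rw [h1]; exact hx⟩⟩
  · exact ⟨⟨a, left_mem_plane a b, by rw [polar_comm, h3]; exact hy⟩,
      ⟨a, left_mem_plane a b, by rw [h3]; exact hy⟩⟩

include hQ in
theorem IsFr.Q_eq_one (hq : Fintype.card F = 2) {a b : Fin n → F} (h : IsFr Q a b)
    {w : Fin n → F} (hw : w ∈ plane a b) (hw0 : w ≠ 0) : Q w = 1 := by
  obtain ⟨x, y, rfl⟩ := mem_plane.1 hw
  rw [h]
  rcases N_cases hq x y with h1 | h1
  · exfalso
    apply hw0
    rw [h1.2.1, h1.2.2, zero_smul, zero_smul, add_zero]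
  · exact h1

include hQ in
theorem IsFr.not_plus (hq : Fintype.card F = 2) {a b : Fin n → F} (h : IsFr Q a b) :
    ¬ IsPlusTypeOn Q (plane a b) := by
  rintro ⟨U, hUW, hUts, hUd⟩
  rw [h.finrank_plane hQ hq] at hUd
  have hU1 : finrank F U = 1 := by omega
  have hUne : U ≠ ⊥ := by
    rintro rfl
    rw [finrank_bot] at hU1
    exact zero_ne_one hU1
  obtain ⟨w, hwU, hw0⟩ := Submodule.exists_mem_ne_zero_of_ne_bot hUne
  have := h.Q_eq_one hQ hq (hUW hwU) hw0
  rw [hUts w hwU] at this
  exact zero_ne_one this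

include hQ in
theorem IsFr.isometric (hq : Fintype.card F = 2) {a b a' b' : Fin n → F} (h : IsFr Q a b)
    (h' : IsFr Q a' b') : AreIsometricFor Q (plane a b) (plane a' b') := by
  let e1 : (Fin 2 → F) ≃ₗ[F] ↥(plane a b) :=
    LinearEquiv.ofInjective (ell a b) (h.injective hQ hq)
  let e2 : (Fin 2 → F) ≃ₗ[F] ↥(plane a' b') :=
    LinearEquiv.ofInjective (ell a' b') (h'.injective hQ hq)
  refine ⟨e1.symm.trans e2, ?_⟩
  intro w
  obtain ⟨x, rfl⟩ := e1.surjective w
  have e3 : (e1.symm.trans e2) (e1 x) = e2 x := by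
    rw [LinearEquiv.trans_apply, LinearEquiv.symm_apply_apply]
  rw [e3]
  show Q (ell a' b' x) = Q (ell a b x)
  rw [ell_apply, ell_apply, h, h']


omit [Fintype F] in
include hQ in
/-- pairwise orthogonal non-degenerate subspaces are independent -/
theorem iSupIndep_of_orthogonal {κ : Type*} (P : κ → Submodule F (Fin n → F))
    (hnd : ∀ j, IsNondegenerateOn (polar Q) (P j))
    (horth : ∀ j j', j ≠ j' → AreOrthogonalFor (polar Q) (P j) (P j')) : iSupIndep P := by
  have hB := hQ.polar_bilinear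
  rw [iSupIndep_def]
  intro j
  rw [Submodule.disjoint_def]
  intro x hxj hx
  let perp : Submodule F (Fin n → F) :=
    { carrier := {v | ∀ u ∈ P j, polar Q v u = 0}
      add_mem' := by
        intro a b ha hb u hu
        rw [hB.add_left, ha u hu, hb u hu, add_zero]
      zero_mem' := by
        intro u hu
        have := hB.smul_left 0 0 u
        simpa using this
      smul_mem' := by
        intro c a ha u hu
        rw [hB.smul_left, ha u hu, mul_zero] }
  have hle : (⨆ (j' : κ) (_ : j' ≠ j), P j') ≤ perp := by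
    apply iSup₂_le
    intro j' hj' v hv u hu
    exact horth j' j hj' v hv u hu
  by_contra hx0
  obtain ⟨-, ⟨u, hu, hxu⟩⟩ := hnd j x hxj hx0
  exact hxu (hle hx u hu)

end Form

omit [Fintype F] in
theorem toLin'_gl_injective (g : GL (Fin n) F) :
    Function.Injective (Matrix.toLin' (g : Matrix (Fin n) (Fin n) F)) := by
  apply Function.LeftInverse.injective
    (g := Matrix.toLin' ((g⁻¹ : GL (Fin n) F) : Matrix (Fin n) (Fin n) F))
  intro v
  rw [← LinearMap.comp_apply, ← Matrix.toLin'_mul, ← Units.val_mul, inv_mul_cancel, Units.val_one,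
    Matrix.toLin'_one, LinearMap.id_apply]

omit [Fintype F] in
theorem mem_decompStab_of_forall_exists {t' : ℕ} (D' : Fin t' → Submodule F (Fin n → F))
    (hinj : Function.Injective D') (g : GL (Fin n) F)
    (h : ∀ m, ∃ m', (D' m).map (Matrix.toLin' (g : Matrix (Fin n) (Fin n) F)) = D' m') :
    g ∈ decompositionStabilizer D' := by
  choose φ hφ using h
  have hginj : Function.Injective (Matrix.toLin' (g : Matrix (Fin n) (Fin n) F)) := by
    apply Function.LeftInverse.injective
      (g := Matrix.toLin' ((g⁻¹ : GL (Fin n) F) : Matrix (Fin n) (Fin n) F))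
    intro v
    rw [← LinearMap.comp_apply, ← Matrix.toLin'_mul, ← Units.val_mul, inv_mul_cancel, Units.val_one,
      Matrix.toLin'_one, LinearMap.id_apply]
  have hφinj : Function.Injective φ := by
    intro m m' hmm
    apply hinj
    apply Submodule.map_injective_of_injective hginj
    rw [hφ, hφ, hmm]
  have hbij : Function.Bijective φ := Finite.injective_iff_bijective.mp hφinj
  exact ⟨Equiv.ofBijective φ hbij, fun i => hφ i⟩

end X42

open X42 in
/-- **K-O12-X42** (587108). -/
theorem four_spaces_plus_card_two {F : Type*} [Field F] [Fintype F] {n : ℕ}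
    (Q : (Fin n → F) → F) (hQ : IsNondegenerateQuadraticForm Q)
    (hq : Fintype.card F = 2) {t : ℕ} (D : Fin t → Submodule F (Fin n → F))
    (hD : IsOrthogonalMDecomposition Q 4 D) (hp : ∀ i, IsPlusTypeOn Q (D i)) :
    ∃ D' : Fin (2 * t) → Submodule F (Fin n → F), IsOrthogonalMDecomposition Q 2 D' ∧
      (∀ i, ¬ IsPlusTypeOn Q (D' i)) ∧
      decompositionStabilizer D ⊓ isometryGroup F Q ≤ decompositionStabilizer D' := by
  classical
  have hB := hQ.polar_bilinear
  have h2 := two_eq_zero (F := F) hq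
  have hDd := hD.decomp
  have hfr := fun i => exists_frame Q hQ hq (D i) (hDd.decomp.finrank_eq i)
    (hDd.nondegenerate i) (hp i)
  choose a₁ b₁ a₂ b₂ ha₁ hb₁ ha₂ hb₂ hform hsp using hfr
  let a : Fin 2 × Fin t → Fin n → F := fun k => if k.1 = 0 then a₁ k.2 else a₂ k.2
  let b : Fin 2 × Fin t → Fin n → F := fun k => if k.1 = 0 then b₁ k.2 else b₂ k.2
  have ha0 : ∀ i, a (0, i) = a₁ i := fun i => by simp [a]
  have ha1 : ∀ i, a (1, i) = a₂ i := fun i => by simp [a]
  have hb0 : ∀ i, b (0, i) = b₁ i := fun i => by simp [b]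
  have hb1 : ∀ i, b (1, i) = b₂ i := fun i => by simp [b]
  have hq1 : ∀ i x y, Q (x • a₁ i + y • b₁ i) = N x y := by
    intro i x y
    have := hform i x y 0 0
    simpa [N] using this
  have hq2 : ∀ i x y, Q (x • a₂ i + y • b₂ i) = N x y := by
    intro i x y
    have := hform i 0 0 x y
    simpa [N] using this
  have hfrm : ∀ k, IsFr Q (a k) (b k) := by
    rintro ⟨j, i⟩
    fin_cases j
    · show IsFr Q (a (0, i)) (b (0, i))
      rw [ha0, hb0]
      exact hq1 i
    · show IsFr Q (a (1, i)) (b (1, i))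
      rw [ha1, hb1]
      exact hq2 i
  have hmemD : ∀ k, a k ∈ D k.2 ∧ b k ∈ D k.2 := by
    rintro ⟨j, i⟩
    fin_cases j
    · show a (0, i) ∈ D i ∧ b (0, i) ∈ D i
      rw [ha0, hb0]
      exact ⟨ha₁ i, hb₁ i⟩
    · show a (1, i) ∈ D i ∧ b (1, i) ∈ D i
      rw [ha1, hb1]
      exact ⟨ha₂ i, hb₂ i⟩
  let D'' : Fin 2 × Fin t → Submodule F (Fin n → F) := fun k => plane (a k) (b k)
  have hD''def : ∀ k, D'' k = plane (a k) (b k) := fun k => rfl
  have hD''le : ∀ k, D'' k ≤ D k.2 := by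
    intro k w hw
    obtain ⟨x, y, rfl⟩ := mem_plane.1 hw
    exact Submodule.add_mem _ (Submodule.smul_mem _ _ (hmemD k).1)
      (Submodule.smul_mem _ _ (hmemD k).2)
  have horth01 : ∀ i, AreOrthogonalFor (polar Q) (D'' (0, i)) (D'' (1, i)) := by
    intro i u hu v hv
    obtain ⟨x, y, rfl⟩ := mem_plane.1 hu
    obtain ⟨z, w, rfl⟩ := mem_plane.1 hv
    rw [ha0, hb0, ha1, hb1]
    have q3 : Q (x • a₁ i + y • b₁ i + (z • a₂ i + w • b₂ i)) = N x y + N z w := by
      rw [← add_assoc]
      exact hform i x y z w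
    unfold QuadraticMap.polar
    rw [hq1, hq2, q3]
    ring
  have horth : ∀ k k', k ≠ k' → AreOrthogonalFor (polar Q) (D'' k) (D'' k') := by
    rintro ⟨j, i⟩ ⟨j', i'⟩ hkk'
    by_cases hi : i = i'
    · subst hi
      have hjj' : j ≠ j' := fun h => hkk' (by rw [h])
      fin_cases j <;> fin_cases j'
      · exact absurd rfl hjj'
      · exact horth01 i
      · intro u hu v hv
        rw [polar_comm]
        exact horth01 i v hv u hu
      · exact absurd rfl hjj'
    · intro u hu v hv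
      exact hDd.orthogonal i i' hi u (hD''le _ hu) v (hD''le _ hv)
  have hnd : ∀ k, IsNondegenerateOn (polar Q) (D'' k) := fun k => (hfrm k).nondeg hQ h2
  have hindep : iSupIndep D'' := iSupIndep_of_orthogonal hQ D'' hnd horth
  have hDle : ∀ i, D i ≤ D'' (0, i) ⊔ D'' (1, i) := by
    intro i w hw
    obtain ⟨x, y, z, u, rfl⟩ := hsp i w hw
    rw [add_assoc]
    apply Submodule.add_mem_sup
    · exact mem_plane.2 ⟨x, y, by rw [ha0, hb0]⟩
    · exact mem_plane.2 ⟨z, u, by rw [ha1, hb1]⟩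
  have htop : iSup D'' = ⊤ := by
    rw [eq_top_iff, ← hDd.decomp.iSup_eq_top]
    apply iSup_le
    intro i
    exact (hDle i).trans (sup_le (le_iSup D'' (0, i)) (le_iSup D'' (1, i)))
  have hX2 : ∀ i, ∀ w ∈ D i, Q w = 1 → ∃ j, w ∈ D'' (j, i) := by
    intro i w hw hQw
    obtain ⟨x, y, z, u, rfl⟩ := hsp i w hw
    rw [hform] at hQw
    rcases N_cases hq x y with h1 | h1
    · refine ⟨1, mem_plane.2 ⟨z, u, ?_⟩⟩
      rw [ha1, hb1, h1.2.1, h1.2.2]
      simp
    · rcases N_cases hq z u with h3 | h3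
      · refine ⟨0, mem_plane.2 ⟨x, y, ?_⟩⟩
        rw [ha0, hb0, h3.2.1, h3.2.2]
        simp
      · exfalso
        rw [h1, h3] at hQw
        have h4 : (2 : F) = 1 := by
          rw [← hQw]
          norm_num
        rw [h2] at h4
        exact zero_ne_one h4
  let e : Fin 2 × Fin t ≃ Fin (2 * t) := finProdFinEquiv
  let D' : Fin (2 * t) → Submodule F (Fin n → F) := fun m => D'' (e.symm m)
  have hD'def : ∀ m, D' m = plane (a (e.symm m)) (b (e.symm m)) := fun m => rfl
  have hD''ne : ∀ k, D'' k ≠ ⊥ := by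
    intro k h
    have h1 := (hfrm k).finrank_plane hQ hq
    rw [← hD''def, h, finrank_bot] at h1
    omega
  have hD'inj : Function.Injective D' := (hindep.injective hD''ne).comp e.symm.injective
  refine ⟨D', ⟨⟨⟨?_, two_pos, ?_, ?_, ?_⟩, ?_, ?_⟩, ?_⟩, ?_, ?_⟩
  · have := hDd.decomp.two_le
    omega
  · intro m
    exact (hfrm _).finrank_plane hQ hq
  · exact hindep.comp e.symm.injective
  · rw [← htop]
    exact e.symm.iSup_comp (g := D'')
  · intro m
    exact hnd _
  · intro m m' hmm'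
    exact horth _ _ (fun h => hmm' (e.symm.injective h))
  · intro m m'
    exact (hfrm _).isometric hQ hq (hfrm _)
  · intro m
    exact (hfrm _).not_plus hQ hq
  · intro g hg
    obtain ⟨⟨σ, hσ⟩, hgI⟩ := hg
    have hgI' : ∀ u : Fin n → F, Q ((g : Matrix (Fin n) (Fin n) F) *ᵥ u) = Q u := fun u => hgI u u
    have hpolar : ∀ u v : Fin n → F, polar Q ((g : Matrix (Fin n) (Fin n) F) *ᵥ u)
        ((g : Matrix (Fin n) (Fin n) F) *ᵥ v) = polar Q u v := by
      intro u v
      unfold QuadraticMap.polar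
      rw [← Matrix.mulVec_add, hgI', hgI', hgI']
    apply mem_decompStab_of_forall_exists D' hD'inj g
    intro m
    obtain ⟨k, hk⟩ : ∃ k, k = e.symm m := ⟨_, rfl⟩
    have hga : (g : Matrix (Fin n) (Fin n) F) *ᵥ a k ∈ D (σ k.2) := by
      rw [← hσ k.2]
      exact ⟨a k, (hmemD k).1, by rw [Matrix.toLin'_apply]⟩
    have hgb : (g : Matrix (Fin n) (Fin n) F) *ᵥ b k ∈ D (σ k.2) := by
      rw [← hσ k.2]
      exact ⟨b k, (hmemD k).2, by rw [Matrix.toLin'_apply]⟩
    obtain ⟨j₁, hj₁⟩ := hX2 _ _ hga (by rw [hgI', (hfrm k).Q_left hQ h2])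
    obtain ⟨j₂, hj₂⟩ := hX2 _ _ hgb (by rw [hgI', (hfrm k).Q_right hQ h2])
    have hjj : j₁ = j₂ := by
      by_contra hne
      have := horth (j₁, σ k.2) (j₂, σ k.2) (fun h => hne (congrArg Prod.fst h)) _ hj₁ _ hj₂
      rw [hpolar, (hfrm k).polar_ab hQ h2] at this
      exact one_ne_zero this
    subst hjj
    refine ⟨e (j₁, σ k.2), ?_⟩
    show (D'' (e.symm m)).map _ = D'' (e.symm (e (j₁, σ k.2)))
    rw [Equiv.symm_apply_apply, ← hk]
    apply Submodule.eq_of_le_of_finrank_eq
    · rintro _ ⟨w, hw, rfl⟩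
      obtain ⟨x, y, rfl⟩ := mem_plane.1 hw
      rw [Matrix.toLin'_apply, Matrix.mulVec_add, Matrix.mulVec_smul, Matrix.mulVec_smul]
      exact Submodule.add_mem _ (Submodule.smul_mem _ _ hj₁) (Submodule.smul_mem _ _ hj₂)
    · have h5 := (Submodule.equivMapOfInjective _ (toLin'_gl_injective g) (D'' k)).finrank_eq
      rw [← h5, hD''def, hD''def, (hfrm k).finrank_plane hQ hq, (hfrm _).finrank_plane hQ hq]

end Cfsg.Agent.Lib.Helper19.O12
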