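import Cfsg.Agent.Lib.Helper19.OEvenType

set_option autoImplicit false
set_option linter.unusedSimpArgs false
set_option linter.unusedVariables false
set_option linter.unusedSectionVars false

/-! Type criteria, part 2: characteristic two, an orthogonal decomposition into an even number of
isometric pieces is of plus type. -/

namespace Cfsg.Agent.Lib.Helper19.OEvenType

open Module QuadraticMap Cfsg.Agent.Lib.Helper50 Cfsg.Geo

variable {F : Type*} [Field F] {n : ℕ}
variable (Q : (Fin n → F) → F) (hQ : IsNondegenerateQuadraticForm Q)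

/-- an adapted basis of an orthogonal decomposition into isometric pieces, with its properties -/
theorem exists_adapted_basis {t k : ℕ} (D : Fin t → Submodule F (Fin n → F))
    (hD : IsOrthogonalMDecomposition Q k D) :
    ∃ b : Basis (Fin k × Fin t) F (Fin n → F),
      (∀ a i, b (a, i) ∈ D i) ∧
      (∀ a i i', Q (b (a, i)) = Q (b (a, i'))) ∧
      (∀ a c i i', polar Q (b (a, i)) (b (c, i)) = polar Q (b (a, i')) (b (c, i'))) ∧
      (∀ a c i j, i ≠ j → polar Q (b (a, i)) (b (c, j)) = 0) := by
  classical
  have hdec := hD.decomp.decomp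
  have ht : 0 < t := by have := hdec.two_le; omega
  let i₀ : Fin t := ⟨0, ht⟩
  have hint : DirectSum.IsInternal D :=
    DirectSum.isInternal_submodule_of_iSupIndep_of_iSup_eq_top hdec.indep hdec.iSup_eq_top
  let b₀ : Basis (Fin k) F (D i₀) := Module.finBasisOfFinrankEq F (D i₀) (hdec.finrank_eq i₀)
  choose e he using fun i => hD.isometric i₀ i
  let v : ∀ i : Fin t, Basis (Fin k) F (D i) := fun i => b₀.map (e i)
  let B : Basis (Σ _ : Fin t, Fin k) F (Fin n → F) := hint.collectedBasis v
  let eq : (Σ _ : Fin t, Fin k) ≃ Fin k × Fin t :=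
    (Equiv.sigmaEquivProd (Fin t) (Fin k)).trans (Equiv.prodComm _ _)
  let b : Basis (Fin k × Fin t) F (Fin n → F) := B.reindex eq
  have hb : ∀ (a : Fin k) (i : Fin t), b (a, i) = ((e i (b₀ a) : D i) : Fin n → F) := by
    intro a i
    show (B.reindex eq) (a, i) = _
    rw [Basis.reindex_apply]
    show B ⟨i, a⟩ = _
    rw [show B = hint.collectedBasis v from rfl, DirectSum.IsInternal.collectedBasis_coe]
    simp [v]
  refine ⟨b, ?_, ?_, ?_, ?_⟩
  · intro a i
    rw [hb]
    exact (e i (b₀ a)).2
  · intro a i i'
    rw [hb, hb, he, he]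
  · intro a c i i'
    rw [hb, hb, hb, hb, polar_isometry_sub Q (e i) (he i), polar_isometry_sub Q (e i') (he i')]
  · intro a c i j hij
    rw [hb, hb]
    exact hD.decomp.orthogonal i j hij _ (e i (b₀ a)).2 _ (e j (b₀ c)).2

include hQ in
/-- `Q` vanishes on the span of a family of singular, pairwise polar-orthogonal vectors -/
theorem isTotallySingularQuad_span {κ : Type*} (w : κ → Fin n → F) (h0 : ∀ i, Q (w i) = 0)
    (h1 : ∀ i j, polar Q (w i) (w j) = 0) :
    IsTotallySingularQuad Q (Submodule.span F (Set.range w)) := by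
  have hB : ∀ x y, polarBilin (geoForm Q hQ) x y = polar Q x y := fun x y => rfl
  -- polar vanishes between the span and the generators
  have c1 : ∀ x ∈ Submodule.span F (Set.range w), ∀ j, polar Q x (w j) = 0 := by
    intro x hx j
    have hle : Submodule.span F (Set.range w) ≤
        LinearMap.ker ((polarBilin (geoForm Q hQ)).flip (w j)) := by
      rw [Submodule.span_le]
      rintro _ ⟨i, rfl⟩
      rw [SetLike.mem_coe, LinearMap.mem_ker, LinearMap.flip_apply, hB]
      exact h1 i j
    have := hle hx
    rw [LinearMap.mem_ker, LinearMap.flip_apply, hB] at this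
    exact this
  have c2 : ∀ x ∈ Submodule.span F (Set.range w), ∀ y ∈ Submodule.span F (Set.range w),
      polar Q x y = 0 := by
    intro x hx y hy
    have hle : Submodule.span F (Set.range w) ≤
        LinearMap.ker (polarBilin (geoForm Q hQ) x) := by
      rw [Submodule.span_le]
      rintro _ ⟨i, rfl⟩
      rw [SetLike.mem_coe, LinearMap.mem_ker, hB]
      exact c1 x hx i
    have := hle hy
    rw [LinearMap.mem_ker, hB] at this
    exact this
  intro x hx
  induction hx using Submodule.span_induction with
  | mem x hx =>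
    obtain ⟨i, rfl⟩ := hx
    exact h0 i
  | zero =>
    have := hQ.smul 0 0
    simpa using this
  | add x y hx hy ihx ihy =>
    have h := c2 x hx y hy
    unfold polar at h
    rw [ihx, ihy] at h
    linear_combination h
  | smul c x hx ihx =>
    rw [hQ.smul, ihx, mul_zero]

include hQ in
/-- **X-leaf (i), characteristic two**: an orthogonal decomposition into an EVEN number of isometric
pieces is of plus type. -/
theorem isPlusTypeOn_top_of_even_decomposition_char_two (h2 : (2 : F) = 0)
    {t k : ℕ} (D : Fin t → Submodule F (Fin n → F)) (hD : IsOrthogonalMDecomposition Q k D)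
    (ht : Even t) : IsPlusTypeOn Q ⊤ := by
  classical
  obtain ⟨s, rfl⟩ := ht
  obtain ⟨b, hbD, hbQ, hbP, hbO⟩ := exists_adapted_basis Q D hD
  have hn : n = k * (s + s) := by
    have h1 := Module.finrank_eq_card_basis b
    rw [Module.finrank_fin_fun, Fintype.card_prod, Fintype.card_fin, Fintype.card_fin] at h1
    exact h1
  let α : Fin s → Fin (s + s) := Fin.castAdd s
  let β : Fin s → Fin (s + s) := Fin.natAdd s
  have hαβ : ∀ j j', α j ≠ β j' := by
    intro j j' h
    have := congrArg Fin.val h
    simp [α, β] at this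
    omega
  have hα : Function.Injective α := Fin.castAdd_injective s s
  have hβ : Function.Injective β := Fin.natAdd_injective s s
  let w : Fin k × Fin s → Fin n → F := fun p => b (p.1, α p.2) + b (p.1, β p.2)
  have hB : ∀ x y, polarBilin (geoForm Q hQ) x y = polar Q x y := fun x y => rfl
  have hadd : ∀ x y z u, polar Q (x + y) (z + u) =
      polar Q x z + polar Q x u + polar Q y z + polar Q y u := by
    intro x y z u
    simp only [← hB, map_add, LinearMap.add_apply]
    ring
  have h2' : ∀ x : F, x + x = 0 := by
    intro x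
    have : x + x = 2 * x := by ring
    rw [this, h2, zero_mul]
  have hw0 : ∀ p, Q (w p) = 0 := by
    intro p
    have h := hbO p.1 p.1 (α p.2) (β p.2) (hαβ _ _)
    unfold polar at h
    have h3 : Q (w p) = Q (b (p.1, α p.2)) + Q (b (p.1, β p.2)) := by
      show Q (b (p.1, α p.2) + b (p.1, β p.2)) = _
      linear_combination h
    rw [h3, hbQ p.1 (β p.2) (α p.2)]
    exact h2' _
  have hw1 : ∀ p p', polar Q (w p) (w p') = 0 := by
    intro p p'
    show polar Q (b (p.1, α p.2) + b (p.1, β p.2)) (b (p'.1, α p'.2) + b (p'.1, β p'.2)) = 0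
    rw [hadd, hbO _ _ _ _ (hαβ p.2 p'.2), hbO _ _ _ _ (fun h => hαβ p'.2 p.2 h.symm)]
    by_cases hj : p.2 = p'.2
    · rw [hj, hbP p.1 p'.1 (α p'.2) (β p'.2), add_zero, add_zero]
      exact h2' _
    · rw [hbO _ _ _ _ (fun h => hj (hα h)), hbO _ _ _ _ (fun h => hj (hβ h))]
      ring
  have hli : LinearIndependent F w := by
    rw [Fintype.linearIndependent_iff]
    intro g hg p
    have h1 := congrArg (fun x => b.repr x (p.1, α p.2)) hg
    simp only [map_sum, map_smul, map_zero, Finsupp.coe_finsetSum, Finsupp.coe_smul,
      Finset.sum_apply, Pi.smul_apply, smul_eq_mul, Finsupp.coe_zero, Pi.zero_apply] at h1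
    rw [Finset.sum_eq_single p] at h1
    · have h3 : (b.repr (w p)) (p.1, α p.2) = 1 := by
        show (b.repr (b (p.1, α p.2) + b (p.1, β p.2))) (p.1, α p.2) = 1
        rw [map_add, Basis.repr_self, Basis.repr_self, Finsupp.add_apply,
          Finsupp.single_eq_same, Finsupp.single_eq_of_ne, add_zero]
        intro h
        exact hαβ p.2 p.2 (congrArg Prod.snd h)
      rw [h3, mul_one] at h1
      exact h1
    · intro p' _ hp'
      have h3 : (b.repr (w p')) (p.1, α p.2) = 0 := by
        show (b.repr (b (p'.1, α p'.2) + b (p'.1, β p'.2))) (p.1, α p.2) = 0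
        rw [map_add, Basis.repr_self, Basis.repr_self, Finsupp.add_apply,
          Finsupp.single_eq_of_ne, Finsupp.single_eq_of_ne, add_zero]
        · intro h
          exact hαβ p.2 p'.2 (congrArg Prod.snd h)
        · intro h
          obtain ⟨h4, h5⟩ := Prod.mk.inj h
          apply hp'
          first
            | exact Prod.ext h4 (hα h5)
            | exact Prod.ext h4.symm (hα h5).symm
      rw [h3, mul_zero]
    · intro h
      exact absurd (Finset.mem_univ p) h
  refine ⟨Submodule.span F (Set.range w), le_top, isTotallySingularQuad_span Q hQ w hw0 hw1, ?_⟩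
  rw [finrank_span_eq_card hli, Fintype.card_prod, Fintype.card_fin, Fintype.card_fin, finrank_top,
    Module.finrank_fin_fun, hn]
  ring

end Cfsg.Agent.Lib.Helper19.OEvenType
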