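import Mathlib
import Cfsg.Prelude.Def_GeometricClasses
import Cfsg.Agent.Lib.Helper19.OEvenType2
import Cfsg.Agent.Lib.Helper43.WittIndex

set_option autoImplicit false
set_option linter.unusedSimpArgs false
set_option linter.unusedVariables false
set_option linter.unusedSectionVars false

/-! Keystone K-O12-XT43 (587109): characteristic two, `V = D 0 ⊥ D 1 ⊥ D 2` isometric non-degenerate
4-spaces, `V` of plus type: each `D i` is of plus type. -/

namespace Cfsg.Agent.Lib.Helper19.O12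

open Cfsg Cfsg.Geo Module QuadraticMap
open scoped Matrix

variable {F : Type*} [Field F] {n : ℕ}

section core

variable (Q : (Fin n → F) → F) (hQ : IsNondegenerateQuadraticForm Q)

omit hQ in
theorem Q_add' (x y : Fin n → F) : Q (x + y) = Q x + Q y + polar Q x y := by
  unfold polar
  ring

include hQ in
theorem Q_zero' : Q 0 = 0 := by
  have := hQ.smul 0 0
  rw [zero_smul] at this
  rw [this]
  ring

include hQ in
theorem polar_self_char_two (h2 : (2 : F) = 0) (x : Fin n → F) : polar Q x x = 0 := by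
  have h := Q_add' Q x x
  have h3 : x + x = (2 : F) • x := by rw [two_smul]
  rw [h3, hQ.smul, h2] at h
  have h4 : Q x + Q x = 0 := by
    have : Q x + Q x = 2 * Q x := by ring
    rw [this, h2, zero_mul]
  rw [h4] at h
  linear_combination -h

theorem neg_eq_self_of_two (h2 : (2 : F) = 0) (x : Fin n → F) : -x = x := by
  have h3 : x + x = (2 : F) • x := by rw [two_smul]
  rw [h2, zero_smul] at h3
  exact neg_eq_of_add_eq_zero_left h3

include hQ in
/-- the core lemma: an orthogonal sum `W ⊥ W₁ ⊥ W₂` with `W₁ ≅ W₂` in characteristic two: every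
totally singular subspace has dimension at most `dim W₁` plus the dimension of a totally singular
subspace of `W`. -/
theorem exists_ts_of_sum (h2 : (2 : F) = 0) (W W₁ W₂ : Submodule F (Fin n → F))
    (h01 : AreOrthogonalFor (polar Q) W W₁) (h02 : AreOrthogonalFor (polar Q) W W₂)
    (h12 : AreOrthogonalFor (polar Q) W₁ W₂) (hsup : W ⊔ W₁ ⊔ W₂ = ⊤)
    (hnd1 : IsNondegenerateOn (polar Q) W₁)
    (φ : W₁ ≃ₗ[F] W₂) (hφ : ∀ w : W₁, Q ((φ w : W₂) : Fin n → F) = Q (w : Fin n → F))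
    (U : Submodule F (Fin n → F)) (hU : IsTotallySingularQuad Q U) :
    ∃ U₀ : Submodule F (Fin n → F), U₀ ≤ W ∧ IsTotallySingularQuad Q U₀ ∧
      finrank F U ≤ finrank F U₀ + finrank F W₁ := by
  classical
  have hB := hQ.polar_bilinear
  have hsymm : ∀ x y : Fin n → F, polar Q x y = polar Q y x := fun x y => polar_comm Q x y
  -- choose `U₀` of maximal dimension
  let P : ℕ → Prop := fun d => ∃ U₁ : Submodule F (Fin n → F), U₁ ≤ W ∧
    IsTotallySingularQuad Q U₁ ∧ finrank F U₁ = d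
  have hP0 : P 0 := ⟨⊥, bot_le, fun w hw => by
    rw [(Submodule.mem_bot F).1 hw]; exact Q_zero' Q hQ, finrank_bot F _⟩
  obtain ⟨U₀, hU₀W, hU₀ts, hU₀d⟩ : P (Nat.findGreatest P (finrank F W)) :=
    Nat.findGreatest_spec (Nat.zero_le _) hP0
  have hmax : ∀ U₁ : Submodule F (Fin n → F), U₁ ≤ W → IsTotallySingularQuad Q U₁ →
      finrank F U₁ ≤ finrank F U₀ := by
    intro U₁ h1 h2'
    rw [hU₀d]
    exact Nat.le_findGreatest (Submodule.finrank_mono h1) ⟨U₁, h1, h2', rfl⟩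
  refine ⟨U₀, hU₀W, hU₀ts, ?_⟩
  -- the diagonal subspace
  let ψ : W₁ →ₗ[F] (Fin n → F) := W₁.subtype + W₂.subtype.comp φ.toLinearMap
  have hψ : ∀ u : W₁, ψ u = (u : Fin n → F) + ((φ u : W₂) : Fin n → F) := fun u => rfl
  let U' : Submodule F (Fin n → F) := LinearMap.range ψ
  have hU'd : finrank F U' ≤ finrank F W₁ := LinearMap.finrank_range_le ψ
  have hU'ts : ∀ y ∈ U', Q y = 0 := by
    rintro y ⟨u, rfl⟩
    rw [hψ, Q_add' Q, hφ, h12 _ u.2 _ (φ u).2, add_zero]
    have : Q (u : Fin n → F) + Q (u : Fin n → F) = 2 * Q (u : Fin n → F) := by ring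
    rw [this, h2, zero_mul]
  have hWU' : ∀ x ∈ W, ∀ y ∈ U', polar Q x y = 0 := by
    rintro x hx y ⟨u, rfl⟩
    rw [hψ, hB.add_right, h01 x hx _ u.2, h02 x hx _ (φ u).2, add_zero]
  let E : Submodule F (Fin n → F) := U₀ ⊔ U'
  have hEts : ∀ e ∈ E, Q e = 0 := by
    intro e he
    obtain ⟨x, hx, y, hy, rfl⟩ := Submodule.mem_sup.1 he
    rw [Q_add' Q, hU₀ts x hx, hU'ts y hy, hWU' x (hU₀W hx) y hy]
    ring
  have hEd : finrank F E ≤ finrank F U₀ + finrank F W₁ :=
    (Submodule.finrank_add_le_finrank_add_finrank U₀ U').trans (by omega)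
  have hEmax : ∀ v : Fin n → F, (∀ e ∈ E, polar Q v e = 0) → Q v = 0 → v ∈ E := by
    intro v hv hQv
    have hvtop : v ∈ W ⊔ W₁ ⊔ W₂ := by rw [hsup]; exact Submodule.mem_top
    obtain ⟨ab, hab, b₂, hb₂, rfl⟩ := Submodule.mem_sup.1 hvtop
    obtain ⟨a, ha, b₁, hb₁, rfl⟩ := Submodule.mem_sup.1 hab
    -- `b₁ + φ⁻¹ b₂ = 0`
    let c : W₁ := ⟨b₁, hb₁⟩ + φ.symm ⟨b₂, hb₂⟩
    have hc0 : c = 0 := by
      by_contra hne
      have hne' : (c : Fin n → F) ≠ 0 := fun h => hne (Subtype.ext h)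
      obtain ⟨-, ⟨x, hx, hxc⟩⟩ := hnd1 (c : Fin n → F) c.2 hne'
      apply hxc
      have h1 := hv (ψ ⟨x, hx⟩) (Submodule.mem_sup_right ⟨_, rfl⟩)
      rw [hψ] at h1
      have e1 : polar Q (a + b₁ + b₂) (x + ((φ ⟨x, hx⟩ : W₂) : Fin n → F)) =
          polar Q b₁ x + polar Q b₂ ((φ ⟨x, hx⟩ : W₂) : Fin n → F) := by
        rw [hB.add_left, hB.add_left, hB.add_right, hB.add_right, hB.add_right,
          h01 a ha x hx, h02 a ha _ (φ ⟨x, hx⟩).2, h12 b₁ hb₁ _ (φ ⟨x, hx⟩).2,
          hsymm b₂ x, h12 x hx b₂ hb₂]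
        ring
      have e2 : polar Q b₂ ((φ ⟨x, hx⟩ : W₂) : Fin n → F) =
          polar Q ((φ.symm ⟨b₂, hb₂⟩ : W₁) : Fin n → F) x := by
        have := Cfsg.Agent.Lib.Helper19.OEvenType.polar_isometry_sub Q φ hφ
          (φ.symm ⟨b₂, hb₂⟩) ⟨x, hx⟩
        rw [LinearEquiv.apply_symm_apply] at this
        exact this
      rw [e1, e2] at h1
      show polar Q ((c : W₁) : Fin n → F) x = 0
      rw [show ((c : W₁) : Fin n → F) = b₁ + ((φ.symm ⟨b₂, hb₂⟩ : W₁) : Fin n → F) from rfl,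
        hB.add_left]
      exact h1
    have hb₂' : b₂ = ((φ ⟨b₁, hb₁⟩ : W₂) : Fin n → F) := by
      have h1 : φ.symm ⟨b₂, hb₂⟩ = -(⟨b₁, hb₁⟩ : W₁) := by
        rw [eq_neg_iff_add_eq_zero, add_comm]
        exact hc0
      have h3 : (⟨b₂, hb₂⟩ : W₂) = φ (-(⟨b₁, hb₁⟩ : W₁)) := by
        rw [← h1, LinearEquiv.apply_symm_apply]
      have h4 := congrArg (Subtype.val) h3
      rw [map_neg] at h4
      simp only [Submodule.coe_neg] at h4
      rw [neg_eq_self_of_two h2] at h4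
      exact h4
    have hbU' : b₁ + b₂ ∈ U' := ⟨⟨b₁, hb₁⟩, by rw [hψ, hb₂']⟩
    have hQb : Q (b₁ + b₂) = 0 := hU'ts _ hbU'
    have hab' : polar Q a (b₁ + b₂) = 0 := hWU' a ha _ hbU'
    have hQa : Q a = 0 := by
      have h1 := Q_add' Q a (b₁ + b₂)
      rw [← add_assoc, hQv, hQb, hab'] at h1
      linear_combination -h1
    have haU₀ : a ∈ U₀ := by
      have hperp : ∀ u ∈ U₀, polar Q u a = 0 := by
        intro u hu
        have h1 := hv u (Submodule.mem_sup_left hu)
        rw [hB.add_left, hB.add_left, hsymm b₁ u, hsymm b₂ u, h01 u (hU₀W hu) b₁ hb₁,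
          h02 u (hU₀W hu) b₂ hb₂, add_zero, add_zero] at h1
        rw [hsymm]
        exact h1
      have hU₁W : U₀ ⊔ Submodule.span F {a} ≤ W :=
        sup_le hU₀W ((Submodule.span_singleton_le_iff_mem a W).2 ha)
      have hU₁ts : IsTotallySingularQuad Q (U₀ ⊔ Submodule.span F {a}) := by
        intro w hw
        obtain ⟨x, hx, y, hy, rfl⟩ := Submodule.mem_sup.1 hw
        obtain ⟨r, rfl⟩ := Submodule.mem_span_singleton.1 hy
        rw [Q_add' Q, hU₀ts x hx, hQ.smul, hQa, hB.smul_right, hperp x hx]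
        ring
      have h5 := hmax _ hU₁W hU₁ts
      have h6 : U₀ = U₀ ⊔ Submodule.span F {a} :=
        Submodule.eq_of_le_of_finrank_le le_sup_left h5
      rw [h6]
      exact Submodule.mem_sup_right (Submodule.mem_span_singleton_self a)
    rw [add_assoc]
    exact Submodule.add_mem _ (Submodule.mem_sup_left haU₀) (Submodule.mem_sup_right hbU')
  have hfin := Cfsg.Agent.Lib.Helper43.finrank_le_of_totallySingular
    (Q := Cfsg.Agent.Lib.Helper50.geoForm Q hQ)
    (Cfsg.Agent.Lib.Helper50.geoForm_nondegenerate Q hQ) E U hU hEmax hEts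
  exact hfin.trans hEd

end core

theorem exists_le_finrank_eq' {V : Type*} [AddCommGroup V] [Module F V] [FiniteDimensional F V]
    (E : Submodule F V) {k : ℕ} (hk : k ≤ finrank F E) :
    ∃ W : Submodule F V, W ≤ E ∧ finrank F W = k := by
  set b := Module.finBasis F E
  set f : Fin k → E := fun i => b (Fin.castLE hk i)
  have hli : LinearIndependent F f := b.linearIndependent.comp _ (Fin.castLE_injective hk)
  refine ⟨(Submodule.span F (Set.range f)).map E.subtype, ?_, ?_⟩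
  · rintro _ ⟨x, -, rfl⟩
    exact x.2
  · rw [Submodule.finrank_map_subtype_eq, finrank_span_eq_card hli, Fintype.card_fin]

theorem fin_three_cases : ∀ i j k l : Fin 3, i ≠ j → i ≠ k → j ≠ k → l = i ∨ l = j ∨ l = k := by
  decide

/-- one piece, given the two others -/
theorem plus_piece (Q : (Fin n → F) → F) (hQ : IsNondegenerateQuadraticForm Q)
    (h2 : (2 : F) = 0) (hplus : IsPlusTypeOn Q ⊤) (D : Fin 3 → Submodule F (Fin n → F))
    (hD : IsOrthogonalMDecomposition Q 4 D) (i j k : Fin 3) (hij : i ≠ j) (hik : i ≠ k)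
    (hjk : j ≠ k) : IsPlusTypeOn Q (D i) := by
  have hn : n = 12 := by
    obtain ⟨b, -⟩ := Cfsg.Agent.Lib.Helper19.OEvenType.exists_adapted_basis Q D hD
    have h1 := Module.finrank_eq_card_basis b
    rw [Module.finrank_fintype_fun_eq_card, Fintype.card_fin, Fintype.card_prod, Fintype.card_fin,
      Fintype.card_fin] at h1
    omega
  obtain ⟨U, -, hUts, hUd⟩ := hplus
  rw [finrank_top, Module.finrank_fintype_fun_eq_card, Fintype.card_fin] at hUd
  obtain ⟨φ, hφ⟩ := hD.isometric j k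
  have hdec := hD.decomp
  have hsup : D i ⊔ D j ⊔ D k = ⊤ := by
    rw [eq_top_iff, ← hdec.decomp.iSup_eq_top]
    apply iSup_le
    intro l
    rcases fin_three_cases i j k l hij hik hjk with rfl | rfl | rfl
    · exact le_sup_of_le_left le_sup_left
    · exact le_sup_of_le_left le_sup_right
    · exact le_sup_right
  obtain ⟨U₀, hU₀W, hU₀ts, hle⟩ := exists_ts_of_sum Q hQ h2 (D i) (D j) (D k)
    (hdec.orthogonal i j hij) (hdec.orthogonal i k hik) (hdec.orthogonal j k hjk) hsup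
    (hdec.nondegenerate j) φ hφ U hUts
  rw [hdec.decomp.finrank_eq j] at hle
  obtain ⟨U₁, hU₁, hU₁d⟩ := exists_le_finrank_eq' U₀ (k := 2) (by omega)
  refine ⟨U₁, hU₁.trans hU₀W, fun w hw => hU₀ts w (hU₁ hw), ?_⟩
  rw [hU₁d, hdec.decomp.finrank_eq i]

/-- **K-O12-XT43** (587109). -/
theorem plus_of_three_four_spaces_char_two (Q : (Fin n → F) → F)
    (hQ : IsNondegenerateQuadraticForm Q)
    (h2 : (2 : F) = 0) (hplus : IsPlusTypeOn Q ⊤) (D : Fin 3 → Submodule F (Fin n → F))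
    (hD : IsOrthogonalMDecomposition Q 4 D) : ∀ i, IsPlusTypeOn Q (D i) := by
  intro i
  have h : ∀ i : Fin 3, ∃ j k : Fin 3, i ≠ j ∧ i ≠ k ∧ j ≠ k := by decide
  obtain ⟨j, k, hij, hik, hjk⟩ := h i
  exact plus_piece Q hQ h2 hplus D hD i j k hij hik hjk

end Cfsg.Agent.Lib.Helper19.O12
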