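import Mathlib
import Cfsg.Prelude.Def_GeometricClasses
import Cfsg.Agent.Lib.Helper61.AschDefs

/-!
K-S5630-D2 core (helper19): from the symplectic-type data of D1 to class 6 / 5 / 8, with the consumed keystones C2-C6 as hypotheses.
-/

set_option autoImplicit false

namespace Cfsg.Agent.Lib.Helper19.Asch

open Cfsg Cfsg.Geo Cfsg.Agent.Lib.Helper61.Asch
open scoped Matrix Kronecker MatrixGroups

variable {F : Type*} [Field F] {n : ℕ}

local notation "V" => (Fin n → F)
local notation "Mat" => Matrix (Fin n) (Fin n) F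
local notation "Z" => scalars (Fin n) F

/-- the matrices leaving a subspace invariant form a subalgebra -/
def invAlg (W : Submodule F V) : Subalgebra F Mat where
  carrier := {M | W.map (Matrix.toLin' M) ≤ W}
  mul_mem' {a b} ha hb := by
    simp only [Set.mem_ofPred_eq] at ha hb ⊢
    rw [Matrix.toLin'_mul, Submodule.map_comp]
    exact (Submodule.map_mono hb).trans ha
  add_mem' {a b} ha hb := by
    simp only [Set.mem_ofPred_eq] at ha hb ⊢
    rintro _ ⟨w, hw, rfl⟩
    rw [map_add, LinearMap.add_apply]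
    exact W.add_mem (ha ⟨w, hw, rfl⟩) (hb ⟨w, hw, rfl⟩)
  algebraMap_mem' c := by
    simp only [Set.mem_ofPred_eq]
    rintro _ ⟨w, hw, rfl⟩
    rw [Matrix.toLin'_apply, Algebra.algebraMap_eq_smul_one, Matrix.smul_mulVec, Matrix.one_mulVec]
    exact W.smul_mem c hw

theorem mem_invAlg {W : Submodule F V} {M : Mat} : M ∈ invAlg W ↔ W.map (Matrix.toLin' M) ≤ W := Iff.rfl

/-- the matrices commuting with a given matrix form a subalgebra -/
def commAlg (M : Mat) : Subalgebra F Mat where
  carrier := {s | M * s = s * M}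
  mul_mem' {a b} ha hb := by
    simp only [Set.mem_ofPred_eq] at ha hb ⊢
    rw [← mul_assoc, ha, mul_assoc, hb, mul_assoc]
  add_mem' {a b} ha hb := by
    simp only [Set.mem_ofPred_eq] at ha hb ⊢
    rw [mul_add, add_mul, ha, hb]
  algebraMap_mem' c := by
    simp only [Set.mem_ofPred_eq]
    rw [Algebra.algebraMap_eq_smul_one, Matrix.mul_smul, Matrix.smul_mul, mul_one, one_mul]

theorem absIrred_of_spanAlg_eq_top (R : Subgroup (GL (Fin n) F)) (hspan : spanAlg R = ⊤) :
    ActsAbsolutelyIrreducibly (matrixSet R) := by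
  constructor
  · intro W hW
    have hall : ∀ M : Mat, W.map (Matrix.toLin' M) ≤ W := by
      intro M
      have h1 : Algebra.adjoin F (matrixSet R) ≤ invAlg W := Algebra.adjoin_le (fun s hs => hW s hs)
      have h2 : M ∈ Algebra.adjoin F (matrixSet R) := by
        have := hspan
        unfold spanAlg at this
        rw [this]; exact Algebra.mem_top
      exact h1 h2
    by_cases hbot : W = ⊥
    · exact Or.inl hbot
    · right
      obtain ⟨w, hwW, hw0⟩ := (Submodule.ne_bot_iff W).1 hbot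
      obtain ⟨i, hi⟩ : ∃ i, w i ≠ 0 := by
        by_contra hcon
        push Not at hcon
        exact hw0 (funext hcon)
      rw [eq_top_iff]
      intro v _
      have := hall (Matrix.of fun a b => if b = i then v a * (w i)⁻¹ else 0) ⟨w, hwW, rfl⟩
      convert this using 1
      ext a
      rw [Matrix.toLin'_apply, Matrix.mulVec, dotProduct]
      simp only [Matrix.of_apply]
      rw [Finset.sum_eq_single i]
      · simp only [if_true]; field_simp
      · intro b _ hb; simp [hb]
      · intro h; exact absurd (Finset.mem_univ i) h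
  · intro M hM
    have hall : ∀ s : Mat, M * s = s * M := by
      intro s
      have h1 : Algebra.adjoin F (matrixSet R) ≤ commAlg M := Algebra.adjoin_le (fun s hs => hM s hs)
      have h2 : s ∈ Algebra.adjoin F (matrixSet R) := by
        have := hspan
        unfold spanAlg at this
        rw [this]; exact Algebra.mem_top
      exact h1 h2
    have hc : M ∈ Subalgebra.center F Mat := by
      rw [Subalgebra.mem_center_iff]
      intro s; exact (hall s).symm
    rw [Algebra.IsCentral.center_eq_bot] at hc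
    obtain ⟨c, hc⟩ := Algebra.mem_bot.1 hc
    exact ⟨c, by rw [← hc, Algebra.algebraMap_eq_smul_one]⟩

/-- scalar elements of `R` are `c • 1` with `c ^ |Z(R)| = 1`. -/
theorem scalar_of_mem (hn : 0 < n) (R : Subgroup (GL (Fin n) F)) (x : GL (Fin n) F) (hx : x ∈ R) (hxZ : x ∈ Z) :
    ∃ c : F, ((x : GL (Fin n) F) : Mat) = c • (1 : Mat) ∧ c ^ Nat.card (Subgroup.center R) = 1 := by
  obtain ⟨c, hc⟩ := (mem_scalars_iff x).1 hxZ
  refine ⟨(c : F), hc, ?_⟩
  have hmem : (⟨x, hx⟩ : R) ∈ Subgroup.center R := by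
    rw [Subgroup.mem_center_iff]
    intro g
    apply Subtype.ext
    apply Units.ext
    simp only [Subgroup.coe_mul, Units.val_mul, hc, Matrix.mul_smul, Matrix.smul_mul, mul_one, one_mul]
  have h1 : (⟨⟨x, hx⟩, hmem⟩ : Subgroup.center R) ^ Nat.card (Subgroup.center R) = 1 := pow_card_eq_one'
  have h1' : (⟨x, hx⟩ : R) ^ Nat.card (Subgroup.center R) = 1 := by
    have := congrArg (fun y : Subgroup.center R => (y : R)) h1
    exact this
  have h1'' : x ^ Nat.card (Subgroup.center R) = 1 := by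
    have := congrArg (fun y : R => (y : GL (Fin n) F)) h1'
    exact this
  have h2 : ((x : GL (Fin n) F) : Mat) ^ Nat.card (Subgroup.center R) = 1 := by
    rw [← Units.val_pow_eq_pow_val, h1'', Units.val_one]
  rw [hc, smul_pow, one_pow] at h2
  have := congrFun (congrFun h2 ⟨0, hn⟩) ⟨0, hn⟩
  simpa using this

/-- the two kinds of traces on `R`. -/
theorem trace_cases (hn : 0 < n) (R : Subgroup (GL (Fin n) F))
    (htr : ∀ x ∈ R, x ∈ Z ∨ Matrix.trace ((x : GL (Fin n) F) : Mat) = 0)
    (x : GL (Fin n) F) (hx : x ∈ R) :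
    (Matrix.trace ((x : GL (Fin n) F) : Mat) = 0 ∧ Matrix.trace (((x⁻¹ : GL (Fin n) F)) : Mat) = 0) ∨
    ∃ c : F, c ^ Nat.card (Subgroup.center R) = 1 ∧ Matrix.trace ((x : GL (Fin n) F) : Mat) = c * (n : F) ∧
      Matrix.trace (((x⁻¹ : GL (Fin n) F)) : Mat) = c⁻¹ * (n : F) := by
  by_cases hxZ : x ∈ Z
  · right
    obtain ⟨c, hc, hcz⟩ := scalar_of_mem hn R x hx hxZ
    obtain ⟨c', hc', -⟩ := scalar_of_mem hn R x⁻¹ (R.inv_mem hx) ((scalars (Fin n) F).inv_mem hxZ)
    have hcc : c * c' = 1 := by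
      have h1 : ((x : GL (Fin n) F) : Mat) * (((x⁻¹ : GL (Fin n) F)) : Mat) = 1 := by
        rw [← Units.val_mul, mul_inv_cancel, Units.val_one]
      rw [hc, hc', Matrix.smul_mul, Matrix.mul_smul, mul_one, smul_smul] at h1
      have := congrFun (congrFun h1 ⟨0, hn⟩) ⟨0, hn⟩
      simpa using this
    have hc'' : c' = c⁻¹ := eq_inv_of_mul_eq_one_right hcc
    refine ⟨c, hcz, ?_, ?_⟩
    · rw [hc, Matrix.trace_smul, Matrix.trace_one, Fintype.card_fin, smul_eq_mul]
    · rw [hc', Matrix.trace_smul, Matrix.trace_one, Fintype.card_fin, smul_eq_mul, hc'']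
  · left
    refine ⟨(htr x hx).resolve_left hxZ, (htr x⁻¹ (R.inv_mem hx)).resolve_left ?_⟩
    intro h
    apply hxZ
    have := (scalars (Fin n) F).inv_mem h
    rwa [inv_inv] at this

section FiniteField

variable [Fintype F]

theorem exists_frobEquiv (p : ℕ) (hp : p.Prime) [CharP F p] (h : ℕ) :
    ∃ σ : F ≃+* F, ∀ a, σ a = a ^ (p ^ h) := by
  have : Fact p.Prime := ⟨hp⟩
  have : ExpChar F p := ExpChar.prime hp
  exact ⟨iterateFrobeniusEquiv F p h, fun a => iterateFrobeniusEquiv_def F p h a⟩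

theorem exists_fixedField (p : ℕ) (hp : p.Prime) [CharP F p] (d : ℕ) :
    ∃ F₀ : Subfield F, ∀ a, a ∈ F₀ ↔ a ^ (p ^ d) = a := by
  have : Fact p.Prime := ⟨hp⟩
  have : ExpChar F p := ExpChar.prime hp
  refine ⟨(iterateFrobenius F p d).eqLocusField (RingHom.id F), fun a => ?_⟩
  rw [RingHom.mem_eqLocusField, iterateFrobenius_def, RingHom.id_apply]

theorem exists_not_fixed (p f d : ℕ) (hp : p.Prime) (hq : Fintype.card F = p ^ f) (hd0 : 0 < d) (hdf : d < f) :
    ∃ x : F, x ^ (p ^ d) ≠ x := by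
  classical
  obtain ⟨g, hg⟩ := IsCyclic.exists_generator (α := Fˣ)
  have hord : orderOf g = p ^ f - 1 := by
    rw [orderOf_eq_card_of_forall_mem_zpowers hg, Nat.card_eq_fintype_card, Fintype.card_units, hq]
  refine ⟨(g : F), fun h => ?_⟩
  have h1 : p ^ d = (p ^ d - 1) + 1 := (Nat.sub_add_cancel (Nat.one_le_pow _ _ hp.pos)).symm
  have h2 : (g : F) ^ (p ^ d - 1) = 1 := by
    have h3 : (g : F) ^ (p ^ d - 1) * (g : F) = 1 * (g : F) := by
      rw [← pow_succ, ← h1, h, one_mul]
    exact mul_right_cancel₀ g.ne_zero h3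
  have h4 : g ^ (p ^ d - 1) = 1 := by
    apply Units.ext
    rw [Units.val_pow_eq_pow_val, h2, Units.val_one]
  have h5 := orderOf_dvd_of_pow_eq_one h4
  rw [hord] at h5
  have h6 : p ^ d < p ^ f := Nat.pow_lt_pow_right hp.one_lt hdf
  have h7 : 1 < p ^ d := Nat.one_lt_pow hd0.ne' hp.one_lt
  have h8 := Nat.le_of_dvd (by omega) h5
  omega

theorem pow_eq_self_of_root (c : F) (z P : ℕ) (hc : c ^ z = 1) (hP : 1 ≤ P) (hz : z ∣ P - 1) : c ^ P = c := by
  obtain ⟨k, hk⟩ := hz
  have h1 : P = z * k + 1 := by omega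
  rw [h1, pow_succ, pow_mul, hc, one_pow, one_mul]

theorem pow_eq_inv_of_root (c : F) (z P : ℕ) (hc : c ^ z = 1) (hz : z ∣ P + 1) : c ^ P = c⁻¹ := by
  obtain ⟨k, hk⟩ := hz
  have h1 : c ^ P * c = 1 := by
    rw [← pow_succ, hk, pow_mul, hc, one_pow]
  exact eq_inv_of_mul_eq_one_left h1

end FiniteField

theorem le_subgroupNormalizer_of_normBy (K R : Subgroup (GL (Fin n) F)) (hKR : NormBy K R) :
    K ≤ subgroupNormalizer R := by
  intro k hk
  unfold subgroupNormalizer
  rw [Subgroup.mem_normalizer_iff]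
  intro h
  constructor
  · intro hh; exact hKR k hk h hh
  · intro hh
    have := hKR k⁻¹ (K.inv_mem hk) _ hh
    simpa [mul_assoc] using this

/-- number theory: `4 ∣ p ^ f - 1` with `p`, `f` odd gives `4 ∣ p - 1`. -/
theorem four_dvd_sub_one_of_odd_pow (p f : ℕ) (hp : Odd p) (hf : Odd f) (h : 4 ∣ p ^ f - 1) : 4 ∣ p - 1 := by
  obtain ⟨k, rfl⟩ := hf
  have h1 : p % 4 = 1 ∨ p % 4 = 3 := by
    obtain ⟨j, rfl⟩ := hp
    omega
  rcases h1 with h1 | h1
  · omega
  · exfalso
    have h2 : p ^ (2 * k + 1) % 4 = 3 := by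
      rw [pow_succ, pow_mul, Nat.mul_mod, Nat.pow_mod]
      have : p ^ 2 % 4 = 1 := by
        rw [pow_two, Nat.mul_mod, h1]
      rw [this, one_pow, h1]
      norm_num
    have h3 : 1 ≤ p ^ (2 * k + 1) := Nat.one_le_pow _ _ (by omega)
    omega

section FiniteField2

variable [Fintype F]

/-- K-S5630-D2, with the consumed keystones C2–C6 (specialised to `R`, `K`) as hypotheses. -/
theorem geom_of_symplecticType_core (K R : Subgroup (GL (Fin n) F)) (hn : 3 ≤ n) (hKR : NormBy K R)
    (hspan : spanAlg R = ⊤) (r : ℕ) (hR : IsSymplecticTypeGroup r R) (hrq : ¬ (r ∣ Fintype.card F))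
    (htr : ∀ x ∈ R, x ∈ Z ∨ Matrix.trace ((x : GL (Fin n) F) : Mat) = 0)
    (m : ℕ) (hm : 1 ≤ m) (hnm : n = r ^ m)
    (hcen : Nat.card (Subgroup.center R) = Nat.gcd (r * Nat.gcd 2 r) (Fintype.card F - 1))
    (hcard : Nat.card R = Nat.card (Subgroup.center R) * r ^ (2 * m))
    (hC2 : (∀ x ∈ R, Matrix.trace (((x⁻¹ : GL (Fin n) F)) : Mat) = Matrix.trace ((x : GL (Fin n) F) : Mat)) →
      (∃ f : V → V → F, IsSymplecticForm f ∧ FixesForm (matrixSet R) f) ∨
      (Odd (Fintype.card F) ∧ ∃ Q : V → F, IsNondegenerateQuadraticForm Q ∧ FixesQuadForm (matrixSet R) Q))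
    (hC3 : ∀ σ : F ≃+* F, σ ≠ RingEquiv.refl F → (∀ a, σ (σ a) = a) →
      (∀ x ∈ R, Matrix.trace (((x⁻¹ : GL (Fin n) F)) : Mat) = σ (Matrix.trace ((x : GL (Fin n) F) : Mat))) →
      ∃ f : V → V → F, IsUnitaryForm σ f ∧ FixesForm (matrixSet R) f)
    (hC4a : ∀ f : V → V → F, IsSymplecticForm f → FixesForm (matrixSet R) f →
      K ≤ similarityGroup f ∧ Even n)
    (hC4b : ∀ (σ : F ≃+* F) (f : V → V → F), IsUnitaryForm σ f → FixesForm (matrixSet R) f →
      K ≤ similarityGroup f)
    (hC4c : Odd (Fintype.card F) → ∀ Q : V → F, IsNondegenerateQuadraticForm Q →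
      FixesQuadForm (matrixSet R) Q → K ≤ quadSimilarityGroup Q)
    (hC5 : ∀ F₀ : Subfield F, (∀ x ∈ R, Matrix.trace ((x : GL (Fin n) F) : Mat) ∈ F₀) →
      RealisableOver F₀ (matrixSet R))
    (hC6 : ∀ F₀ : Subfield F, F₀ ≠ ⊤ → RealisableOver F₀ (matrixSet R) →
      ∃ (F₁ : Subfield F) (r' : ℕ) (P : GL (Fin n) F), r'.Prime ∧ Fintype.card F = Nat.card F₁ ^ r' ∧
        K ≤ subfieldSubgroup F₁ P) : Geom K := by
  classical
  have hn0 : 0 < n := by omega
  have hrp := hR.prime
  obtain ⟨p, hpc⟩ := CharP.exists F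
  obtain ⟨f, hp, hqf⟩ := FiniteField.card F p
  have hf0 : 0 < (f : ℕ) := f.pos
  have hrne : r ≠ p := by
    rintro rfl
    apply hrq
    rw [hqf]
    exact dvd_pow_self _ hf0.ne'
  obtain ⟨z, hz⟩ : ∃ z, z = Nat.card (Subgroup.center R) := ⟨_, rfl⟩
  rw [← hz] at hcen hcard
  have hq1 : 1 ≤ Fintype.card F := Fintype.card_pos
  have hzq : z ∣ p ^ (f : ℕ) - 1 := by
    rw [← hqf, hcen]
    exact Nat.gcd_dvd_right _ _
  -- `z ≠ 1`
  have hz1 : z ≠ 1 := by
    intro h1
    have hfact : Fact r.Prime := ⟨hrp⟩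
    have hnt : Nontrivial R := by
      rw [← Finite.one_lt_card_iff_nontrivial, hcard, h1, one_mul]
      exact Nat.one_lt_pow (by omega) hrp.one_lt
    have := hR.pGroup.center_nontrivial
    rw [← Finite.one_lt_card_iff_nontrivial, ← hz] at this
    omega
  have hzcases : (r ≠ 2 ∧ z = r) ∨ (r = 2 ∧ (z = 2 ∨ z = 4)) := by
    by_cases h2 : r = 2
    · right
      refine ⟨h2, ?_⟩
      have h4 : z = Nat.gcd 4 (Fintype.card F - 1) := by
        rw [hcen, h2, Nat.gcd_self]
      have hqodd : ¬ 2 ∣ Fintype.card F := h2 ▸ hrq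
      have hdvd4 : z ∣ 4 := h4 ▸ Nat.gcd_dvd_left _ _
      have h2z : 2 ∣ z := h4 ▸ Nat.dvd_gcd (by norm_num) (by omega)
      have hle : z ≤ 4 := Nat.le_of_dvd (by norm_num) hdvd4
      interval_cases z <;> omega
    · left
      refine ⟨h2, ?_⟩
      have hodd : Nat.gcd 2 r = 1 := (Nat.coprime_primes Nat.prime_two hrp).2 (Ne.symm h2)
      have h4 : z = Nat.gcd r (Fintype.card F - 1) := by
        rw [hcen, hodd, mul_one]
      have hdvd : z ∣ r := h4 ▸ Nat.gcd_dvd_left _ _
      rcases (Nat.dvd_prime hrp).1 hdvd with h | h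
      · exact absurd h hz1
      · exact h
  have htc := fun x hx => trace_cases hn0 R htr x hx
  rw [← hz] at htc
  by_cases hz2 : z = 2
  · -- orthogonal or symplectic
    have htinv : ∀ x ∈ R, Matrix.trace (((x⁻¹ : GL (Fin n) F)) : Mat) =
        Matrix.trace ((x : GL (Fin n) F) : Mat) := by
      intro x hx
      rcases htc x hx with ⟨h1, h2⟩ | ⟨c, hc, h1, h2⟩
      · rw [h1, h2]
      · rw [h1, h2]
        rw [hz2, pow_two] at hc
        rw [inv_eq_of_mul_eq_one_right hc]
    rcases hC2 htinv with ⟨fs, hfs, hfix⟩ | ⟨hodd, Q, hQ, hfix⟩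
    · obtain ⟨hK, heven⟩ := hC4a fs hfs hfix
      refine ⟨similarityGroup fs, ?_, hK⟩
      right; right; right; right; right; right; right; right; right; left
      obtain ⟨k, hk⟩ := heven
      exact ⟨fs, hfs, ⟨k, hk⟩, by omega, rfl⟩
    · have hK := hC4c hodd Q hQ hfix
      refine ⟨quadSimilarityGroup Q, ?_, hK⟩
      right; right; right; right; right; right; right; right; right; right; right
      exact ⟨Q, hQ, hodd, hn, rfl⟩
  · have hz34 : (r ≠ 2 ∧ z = r) ∨ (r = 2 ∧ z = 4) := by
      rcases hzcases with h | ⟨h1, h2 | h2⟩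
      · exact Or.inl h
      · exact absurd h2 hz2
      · exact Or.inr ⟨h1, h2⟩
    by_cases hsub : ∃ d, 0 < d ∧ d < (f : ℕ) ∧ z ∣ p ^ d - 1
    · -- subfield case
      obtain ⟨d, hd0, hdf, hzd⟩ := hsub
      obtain ⟨F₀, hF₀⟩ := exists_fixedField (F := F) p hp d
      have htrF : ∀ x ∈ R, Matrix.trace ((x : GL (Fin n) F) : Mat) ∈ F₀ := by
        intro x hx
        rcases htc x hx with ⟨h1, -⟩ | ⟨c, hc, h1, -⟩
        · rw [h1]; exact F₀.zero_mem
        · rw [h1]
          refine F₀.mul_mem ?_ (natCast_mem F₀ n)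
          rw [hF₀]
          exact pow_eq_self_of_root c z (p ^ d) hc (Nat.one_le_pow _ _ hp.pos) hzd
      have hne : F₀ ≠ ⊤ := by
        intro htop
        obtain ⟨x, hx⟩ := exists_not_fixed (F := F) p f d hp hqf hd0 hdf
        apply hx
        rw [← hF₀, htop]
        exact Subfield.mem_top x
      obtain ⟨F₁, r', P, hr', hcF, hK⟩ := hC6 F₀ hne (hC5 F₀ htrF)
      refine ⟨subfieldSubgroup F₁ P, ?_, hK⟩
      right; right; right; right; right; right; left
      exact ⟨F₁, r', P, hr', hcF, rfl⟩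
    · have hmin : ∀ d : ℕ, 0 < d → d < (f : ℕ) → ¬ z ∣ p ^ d - 1 := by
        intro d hd0 hdf hzd
        exact hsub ⟨d, hd0, hdf, hzd⟩
      have hpodd_of : r = 2 → Odd p := by
        intro h2
        rcases hp.eq_two_or_odd' with h | h
        · exfalso
          apply hrq
          rw [h2, hqf, h]
          exact dvd_pow_self _ hf0.ne'
        · exact h
      rcases Nat.even_or_odd (f : ℕ) with ⟨h, hh⟩ | hfodd
      · -- unitary case
        have hh0 : 0 < h := by omega
        have hhf : h < (f : ℕ) := by omega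
        have hP1 : 1 ≤ p ^ h := Nat.one_le_pow _ _ hp.pos
        have hzP : z ∣ p ^ h + 1 := by
          have hprod : p ^ (f : ℕ) - 1 = (p ^ h - 1) * (p ^ h + 1) := by
            rw [hh, pow_add]
            obtain ⟨t, ht⟩ : ∃ t, p ^ h = t + 1 := ⟨p ^ h - 1, by omega⟩
            rw [ht]
            simp only [Nat.add_sub_cancel]
            ring_nf
            omega
          rcases hz34 with ⟨-, hzr⟩ | ⟨h2, hz4⟩
          · rw [hprod, hzr] at hzq
            rcases (Nat.Prime.dvd_mul hrp).1 hzq with h1 | h1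
            · exact absurd (hzr ▸ h1) (hmin h hh0 hhf)
            · exact hzr ▸ h1
          · have hodd : Odd (p ^ h) := (hpodd_of h2).pow
            have hnot := hmin h hh0 hhf
            rw [hz4] at hnot ⊢
            obtain ⟨j, hj⟩ := hodd
            omega
        obtain ⟨σ, hσ⟩ := exists_frobEquiv (F := F) p hp h
        have hσne : σ ≠ RingEquiv.refl F := by
          intro hrefl
          obtain ⟨x, hx⟩ := exists_not_fixed (F := F) p f h hp hqf hh0 hhf
          apply hx
          rw [← hσ, hrefl]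
          rfl
        have hσ2 : ∀ a, σ (σ a) = a := by
          intro a
          rw [hσ, hσ, ← pow_mul, ← pow_add, ← hh, ← hqf]
          exact FiniteField.pow_card a
        have htrσ : ∀ x ∈ R, Matrix.trace (((x⁻¹ : GL (Fin n) F)) : Mat) =
            σ (Matrix.trace ((x : GL (Fin n) F) : Mat)) := by
          intro x hx
          rcases htc x hx with ⟨h1, h2⟩ | ⟨c, hc, h1, h2⟩
          · rw [h1, h2, map_zero]
          · rw [h1, h2, map_mul, map_natCast, hσ, pow_eq_inv_of_root c z (p ^ h) hc hzP]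
        obtain ⟨fu, hfu, hfix⟩ := hC3 σ hσne hσ2 htrσ
        have hK := hC4b σ fu hfu hfix
        refine ⟨similarityGroup fu, ?_, hK⟩
        right; right; right; right; right; right; right; right; right; right; left
        exact ⟨σ, fu, hfu, hn, rfl⟩
      · -- class 6
        have hminF : IsMinimalFieldFor (Nat.card (Subgroup.center R)) p (f : ℕ) F := by
          rw [← hz]
          exact ⟨hp, hpc, hqf, hzq, hmin⟩
        have hdata : IsLinearSymplecticTypeData r R := by
          refine ⟨hR, absIrred_of_spanAlg_eq_top R hspan, p, (f : ℕ), hrne, hminF, ?_⟩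
          rcases hz34 with ⟨hr2, hzr⟩ | ⟨h2, hz4⟩
          · left
            refine ⟨hrp.eq_two_or_odd'.resolve_left hr2, hfodd, hz ▸ hzr, m, hm, ?_⟩
            rw [hcard, hzr, pow_add, pow_one]
          · right; left
            have hf1 : (f : ℕ) = 1 := by
              by_contra hne1
              have h1f : 1 < (f : ℕ) := by omega
              have := hmin 1 Nat.one_pos h1f
              apply this
              rw [pow_one, hz4]
              rw [hz4] at hzq
              exact four_dvd_sub_one_of_odd_pow p f (hpodd_of h2) hfodd hzq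
            refine ⟨h2, hf1, hz ▸ hz4, ?_, m, ?_⟩
            · rw [Fintype.card_fin]
              have : 2 ≤ m := by
                by_contra hm2
                have : m = 1 := by omega
                rw [this, h2] at hnm
                omega
              have h22 : 2 ^ 2 ≤ 2 ^ m := Nat.pow_le_pow_right (by norm_num) this
              rw [hnm, h2]
              omega
            · rw [hcard, hz4, h2, pow_add]
              norm_num
        refine ⟨subgroupNormalizer R, ?_, le_subgroupNormalizer_of_normBy K R hKR⟩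
        right; right; right; right; right; right; right; left
        exact ⟨r, R, hdata, rfl⟩

end FiniteField2

end Cfsg.Agent.Lib.Helper19.Asch
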