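import Mathlib
import Cfsg.Agent.Lib.Helper50.MatType

set_option autoImplicit false

/-! K-S5673-SS: non-degenerate symmetric forms of the same odd dimension over a finite field of
odd order are similar. -/

namespace Cfsg.Agent.Lib.Helper19.AschO

open Matrix

variable {F : Type*} [Field F] [Fintype F]

/-- K-S5673-SS. -/
theorem exists_similar (h2 : (2 : F) ≠ 0) (k : ℕ) (hk : Odd k) (g g' : Matrix (Fin k) (Fin k) F)
    (hg : gᵀ = g) (hg' : g'ᵀ = g') (hu : IsUnit g) (hu' : IsUnit g') :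
    ∃ (h : GL (Fin k) F) (c : F), c ≠ 0 ∧
      (h : Matrix (Fin k) (Fin k) F)ᵀ * g * (h : Matrix (Fin k) (Fin k) F) = c • g' := by
  have hd : g.det ≠ 0 := by
    have := (Matrix.isUnit_iff_isUnit_det g).1 hu
    exact this.ne_zero
  have hd' : g'.det ≠ 0 := by
    have := (Matrix.isUnit_iff_isUnit_det g').1 hu'
    exact this.ne_zero
  set c : F := g.det * g'.det with hc
  have hc0 : c ≠ 0 := mul_ne_zero hd hd'
  have hM : (c • g')ᵀ = c • g' := by rw [Matrix.transpose_smul, hg']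
  have hdetM : (c • g').det = c ^ k * g'.det := by
    rw [Matrix.det_smul, Fintype.card_fin]
  have hdetM0 : (c • g').det ≠ 0 := by
    rw [hdetM]; exact mul_ne_zero (pow_ne_zero _ hc0) hd'
  obtain ⟨j, hj⟩ := hk
  have hsq : IsSquare ((c • g').det * g.det) := by
    refine ⟨c ^ (j + 1), ?_⟩
    rw [hdetM]
    have e1 : c ^ k * g'.det * g.det = c ^ k * c := by rw [hc]; ring
    have e2 : c ^ k = c ^ (2 * j + 1) := by rw [hj]
    rw [e1, e2]; ring
  obtain ⟨P, hP⟩ := Cfsg.Agent.Lib.Helper50.congr_of_det h2 hM hg hdetM0 hd hsq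
  exact ⟨P, c, hc0, hP⟩

end Cfsg.Agent.Lib.Helper19.AschO
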