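import Cfsg.Agent.Lib.Helper19.OEvenType2

set_option autoImplicit false

/-! Keystone K-OEvenX-X4 (582624). -/

namespace Cfsg.Agent.Lib.Helper19.OEvenX

open Cfsg Cfsg.Geo

variable {F : Type*} [Field F] [Fintype F] {n : ℕ}

/-- K-OEvenX-X4.  Characteristic 2, an even number of pairwise orthogonal isometric pieces. -/
theorem plus_of_even_decomposition_char_two (h2 : (2 : F) = 0) (Q : (Fin n → F) → F)
    (hQ : IsNondegenerateQuadraticForm Q)
    {t k : ℕ} (D : Fin t → Submodule F (Fin n → F)) (hD : IsOrthogonalMDecomposition Q k D)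
    (ht : Even t) : IsPlusTypeOn Q ⊤ :=
  Cfsg.Agent.Lib.Helper19.OEvenType.isPlusTypeOn_top_of_even_decomposition_char_two Q hQ h2 D hD ht

end Cfsg.Agent.Lib.Helper19.OEvenX
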