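import Mathlib
import Cfsg.Agent.Lib.Helper19.DicksonUse
import Cfsg.Agent.Lib.Helper04.BurnsidePQ

set_option autoImplicit false
set_option linter.unusedSimpArgs false
set_option linter.unusedSectionVars false

/-! # Solvable and nonsolvable subgroups of `PSL₂(q)`, for the minimal simple groups -/

namespace Cfsg.Agent.Lib.Helper19.MinSimple

open Matrix Cfsg.Agent.Lib.Helper60 Cfsg.Agent.S0807 Cfsg.Agent.S0808 Cfsg.Agent.S0802
open Cfsg.Agent.Lib.Helper19.TwoTrans Cfsg.Agent.Lib.Helper19.DicksonUse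

section general

theorem solvable_of_card_23 {G : Type*} [Group G] [Finite G] (a b : ℕ)
    (h : Nat.card G = 2 ^ a * 3 ^ b) : Group.IsSolvable G :=
  Cfsg.Agent.Lib.Helper04.burnside_paqb 2 3 a b Nat.prime_two Nat.prime_three h

theorem solvable_of_mulEquiv {H X : Type*} [Group H] [Group X] (e : H ≃* X)
    (hX : Group.IsSolvable X) : Group.IsSolvable H :=
  Group.isSolvable_of_isSolvable_injective (f := e.toMonoidHom) e.injective

/-- the parity character of a dihedral group -/
def dihSign (k : ℕ) : DihedralGroup k →* Multiplicative (ZMod 2) :=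
  MonoidHom.mk' (fun x => match x with
    | DihedralGroup.r _ => 1
    | DihedralGroup.sr _ => Multiplicative.ofAdd 1) (by
      rintro (i | i) (j | j)
      · simp
      · simp
      · simp
      · simp only [DihedralGroup.sr_mul_sr]
        decide)

theorem dihedral_solvable (k : ℕ) : Group.IsSolvable (DihedralGroup k) := by
  have hker : ∀ x ∈ (dihSign k).ker, ∀ y ∈ (dihSign k).ker, x * y = y * x := by
    rintro (i | i) hx (j | j) hy
    · simp [add_comm]
    · exfalso
      rw [MonoidHom.mem_ker] at hy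
      revert hy
      simp [dihSign]
    · exfalso
      rw [MonoidHom.mem_ker] at hx
      revert hx
      simp [dihSign]
    · exfalso
      rw [MonoidHom.mem_ker] at hx
      revert hx
      simp [dihSign]
  have h1 : Group.IsSolvable (dihSign k).ker :=
    Group.isSolvable_of_comm (fun a b => Subtype.ext (hker a.1 a.2 b.1 b.2))
  exact Group.isSolvable_of_ker_le_range (dihSign k).ker.subtype (dihSign k)
    (by rw [Subgroup.range_subtype])

theorem not_solvable_A5 : ¬ Group.IsSolvable (alternatingGroup (Fin 5)) := by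
  intro hs
  have hc := IsSimpleGroup.comm_iff_isSolvable.mpr hs
  let _ : CommGroup (alternatingGroup (Fin 5)) :=
    { (inferInstance : Group (alternatingGroup (Fin 5))) with mul_comm := hc }
  have hp := IsSimpleGroup.prime_card (α := alternatingGroup (Fin 5))
  rw [nat_card_alternatingGroup] at hp
  simp at hp
  revert hp
  decide

end general


section psl
variable {F : Type*} [Field F]

theorem psl2_exists_not_comm :
    ∃ a b : Matrix.ProjectiveSpecialLinearGroup (Fin 2) F, a * b ≠ b * a := by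
  refine ⟨QuotientGroup.mk (umat 1), QuotientGroup.mk (lmat 1), ?_⟩
  rw [← QuotientGroup.mk_mul, ← QuotientGroup.mk_mul]
  intro h
  rw [mk_eq_mk_iff] at h
  rcases h with h | h
  · have h00 := congrArg (fun M : Matrix.SpecialLinearGroup (Fin 2) F => M.1 0 0) h
    simp [m00] at h00
  · have h00 : (umat (1 : F) * lmat 1).1 0 0 = (-(lmat (1 : F) * umat 1)).1 0 0 := by rw [h]
    have h01 : (umat (1 : F) * lmat 1).1 0 1 = (-(lmat (1 : F) * umat 1)).1 0 1 := by rw [h]
    rw [Matrix.SpecialLinearGroup.coe_neg, Matrix.neg_apply, m00, m00] at h00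
    rw [Matrix.SpecialLinearGroup.coe_neg, Matrix.neg_apply, m01, m01] at h01
    simp at h00 h01
    have : (1 : F) = 0 := by linear_combination h00 - h01
    exact one_ne_zero this

theorem psl2_not_isMulCommutative :
    ¬ IsMulCommutative (Matrix.ProjectiveSpecialLinearGroup (Fin 2) F) := by
  intro h
  obtain ⟨a, b, hab⟩ := psl2_exists_not_comm (F := F)
  exact hab (h.is_comm.comm a b)

theorem not_solvable_psl2 [Finite F] (h : 4 ≤ Nat.card F) :
    ¬ Group.IsSolvable (Matrix.ProjectiveSpecialLinearGroup (Fin 2) F) := by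
  intro hs
  have := Matrix.ProjectiveSpecialLinearGroup.rank_two_simple h
  have hc := IsSimpleGroup.comm_iff_isSolvable.mpr hs
  obtain ⟨a, b, hab⟩ := psl2_exists_not_comm (F := F)
  exact hab (hc a b)

/-- the upper triangular subgroup of `SL₂` is solvable -/
theorem NB_top_solvable [Finite F] :
    Group.IsSolvable (NB (⊤ : Subgroup (Matrix.SpecialLinearGroup (Fin 2) F))) := by
  set θu := (theta (⊤ : Subgroup (Matrix.SpecialLinearGroup (Fin 2) F))).toHomUnits with hθ
  have hker : ∀ x ∈ θu.ker, ∀ y ∈ θu.ker, x * y = y * x := by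
    intro x hx y hy
    have hform : ∀ z ∈ θu.ker, z.1 = umat (z.1.1 0 1) := by
      intro z hz
      rw [MonoidHom.mem_ker] at hz
      have h00 : z.1.1 0 0 = 1 := by
        have := congrArg Units.val hz
        rwa [MonoidHom.coe_toHomUnits, theta_apply] at this
      have h10 : z.1.1 1 0 = 0 := z.2.2
      have hd := sl2_det z.1
      rw [h10, h00, mul_zero, sub_zero, one_mul] at hd
      apply sl_ext <;> simp [h00, h10, hd]
    apply Subtype.ext
    show x.1 * y.1 = y.1 * x.1
    rw [hform x hx, hform y hy, ← umat_add, ← umat_add, add_comm]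
  have h1 : Group.IsSolvable θu.ker :=
    Group.isSolvable_of_comm (fun a b => Subtype.ext (hker a.1 a.2 b.1 b.2))
  exact Group.isSolvable_of_ker_le_range θu.ker.subtype θu (by rw [Subgroup.range_subtype])

theorem Bbar_solvable [Finite F] : Group.IsSolvable (Bbar F) := by
  have := NB_top_solvable (F := F)
  exact Group.isSolvable_of_surjective (f := (QuotientGroup.mk' (Subgroup.center
    (Matrix.SpecialLinearGroup (Fin 2) F))).subgroupMap
      (NB (⊤ : Subgroup (Matrix.SpecialLinearGroup (Fin 2) F))))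
    (MonoidHom.subgroupMap_surjective _ _)

theorem solvable_of_le_Bbar [Finite F] (K : Subgroup (Matrix.ProjectiveSpecialLinearGroup (Fin 2) F))
    (h : K ≤ Bbar F) : Group.IsSolvable K := by
  have := Bbar_solvable (F := F)
  exact Group.isSolvable_of_isSolvable_injective (Subgroup.inclusion_injective h)

theorem mem_Bbar_of_upper [Finite F] (y : Matrix.SpecialLinearGroup (Fin 2) F) (hy : y.1 1 0 = 0) :
    (QuotientGroup.mk y : Matrix.ProjectiveSpecialLinearGroup (Fin 2) F) ∈ Bbar F :=
  ⟨y, ⟨Subgroup.mem_top _, hy⟩, rfl⟩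

/-- the normaliser of a nontrivial subgroup of `Ubar` lies in the Borel subgroup -/
theorem normalizer_le_Bbar [Finite F] (Q : Subgroup (Matrix.ProjectiveSpecialLinearGroup (Fin 2) F))
    (hQU : Q ≤ Ubar F) (hQ : Q ≠ ⊥) :
    Subgroup.normalizer (Q : Set (Matrix.ProjectiveSpecialLinearGroup (Fin 2) F)) ≤ Bbar F := by
  obtain ⟨z, hz1⟩ := (Subgroup.ne_bot_iff_exists_ne_one).mp hQ
  obtain ⟨a, ha⟩ := hQU z.2
  have ha0 : a ≠ 0 := by
    rintro rfl
    rw [umat_zero] at ha
    exact hz1 (Subtype.ext ha)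
  intro g hg
  obtain ⟨y, rfl⟩ := QuotientGroup.mk_surjective g
  apply mem_Bbar_of_upper
  have h1 := (Subgroup.mem_normalizer_iff.mp hg _).mp z.2
  rw [ha, ← QuotientGroup.mk_mul, ← QuotientGroup.mk_inv, ← QuotientGroup.mk_mul] at h1
  obtain ⟨a', ha'⟩ := hQU h1
  rw [mk_eq_mk_iff] at ha'
  have h2 : (y * umat a * y⁻¹).1 1 0 = 0 := by
    rcases ha' with h | h
    · rw [h]; simp
    · rw [h]; simp
  rw [conj_u10] at h2
  have h3 : a * (y.1 1 0) ^ 2 = 0 := neg_eq_zero.mp h2
  rcases mul_eq_zero.mp h3 with h | h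
  · exact absurd h ha0
  · exact pow_eq_zero_iff (two_ne_zero) |>.mp h


theorem solvable_of_le_normalizer_sylow [Fintype F] (p : ℕ) [Fact p.Prime] [CharP F p]
    (P : Sylow p (Matrix.ProjectiveSpecialLinearGroup (Fin 2) F))
    (K : Subgroup (Matrix.ProjectiveSpecialLinearGroup (Fin 2) F))
    (hK : K ≤ Subgroup.normalizer ((P : Subgroup (Matrix.ProjectiveSpecialLinearGroup (Fin 2) F)) :
      Set (Matrix.ProjectiveSpecialLinearGroup (Fin 2) F))) : Group.IsSolvable K := by
  classical
  obtain ⟨x, hx⟩ := normalize1 p (P : Subgroup (Matrix.ProjectiveSpecialLinearGroup (Fin 2) F))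
    P.isPGroup'
  set Q := (P : Subgroup (Matrix.ProjectiveSpecialLinearGroup (Fin 2) F)).map
    (MulAut.conj x).toMonoidHom with hQ
  have hpq : p ∣ Fintype.card F := (CharP.cast_eq_zero_iff F p (Fintype.card F)).1 (by simp)
  have hpG : p ∣ Nat.card (Matrix.ProjectiveSpecialLinearGroup (Fin 2) F) := by
    refine dvd_trans hpq ?_
    rw [← card_Ubar]
    exact Subgroup.card_subgroup_dvd_card _
  have hPne : (P : Subgroup (Matrix.ProjectiveSpecialLinearGroup (Fin 2) F)) ≠ ⊥ :=
    P.ne_bot_of_dvd_card hpG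
  have hQne : Q ≠ ⊥ := by
    intro h
    apply hPne
    rw [hQ] at h
    exact (Subgroup.map_eq_bot_iff_of_injective _ (MulAut.conj x).injective).mp h
  have hN := normalizer_le_Bbar Q hx hQne
  have hKx : K.map (MulAut.conj x).toMonoidHom ≤ Bbar F := by
    refine le_trans (Subgroup.map_mono hK) ?_
    rw [Subgroup.map_equiv_normalizer_eq]
    exact hN
  have h1 := solvable_of_le_Bbar _ hKx
  exact solvable_of_mulEquiv (K.equivMapOfInjective _ (MulAut.conj x).injective) h1

/-- a proper nonsolvable subgroup coming from a proper subfield with at least four elements -/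
theorem exists_proper_nonsolvable_subfield [Fintype F] (K : Type*) [Field K] [Fintype K]
    (b : ℕ) (hb : 2 ≤ b) (hK : Fintype.card K ^ b = Fintype.card F) (hK4 : 4 ≤ Fintype.card K) :
    ∃ H : Subgroup (Matrix.ProjectiveSpecialLinearGroup (Fin 2) F), H ≠ ⊤ ∧
      ¬ Group.IsSolvable H := by
  obtain ⟨f⟩ := Cfsg.Agent.S0805.exists_ringHom (K := K) (F := F) b (by omega) hK
  obtain ⟨H, ⟨e⟩⟩ := Cfsg.Agent.S0805.exists_psl (K := K) (F := F) f
  refine ⟨H, ?_, ?_⟩
  · intro hH
    have hc : Nat.card H = Nat.card (Matrix.ProjectiveSpecialLinearGroup (Fin 2) F) := by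
      rw [hH]; exact Subgroup.card_top
    rw [Nat.card_congr e.toEquiv] at hc
    have h1 := card_psl_le_sl K
    have h2 := card_psl_mul_d (F := F)
    rw [← hc] at h2
    set r := Fintype.card K with hr
    set q := Fintype.card F with hq
    have hd2 := gcd_two_le (q - 1)
    have hqr : r * r ≤ q := by
      rw [← hK]
      calc r * r = r ^ 2 := (pow_two r).symm
        _ ≤ r ^ b := Nat.pow_le_pow_right (by omega) hb
    -- q (q q - 1) ≤ 2 r (r r - 1), impossible
    have h3 : q * (q * q - 1) ≤ r * (r * r - 1) * 2 := by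
      rw [← h2]
      exact Nat.mul_le_mul h1 hd2
    have h4 : r * r ≥ 4 * r := Nat.mul_le_mul_right r hK4
    have h5 : q * q ≥ (r * r) * (r * r) := Nat.mul_le_mul hqr hqr
    have h6 : r * r - 1 < q * q - 1 := by
      have : r * r < q * q := by nlinarith
      omega
    have h7 : r * 2 ≤ q := by nlinarith
    have h8 : r * (r * r - 1) * 2 < q * (q * q - 1) := by
      calc r * (r * r - 1) * 2 = (r * 2) * (r * r - 1) := by ring
        _ ≤ q * (r * r - 1) := Nat.mul_le_mul_right _ h7
        _ < q * (q * q - 1) := Nat.mul_lt_mul_of_pos_left h6 (by omega)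
    omega
  · intro hs
    have h1 : Group.IsSolvable (Matrix.ProjectiveSpecialLinearGroup (Fin 2) K) :=
      solvable_of_mulEquiv e.symm hs
    exact not_solvable_psl2 (by rw [Nat.card_eq_fintype_card]; exact hK4) h1


theorem eq_top_of_same_card [Fintype F] (K : Type*) [Field K] [Fintype K]
    (hr : Fintype.card K = Fintype.card F)
    (H : Subgroup (Matrix.ProjectiveSpecialLinearGroup (Fin 2) F))
    (hH : Nonempty (H ≃* Matrix.ProjectiveSpecialLinearGroup (Fin 2) K) ∨
      Nonempty (H ≃* Matrix.ProjGenLinGroup (Fin 2) K)) : H = ⊤ := by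
  apply Subgroup.eq_top_of_le_card
  have hGd := card_psl_mul_d (F := F)
  have hdpos := gcd_two_pos (Fintype.card F - 1)
  rcases hH with ⟨⟨e⟩⟩ | ⟨⟨e⟩⟩
  · rw [Nat.card_congr e.toEquiv]
    have h1 := card_psl_mul_d (F := K)
    rw [hr] at h1
    have : Nat.card (Matrix.ProjectiveSpecialLinearGroup (Fin 2) K) *
        Nat.gcd 2 (Fintype.card F - 1) =
        Nat.card (Matrix.ProjectiveSpecialLinearGroup (Fin 2) F) *
          Nat.gcd 2 (Fintype.card F - 1) := by
      rw [h1, hGd]
    exact (Nat.eq_of_mul_eq_mul_right hdpos this).ge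
  · rw [Nat.card_congr e.toEquiv, card_pgl K, hr, ← hGd]
    exact Nat.le_mul_of_pos_right _ hdpos

theorem solvable_proper [Fintype F] (p : ℕ) [Fact p.Prime] [CharP F p]
    (hA5 : ¬ 5 ∣ Fintype.card F * (Fintype.card F * Fintype.card F - 1) ∨
      Nat.card (Matrix.ProjectiveSpecialLinearGroup (Fin 2) F) = 60)
    (hsub : ∀ r m : ℕ, r ^ m = Fintype.card F → 2 ≤ r → m = 1 ∨ r = 2 ∨ r = 3)
    (H : Subgroup (Matrix.ProjectiveSpecialLinearGroup (Fin 2) F)) (hH : H ≠ ⊤)
    (hD : DConcl F (Fintype.card F) p H) : Group.IsSolvable H := by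
  classical
  rcases hD with ⟨k, hk, hH'⟩ | ⟨P, K, hK, ⟨e⟩⟩ | ⟨⟨e⟩⟩ | ⟨⟨e⟩⟩ | ⟨⟨e⟩⟩ | ⟨K, _, _, m, hm, hH'⟩
  · rcases hH' with ⟨hc, _⟩ | ⟨⟨e⟩⟩
    · exact Group.isSolvable_of_comm (fun a b => by
        let _ := IsCyclic.commGroup (α := H)
        exact mul_comm a b)
    · exact solvable_of_mulEquiv e (dihedral_solvable k)
  · exact solvable_of_mulEquiv e (solvable_of_le_normalizer_sylow p P K hK)
  · apply solvable_of_card_23 2 1
    rw [Nat.card_congr e.toEquiv, nat_card_alternatingGroup]; simp; decide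
  · apply solvable_of_card_23 3 1
    rw [Nat.card_congr e.toEquiv, Nat.card_perm]; simp; decide
  · exfalso
    have hc : Nat.card H = 60 := by
      rw [Nat.card_congr e.toEquiv, nat_card_alternatingGroup]; simp; decide
    have hlag : Nat.card H ∣ Nat.card (Matrix.ProjectiveSpecialLinearGroup (Fin 2) F) :=
      Subgroup.card_subgroup_dvd_card H
    rcases hA5 with h5 | h60
    · apply h5
      rw [← card_psl_mul_d]
      rw [hc] at hlag
      exact dvd_mul_of_dvd_left (dvd_trans (by norm_num) hlag) _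
    · apply hH
      apply Subgroup.eq_top_of_card_eq
      rw [hc, h60]
  · have hr2 : 2 ≤ Fintype.card K := Fintype.one_lt_card
    rcases hsub _ _ hm hr2 with h1 | h2 | h3
    · exfalso
      apply hH
      rw [h1, pow_one] at hm
      exact eq_top_of_same_card K hm H hH'
    · -- the field with two elements
      have hpsl : Nat.card (Matrix.ProjectiveSpecialLinearGroup (Fin 2) K) = 6 := by
        have := card_psl_mul_d (F := K)
        rw [h2] at this
        simpa using this
      have hpgl : Nat.card (Matrix.ProjGenLinGroup (Fin 2) K) = 6 := by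
        rw [card_pgl K, h2]
      apply solvable_of_card_23 1 1
      rcases hH' with ⟨⟨e⟩⟩ | ⟨⟨e⟩⟩
      · rw [Nat.card_congr e.toEquiv, hpsl]; norm_num
      · rw [Nat.card_congr e.toEquiv, hpgl]; norm_num
    · -- the field with three elements
      have hpsl : Nat.card (Matrix.ProjectiveSpecialLinearGroup (Fin 2) K) = 12 := by
        have := card_psl_mul_d (F := K)
        rw [h3] at this
        have h' : Nat.card (Matrix.ProjectiveSpecialLinearGroup (Fin 2) K) * 2 = 24 := by
          simpa using this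
        omega
      have hpgl : Nat.card (Matrix.ProjGenLinGroup (Fin 2) K) = 24 := by
        rw [card_pgl K, h3]
      rcases hH' with ⟨⟨e⟩⟩ | ⟨⟨e⟩⟩
      · apply solvable_of_card_23 2 1
        rw [Nat.card_congr e.toEquiv, hpsl]; norm_num
      · apply solvable_of_card_23 3 1
        rw [Nat.card_congr e.toEquiv, hpgl]; norm_num

end psl


section arith

theorem pow_eq_prime_pow {l : ℕ} (hl : l.Prime) {r m ρ : ℕ} (hρ : ρ.Prime) (h : r ^ m = l ^ ρ)
    (hr : 2 ≤ r) : m = 1 ∨ r = l := by
  have hm0 : m ≠ 0 := by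
    rintro rfl
    rw [pow_zero] at h
    have : 1 < l ^ ρ := Nat.one_lt_pow hρ.ne_zero hl.one_lt
    omega
  have hdvd : r ∣ l ^ ρ := by
    rw [← h]; exact dvd_pow_self r hm0
  obtain ⟨a, -, rfl⟩ := (Nat.dvd_prime_pow hl).mp hdvd
  rw [← pow_mul] at h
  have ham : a * m = ρ := Nat.pow_right_injective hl.two_le h
  have ha : a ∣ ρ := ⟨m, ham.symm⟩
  rcases (Nat.dvd_prime hρ).mp ha with h1 | h1
  · right; rw [h1, pow_one]
  · left
    rw [h1] at ham
    have hρpos : 0 < ρ := hρ.pos
    exact Nat.eq_of_mul_eq_mul_left hρpos (by rw [ham, mul_one])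

theorem pow_eq_prime {q r m : ℕ} (hq : q.Prime) (h : r ^ m = q) (hr : 2 ≤ r) : m = 1 := by
  have h' : r ^ m = q ^ 1 := by rw [pow_one]; exact h
  have h1 : (1 : ℕ).Prime → False := Nat.not_prime_one
  have hm0 : m ≠ 0 := by
    rintro rfl
    rw [pow_zero] at h
    exact Nat.not_prime_one (h ▸ hq)
  have hdvd : r ∣ q := by rw [← h]; exact dvd_pow_self r hm0
  rcases (Nat.dvd_prime hq).mp hdvd with h2 | h2
  · omega
  · rw [h2] at h'
    exact Nat.pow_right_injective hq.two_le h'

theorem four_pow_odd_mod (c : ℕ) : 4 ^ (2 * c + 1) % 5 = 4 := by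
  rw [pow_succ, pow_mul, Nat.mul_mod, Nat.pow_mod]
  norm_num

theorem nine_pow_odd_mod (c : ℕ) : 9 ^ (2 * c + 1) % 5 = 4 := by
  rw [pow_succ, pow_mul, Nat.mul_mod, Nat.pow_mod]
  norm_num

theorem not_dvd_of_mods {q : ℕ} (h1 : q % 5 ≠ 0) (h2 : (q * q) % 5 = 4) :
    ¬ 5 ∣ q * (q * q - 1) := by
  intro h
  rcases (Nat.Prime.dvd_mul Nat.prime_five).mp h with h3 | h3
  · exact h1 (Nat.mod_eq_zero_of_dvd h3)
  · have := Nat.mod_eq_zero_of_dvd h3
    omega

theorem list_facts {q : ℕ}
    (hq : (∃ r : ℕ, r.Prime ∧ q = 2 ^ r) ∨ (∃ r : ℕ, r.Prime ∧ r ≠ 2 ∧ q = 3 ^ r) ∨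
      (q.Prime ∧ 5 < q ∧ (q % 5 = 2 ∨ q % 5 = 3)) ∨ q = 5) :
    4 ≤ q ∧ (¬ 5 ∣ q * (q * q - 1) ∨ q = 4 ∨ q = 5) ∧
      (∀ r m : ℕ, r ^ m = q → 2 ≤ r → m = 1 ∨ r = 2 ∨ r = 3) := by
  rcases hq with ⟨ρ, hρ, rfl⟩ | ⟨ρ, hρ, hρ2, rfl⟩ | ⟨hqp, hq5, hmod⟩ | rfl
  · refine ⟨?_, ?_, ?_⟩
    · calc 4 = 2 ^ 2 := by norm_num
        _ ≤ 2 ^ ρ := Nat.pow_le_pow_right (by norm_num) hρ.two_le
    · rcases hρ.eq_two_or_odd' with h2 | hodd
      · right; left; rw [h2]; norm_num
      · left
        obtain ⟨c, rfl⟩ := hodd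
        apply not_dvd_of_mods
        · intro h
          have h5 : 5 ∣ 2 ^ (2 * c + 1) := Nat.dvd_of_mod_eq_zero h
          have := Nat.Prime.dvd_of_dvd_pow Nat.prime_five h5
          omega
        · rw [← mul_pow]; exact four_pow_odd_mod c
    · intro r m h hr
      rcases pow_eq_prime_pow Nat.prime_two hρ h hr with h1 | h1
      · left; exact h1
      · right; left; exact h1
  · have hodd : Odd ρ := hρ.odd_of_ne_two hρ2
    obtain ⟨c, rfl⟩ := hodd
    refine ⟨?_, ?_, ?_⟩
    · calc 4 ≤ 3 ^ 2 := by norm_num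
        _ ≤ 3 ^ (2 * c + 1) := Nat.pow_le_pow_right (by norm_num) hρ.two_le
    · left
      apply not_dvd_of_mods
      · intro h
        have h5 : 5 ∣ 3 ^ (2 * c + 1) := Nat.dvd_of_mod_eq_zero h
        have := Nat.Prime.dvd_of_dvd_pow Nat.prime_five h5
        omega
      · rw [← mul_pow]; exact nine_pow_odd_mod c
    · intro r m h hr
      rcases pow_eq_prime_pow Nat.prime_three hρ h hr with h1 | h1
      · left; exact h1
      · right; right; exact h1
  · refine ⟨by omega, ?_, ?_⟩
    · left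
      apply not_dvd_of_mods
      · omega
      · rw [Nat.mul_mod]
        rcases hmod with h | h <;> rw [h]
    · intro r m h hr
      left; exact pow_eq_prime hqp h hr
  · refine ⟨by norm_num, Or.inr (Or.inr rfl), ?_⟩
    intro r m h hr
    left; exact pow_eq_prime Nat.prime_five h hr


theorem nine_pow_mod (c : ℕ) : 9 ^ c % 5 = 1 ∨ 9 ^ c % 5 = 4 := by
  induction c with
  | zero => left; norm_num
  | succ c ih =>
    rw [pow_succ, Nat.mul_mod]
    rcases ih with h | h <;> rw [h] <;> norm_num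

theorem sq_mod_five_of {q : ℕ} (h : q % 5 = 1 ∨ q % 5 = 4) : 5 ∣ q * (q ^ 2 - 1) := by
  have h1 : (q ^ 2) % 5 = 1 := by
    rw [pow_two, Nat.mul_mod]
    rcases h with h | h <;> rw [h]
  have h2 : 5 ∣ q ^ 2 - 1 := (Nat.modEq_iff_dvd' (by
    have : 0 < q ^ 2 := by
      apply Nat.pos_of_ne_zero
      intro h0
      rw [h0] at h1
      norm_num at h1
    omega)).mp (by
      show 1 % 5 = q ^ 2 % 5
      rw [h1])
  exact dvd_mul_of_dvd_right h2 _

theorem not_list_cases {p n q : ℕ} (hp : p.Prime) (hn : n ≠ 0) (hq : q = p ^ n) (h4 : 4 ≤ q)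
    (hlist : ¬ ((∃ r : ℕ, r.Prime ∧ q = 2 ^ r) ∨ (∃ r : ℕ, r.Prime ∧ r ≠ 2 ∧ q = 3 ^ r) ∨
      (q.Prime ∧ 5 < q ∧ (q % 5 = 2 ∨ q % 5 = 3)) ∨ q = 5)) :
    (∃ a b : ℕ, 2 ≤ b ∧ 4 ≤ p ^ a ∧ a ≠ 0 ∧ a * b = n) ∨ (5 ∣ q * (q ^ 2 - 1) ∧ 7 ≤ q) := by
  push Not at hlist
  obtain ⟨hl2, hl3, hlp, hl5⟩ := hlist
  have hcomp : ∀ l : ℕ, 2 ≤ l → 2 ≤ n → ¬ n.Prime → p = l →
      ∃ a b : ℕ, 2 ≤ b ∧ 4 ≤ p ^ a ∧ a ≠ 0 ∧ a * b = n := by
    intro l hl hn2 hnp hpl
    obtain ⟨a, ⟨b, hab⟩, ha2, han⟩ := Nat.exists_dvd_of_not_prime2 hn2 hnp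
    refine ⟨a, b, ?_, ?_, by omega, hab.symm⟩
    · by_contra hb
      have : b = 0 ∨ b = 1 := by omega
      rcases this with rfl | rfl
      · omega
      · omega
    · calc 4 = 2 ^ 2 := by norm_num
        _ ≤ p ^ 2 := Nat.pow_le_pow_left (by omega) 2
        _ ≤ p ^ a := Nat.pow_le_pow_right hp.pos ha2
  have hp2 := hp.two_le
  rcases Nat.lt_or_ge p 5 with hp5 | hp5
  · have hp23 : p = 2 ∨ p = 3 := by
      have : p ≠ 4 := by
        rintro rfl
        exact absurd hp (by decide)
      omega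
    rcases hp23 with rfl | rfl
    · -- p = 2
      left
      have hn2 : 2 ≤ n := by
        by_contra h
        have : n = 1 := by omega
        rw [this] at hq
        omega
      have hnp : ¬ n.Prime := fun h => hl2 n h hq
      exact hcomp 2 le_rfl hn2 hnp rfl
    · -- p = 3
      have hn2 : 2 ≤ n := by
        by_contra h
        have : n = 1 := by omega
        rw [this] at hq
        omega
      rcases Nat.even_or_odd n with he | ho
      · right
        obtain ⟨c, hc⟩ := he
        have hc1 : 1 ≤ c := by omega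
        have hq9 : q = 9 ^ c := by
          rw [hq, hc, ← two_mul, pow_mul]; norm_num
        refine ⟨?_, ?_⟩
        · apply sq_mod_five_of
          rw [hq9]
          exact nine_pow_mod c
        · rw [hq9]
          calc 7 ≤ 9 ^ 1 := by norm_num
            _ ≤ 9 ^ c := Nat.pow_le_pow_right (by norm_num) hc1
      · left
        have hnp : ¬ n.Prime := by
          intro h
          apply hl3 n h _ hq
          rintro rfl
          exact absurd ho (by decide)
        exact hcomp 3 (by norm_num) hn2 hnp rfl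
  · rcases Nat.lt_or_ge n 2 with hn1 | hn2
    · have hn1' : n = 1 := by omega
      rw [hn1', pow_one] at hq
      subst hq
      right
      have hq7 : 7 ≤ q := by
        have h6 : q ≠ 6 := by
          rintro rfl
          exact absurd hp (by decide)
        omega
      refine ⟨?_, hq7⟩
      apply sq_mod_five_of
      have h0 : q % 5 ≠ 0 := by
        intro h0
        have h5 : 5 ∣ q := Nat.dvd_of_mod_eq_zero h0
        have := (Nat.prime_dvd_prime_iff_eq Nat.prime_five hp).mp h5
        omega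
      have h23 := hlp hp (by omega)
      have : q % 5 < 5 := Nat.mod_lt _ (by norm_num)
      omega
    · left
      refine ⟨1, n, hn2, ?_, one_ne_zero, one_mul n⟩
      rw [pow_one]; omega

end arith


section main
variable {F : Type*} [Field F] [Fintype F]

theorem card_psl_of_four (h : Fintype.card F = 4) :
    Nat.card (Matrix.ProjectiveSpecialLinearGroup (Fin 2) F) = 60 := by
  have := card_psl_mul_d (F := F)
  rw [h] at this
  simpa using this

theorem card_psl_of_five (h : Fintype.card F = 5) :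
    Nat.card (Matrix.ProjectiveSpecialLinearGroup (Fin 2) F) = 60 := by
  have := card_psl_mul_d (F := F)
  rw [h] at this
  have h' : Nat.card (Matrix.ProjectiveSpecialLinearGroup (Fin 2) F) * 2 = 120 := by
    simpa using this
  omega

theorem minimal_of_list
    (hD : ∀ (p : ℕ) [Fact p.Prime] [CharP F p]
      (H : Subgroup (Matrix.ProjectiveSpecialLinearGroup (Fin 2) F)),
      DConcl F (Fintype.card F) p H)
    (hq : (∃ r : ℕ, r.Prime ∧ Fintype.card F = 2 ^ r) ∨
      (∃ r : ℕ, r.Prime ∧ r ≠ 2 ∧ Fintype.card F = 3 ^ r) ∨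
      ((Fintype.card F).Prime ∧ 5 < Fintype.card F ∧
        (Fintype.card F % 5 = 2 ∨ Fintype.card F % 5 = 3)) ∨ Fintype.card F = 5) :
    Cfsg.IsMinimalSimple (Matrix.ProjectiveSpecialLinearGroup (Fin 2) F) := by
  obtain ⟨h4, hA5, hsub⟩ := list_facts hq
  obtain ⟨p, hp⟩ := CharP.exists F
  have hpp : p.Prime := CharP.char_is_prime F p
  have : Fact p.Prime := ⟨hpp⟩
  refine ⟨Matrix.ProjectiveSpecialLinearGroup.rank_two_simple
    (by rw [Nat.card_eq_fintype_card]; exact h4), psl2_not_isMulCommutative, fun H hH => ?_⟩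
  apply solvable_proper p ?_ hsub H hH (hD p H)
  rcases hA5 with h | h | h
  · left; exact h
  · right; exact card_psl_of_four h
  · right; exact card_psl_of_five h

theorem exists_proper_nonsolvable_A5
    (hemb : 5 ∣ Fintype.card F * (Fintype.card F ^ 2 - 1) →
      ∃ H : Subgroup (Matrix.ProjectiveSpecialLinearGroup (Fin 2) F),
        Nonempty (H ≃* alternatingGroup (Fin 5)))
    (h5 : 5 ∣ Fintype.card F * (Fintype.card F ^ 2 - 1)) (h7 : 7 ≤ Fintype.card F) :
    ∃ H : Subgroup (Matrix.ProjectiveSpecialLinearGroup (Fin 2) F), H ≠ ⊤ ∧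
      ¬ Group.IsSolvable H := by
  obtain ⟨H, ⟨e⟩⟩ := hemb h5
  refine ⟨H, ?_, fun hs => not_solvable_A5 (solvable_of_mulEquiv e.symm hs)⟩
  intro hH
  have hc : Nat.card H = 60 := by
    rw [Nat.card_congr e.toEquiv, nat_card_alternatingGroup]; simp; decide
  rw [hH, Subgroup.card_top] at hc
  have h1 := card_psl_mul_d (F := F)
  rw [hc] at h1
  have hd2 := gcd_two_le (Fintype.card F - 1)
  set q := Fintype.card F with hq
  have h2 : q * q ≥ 7 * q := Nat.mul_le_mul_right q h7
  have h3 : q * (q * q - 1) ≥ 7 * 48 := Nat.mul_le_mul h7 (by omega)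
  have h4 : 60 * Nat.gcd 2 (q - 1) ≤ 120 := by omega
  omega

theorem list_of_minimal
    (hemb : 5 ∣ Fintype.card F * (Fintype.card F ^ 2 - 1) →
      ∃ H : Subgroup (Matrix.ProjectiveSpecialLinearGroup (Fin 2) F),
        Nonempty (H ≃* alternatingGroup (Fin 5)))
    (hM : Cfsg.IsMinimalSimple (Matrix.ProjectiveSpecialLinearGroup (Fin 2) F)) :
    (∃ r : ℕ, r.Prime ∧ Fintype.card F = 2 ^ r) ∨
      (∃ r : ℕ, r.Prime ∧ r ≠ 2 ∧ Fintype.card F = 3 ^ r) ∨
      ((Fintype.card F).Prime ∧ 5 < Fintype.card F ∧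
        (Fintype.card F % 5 = 2 ∨ Fintype.card F % 5 = 3)) ∨ Fintype.card F = 5 := by
  classical
  obtain ⟨hsimple, -, hsolv⟩ := hM
  obtain ⟨p, hp⟩ := CharP.exists F
  have hpp : p.Prime := CharP.char_is_prime F p
  have : Fact p.Prime := ⟨hpp⟩
  obtain ⟨n, -, hn⟩ := FiniteField.card F p
  by_contra hlist
  have hq2 : 2 ≤ Fintype.card F := Fintype.one_lt_card
  rcases Nat.lt_or_ge (Fintype.card F) 4 with hlt | h4
  · -- `q = 2` or `q = 3`: the group is solvable
    have hG : Group.IsSolvable (Matrix.ProjectiveSpecialLinearGroup (Fin 2) F) := by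
      have h1 := card_psl_mul_d (F := F)
      have h23 : Fintype.card F = 2 ∨ Fintype.card F = 3 := by omega
      rcases h23 with h | h
      · rw [h] at h1
        apply solvable_of_card_23 1 1
        have : Nat.card (Matrix.ProjectiveSpecialLinearGroup (Fin 2) F) = 6 := by
          simpa using h1
        rw [this]; norm_num
      · rw [h] at h1
        apply solvable_of_card_23 2 1
        have h' : Nat.card (Matrix.ProjectiveSpecialLinearGroup (Fin 2) F) * 2 = 24 := by
          simpa using h1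
        have : Nat.card (Matrix.ProjectiveSpecialLinearGroup (Fin 2) F) = 12 := by omega
        rw [this]; norm_num
    have hc := IsSimpleGroup.comm_iff_isSolvable.mpr hG
    obtain ⟨a, b, hab⟩ := psl2_exists_not_comm (F := F)
    exact hab (hc a b)
  · have hex : ∃ H : Subgroup (Matrix.ProjectiveSpecialLinearGroup (Fin 2) F), H ≠ ⊤ ∧
        ¬ Group.IsSolvable H := by
      rcases not_list_cases hpp n.ne_zero hn h4 hlist with ⟨a, b, hb, ha4, ha0, hab⟩ | ⟨h5, h7⟩
      · let _ : Fintype (GaloisField p a) := Fintype.ofFinite _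
        have hcK : Fintype.card (GaloisField p a) = p ^ a := by
          rw [← Nat.card_eq_fintype_card, GaloisField.card p a ha0]
        apply exists_proper_nonsolvable_subfield (GaloisField p a) b hb
        · rw [hcK, ← pow_mul, hab, hn]
        · rw [hcK]; exact ha4
      · exact exists_proper_nonsolvable_A5 hemb h5 h7
    obtain ⟨H, hH, hns⟩ := hex
    exact hns (hsolv H hH)

end main

end Cfsg.Agent.Lib.Helper19.MinSimple
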