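import Mathlib
import Cfsg.Agent.Lib.Helper11.ZassDefs

set_option autoImplicit false

/-! K-S0690-11: the point graph of a plane is the triangular graph `T(5)`. -/

namespace Cfsg.Agent.Lib.Helper19.Zass

open Finset

section core

set_option linter.unusedSectionVars false

variable {P : Type*} [Fintype P] [DecidableEq P]

/-- the neighbours of a point. -/
def nb (adj : P → P → Prop) [DecidableRel adj] (a : P) : Finset P := univ.filter (fun x => adj a x)

/-- the combinatorial data: a symmetric irreflexive relation whose edges lie on unique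
4-point lines, regular, on ten points. -/
structure Geo (adj : P → P → Prop) [DecidableRel adj] (L : P → P → Finset P) : Prop where
  symm : ∀ a b, adj a b → adj b a
  irrefl : ∀ a, ¬ adj a a
  mem : ∀ a b, adj a b → a ∈ L a b ∧ b ∈ L a b
  card4 : ∀ a b, adj a b → (L a b).card = 4
  line : ∀ a b c c', adj a b → c ∈ L a b → c' ∈ L a b → c ≠ c' → adj c c' ∧ L c c' = L a b
  reg : ∀ a b, (nb adj a).card = (nb adj b).card
  ex : ∃ a b, adj a b
  card10 : Fintype.card P = 10

variable {adj : P → P → Prop} [DecidableRel adj] {L : P → P → Finset P}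

theorem mem_nb {a b : P} : b ∈ nb adj a ↔ adj a b := by
  unfold nb; simp

theorem Geo.ne (h : Geo adj L) {a b : P} (hab : adj a b) : a ≠ b := by
  rintro rfl; exact h.irrefl a hab

theorem Geo.L_symm (h : Geo adj L) {a b : P} (hab : adj a b) : L b a = L a b :=
  (h.line a b b a hab (h.mem a b hab).2 (h.mem a b hab).1 (h.ne hab).symm).2

theorem Geo.line_eq (h : Geo adj L) {a b c d x x' : P} (hab : adj a b) (hcd : adj c d)
    (hx : x ∈ L a b) (hx' : x' ∈ L a b) (hy : x ∈ L c d) (hy' : x' ∈ L c d) (hne : x ≠ x') :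
    L a b = L c d := by
  rw [← (h.line a b x x' hab hx hx' hne).2, (h.line c d x x' hcd hy hy' hne).2]

theorem Geo.adj_of_mem (h : Geo adj L) {a b c : P} (hab : adj a b) (hc : c ∈ L a b)
    (hca : c ≠ a) : adj a c ∧ L a c = L a b :=
  h.line a b a c hab (h.mem a b hab).1 hc hca.symm

/-- the ordered edges. -/
def edges (adj : P → P → Prop) [DecidableRel adj] : Finset (P × P) :=
  (univ : Finset (P × P)).filter (fun p => adj p.1 p.2)

theorem mem_edges {p : P × P} : p ∈ edges adj ↔ adj p.1 p.2 := by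
  unfold edges; simp

/-- the ordered edges on a given line are the ordered pairs of distinct points of it. -/
theorem Geo.fiber (h : Geo adj L) {a b : P} (hab : adj a b) :
    (edges adj).filter (fun x => L x.1 x.2 = L a b) = (L a b).offDiag := by
  ext ⟨c, c'⟩
  simp only [mem_filter, mem_edges, mem_offDiag]
  constructor
  · rintro ⟨hcc, hL⟩
    refine ⟨?_, ?_, h.ne hcc⟩
    · rw [← hL]; exact (h.mem c c' hcc).1
    · rw [← hL]; exact (h.mem c c' hcc).2
  · rintro ⟨hx, hy, hxy⟩
    exact h.line a b c c' hab hx hy hxy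

/-- the number of ordered edges is divisible by twelve. -/
theorem Geo.twelve_dvd (h : Geo adj L) : 12 ∣ (edges adj).card := by
  classical
  rw [Finset.card_eq_sum_card_fiberwise (f := fun x : P × P => L x.1 x.2)
    (t := (edges adj).image (fun x => L x.1 x.2))
    (fun x hx => mem_coe.2 (mem_image_of_mem _ (mem_coe.1 hx)))]
  apply Finset.dvd_sum
  intro M hM
  obtain ⟨⟨a, b⟩, hab, rfl⟩ := mem_image.1 hM
  rw [mem_edges] at hab
  simp only
  rw [h.fiber hab, offDiag_card, h.card4 a b hab]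

theorem card_edges_eq : (edges adj).card = ∑ a : P, (nb adj a).card := by
  unfold edges nb
  rw [card_filter, ← univ_product_univ, sum_product]
  refine sum_congr rfl (fun a _ => ?_)
  rw [card_filter]

theorem Geo.card_edges (h : Geo adj L) (a : P) : (edges adj).card = 10 * (nb adj a).card := by
  rw [card_edges_eq, Finset.sum_congr rfl (fun x _ => h.reg x a), sum_const, card_univ, h.card10,
    smul_eq_mul]

theorem Geo.deg (h : Geo adj L) (a : P) : (nb adj a).card = 6 := by
  have h1 := h.twelve_dvd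
  rw [h.card_edges a] at h1
  have h2 : (nb adj a).card ≤ 9 := by
    have hsub : nb adj a ⊆ univ.erase a := by
      intro x hx
      rw [mem_nb] at hx
      rw [mem_erase]
      refine ⟨?_, mem_univ _⟩
      rintro rfl; exact h.irrefl _ hx
    have := card_le_card hsub
    rw [card_erase_of_mem (mem_univ a), card_univ, h.card10] at this
    exact this
  have h3 : 0 < (nb adj a).card := by
    obtain ⟨x, y, hxy⟩ := h.ex
    rw [h.reg a x]; exact card_pos.2 ⟨y, mem_nb.2 hxy⟩
  omega

theorem Geo.erase_subset_nb (h : Geo adj L) {a b : P} (hab : adj a b) :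
    (L a b).erase a ⊆ nb adj a := by
  intro x hx
  rw [mem_erase] at hx
  exact mem_nb.2 (h.adj_of_mem hab hx.2 hx.1).1

/-- exactly two lines pass through a point. -/
theorem Geo.nb_split (h : Geo adj L) {a b : P} (hab : adj a b) :
    ∃ c, adj a c ∧ c ∉ L a b ∧ nb adj a = (L a b).erase a ∪ (L a c).erase a := by
  have hT1 : ((L a b).erase a).card = 3 := by
    rw [card_erase_of_mem (h.mem a b hab).1, h.card4 a b hab]
  have hsd : (nb adj a \ (L a b).erase a).card = 3 := by
    rw [card_sdiff_of_subset (h.erase_subset_nb hab), h.deg a, hT1]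
  obtain ⟨c, hc⟩ := card_pos.1 (by rw [hsd]; norm_num : 0 < (nb adj a \ (L a b).erase a).card)
  rw [mem_sdiff, mem_nb, mem_erase, not_and] at hc
  have hac := hc.1
  have hcL : c ∉ L a b := fun hcL => hc.2 (h.ne hac).symm hcL
  refine ⟨c, hac, hcL, ?_⟩
  have hT2 : ((L a c).erase a).card = 3 := by
    rw [card_erase_of_mem (h.mem a c hac).1, h.card4 a c hac]
  have hdisj : Disjoint ((L a b).erase a) ((L a c).erase a) := by
    rw [disjoint_left]
    intro x hx hx'
    rw [mem_erase] at hx hx'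
    have e1 := (h.adj_of_mem hab hx.2 hx.1).2
    have e2 := (h.adj_of_mem hac hx'.2 hx'.1).2
    apply hcL
    rw [← e1, e2]
    exact (h.mem a c hac).2
  symm
  apply eq_of_subset_of_card_le
    (union_subset (h.erase_subset_nb hab) (h.erase_subset_nb hac))
  rw [card_union_of_disjoint hdisj, hT1, hT2, h.deg a]

theorem Geo.lambda_le (h : Geo adj L) {a b : P} (hab : adj a b) :
    (nb adj a ∩ nb adj b).card ≤ 3 := by
  obtain ⟨c, hac, hcL, hsplit⟩ := h.nb_split hab
  have hba := h.symm a b hab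
  obtain ⟨d, hbd, hdL, hsplit'⟩ := h.nb_split hba
  rw [h.L_symm hab] at hdL hsplit'
  have hsub : nb adj a ∩ nb adj b ⊆
      ((L a b).erase a).erase b ∪ ((L a c).erase a ∩ (L b d).erase b) := by
    intro x hx
    rw [mem_inter] at hx
    have hxa := hx.1
    have hxb := hx.2
    rw [hsplit] at hxa
    rw [hsplit'] at hxb
    rw [mem_union] at hxa hxb ⊢
    rcases hxa with hxa | hxa
    · left
      rw [mem_erase]
      refine ⟨?_, hxa⟩
      rintro rfl
      exact h.irrefl _ (mem_nb.1 hx.2)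
    · rcases hxb with hxb | hxb
      · exfalso
        rw [mem_erase] at hxa hxb
        apply hcL
        rw [← (h.adj_of_mem hab hxb.2 hxa.1).2, (h.adj_of_mem hac hxa.2 hxa.1).2]
        exact (h.mem a c hac).2
      · right; exact mem_inter.2 ⟨hxa, hxb⟩
  have h1 : (((L a b).erase a).erase b).card = 2 := by
    rw [card_erase_of_mem, card_erase_of_mem (h.mem a b hab).1, h.card4 a b hab]
    rw [mem_erase]; exact ⟨(h.ne hab).symm, (h.mem a b hab).2⟩
  have h2 : ((L a c).erase a ∩ (L b d).erase b).card ≤ 1 := by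
    rw [card_le_one]
    intro x hx y hy
    by_contra hxy
    rw [mem_inter, mem_erase, mem_erase] at hx hy
    have e := h.line_eq hac hbd hx.1.2 hy.1.2 hx.2.2 hy.2.2 hxy
    have hb : b ∈ L a c := by rw [e]; exact (h.mem b d hbd).1
    apply hcL
    rw [(h.adj_of_mem hac hb (h.ne hab).symm).2]
    exact (h.mem a c hac).2
  calc (nb adj a ∩ nb adj b).card
      ≤ (((L a b).erase a).erase b ∪ ((L a c).erase a ∩ (L b d).erase b)).card :=
        card_le_card hsub
    _ ≤ (((L a b).erase a).erase b).card + ((L a c).erase a ∩ (L b d).erase b).card :=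
        card_union_le _ _
    _ ≤ 3 := by omega

theorem Geo.not_two_common (h : Geo adj L) {a b y z x x' : P} (hay : adj a y) (hbz : adj b z)
    (hne : a ≠ b) (hnab : ¬ adj a b) (hxx : x ≠ x') (hx : x ∈ L a y) (hx' : x' ∈ L a y)
    (hz : x ∈ L b z) (hz' : x' ∈ L b z) : False := by
  have e := h.line_eq hay hbz hx hx' hz hz' hxx
  have hb : b ∈ L a y := by rw [e]; exact (h.mem b z hbz).1
  exact hnab (h.adj_of_mem hay hb hne.symm).1

theorem Geo.line_inter_nb_le (h : Geo adj L) {a b y : P} (hay : adj a y) (hne : a ≠ b)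
    (hnab : ¬ adj a b) : (L a y ∩ nb adj b).card ≤ 2 := by
  by_contra hcon
  rw [not_le, two_lt_card] at hcon
  obtain ⟨x, hx, x', hx', x'', hx'', h1, h2, h3⟩ := hcon
  rw [mem_inter, mem_nb] at hx hx' hx''
  obtain ⟨d, hbd, hdL, hsplit⟩ := h.nb_split hx.2
  have key : ∀ w, w ∈ L a y → adj b w → w ≠ x → w ∈ L b d := by
    intro w hw hbw hwx
    have hw2 : w ∈ nb adj b := mem_nb.2 hbw
    rw [hsplit, mem_union, mem_erase, mem_erase] at hw2
    rcases hw2 with hw' | hw'
    · exact (h.not_two_common hay hx.2 hne hnab hwx hw hx.1 hw'.2 (h.mem b x hx.2).2).elim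
    · exact hw'.2
  exact h.not_two_common hay hbd hne hnab h3 hx'.1 hx''.1 (key x' hx'.1 hx'.2 h1.symm)
    (key x'' hx''.1 hx''.2 h2.symm)

theorem Geo.mu_le (h : Geo adj L) {a b : P} (hne : a ≠ b) (hnab : ¬ adj a b) :
    (nb adj a ∩ nb adj b).card ≤ 4 := by
  have hpos : 0 < (nb adj a).card := by rw [h.deg a]; norm_num
  obtain ⟨y, hy⟩ := card_pos.1 hpos
  rw [mem_nb] at hy
  obtain ⟨c, hac, hcL, hsplit⟩ := h.nb_split hy
  have hsub : nb adj a ∩ nb adj b ⊆ (L a y ∩ nb adj b) ∪ (L a c ∩ nb adj b) := by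
    intro x hx
    rw [mem_inter] at hx
    have hxa := hx.1
    rw [hsplit, mem_union, mem_erase, mem_erase] at hxa
    rw [mem_union, mem_inter, mem_inter]
    rcases hxa with hxa | hxa
    · left; exact ⟨hxa.2, hx.2⟩
    · right; exact ⟨hxa.2, hx.2⟩
  have e1 := h.line_inter_nb_le hy hne hnab
  have e2 := h.line_inter_nb_le hac hne hnab
  calc (nb adj a ∩ nb adj b).card ≤ ((L a y ∩ nb adj b) ∪ (L a c ∩ nb adj b)).card :=
        card_le_card hsub
    _ ≤ (L a y ∩ nb adj b).card + (L a c ∩ nb adj b).card := card_union_le _ _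
    _ ≤ 4 := by omega

/-- the global double count of paths of length two. -/
theorem Geo.count (h : Geo adj L) :
    ∑ p ∈ (univ : Finset P).offDiag, (nb adj p.1 ∩ nb adj p.2).card = 300 := by
  have key := Finset.sum_card_bipartiteAbove_eq_sum_card_bipartiteBelow
    (s := (univ : Finset P)) (t := (univ : Finset P).offDiag)
    (fun a p => adj a p.1 ∧ adj a p.2)
  have hL : ∀ a ∈ (univ : Finset P),
      (bipartiteAbove (fun (a : P) (p : P × P) => adj a p.1 ∧ adj a p.2)
        (univ : Finset P).offDiag a).card = 30 := by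
    intro a _
    have : bipartiteAbove (fun (a : P) (p : P × P) => adj a p.1 ∧ adj a p.2)
        (univ : Finset P).offDiag a = (nb adj a).offDiag := by
      ext ⟨x, y⟩
      simp only [bipartiteAbove, mem_filter, mem_offDiag, mem_univ, true_and, mem_nb]
      tauto
    rw [this, offDiag_card, h.deg a]
  have hR : ∀ p ∈ (univ : Finset P).offDiag,
      (bipartiteBelow (fun (a : P) (p : P × P) => adj a p.1 ∧ adj a p.2)
        (univ : Finset P) p).card = (nb adj p.1 ∩ nb adj p.2).card := by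
    intro p _
    congr 1
    ext x
    simp only [bipartiteBelow, mem_filter, mem_univ, true_and, mem_inter, mem_nb]
    exact ⟨fun hx => ⟨h.symm _ _ hx.1, h.symm _ _ hx.2⟩, fun hx => ⟨h.symm _ _ hx.1, h.symm _ _ hx.2⟩⟩
  rw [sum_congr rfl hL, sum_congr rfl hR, sum_const, card_univ, h.card10] at key
  rw [← key]; rfl

/-- the point graph is strongly regular with parameters `(10, 6, 3, 4)`. -/
theorem Geo.srg (h : Geo adj L) :
    (∀ a, (nb adj a).card = 6) ∧ (∀ a b, adj a b → (nb adj a ∩ nb adj b).card = 3) ∧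
    (∀ a b, a ≠ b → ¬ adj a b → (nb adj a ∩ nb adj b).card = 4) := by
  have hle : ∀ p ∈ (univ : Finset P).offDiag,
      (nb adj p.1 ∩ nb adj p.2).card ≤ (if adj p.1 p.2 then 3 else 4) := by
    intro p hp
    rw [mem_offDiag] at hp
    split_ifs with hadj
    · exact h.lambda_le hadj
    · exact h.mu_le hp.2.2 hadj
  have hsum : ∑ p ∈ (univ : Finset P).offDiag, (if adj p.1 p.2 then 3 else 4) = 300 := by
    rw [sum_ite, sum_const, sum_const, smul_eq_mul, smul_eq_mul]
    have e1 : (univ : Finset P).offDiag.filter (fun p => adj p.1 p.2) = edges adj := by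
      ext p
      simp only [mem_filter, mem_offDiag, mem_univ, true_and, mem_edges]
      exact ⟨fun hp => hp.2, fun hp => ⟨h.ne hp, hp⟩⟩
    have e2 : ((univ : Finset P).offDiag.filter (fun p => ¬ adj p.1 p.2)).card = 30 := by
      have := card_filter_add_card_filter_not (s := (univ : Finset P).offDiag)
        (fun p => adj p.1 p.2)
      rw [e1, offDiag_card, card_univ, h.card10] at this
      obtain ⟨x, _, _⟩ := h.ex
      rw [h.card_edges x, h.deg x] at this
      omega
    obtain ⟨x, _, _⟩ := h.ex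
    rw [e1, e2, h.card_edges x, h.deg x]
  have hall := (sum_eq_sum_iff_of_le hle).1 (by rw [h.count, hsum])
  refine ⟨h.deg, fun a b hab => ?_, fun a b hne hnab => ?_⟩
  · have := hall (a, b) (by rw [mem_offDiag]; exact ⟨mem_univ _, mem_univ _, h.ne hab⟩)
    simpa [hab] using this
  · have := hall (a, b) (by rw [mem_offDiag]; exact ⟨mem_univ _, mem_univ _, hne⟩)
    simpa [hnab] using this

end core

section grp

open Cfsg.Agent.Lib.Helper11.Zass

open scoped Pointwise

variable {G : Type*} [Group G] [Finite G]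

theorem fac3 (m : ℕ) (hm : ¬ 3 ∣ m) (hm0 : m ≠ 0) : (3 * m).factorization 3 = 1 := by
  rw [Nat.factorization_mul (by norm_num) hm0, Finsupp.add_apply,
    Nat.Prime.factorization_self Nat.prime_three, Nat.factorization_eq_zero_of_not_dvd hm]

/-- the points below a subgroup `M` with `3 ∥ |M|` are the Sylow 3-subgroups of `M`. -/
noncomputable def ptEquivSylow (M : Subgroup G) (hM : (Nat.card M).factorization 3 = 1) :
    {C : Pt G // C.1 ≤ M} ≃ Sylow 3 M where
  toFun C := Sylow.ofCard (C.1.1.subgroupOf M) (by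
    rw [hM, pow_one, Nat.card_congr (Subgroup.subgroupOfEquivOfLe C.2).toEquiv]; exact C.1.2)
  invFun Q := ⟨⟨(Q : Subgroup M).map M.subtype, by
    rw [Subgroup.card_map_of_injective M.subtype_injective, Sylow.card_eq_multiplicity, hM,
      pow_one]⟩, Subgroup.map_subtype_le _⟩
  left_inv C := by
    apply Subtype.ext; apply Subtype.ext
    simp only [Sylow.coe_ofCard]
    exact Subgroup.map_subgroupOf_eq_of_le C.2
  right_inv Q := by
    apply Sylow.ext
    simp only [Sylow.coe_ofCard]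
    exact Subgroup.comap_map_eq_self_of_injective M.subtype_injective _

theorem coe_ptEquivSylow (M : Subgroup G) (hM : (Nat.card M).factorization 3 = 1)
    (C : {C : Pt G // C.1 ≤ M}) :
    ((ptEquivSylow M hM C : Sylow 3 M) : Subgroup M) = C.1.1.subgroupOf M :=
  rfl

/-- K-S0690-12 again: a line has exactly four points. -/
theorem card_line_points (A B : Pt G) (h : Nat.card (A.1 ⊔ B.1 : Subgroup G) = 24) :
    Nat.card {C : Pt G // C.1 ≤ A.1 ⊔ B.1} = 4 := by
  have hfac : (Nat.card (A.1 ⊔ B.1 : Subgroup G)).factorization 3 = 1 := by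
    rw [h]; exact fac3 8 (by norm_num) (by norm_num)
  rw [Nat.card_congr (ptEquivSylow _ hfac)]
  have hmod : Nat.card (Sylow 3 (A.1 ⊔ B.1 : Subgroup G)) % 3 = 1 % 3 :=
    card_sylow_modEq_one 3 (A.1 ⊔ B.1 : Subgroup G)
  obtain ⟨Q⟩ : Nonempty (Sylow 3 (A.1 ⊔ B.1 : Subgroup G)) := inferInstance
  have hdvd := Sylow.card_dvd_index Q
  have hidx : (Q : Subgroup (A.1 ⊔ B.1 : Subgroup G)).index = 8 := by
    have := Subgroup.index_mul_card (Q : Subgroup (A.1 ⊔ B.1 : Subgroup G))
    rw [Sylow.card_eq_multiplicity, hfac, pow_one, h] at this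
    omega
  rw [hidx] at hdvd
  have h2 : 1 < Nat.card (Sylow 3 (A.1 ⊔ B.1 : Subgroup G)) := by
    have hAB : A ≠ B := by
      rintro rfl
      rw [sup_idem, A.2] at h; norm_num at h
    have hne : (ptEquivSylow _ hfac ⟨A, le_sup_left⟩) ≠ (ptEquivSylow _ hfac ⟨B, le_sup_right⟩) := by
      intro e
      apply hAB
      exact congrArg Subtype.val ((ptEquivSylow _ hfac).injective e)
    exact Finite.one_lt_card_iff_nontrivial.2 ⟨⟨_, _, hne⟩⟩
  have hle : Nat.card (Sylow 3 (A.1 ⊔ B.1 : Subgroup G)) ≤ 8 := Nat.le_of_dvd (by norm_num) hdvd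
  generalize Nat.card (Sylow 3 (A.1 ⊔ B.1 : Subgroup G)) = n at hmod hdvd h2 hle ⊢
  interval_cases n <;> omega

/-- conjugating a point. -/
def conjPt (g : G) (A : Pt G) : Pt G :=
  ⟨A.1.map (MulAut.conj g).toMonoidHom, by
    rw [Subgroup.card_map_of_injective (MulAut.conj g).injective]; exact A.2⟩

omit [Finite G] in
theorem conjPt_le {D : Subgroup G} {g : G} (hg : g ∈ D) {A : Pt G} (hA : A.1 ≤ D) :
    (conjPt g A).1 ≤ D := by
  rintro _ ⟨x, hx, rfl⟩
  simp only [MulEquiv.coe_toMonoidHom, MulAut.conj_apply]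
  exact D.mul_mem (D.mul_mem hg (hA hx)) (D.inv_mem hg)

omit [Finite G] in
theorem conjPt_injective (g : G) : Function.Injective (conjPt (G := G) g) := by
  intro A B h
  apply Subtype.ext
  exact Subgroup.map_injective (MulAut.conj g).injective (congrArg Subtype.val h)

omit [Finite G] in
theorem card_sup_conjPt (g : G) (A B : Pt G) :
    Nat.card ((conjPt g A).1 ⊔ (conjPt g B).1 : Subgroup G) =
      Nat.card (A.1 ⊔ B.1 : Subgroup G) := by
  unfold conjPt
  simp only
  rw [← Subgroup.map_sup, Subgroup.card_map_of_injective (MulAut.conj g).injective]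

/-- the points of a subgroup of order `120` are conjugate in it. -/
theorem exists_conjPt (D : Subgroup G) (hcard : Nat.card D = 120) (A B : Pt G) (hA : A.1 ≤ D)
    (hB : B.1 ≤ D) : ∃ g ∈ D, conjPt g A = B := by
  have hfac : (Nat.card D).factorization 3 = 1 := by
    rw [hcard]; exact fac3 40 (by norm_num) (by norm_num)
  obtain ⟨g, hg⟩ := MulAction.exists_smul_eq D (ptEquivSylow D hfac ⟨A, hA⟩)
    (ptEquivSylow D hfac ⟨B, hB⟩)
  refine ⟨g, g.2, ?_⟩
  have hco : (MulAut.conj g • (A.1.subgroupOf D) : Subgroup D) = B.1.subgroupOf D := by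
    have := congrArg (fun Q : Sylow 3 D => (Q : Subgroup D)) hg
    simp only [Sylow.coe_subgroup_smul, coe_ptEquivSylow] at this
    exact this
  apply Subtype.ext
  show A.1.map (MulAut.conj (g : G)).toMonoidHom = B.1
  apply Subgroup.eq_of_le_of_card_ge
  · rintro _ ⟨a, ha, rfl⟩
    have h1 : (⟨a, hA ha⟩ : D) ∈ A.1.subgroupOf D := Subgroup.mem_subgroupOf.2 ha
    have h2 := Subgroup.smul_mem_pointwise_smul _ (MulAut.conj g) _ h1
    rw [hco, Subgroup.mem_subgroupOf] at h2
    simpa [MulAut.smul_def, MulAut.conj_apply] using h2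
  · rw [Subgroup.card_map_of_injective (MulAut.conj (g : G)).injective, A.2, B.2]

theorem card_subtype_and_eq {α : Type*} (p q : α → Prop) [Fintype {x // p x}]
    [DecidablePred (fun x : {x // p x} => q x.1)] :
    Nat.card {x // p x ∧ q x} = (univ.filter (fun b : {x // p x} => q b.1)).card := by
  rw [← Nat.card_congr (Equiv.subtypeSubtypeEquivSubtypeInter p q), Nat.card_eq_fintype_card,
    Fintype.card_subtype]

/-- adjacency of the points of `D`: they span a subgroup of order `24`. -/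
def padj (D : Subgroup G) (a b : {A : Pt G // A.1 ≤ D}) : Prop :=
  Nat.card (a.1.1 ⊔ b.1.1 : Subgroup G) = 24

noncomputable instance padjDec (D : Subgroup G) : DecidableRel (padj D) :=
  fun _ _ => Nat.decEq _ _

open Classical in
/-- the points of `D` on the line through two points. -/
noncomputable def pline (D : Subgroup G) [Fintype {A : Pt G // A.1 ≤ D}]
    (a b : {A : Pt G // A.1 ≤ D}) : Finset {A : Pt G // A.1 ≤ D} :=
  univ.filter (fun c => c.1.1 ≤ a.1.1 ⊔ b.1.1)

omit [Finite G] in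
theorem mem_pline (D : Subgroup G) [Fintype {A : Pt G // A.1 ≤ D}]
    (a b c : {A : Pt G // A.1 ≤ D}) : c ∈ pline D a b ↔ c.1.1 ≤ a.1.1 ⊔ b.1.1 := by
  unfold pline; simp

theorem geo_plane (D : Subgroup G) [Fintype {A : Pt G // A.1 ≤ D}] [DecidableEq {A : Pt G // A.1 ≤ D}]
    (hcard : Nat.card D = 120)
    (hpts : Nat.card {A : Pt G // A.1 ≤ D} = 10)
    (h2 : ∀ A B : Pt G, A.1 ≤ D → B.1 ≤ D → A ≠ B →
      Nat.card (A.1 ⊔ B.1 : Subgroup G) = 24 ∨ Nat.card (A.1 ⊔ B.1 : Subgroup G) = 120)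
    (hline : ∃ A B : Pt G, A.1 ≤ D ∧ B.1 ≤ D ∧ Nat.card (A.1 ⊔ B.1 : Subgroup G) = 24) :
    Geo (padj D) (pline D) := by
  refine ⟨?_, ?_, ?_, ?_, ?_, ?_, ?_, ?_⟩
  · intro a b h
    unfold padj at *
    rwa [sup_comm]
  · intro a h
    unfold padj at h
    rw [sup_idem, a.1.2] at h
    norm_num at h
  · intro a b _
    rw [mem_pline, mem_pline]
    exact ⟨le_sup_left, le_sup_right⟩
  · intro a b h
    classical
    have e1 := card_subtype_and_eq (fun C : Pt G => C.1 ≤ D)
      (fun C : Pt G => C.1 ≤ a.1.1 ⊔ b.1.1)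
    have e2 : Nat.card {C : Pt G // C.1 ≤ D ∧ C.1 ≤ a.1.1 ⊔ b.1.1} =
        Nat.card {C : Pt G // C.1 ≤ a.1.1 ⊔ b.1.1} :=
      Nat.card_congr (Equiv.subtypeEquivRight
        (fun x => ⟨fun h => h.2, fun h => ⟨h.trans (sup_le a.2 b.2), h⟩⟩))
    rw [e2, card_line_points a.1 b.1 h] at e1
    rw [e1]
    unfold pline
    congr 1
  · intro a b c c' hab hc hc' hne
    rw [mem_pline] at hc hc'
    have hle : (c.1.1 ⊔ c'.1.1 : Subgroup G) ≤ a.1.1 ⊔ b.1.1 := sup_le hc hc'
    have h24 : Nat.card (c.1.1 ⊔ c'.1.1 : Subgroup G) = 24 := by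
      have hle' := Subgroup.card_le_of_le hle
      have hab' : Nat.card (a.1.1 ⊔ b.1.1 : Subgroup G) = 24 := hab
      rcases h2 c.1 c'.1 c.2 c'.2 (fun e => hne (Subtype.ext e)) with h | h
      · exact h
      · omega
    have heq : (c.1.1 ⊔ c'.1.1 : Subgroup G) = a.1.1 ⊔ b.1.1 := by
      apply Subgroup.eq_of_le_of_card_ge hle
      have hab' : Nat.card (a.1.1 ⊔ b.1.1 : Subgroup G) = 24 := hab
      rw [hab', h24]
    refine ⟨h24, ?_⟩
    unfold pline
    rw [heq]
  · have key : ∀ a b : {A : Pt G // A.1 ≤ D}, (nb (padj D) a).card ≤ (nb (padj D) b).card := by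
      intro a b
      obtain ⟨g, hg, hgab⟩ := exists_conjPt D hcard a.1 b.1 a.2 b.2
      apply card_le_card_of_injOn
        (fun x : {A : Pt G // A.1 ≤ D} => (⟨conjPt g x.1, conjPt_le hg x.2⟩ : {A : Pt G // A.1 ≤ D}))
      · intro x hx
        rw [mem_coe, mem_nb] at hx ⊢
        unfold padj at hx ⊢
        simp only
        rw [← hgab, card_sup_conjPt]
        exact hx
      · intro x _ y _ hxy
        apply Subtype.ext
        exact conjPt_injective g (congrArg Subtype.val hxy)
    exact fun a b => le_antisymm (key a b) (key b a)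
  · obtain ⟨A, B, hA, hB, h⟩ := hline
    exact ⟨⟨A, hA⟩, ⟨B, hB⟩, h⟩
  · rw [← Nat.card_eq_fintype_card]; exact hpts

/-- K-S0690-11. -/
theorem plane_srg (D : Subgroup G) (hcard : Nat.card D = 120)
    (hpts : Nat.card {A : Pt G // A.1 ≤ D} = 10)
    (h2 : ∀ A B : Pt G, A.1 ≤ D → B.1 ≤ D → A ≠ B →
      Nat.card (A.1 ⊔ B.1 : Subgroup G) = 24 ∨ Nat.card (A.1 ⊔ B.1 : Subgroup G) = 120)
    (hline : ∃ A B : Pt G, A.1 ≤ D ∧ B.1 ≤ D ∧ Nat.card (A.1 ⊔ B.1 : Subgroup G) = 24) :
    (∀ A : Pt G, A.1 ≤ D →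
      Nat.card {B : Pt G // B.1 ≤ D ∧ Nat.card (A.1 ⊔ B.1 : Subgroup G) = 24} = 6) ∧
    (∀ A B : Pt G, A.1 ≤ D → B.1 ≤ D → Nat.card (A.1 ⊔ B.1 : Subgroup G) = 24 →
      Nat.card {C : Pt G // C.1 ≤ D ∧ Nat.card (A.1 ⊔ C.1 : Subgroup G) = 24 ∧
        Nat.card (B.1 ⊔ C.1 : Subgroup G) = 24} = 3) ∧
    (∀ A B : Pt G, A.1 ≤ D → B.1 ≤ D → Nat.card (A.1 ⊔ B.1 : Subgroup G) = 120 →
      Nat.card {C : Pt G // C.1 ≤ D ∧ Nat.card (A.1 ⊔ C.1 : Subgroup G) = 24 ∧
        Nat.card (B.1 ⊔ C.1 : Subgroup G) = 24} = 4) := by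
  classical
  have : Fintype {A : Pt G // A.1 ≤ D} := Fintype.ofFinite _
  obtain ⟨h6, h3, h4⟩ := (geo_plane D hcard hpts h2 hline).srg
  have hinter : ∀ a b : {A : Pt G // A.1 ≤ D},
      Nat.card {C : Pt G // C.1 ≤ D ∧ Nat.card (a.1.1 ⊔ C.1 : Subgroup G) = 24 ∧
        Nat.card (b.1.1 ⊔ C.1 : Subgroup G) = 24} = (nb (padj D) a ∩ nb (padj D) b).card := by
    intro a b
    rw [card_subtype_and_eq (fun C : Pt G => C.1 ≤ D)
      (fun C : Pt G => Nat.card (a.1.1 ⊔ C.1 : Subgroup G) = 24 ∧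
        Nat.card (b.1.1 ⊔ C.1 : Subgroup G) = 24)]
    congr 1
    ext x
    simp only [mem_filter, mem_univ, true_and, mem_inter, mem_nb]
    rfl
  refine ⟨fun A hA => ?_, fun A B hA hB hAB => ?_, fun A B hA hB hAB => ?_⟩
  · rw [card_subtype_and_eq (fun C : Pt G => C.1 ≤ D)
      (fun C : Pt G => Nat.card (A.1 ⊔ C.1 : Subgroup G) = 24), ← h6 ⟨A, hA⟩]
    congr 1
  · rw [hinter ⟨A, hA⟩ ⟨B, hB⟩]
    exact h3 _ _ hAB
  · rw [hinter ⟨A, hA⟩ ⟨B, hB⟩]
    apply h4
    · intro e
      have : A = B := congrArg Subtype.val e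
      subst this
      rw [sup_idem, A.2] at hAB
      norm_num at hAB
    · intro hadj
      have : Nat.card (A.1 ⊔ B.1 : Subgroup G) = 24 := hadj
      omega

end grp

end Cfsg.Agent.Lib.Helper19.Zass
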