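import Cfsg.Agent.Lib.Helper19.QuadMat

set_option autoImplicit false

/-! Cartan–Dieudonné (weak form) in characteristic `≠ 2`: every isometry of a quadratic form with
non-degenerate polar form is a product of reflections. -/

namespace Cfsg.Agent.Lib.Helper19

universe u

section refl

variable {F : Type*} [Field F] {V : Type*} [AddCommGroup V] [Module F V]

/-- The reflection in `u` as a linear endomorphism: `x ↦ x - Q(u)⁻¹ B(u,x) u`. -/
noncomputable def reflLin (Q : QuadraticForm F V) (u : V) : Module.End F V :=
  LinearMap.id - (Q u)⁻¹ • ((QuadraticMap.polarBilin Q u).smulRight u)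

theorem reflLin_apply (Q : QuadraticForm F V) (u x : V) :
    reflLin Q u x = x - ((Q u)⁻¹ * QuadraticMap.polar (⇑Q) u x) • u := by
  simp [reflLin, smul_smul]

theorem reflLin_isometry (Q : QuadraticForm F V) (u : V) (hu : Q u ≠ 0) (x : V) :
    Q (reflLin Q u x) = Q x := by
  rw [reflLin_apply, sub_eq_add_neg, ← neg_smul]
  have h1 : Q (x + (-((Q u)⁻¹ * QuadraticMap.polar (⇑Q) u x)) • u) =
      Q x + Q ((-((Q u)⁻¹ * QuadraticMap.polar (⇑Q) u x)) • u) +
        QuadraticMap.polar (⇑Q) x ((-((Q u)⁻¹ * QuadraticMap.polar (⇑Q) u x)) • u) := by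
    simp only [QuadraticMap.polar]; ring
  rw [h1, QuadraticMap.map_smul, QuadraticMap.polar_smul_right, QuadraticMap.polar_comm (⇑Q) x u]
  simp only [smul_eq_mul]
  have h2 : Q u * (Q u)⁻¹ = 1 := mul_inv_cancel₀ hu
  generalize QuadraticMap.polar (⇑Q) u x = b
  generalize (Q u)⁻¹ = i at h2 ⊢
  linear_combination (b ^ 2 * i) * h2

theorem reflLin_fix (Q : QuadraticForm F V) (u x : V) (h : QuadraticMap.polar (⇑Q) u x = 0) :
    reflLin Q u x = x := by
  rw [reflLin_apply, h]; simp

theorem reflLin_self (Q : QuadraticForm F V) (u : V) (hu : Q u ≠ 0) : reflLin Q u u = -u := by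
  rw [reflLin_apply, QuadraticMap.polar_self]
  rw [show (Q u)⁻¹ * (2 • Q u) = 2 by field_simp; ring]
  rw [two_smul]; abel

/-- if `Q v = Q w` and `Q (v - w) ≠ 0`, the reflection in `v - w` sends `v` to `w`. -/
theorem reflLin_sub (Q : QuadraticForm F V) (v w : V) (hvw : Q v = Q w) (h : Q (v - w) ≠ 0) :
    reflLin Q (v - w) v = w := by
  rw [reflLin_apply]
  have h1 : QuadraticMap.polar (⇑Q) (v - w) v = Q (v - w) := by
    have e1 : Q (v - w) = Q v + Q w - QuadraticMap.polar (⇑Q) v w := by
      have h3 : Q (v - w) = Q (v + -w) := by rw [sub_eq_add_neg]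
      rw [h3]
      have h4 : Q (v + -w) = Q v + Q (-w) + QuadraticMap.polar (⇑Q) v (-w) := by
        simp only [QuadraticMap.polar]; ring
      rw [h4, QuadraticMap.map_neg, QuadraticMap.polar_neg_right]; ring
    rw [QuadraticMap.polar_sub_left, QuadraticMap.polar_self, QuadraticMap.polar_comm (⇑Q) w v, e1,
      hvw]
    simp only [nsmul_eq_mul, Nat.cast_ofNat]
    ring
  rw [h1, inv_mul_cancel₀ h, one_smul]; abel

/-- if `Q v = Q w` and `Q (v + w) ≠ 0`, the reflection in `v + w` sends `v` to `-w`. -/
theorem reflLin_add (Q : QuadraticForm F V) (v w : V) (hvw : Q v = Q w) (h : Q (v + w) ≠ 0) :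
    reflLin Q (v + w) v = -w := by
  have h' : Q (v - -w) ≠ 0 := by rwa [sub_neg_eq_add]
  have := reflLin_sub Q v (-w) (by rw [QuadraticMap.map_neg]; exact hvw) h'
  rwa [sub_neg_eq_add] at this

theorem reflLin_mul_self (Q : QuadraticForm F V) (u : V) (hu : Q u ≠ 0) :
    reflLin Q u * reflLin Q u = 1 := by
  apply LinearMap.ext
  intro x
  rw [Module.End.mul_apply, Module.End.one_apply, reflLin_apply Q u (reflLin Q u x), reflLin_apply,
    QuadraticMap.polar_sub_right, QuadraticMap.polar_smul_right, QuadraticMap.polar_self]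
  simp only [smul_eq_mul]
  have h2 : Q u * (Q u)⁻¹ = 1 := mul_inv_cancel₀ hu
  rw [sub_sub, ← add_smul]
  have : (Q u)⁻¹ * QuadraticMap.polar (⇑Q) u x +
      (Q u)⁻¹ * (QuadraticMap.polar (⇑Q) u x - (Q u)⁻¹ * QuadraticMap.polar (⇑Q) u x * (2 • Q u)) = 0 := by
    generalize QuadraticMap.polar (⇑Q) u x = b
    generalize (Q u)⁻¹ = i at h2 ⊢
    simp only [nsmul_eq_mul, Nat.cast_ofNat]
    linear_combination (-2 * b * i) * h2
  rw [this, zero_smul, sub_zero]

theorem prod_reverse_mul_prod (Q : QuadraticForm F V) (l : List V) (hl : ∀ u ∈ l, Q u ≠ 0) :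
    (l.reverse.map (reflLin Q)).prod * (l.map (reflLin Q)).prod = 1 := by
  induction l with
  | nil => simp
  | cons a t ih =>
    have ha : Q a ≠ 0 := hl a (List.mem_cons_self)
    have ht : ∀ u ∈ t, Q u ≠ 0 := fun u hu => hl u (List.mem_cons_of_mem _ hu)
    rw [List.reverse_cons, List.map_append, List.prod_append, List.map_cons, List.map_nil,
      List.prod_cons, List.prod_nil, mul_one, List.map_cons, List.prod_cons, mul_assoc,
      ← mul_assoc (reflLin Q a), reflLin_mul_self Q a ha, one_mul]
    exact ih ht

theorem prod_isometry (Q : QuadraticForm F V) (l : List V) (hl : ∀ u ∈ l, Q u ≠ 0) (x : V) :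
    Q ((l.map (reflLin Q)).prod x) = Q x := by
  induction l generalizing x with
  | nil => simp
  | cons a t ih =>
    have ha : Q a ≠ 0 := hl a (List.mem_cons_self)
    have ht : ∀ u ∈ t, Q u ≠ 0 := fun u hu => hl u (List.mem_cons_of_mem _ hu)
    rw [List.map_cons, List.prod_cons, Module.End.mul_apply, reflLin_isometry Q a ha]
    exact ih ht x

end refl

section main

variable {F : Type*} [Field F]

theorem polar_isometry {V : Type*} [AddCommGroup V] [Module F V] (Q : QuadraticForm F V)
    (g : Module.End F V) (hg : ∀ x, Q (g x) = Q x) (x y : V) :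
    QuadraticMap.polar (⇑Q) (g x) (g y) = QuadraticMap.polar (⇑Q) x y := by
  simp only [QuadraticMap.polar, ← map_add, hg]

theorem cartan_dieudonne_aux (h2 : (2 : F) ≠ 0) :
    ∀ (n : ℕ) (V : Type u) [AddCommGroup V] [Module F V] [FiniteDimensional F V]
      (Q : QuadraticForm F V), Module.finrank F V = n →
      (∀ x, (∀ y, QuadraticMap.polar (⇑Q) x y = 0) → x = 0) →
      ∀ g : Module.End F V, (∀ x, Q (g x) = Q x) →
        ∃ l : List V, (∀ u ∈ l, Q u ≠ 0) ∧ g = (l.map (reflLin Q)).prod := by
  intro n
  induction n using Nat.strong_induction_on with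
  | _ n ih =>
    intro V _ _ _ Q hn hnd g hg
    by_cases hQ0 : ∀ v, Q v = 0
    · have hsub : ∀ x : V, x = 0 := by
        intro x; apply hnd; intro y; simp [QuadraticMap.polar, hQ0]
      refine ⟨[], by simp, ?_⟩
      apply LinearMap.ext; intro x; rw [hsub x]; simp
    · push Not at hQ0
      obtain ⟨v, hv⟩ := hQ0
      set w := g v with hwdef
      have hw : Q w = Q v := hg v
      obtain ⟨l₀, hl₀, hl₀w⟩ : ∃ l₀ : List V, (∀ u ∈ l₀, Q u ≠ 0) ∧
          (l₀.map (reflLin Q)).prod w = v := by
        by_cases hA : Q (w - v) ≠ 0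
        · refine ⟨[w - v], by simpa using hA, ?_⟩
          simp [reflLin_sub Q w v hw hA]
        · push Not at hA
          have hB : Q (w + v) ≠ 0 := by
            intro hB
            have hpar : Q (w + v) + Q (w - v) = 2 * Q w + 2 * Q v := by
              have e1 : Q (w + v) = Q w + Q v + QuadraticMap.polar (⇑Q) w v := by
                simp only [QuadraticMap.polar]; ring
              have e2 : Q (w - v) = Q w + Q v - QuadraticMap.polar (⇑Q) w v := by
                have h3 : Q (w - v) = Q (w + -v) := by rw [sub_eq_add_neg]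
                have h4 : Q (w + -v) = Q w + Q (-v) + QuadraticMap.polar (⇑Q) w (-v) := by
                  simp only [QuadraticMap.polar]; ring
                rw [h3, h4, QuadraticMap.map_neg, QuadraticMap.polar_neg_right]; ring
              rw [e1, e2]; ring
            rw [hA, hB, hw] at hpar
            have : (2 : F) * 2 * Q v = 0 := by linear_combination -hpar
            rcases mul_eq_zero.mp this with h | h
            · rcases mul_eq_zero.mp h with h | h <;> exact h2 h
            · exact hv h
          refine ⟨[v, w + v], ?_, ?_⟩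
          · intro u hu
            simp only [List.mem_cons, List.mem_nil_iff, or_false] at hu
            rcases hu with rfl | rfl
            · exact hv
            · exact hB
          · simp only [List.map_cons, List.map_nil, List.prod_cons, List.prod_nil, mul_one,
              Module.End.mul_apply]
            rw [reflLin_add Q w v hw hB, map_neg, reflLin_self Q v hv, neg_neg]
      set ρ := (l₀.map (reflLin Q)).prod with hρ
      set g' : Module.End F V := ρ * g with hg'def
      have hg'v : g' v = v := hl₀w
      have hg' : ∀ x, Q (g' x) = Q x := fun x => by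
        rw [hg'def, Module.End.mul_apply, hρ, prod_isometry Q l₀ hl₀, hg]
      set W : Submodule F V := LinearMap.ker (QuadraticMap.polarBilin Q v) with hWdef
      have hWmem : ∀ x, x ∈ W ↔ QuadraticMap.polar (⇑Q) v x = 0 := by
        intro x; rw [hWdef, LinearMap.mem_ker, QuadraticMap.polarBilin_apply_apply]
      have hvv : QuadraticMap.polar (⇑Q) v v ≠ 0 := by
        rw [QuadraticMap.polar_self]
        simp only [nsmul_eq_mul, Nat.cast_ofNat]
        exact mul_ne_zero h2 hv
      have hvW : v ∉ W := by rw [hWmem]; exact hvv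
      have hWlt : Module.finrank F W < n := by
        rw [← hn]
        apply Submodule.finrank_lt
        intro htop
        apply hvW
        rw [htop]; trivial
      have hg'W : ∀ x ∈ W, g' x ∈ W := by
        intro x hx
        rw [hWmem] at hx ⊢
        have := polar_isometry Q g' hg' v x
        rw [hg'v] at this
        rw [this]; exact hx
      set QW : QuadraticForm F W := Q.comp W.subtype with hQWdef
      have hpolW : ∀ x y : W, QuadraticMap.polar (⇑QW) x y =
          QuadraticMap.polar (⇑Q) (x : V) (y : V) := by
        intro x y; rfl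
      have hdec : ∀ z : V, ∃ a : F, ∃ y ∈ W, z = a • v + y := by
        intro z
        refine ⟨QuadraticMap.polar (⇑Q) v z / QuadraticMap.polar (⇑Q) v v,
          z - (QuadraticMap.polar (⇑Q) v z / QuadraticMap.polar (⇑Q) v v) • v, ?_, by abel⟩
        rw [hWmem, QuadraticMap.polar_sub_right, QuadraticMap.polar_smul_right]
        simp only [smul_eq_mul]
        field_simp
        ring
      have hndW : ∀ x : W, (∀ y : W, QuadraticMap.polar (⇑QW) x y = 0) → x = 0 := by
        intro x hx
        apply Subtype.ext
        apply hnd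
        intro z
        obtain ⟨a, y, hy, rfl⟩ := hdec z
        rw [QuadraticMap.polar_add_right, QuadraticMap.polar_smul_right,
          QuadraticMap.polar_comm (⇑Q) (x : V) v, (hWmem x).mp x.2, smul_zero, zero_add]
        exact hx ⟨y, hy⟩
      set gW : Module.End F W := g'.restrict hg'W with hgWdef
      have hgW : ∀ x : W, QW (gW x) = QW x := fun x => hg' x
      obtain ⟨l', hl', hgWl'⟩ := ih (Module.finrank F W) hWlt W QW rfl hndW gW hgW
      have hl'' : ∀ u ∈ l'.map Subtype.val, Q u ≠ 0 := by
        intro u hu
        rw [List.mem_map] at hu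
        obtain ⟨u', hu', rfl⟩ := hu
        exact hl' u' hu'
      have hcompat : ∀ (l : List W) (x : W),
          ((l.map Subtype.val).map (reflLin Q)).prod (x : V) =
            (((l.map (reflLin QW)).prod x : W) : V) := by
        intro l
        induction l with
        | nil => intro x; simp
        | cons a t iht =>
          intro x
          simp only [List.map_cons, List.prod_cons, Module.End.mul_apply]
          rw [iht x, reflLin_apply, reflLin_apply]
          rfl
      have hfixv : ∀ (l : List W), ((l.map Subtype.val).map (reflLin Q)).prod v = v := by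
        intro l
        induction l with
        | nil => simp
        | cons a t iht =>
          simp only [List.map_cons, List.prod_cons, Module.End.mul_apply]
          rw [iht]
          apply reflLin_fix
          rw [QuadraticMap.polar_comm]
          exact (hWmem a).mp a.2
      have hg'eq : g' = ((l'.map Subtype.val).map (reflLin Q)).prod := by
        apply LinearMap.ext; intro z
        obtain ⟨a, y, hy, rfl⟩ := hdec z
        rw [map_add, map_smul, map_add, map_smul, hg'v, hfixv]
        congr 1
        have := hcompat l' ⟨y, hy⟩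
        rw [this, ← hgWl']
        rfl
      refine ⟨l₀.reverse ++ l'.map Subtype.val, ?_, ?_⟩
      · intro u hu
        rw [List.mem_append] at hu
        rcases hu with hu | hu
        · exact hl₀ u (List.mem_reverse.mp hu)
        · exact hl'' u hu
      · rw [List.map_append, List.prod_append, ← hg'eq, hg'def, ← mul_assoc, hρ,
          prod_reverse_mul_prod Q l₀ hl₀, one_mul]

end main

section matrix

open Matrix

variable {F : Type*} [Field F] {ι : Type} [Fintype ι] [DecidableEq ι]

theorem toLin'_reflectionMatrix (Q : QuadraticForm F (ι → F)) (u : ι → F) :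
    Matrix.toLin' (Cfsg.reflectionMatrix (⇑Q) u) = reflLin Q u := by
  apply LinearMap.ext
  intro x
  rw [Matrix.toLin'_apply, reflectionMatrix_mulVec, reflLin_apply]

/-- Cartan–Dieudonné for matrices: an isometry is a product of reflection matrices. -/
theorem isometry_eq_prod_reflectionMatrix (h2 : (2 : F) ≠ 0) (Q : QuadraticForm F (ι → F))
    (hQ : (QuadraticMap.polarBilin Q).Nondegenerate) (A : Matrix ι ι F)
    (hA : ∀ x, Q (A *ᵥ x) = Q x) :
    ∃ l : List (ι → F), (∀ u ∈ l, Q u ≠ 0) ∧ A = (l.map (Cfsg.reflectionMatrix (⇑Q))).prod := by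
  have hnd : ∀ x, (∀ y, QuadraticMap.polar (⇑Q) x y = 0) → x = 0 := by
    intro x hx
    apply hQ.1 x
    intro y
    rw [QuadraticMap.polarBilin_apply_apply]
    exact hx y
  obtain ⟨l, hl, hg⟩ := cartan_dieudonne_aux h2 _ (ι → F) Q rfl hnd (Matrix.toLin' A)
    (fun x => by rw [Matrix.toLin'_apply]; exact hA x)
  refine ⟨l, hl, ?_⟩
  apply (Matrix.toLinAlgEquiv' (R := F) (n := ι)).injective
  change Matrix.toLin' A = Matrix.toLinAlgEquiv' _
  rw [hg, map_list_prod, List.map_map]
  congr 1
  apply List.map_congr_left
  intro u _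
  exact (toLin'_reflectionMatrix Q u).symm

end matrix

end Cfsg.Agent.Lib.Helper19
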