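import Mathlib

/-!
# Keystone K-S1138-B (helper19): anisotropic quadratic maps between elementary abelian 2-groups

`card_le_sq_of_anisotropic`: an anisotropic quadratic map `s : V → W` between finite elementary
abelian 2-groups forces `|V| ≤ |W|^2` (Chevalley–Warning).
-/

set_option autoImplicit false

namespace Cfsg.Agent.Lib.Helper19.Hig

open MvPolynomial

/-- A finite additive group of exponent two is `(ZMod 2)^m`. -/
theorem exists_addEquiv_pi_zmod_two {V : Type*} [AddCommGroup V] [Finite V]
    (hV : ∀ v : V, v + v = 0) : ∃ m : ℕ, Nonempty (V ≃+ (Fin m → ZMod 2)) := by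
  have : Fact (Nat.Prime 2) := ⟨Nat.prime_two⟩
  let _ : Module (ZMod 2) V :=
    AddCommGroup.zmodModule (n := 2) (fun x => by rw [two_nsmul]; exact hV x)
  have : Module.Finite (ZMod 2) V := Module.Finite.of_finite
  exact ⟨_, ⟨(Module.finBasis (ZMod 2) V).equivFun.toAddEquiv⟩⟩

/-- In `ZMod 2` every element is `0` or `1`. -/
theorem zmod_two_cases (c : ZMod 2) : c = 0 ∨ c = 1 := by
  revert c; decide

/-- A quadratic form (in the polarisation sense) on `(ZMod 2)^m` is a polynomial function of
total degree at most two. -/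
theorem exists_poly_of_quadratic {m : ℕ} (q : (Fin m → ZMod 2) → ZMod 2)
    (b : (Fin m → ZMod 2) → (Fin m → ZMod 2) → ZMod 2)
    (hq : ∀ v v', q (v + v') = q v + q v' + b v v')
    (hbl : ∀ v v' v'', b (v + v') v'' = b v v'' + b v' v'')
    (hbr : ∀ v v' v'', b v (v' + v'') = b v v' + b v v'') :
    ∃ f : MvPolynomial (Fin m) (ZMod 2), f.totalDegree ≤ 2 ∧ ∀ x, MvPolynomial.eval x f = q x := by
  classical
  have hb0l : ∀ v, b 0 v = 0 := by
    intro v
    have h := hbl 0 0 v
    rw [add_zero] at h
    exact left_eq_add.mp h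
  have hb0r : ∀ v, b v 0 = 0 := by
    intro v
    have h := hbr v 0 0
    rw [add_zero] at h
    exact left_eq_add.mp h
  have hq0 : q 0 = 0 := by
    have h := hq 0 0
    rw [add_zero, hb0l, add_zero] at h
    exact left_eq_add.mp h
  -- scalars
  have hqs : ∀ (a : Fin m) (c : ZMod 2), q (Pi.single a c) = c * q (Pi.single a 1) := by
    intro a c
    rcases zmod_two_cases c with rfl | rfl
    · simp [hq0]
    · simp
  have hbs : ∀ (a j : Fin m) (c d : ZMod 2),
      b (Pi.single a c) (Pi.single j d) = c * d * b (Pi.single a 1) (Pi.single j 1) := by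
    intro a j c d
    rcases zmod_two_cases c with rfl | rfl
    · simp [hb0l]
    · rcases zmod_two_cases d with rfl | rfl
      · simp [hb0r]
      · simp
  have hbsum : ∀ (u : Fin m → ZMod 2) (S : Finset (Fin m)) (g : Fin m → (Fin m → ZMod 2)),
      b u (∑ j ∈ S, g j) = ∑ j ∈ S, b u (g j) := by
    intro u S g
    exact map_sum (AddMonoidHom.mk' (b u) (hbr u)) g S
  -- induction over index sets
  have key : ∀ S : Finset (Fin m), ∃ f : MvPolynomial (Fin m) (ZMod 2), f.totalDegree ≤ 2 ∧
      ∀ x : Fin m → ZMod 2, MvPolynomial.eval x f = q (∑ j ∈ S, Pi.single j (x j)) := by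
    intro S
    induction S using Finset.induction_on with
    | empty =>
      refine ⟨0, by simp, fun x => ?_⟩
      simp [hq0]
    | insert a S ha ih =>
      obtain ⟨f, hf2, hf⟩ := ih
      refine ⟨C (q (Pi.single a 1)) * X a + f
        + ∑ j ∈ S, C (b (Pi.single a 1) (Pi.single j 1)) * X a * X j, ?_, fun x => ?_⟩
      · refine (totalDegree_add _ _).trans (max_le ((totalDegree_add _ _).trans (max_le ?_ hf2)) ?_)
        · refine (totalDegree_mul _ _).trans ?_
          rw [totalDegree_C, totalDegree_X]; norm_num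
        · refine totalDegree_finsetSum_le (fun j _ => ?_)
          have h1 : (C (b (Pi.single a 1) (Pi.single j 1)) * X a :
              MvPolynomial (Fin m) (ZMod 2)).totalDegree ≤ 1 := by
            refine (totalDegree_mul _ _).trans ?_
            rw [totalDegree_C, totalDegree_X]
          have h2 := totalDegree_mul (C (b (Pi.single a 1) (Pi.single j 1)) * X a)
            (X j : MvPolynomial (Fin m) (ZMod 2))
          rw [totalDegree_X] at h2
          omega
      · rw [Finset.sum_insert ha, hq, hbsum, hqs a (x a), ← hf]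
        simp only [map_add, map_mul, map_sum, eval_C, eval_X]
        have : ∀ j ∈ S, b (Pi.single a (x a)) (Pi.single j (x j))
            = b (Pi.single a 1) (Pi.single j 1) * x a * x j := by
          intro j _
          rw [hbs]; ring
        rw [Finset.sum_congr rfl this]
        ring
  obtain ⟨f, hf2, hf⟩ := key Finset.univ
  refine ⟨f, hf2, fun x => ?_⟩
  rw [hf, Finset.univ_sum_single]

/-- Core case: `V = (ZMod 2)^m`, `W = (ZMod 2)^n`. -/
theorem le_two_mul_of_anisotropic {m n : ℕ}
    (s : (Fin m → ZMod 2) → (Fin n → ZMod 2))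
    (β : (Fin m → ZMod 2) → (Fin m → ZMod 2) → (Fin n → ZMod 2))
    (hs : ∀ v v', s (v + v') = s v + s v' + β v v')
    (hβl : ∀ v v' v'', β (v + v') v'' = β v v'' + β v' v'')
    (hβr : ∀ v v' v'', β v (v' + v'') = β v v' + β v v'')
    (haniso : ∀ v, s v = 0 → v = 0) : m ≤ 2 * n := by
  classical
  have : Fact (Nat.Prime 2) := ⟨Nat.prime_two⟩
  by_contra hlt
  push Not at hlt
  have hex : ∀ i : Fin n, ∃ f : MvPolynomial (Fin m) (ZMod 2), f.totalDegree ≤ 2 ∧
      ∀ x, MvPolynomial.eval x f = s x i := by
    intro i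
    refine exists_poly_of_quadratic (fun x => s x i) (fun x y => β x y i) ?_ ?_ ?_
    · intro v v'; simp [hs]
    · intro v v' v''; simp [hβl]
    · intro v v' v''; simp [hβr]
  choose f hf2 hf using hex
  have hdeg : ∑ i ∈ (Finset.univ : Finset (Fin n)), (f i).totalDegree
      < Fintype.card (Fin m) := by
    calc ∑ i ∈ (Finset.univ : Finset (Fin n)), (f i).totalDegree
        ≤ ∑ _i ∈ (Finset.univ : Finset (Fin n)), 2 := Finset.sum_le_sum (fun i _ => hf2 i)
      _ = 2 * n := by simp [mul_comm]
      _ < Fintype.card (Fin m) := by simpa using hlt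
  have hdvd := char_dvd_card_solutions_of_sum_lt (K := ZMod 2) (σ := Fin m) 2 hdeg
  have hcard : ∀ inst : Fintype
      { x : Fin m → ZMod 2 // ∀ i ∈ (Finset.univ : Finset (Fin n)),
        (MvPolynomial.eval x) (f i) = 0 }, @Fintype.card _ inst = 1 := by
    intro inst
    rw [Fintype.card_eq_one_iff]
    refine ⟨⟨0, fun i _ => ?_⟩, fun y => ?_⟩
    · rw [hf]
      have h0 : s 0 = 0 := by
        have hb0 : β 0 0 = 0 := by
          have h := hβl 0 0 0
          rw [add_zero] at h
          exact left_eq_add.mp h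
        have h := hs 0 0
        rw [add_zero, hb0, add_zero] at h
        exact left_eq_add.mp h
      rw [h0]; rfl
    · apply Subtype.ext
      apply haniso
      funext i
      have := y.2 i (Finset.mem_univ i)
      rw [hf] at this
      exact this
  rw [hcard] at hdvd
  exact absurd hdvd (by norm_num)

/-- **Keystone K-S1138-B.**  An anisotropic quadratic map between finite elementary abelian
2-groups `V → W` forces `|V| ≤ |W|^2`. -/
theorem card_le_sq_of_anisotropic {V W : Type*} [AddCommGroup V] [AddCommGroup W] [Finite V]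
    [Finite W] (hV : ∀ v : V, v + v = 0) (hW : ∀ w : W, w + w = 0)
    (s : V → W) (β : V → V → W)
    (hs : ∀ v v', s (v + v') = s v + s v' + β v v')
    (hβl : ∀ v v' v'', β (v + v') v'' = β v v'' + β v' v'')
    (hβr : ∀ v v' v'', β v (v' + v'') = β v v' + β v v'')
    (haniso : ∀ v, s v = 0 → v = 0) : Nat.card V ≤ Nat.card W ^ 2 := by
  obtain ⟨m, ⟨eV⟩⟩ := exists_addEquiv_pi_zmod_two hV
  obtain ⟨n, ⟨eW⟩⟩ := exists_addEquiv_pi_zmod_two hW
  have hmn : m ≤ 2 * n := by
    refine le_two_mul_of_anisotropic (fun x => eW (s (eV.symm x)))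
      (fun x y => eW (β (eV.symm x) (eV.symm y))) ?_ ?_ ?_ ?_
    · intro v v'; simp [hs]
    · intro v v' v''; simp [hβl]
    · intro v v' v''; simp [hβr]
    · intro v hv
      have h1 : s (eV.symm v) = 0 := by
        have := congrArg eW.symm hv
        simpa using this
      have h2 := haniso _ h1
      have := congrArg eV h2
      simpa using this
  have hcV : Nat.card V = 2 ^ m := by
    rw [Nat.card_congr eV.toEquiv, Nat.card_eq_fintype_card, Fintype.card_fun, ZMod.card,
      Fintype.card_fin]
  have hcW : Nat.card W = 2 ^ n := by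
    rw [Nat.card_congr eW.toEquiv, Nat.card_eq_fintype_card, Fintype.card_fun, ZMod.card,
      Fintype.card_fin]
  rw [hcV, hcW, ← pow_mul, mul_comm]
  exact Nat.pow_le_pow_right (by norm_num) hmn

end Cfsg.Agent.Lib.Helper19.Hig
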