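import Mathlib
import Cfsg.Agent.S0228
import Cfsg.Agent.S1012
import Cfsg.Agent.Lib.Helper97.DihRecog

set_option autoImplicit false

namespace Cfsg.Agent.Lib.Helper19.Recog

open scoped Pointwise

/-- order 12 with a self-normalising subgroup of order 3 is `A₄` -/
theorem a4_of_card {G : Type*} [Group G] [Finite G] (h : Nat.card G = 12) (X : Subgroup G)
    (hX : Nat.card X = 3) (hN : Subgroup.normalizer (X : Set G) = X) :
    Nonempty (G ≃* alternatingGroup (Fin 4)) := by
  apply Cfsg.Agent.S0228.result h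
  intro z hz hzc
  have hzN : z ∈ Subgroup.normalizer (X : Set G) := by
    rw [Subgroup.mem_normalizer_iff]
    intro x
    rw [Subgroup.mem_center_iff] at hzc
    have : z * x * z⁻¹ = x := by rw [← hzc x]; group
    rw [this]
  rw [hN] at hzN
  have := Subgroup.orderOf_dvd_natCard X hzN
  rw [hz, hX] at this
  omega

/-- order 24 with a subgroup of order 3 whose normaliser has order 6 and acts non-trivially
is `S₄` -/
theorem s4_of_card {G : Type*} [Group G] [Finite G] (h : Nat.card G = 24) (X : Subgroup G)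
    (hX : Nat.card X = 3) (hN : Nat.card (Subgroup.normalizer (X : Set G)) = 6)
    (hna : ∃ n ∈ Subgroup.normalizer (X : Set G), ∃ x ∈ X, n * x * n⁻¹ ≠ x) :
    Nonempty (G ≃* Equiv.Perm (Fin 4)) := by
  classical
  apply Cfsg.Agent.S1012.result h
  intro g hg
  have : Fact (Nat.Prime 3) := ⟨by norm_num⟩
  have h' : Nat.card G = 3 ^ 1 * 8 := by rw [h]; norm_num
  have hm : ¬ 3 ∣ 8 := by norm_num
  have hcQ : ∀ Q : Sylow 3 G, Nat.card ↥(Q : Subgroup G) = 3 := fun Q => by
    simpa using Cfsg.Agent.Lib.Helper23.sylow_card_of_card_eq 3 1 8 h' hm Q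
  obtain ⟨Q, hXQ⟩ := (IsPGroup.of_card (p := 3) (n := 1) (by rw [hX]; norm_num)).exists_le_sylow
    (P := X)
  have hQX : (Q : Subgroup G) = X :=
    (Subgroup.eq_of_le_of_card_ge hXQ (by rw [hcQ Q, hX])).symm
  have hy : orderOf (g ^ 2) = 3 := by
    rw [orderOf_pow, hg]; norm_num
  obtain ⟨Q', hyQ'⟩ := (IsPGroup.of_card (p := 3) (n := 1)
    (by rw [Nat.card_zpowers, hy]; norm_num)).exists_le_sylow (P := Subgroup.zpowers (g ^ 2))
  obtain ⟨k, hk⟩ := MulAction.exists_smul_eq G Q' Q
  have hky : k * g ^ 2 * k⁻¹ ∈ X := by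
    rw [← hQX, ← hk, Sylow.coe_subgroup_smul]
    rw [Subgroup.mem_smul_pointwise_iff_exists]
    exact ⟨g ^ 2, hyQ' (Subgroup.mem_zpowers _), by simp [MulAut.smul_def]⟩
  -- the conjugated element
  set g' := k * g * k⁻¹ with hg'
  have hg'6 : orderOf g' = 6 := by
    have := MulEquiv.orderOf_eq (MulAut.conj k) g
    rw [MulAut.conj_apply] at this
    rw [hg', this, hg]
  have hg'2 : g' ^ 2 = k * g ^ 2 * k⁻¹ := by rw [hg', conj_pow]
  have hy' : orderOf (g' ^ 2) = 3 := by
    rw [orderOf_pow, hg'6]; norm_num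
  have hX' : Subgroup.zpowers (g' ^ 2) = X := by
    apply Subgroup.eq_of_le_of_card_ge
    · rw [Subgroup.zpowers_le, hg'2]; exact hky
    · rw [Nat.card_zpowers, hy', hX]
  have hc : ∀ x ∈ X, g' * x * g'⁻¹ = x := by
    intro x hx
    rw [← hX', Subgroup.mem_zpowers_iff] at hx
    obtain ⟨b, rfl⟩ := hx
    have : Commute g' ((g' ^ 2) ^ b) := ((Commute.refl g').pow_right 2).zpow_right b
    rw [this.eq]; group
  have hmem : g' ∈ Subgroup.normalizer (X : Set G) := by
    rw [Subgroup.mem_normalizer_iff]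
    intro x
    constructor
    · intro hx; rw [hc x hx]; exact hx
    · intro hx
      have h1 := hc _ hx
      have h2 : g' * x * g'⁻¹ = x := by
        have := congrArg (fun t => g'⁻¹ * t * g') h1
        simpa [mul_assoc] using this
      rw [h2] at hx; exact hx
  have hZ : Subgroup.zpowers g' = Subgroup.normalizer (X : Set G) := by
    apply Subgroup.eq_of_le_of_card_ge
    · rw [Subgroup.zpowers_le]; exact hmem
    · rw [Nat.card_zpowers, hg'6, hN]
  obtain ⟨n, hn, x, hx, hne⟩ := hna
  apply hne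
  rw [← hZ, Subgroup.mem_zpowers_iff] at hn
  obtain ⟨a, rfl⟩ := hn
  rw [← hX', Subgroup.mem_zpowers_iff] at hx
  obtain ⟨b, rfl⟩ := hx
  have : Commute (g' ^ a) ((g' ^ 2) ^ b) :=
    (((Commute.refl g').pow_right 2).zpow_right b).zpow_left a
  rw [this.eq]; group

/-- a group with a cyclic subgroup of index two all of whose outside elements are involutions
is dihedral -/
theorem dihedral_of_index_two {G : Type*} [Group G] [Finite G] (Y : Subgroup G) [IsCyclic Y]
    (hi : Y.index = 2) (hinv : ∀ g : G, g ∉ Y → g ^ 2 = 1) :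
    Nonempty (G ≃* DihedralGroup (Nat.card Y)) := by
  classical
  obtain ⟨⟨c, hcY⟩, hc⟩ := IsCyclic.exists_generator (α := Y)
  have hne : NeZero (Nat.card Y) := ⟨Nat.card_pos.ne'⟩
  have hYtop : Y ≠ ⊤ := by
    intro h
    rw [h, Subgroup.index_top] at hi
    omega
  obtain ⟨b, hb⟩ : ∃ b : G, b ∉ Y := by
    by_contra hcon
    push Not at hcon
    exact hYtop (Subgroup.eq_top_iff' Y |>.mpr hcon)
  have hzp : Subgroup.zpowers c = Y := by
    apply le_antisymm
    · rw [Subgroup.zpowers_le]; exact hcY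
    · intro y hy
      obtain ⟨k, hk⟩ := Subgroup.mem_zpowers_iff.mp (hc ⟨y, hy⟩)
      rw [Subgroup.mem_zpowers_iff]
      refine ⟨k, ?_⟩
      have := congrArg Subtype.val hk
      simpa using this
  have hord : orderOf c = Nat.card Y := by
    rw [← Nat.card_zpowers, hzp]
  have hbb : b * b = 1 := by rw [← pow_two]; exact hinv b hb
  have hbc : b * c ∉ Y := by
    intro h
    apply hb
    have : b = (b * c) * c⁻¹ := by group
    rw [this]
    exact Y.mul_mem h (Y.inv_mem hcY)
  have hbcbc : (b * c) * (b * c) = 1 := by rw [← pow_two]; exact hinv _ hbc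
  have hbinv : b⁻¹ = b := inv_eq_of_mul_eq_one_right hbb
  have hcb : b * c * b⁻¹ = c⁻¹ := by
    rw [hbinv]
    have : b * c * b * c = 1 := by rw [← hbcbc]; group
    exact eq_inv_of_mul_eq_one_left this
  exact Cfsg.Agent.Lib.Helper97.nonempty_mulEquiv_dihedral (Nat.card Y) c b
    (by rw [← Subgroup.card_mul_index Y, hi, mul_comm]) hord hbb hcb (by rw [hzp]; exact hb)

end Cfsg.Agent.Lib.Helper19.Recog
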