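import Mathlib
import Cfsg.Agent.Lib.Helper05.A10Defs

set_option autoImplicit false

/-! Keystone 348910 (K-A10-C3) of helper5's pack for S3489: `Φ_m(M) = 0`, `m` even ⇒ `M ^ (m / 2) = -1`. -/

namespace Cfsg.Agent.Lib.Helper19.A10Iso

open Matrix Cfsg.Agent.Lib.Helper05.A10Iso

theorem pow_half_of_cyc (M : M4) (m : ℕ) (hm : m ∈ orders) (he : Even m) (h : cyc m M = 0) :
    M ^ (m / 2) = -1 := by
  simp only [orders, Finset.mem_insert, Finset.mem_singleton] at hm
  rcases hm with rfl | rfl | rfl | rfl | rfl | rfl | rfl | rfl | rfl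
  · exact absurd he (by decide)
  · simp only [cyc] at h
    norm_num at h
    show M ^ 1 = -1
    rw [pow_one]
    exact eq_neg_of_add_eq_zero_left h
  · exact absurd he (by decide)
  · simp only [cyc] at h
    norm_num at h
    show M ^ 2 = -1
    exact eq_neg_of_add_eq_zero_left h
  · exact absurd he (by decide)
  · simp only [cyc] at h
    norm_num at h
    show M ^ 3 = -1
    apply eq_neg_of_add_eq_zero_left
    have : M ^ 3 + 1 = (M + 1) * (M ^ 2 - M + 1) := by noncomm_ring
    rw [this, h, mul_zero]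
  · simp only [cyc] at h
    norm_num at h
    show M ^ 4 = -1
    exact eq_neg_of_add_eq_zero_left h
  · simp only [cyc] at h
    norm_num at h
    show M ^ 5 = -1
    apply eq_neg_of_add_eq_zero_left
    have : M ^ 5 + 1 = (M + 1) * (M ^ 4 - M ^ 3 + M ^ 2 - M + 1) := by noncomm_ring
    rw [this, h, mul_zero]
  · simp only [cyc] at h
    norm_num at h
    show M ^ 6 = -1
    apply eq_neg_of_add_eq_zero_left
    have : M ^ 6 + 1 = (M ^ 2 + 1) * (M ^ 4 - M ^ 2 + 1) := by noncomm_ring
    rw [this, h, mul_zero]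

end Cfsg.Agent.Lib.Helper19.A10Iso
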