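import Mathlib
import Cfsg.Prelude.Def_GeometricClasses
import Cfsg.Agent.Lib.Helper61.AschDefs
import Cfsg.Agent.Lib.Helper19.AschD2Core
import Cfsg.Agent.Lib.Helper23.AschC2
import Cfsg.Agent.Lib.Helper23.AschC3
import Cfsg.Agent.Lib.Helper22.AschC4
import Cfsg.Agent.Lib.Helper42.AschC5
import Cfsg.Agent.Lib.Helper72.AschC6

/-!
K-S5630-D2 (helper19): exact-signature wrapper of `geom_of_symplecticType_core` (Lib/Helper19/AschD2Core.lean),
plugging in the delivered keystones C2, C3 (helper23), C4 (helper22), C5 (helper42), C6 (helper72).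
-/

set_option autoImplicit false

namespace Cfsg.Agent.Lib.Helper19.Asch

open Cfsg Cfsg.Geo Cfsg.Agent.Lib.Helper61.Asch
open scoped Matrix Kronecker MatrixGroups

variable {F : Type*} [Field F] [Fintype F] {n : ℕ}

local notation "V" => (Fin n → F)
local notation "Mat" => Matrix (Fin n) (Fin n) F
local notation "Z" => scalars (Fin n) F

/-- K-S5630-D2. -/
theorem geom_of_symplecticType (K R : Subgroup (GL (Fin n) F)) (hn : 3 ≤ n) (hKR : NormBy K R)
    (hspan : spanAlg R = ⊤) (r : ℕ) (hR : IsSymplecticTypeGroup r R) (hrq : ¬ (r ∣ Fintype.card F))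
    (htr : ∀ x ∈ R, x ∈ Z ∨ Matrix.trace ((x : GL (Fin n) F) : Mat) = 0)
    (_hexp : ∀ x ∈ R, x ^ (r * Nat.gcd 2 r) = 1) (m : ℕ) (hm : 1 ≤ m) (hnm : n = r ^ m)
    (hcen : Nat.card (Subgroup.center R) = Nat.gcd (r * Nat.gcd 2 r) (Fintype.card F - 1))
    (hcard : Nat.card R = Nat.card (Subgroup.center R) * r ^ (2 * m)) : Geom K :=
  geom_of_symplecticType_core K R hn hKR hspan r hR hrq htr m hm hnm hcen hcard
    (fun h => Cfsg.Agent.Lib.Helper23.Asch.exists_form_of_trace_inv R (by omega) hspan h)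
    (fun σ h1 h2 h3 => Cfsg.Agent.Lib.Helper23.Asch.exists_unitary_of_trace_inv R hspan σ h1 h2 h3)
    (fun f hf hfix => Cfsg.Agent.Lib.Helper22.Asch.le_similarityGroup_of_fixes_symplectic K R hspan hKR f hf hfix)
    (fun σ f hf hfix => Cfsg.Agent.Lib.Helper22.Asch.le_similarityGroup_of_fixes_unitary K R hspan hKR σ f hf hfix)
    (fun hodd Q hQ hfix => Cfsg.Agent.Lib.Helper22.Asch.le_quadSimilarityGroup_of_fixes K R hspan hKR hodd Q hQ hfix)
    (fun F₀ h => Cfsg.Agent.Lib.Helper42.Asch.realisableOver_of_trace_mem R hspan F₀ h)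
    (fun F₀ h1 h2 => Cfsg.Agent.Lib.Helper72.Asch.le_subfieldSubgroup_of_realisable K R hspan hKR F₀ h1 h2)

end Cfsg.Agent.Lib.Helper19.Asch
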