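import Mathlib

set_option autoImplicit false

/-! Bezout certificates in `F_4[x]` (with `w^2+w+1=0`, `2=0`): for each monic cubic
`x^3 + a x^2 + b x + 1`, a relation `x^e - c = U * cubic + V * (x^45 - 1)`. -/

namespace Cfsg.Agent.Lib.Helper19.F4Certs

theorem cert_0_0 {R : Type*} [CommRing R] (x w : R) (hw : w ^ 2 + w + 1 = 0) (h2 : (2 : R) = 0) :
    x ^ 3 - 1 = (1) * (x ^ 3 + 0 * x ^ 2 + 0 * x + 1) + (0) * (x ^ 45 - 1) := by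
  linear_combination (0) * hw + ((-1)) * h2

theorem cert_0_1 {R : Type*} [CommRing R] (x w : R) (hw : w ^ 2 + w + 1 = 0) (h2 : (2 : R) = 0) :
    x ^ 3 - 1 = (x ^ 3 + x ^ 4 + x ^ 5 + x ^ 7 + x ^ 10 + x ^ 11 + x ^ 12 + x ^ 14 + x ^ 17 + x ^ 18 + x ^ 19 + x ^ 21 + x ^ 24 + x ^ 25 + x ^ 26 + x ^ 28 + x ^ 31 + x ^ 32 + x ^ 33 + x ^ 35 + x ^ 38 + x ^ 39 + x ^ 40 + x ^ 42) * (x ^ 3 + 0 * x ^ 2 + 1 * x + 1) + (1) * (x ^ 45 - 1) := by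
  linear_combination (0) * hw + ((-1) * x ^ 4 + (-1) * x ^ 5 + (-1) * x ^ 6 + (-1) * x ^ 7 + (-1) * x ^ 8 + (-1) * x ^ 10 + (-1) * x ^ 11 + (-1) * x ^ 12 + (-1) * x ^ 13 + (-1) * x ^ 14 + (-1) * x ^ 15 + (-1) * x ^ 17 + (-1) * x ^ 18 + (-1) * x ^ 19 + (-1) * x ^ 20 + (-1) * x ^ 21 + (-1) * x ^ 22 + (-1) * x ^ 24 + (-1) * x ^ 25 + (-1) * x ^ 26 + (-1) * x ^ 27 + (-1) * x ^ 28 + (-1) * x ^ 29 + (-1) * x ^ 31 + (-1) * x ^ 32 + (-1) * x ^ 33 + (-1) * x ^ 34 + (-1) * x ^ 35 + (-1) * x ^ 36 + (-1) * x ^ 38 + (-1) * x ^ 39 + (-1) * x ^ 40 + (-1) * x ^ 41 + (-1) * x ^ 42 + (-1) * x ^ 43 + (-1) * x ^ 45) * h2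

theorem cert_0_w {R : Type*} [CommRing R] (x w : R) (hw : w ^ 2 + w + 1 = 0) (h2 : (2 : R) = 0) :
    x ^ 3 - 1 = (x ^ 3 + w * x ^ 4 + (w + 1) * x ^ 5 + w * x ^ 7 + w * x ^ 10 + (w + 1) * x ^ 11 + x ^ 12 + (w + 1) * x ^ 14 + (w + 1) * x ^ 17 + x ^ 18 + w * x ^ 19 + x ^ 21 + x ^ 24 + w * x ^ 25 + (w + 1) * x ^ 26 + w * x ^ 28 + w * x ^ 31 + (w + 1) * x ^ 32 + x ^ 33 + (w + 1) * x ^ 35 + (w + 1) * x ^ 38 + x ^ 39 + w * x ^ 40 + x ^ 42) * (x ^ 3 + 0 * x ^ 2 + w * x + 1) + (1) * (x ^ 45 - 1) := by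
  linear_combination ((-1) * x ^ 5 + (-1) * x ^ 6 + (-1) * x ^ 8 + (-1) * x ^ 11 + (-1) * x ^ 12 + (-1) * x ^ 15 + (-1) * x ^ 18 + (-1) * x ^ 20 + (-1) * x ^ 26 + (-1) * x ^ 27 + (-1) * x ^ 29 + (-1) * x ^ 32 + (-1) * x ^ 33 + (-1) * x ^ 36 + (-1) * x ^ 39 + (-1) * x ^ 41) * hw + ((-1) * x ^ 4 * w + (-1) * x ^ 7 * w + (-1) * x ^ 10 * w + (-1) * x ^ 13 * w + (-1) * x ^ 14 + (-1) * x ^ 14 * w + (-1) * x ^ 17 + (-1) * x ^ 17 * w + (-1) * x ^ 19 * w + (-1) * x ^ 21 + (-1) * x ^ 22 * w + (-1) * x ^ 24 + (-1) * x ^ 25 * w + (-1) * x ^ 28 * w + (-1) * x ^ 31 * w + (-1) * x ^ 34 * w + (-1) * x ^ 35 + (-1) * x ^ 35 * w + (-1) * x ^ 38 + (-1) * x ^ 38 * w + (-1) * x ^ 40 * w + (-1) * x ^ 42 + (-1) * x ^ 43 * w + (-1) * x ^ 45) * h2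

theorem cert_0_w1 {R : Type*} [CommRing R] (x w : R) (hw : w ^ 2 + w + 1 = 0) (h2 : (2 : R) = 0) :
    x ^ 3 - 1 = (x ^ 3 + (w + 1) * x ^ 4 + w * x ^ 5 + (w + 1) * x ^ 7 + (w + 1) * x ^ 10 + w * x ^ 11 + x ^ 12 + w * x ^ 14 + w * x ^ 17 + x ^ 18 + (w + 1) * x ^ 19 + x ^ 21 + x ^ 24 + (w + 1) * x ^ 25 + w * x ^ 26 + (w + 1) * x ^ 28 + (w + 1) * x ^ 31 + w * x ^ 32 + x ^ 33 + w * x ^ 35 + w * x ^ 38 + x ^ 39 + (w + 1) * x ^ 40 + x ^ 42) * (x ^ 3 + 0 * x ^ 2 + (w + 1) * x + 1) + (1) * (x ^ 45 - 1) := by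
  linear_combination ((-1) * x ^ 5 + (-1) * x ^ 6 + (-1) * x ^ 8 + (-1) * x ^ 11 + (-1) * x ^ 12 + (-1) * x ^ 15 + (-1) * x ^ 18 + (-1) * x ^ 20 + (-1) * x ^ 26 + (-1) * x ^ 27 + (-1) * x ^ 29 + (-1) * x ^ 32 + (-1) * x ^ 33 + (-1) * x ^ 36 + (-1) * x ^ 39 + (-1) * x ^ 41) * hw + ((-1) * x ^ 4 + (-1) * x ^ 4 * w + (-1) * x ^ 5 * w + (-1) * x ^ 7 + (-1) * x ^ 7 * w + (-1) * x ^ 8 * w + (-1) * x ^ 10 + (-1) * x ^ 10 * w + (-1) * x ^ 11 * w + (-1) * x ^ 13 + (-1) * x ^ 13 * w + (-1) * x ^ 14 * w + (-1) * x ^ 17 * w + (-1) * x ^ 19 + (-1) * x ^ 19 * w + (-1) * x ^ 20 * w + (-1) * x ^ 21 + (-1) * x ^ 22 + (-1) * x ^ 22 * w + (-1) * x ^ 24 + (-1) * x ^ 25 + (-1) * x ^ 25 * w + (-1) * x ^ 26 * w + (-1) * x ^ 28 + (-1) * x ^ 28 * w + (-1) * x ^ 29 * w + (-1) * x ^ 31 + (-1)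 * x ^ 31 * w + (-1) * x ^ 32 * w + (-1) * x ^ 34 + (-1) * x ^ 34 * w + (-1) * x ^ 35 * w + (-1) * x ^ 38 * w + (-1) * x ^ 40 + (-1) * x ^ 40 * w + (-1) * x ^ 41 * w + (-1) * x ^ 42 + (-1) * x ^ 43 + (-1) * x ^ 43 * w + (-1) * x ^ 45) * h2

theorem cert_1_0 {R : Type*} [CommRing R] (x w : R) (hw : w ^ 2 + w + 1 = 0) (h2 : (2 : R) = 0) :
    x ^ 3 - 1 = (x ^ 3 + x ^ 5 + x ^ 6 + x ^ 7 + x ^ 10 + x ^ 12 + x ^ 13 + x ^ 14 + x ^ 17 + x ^ 19 + x ^ 20 + x ^ 21 + x ^ 24 + x ^ 26 + x ^ 27 + x ^ 28 + x ^ 31 + x ^ 33 + x ^ 34 + x ^ 35 + x ^ 38 + x ^ 40 + x ^ 41 + x ^ 42) * (x ^ 3 + 1 * x ^ 2 + 0 * x + 1) + (1) * (x ^ 45 - 1) := by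
  linear_combination (0) * hw + ((-1) * x ^ 5 + (-1) * x ^ 6 + (-1) * x ^ 7 + (-1) * x ^ 8 + (-1) * x ^ 9 + (-1) * x ^ 10 + (-1) * x ^ 12 + (-1) * x ^ 13 + (-1) * x ^ 14 + (-1) * x ^ 15 + (-1) * x ^ 16 + (-1) * x ^ 17 + (-1) * x ^ 19 + (-1) * x ^ 20 + (-1) * x ^ 21 + (-1) * x ^ 22 + (-1) * x ^ 23 + (-1) * x ^ 24 + (-1) * x ^ 26 + (-1) * x ^ 27 + (-1) * x ^ 28 + (-1) * x ^ 29 + (-1) * x ^ 30 + (-1) * x ^ 31 + (-1) * x ^ 33 + (-1) * x ^ 34 + (-1) * x ^ 35 + (-1) * x ^ 36 + (-1) * x ^ 37 + (-1) * x ^ 38 + (-1) * x ^ 40 + (-1) * x ^ 41 + (-1) * x ^ 42 + (-1) * x ^ 43 + (-1) * x ^ 44 + (-1) * x ^ 45) * h2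

theorem cert_1_1 {R : Type*} [CommRing R] (x w : R) (hw : w ^ 2 + w + 1 = 0) (h2 : (2 : R) = 0) :
    x ^ 3 - 1 = (x + x ^ 4 + x ^ 5 + x ^ 8 + x ^ 9 + x ^ 12 + x ^ 13 + x ^ 16 + x ^ 17 + x ^ 20 + x ^ 21 + x ^ 24 + x ^ 25 + x ^ 28 + x ^ 29 + x ^ 32 + x ^ 33 + x ^ 36 + x ^ 37 + x ^ 40 + x ^ 41 + x ^ 44) * (x ^ 3 + 1 * x ^ 2 + 1 * x + 1) + (1 + x + x ^ 2) * (x ^ 45 - 1) := by
  linear_combination (0) * hw + ((-1) * x ^ 4 + (-1) * x ^ 5 + (-1) * x ^ 6 + (-1) * x ^ 7 + (-1) * x ^ 8 + (-1) * x ^ 9 + (-1) * x ^ 10 + (-1) * x ^ 11 + (-1) * x ^ 12 + (-1) * x ^ 13 + (-1) * x ^ 14 + (-1) * x ^ 15 + (-1) * x ^ 16 + (-1) * x ^ 17 + (-1) * x ^ 18 + (-1) * x ^ 19 + (-1) * x ^ 20 + (-1) * x ^ 21 + (-1) * x ^ 22 + (-1) * x ^ 23 + (-1) * x ^ 24 + (-1) * x ^ 25 + (-1) * x ^ 26 + (-1)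 * x ^ 27 + (-1) * x ^ 28 + (-1) * x ^ 29 + (-1) * x ^ 30 + (-1) * x ^ 31 + (-1) * x ^ 32 + (-1) * x ^ 33 + (-1) * x ^ 34 + (-1) * x ^ 35 + (-1) * x ^ 36 + (-1) * x ^ 37 + (-1) * x ^ 38 + (-1) * x ^ 39 + (-1) * x ^ 40 + (-1) * x ^ 41 + (-1) * x ^ 42 + (-1) * x ^ 43 + (-1) * x ^ 44 + (-1) * x ^ 45 + (-1) * x ^ 46 + (-1) * x ^ 47) * h2

theorem cert_1_w {R : Type*} [CommRing R] (x w : R) (hw : w ^ 2 + w + 1 = 0) (h2 : (2 : R) = 0) :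
    x ^ 5 - (w + 1) = ((w + 1) + x + x ^ 2) * (x ^ 3 + 1 * x ^ 2 + w * x + 1) + (0) * (x ^ 45 - 1) := by
  linear_combination ((-1) * x) * hw + ((-1) + (-1) * w + (-1) * x ^ 2 + (-1) * x ^ 2 * w + (-1) * x ^ 3 + (-1) * x ^ 3 * w + (-1) * x ^ 4) * h2

theorem cert_1_w1 {R : Type*} [CommRing R] (x w : R) (hw : w ^ 2 + w + 1 = 0) (h2 : (2 : R) = 0) :
    x ^ 5 - w = (w + x + x ^ 2) * (x ^ 3 + 1 * x ^ 2 + (w + 1) * x + 1) + (0) * (x ^ 45 - 1) := by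
  linear_combination ((-1) * x) * hw + ((-1) * w + (-1) * x ^ 2 + (-1) * x ^ 2 * w + (-1) * x ^ 3 + (-1) * x ^ 3 * w + (-1) * x ^ 4) * h2

theorem cert_w_0 {R : Type*} [CommRing R] (x w : R) (hw : w ^ 2 + w + 1 = 0) (h2 : (2 : R) = 0) :
    x ^ 3 - 1 = (x ^ 3 + w * x ^ 5 + x ^ 6 + (w + 1) * x ^ 7 + (w + 1) * x ^ 10 + x ^ 12 + (w + 1) * x ^ 13 + w * x ^ 14 + w * x ^ 17 + (w + 1) * x ^ 19 + w * x ^ 20 + x ^ 21 + x ^ 24 + w * x ^ 26 + x ^ 27 + (w + 1) * x ^ 28 + (w + 1) * x ^ 31 + x ^ 33 + (w + 1) * x ^ 34 + w * x ^ 35 + w * x ^ 38 + (w + 1) * x ^ 40 + w * x ^ 41 + x ^ 42) * (x ^ 3 + w * x ^ 2 + 0 * x + 1) + (1) * (x ^ 45 - 1) := by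
  linear_combination ((-1) * x ^ 7 + (-1) * x ^ 9 + (-1) * x ^ 12 + (-1) * x ^ 15 + (-1) * x ^ 16 + (-1) * x ^ 19 + (-1) * x ^ 21 + (-1) * x ^ 22 + (-1) * x ^ 28 + (-1) * x ^ 30 + (-1) * x ^ 33 + (-1) * x ^ 36 + (-1) * x ^ 37 + (-1) * x ^ 40 + (-1) * x ^ 42 + (-1) * x ^ 43) * hw + ((-1) * x ^ 5 * w + (-1) * x ^ 6 + (-1) * x ^ 8 * w + (-1) * x ^ 10 + (-1) * x ^ 10 * w + (-1) * x ^ 13 + (-1) * x ^ 13 * w + (-1) * x ^ 14 * w + (-1) * x ^ 17 * w + (-1) * x ^ 20 * w + (-1) * x ^ 23 * w + (-1) * x ^ 24 + (-1) * x ^ 26 * w + (-1) * x ^ 27 + (-1) * x ^ 29 * w + (-1) * x ^ 31 + (-1) * x ^ 31 * w + (-1) * x ^ 34 + (-1) * x ^ 34 * w + (-1) * x ^ 35 * w + (-1) * x ^ 38 * w + (-1) * x ^ 41 * w + (-1) * x ^ 44 * w + (-1) * x ^ 45) * h2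

theorem cert_w_1 {R : Type*} [CommRing R] (x w : R) (hw : w ^ 2 + w + 1 = 0) (h2 : (2 : R) = 0) :
    x ^ 5 - w = (w + w * x + x ^ 2) * (x ^ 3 + w * x ^ 2 + 1 * x + 1) + (0) * (x ^ 45 - 1) := by
  linear_combination ((-1) * x ^ 2 + (-1) * x ^ 3) * hw + ((-1) * w + (-1) * x * w + (-1) * x ^ 4 * w) * h2

theorem cert_w_w {R : Type*} [CommRing R] (x w : R) (hw : w ^ 2 + w + 1 = 0) (h2 : (2 : R) = 0) :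
    x ^ 5 - 1 = (1 + w * x + x ^ 2) * (x ^ 3 + w * x ^ 2 + w * x + 1) + (0) * (x ^ 45 - 1) := by
  linear_combination ((-1) * x ^ 2 + (-1) * x ^ 3) * hw + ((-1) + (-1) * x * w + (-1) * x ^ 4 * w) * h2

theorem cert_w_w1 {R : Type*} [CommRing R] (x w : R) (hw : w ^ 2 + w + 1 = 0) (h2 : (2 : R) = 0) :
    x ^ 3 - 1 = ((w + 1) * x + (w + 1) * x ^ 4 + w * x ^ 5 + w * x ^ 8 + x ^ 9 + x ^ 12 + (w + 1) * x ^ 13 + (w + 1) * x ^ 16 + w * x ^ 17 + w * x ^ 20 + x ^ 21 + x ^ 24 + (w + 1) * x ^ 25 + (w + 1) * x ^ 28 + w * x ^ 29 + w * x ^ 32 + x ^ 33 + x ^ 36 + (w + 1) * x ^ 37 + (w + 1) * x ^ 40 + w * x ^ 41 + w * x ^ 44) * (x ^ 3 + w * x ^ 2 + (w + 1) * x + 1) + (1 + (w + 1) * x + w * x ^ 2) * (x ^ 45 - 1) := by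
  linear_combination ((-1) * x ^ 2 + (-1) * x ^ 3 + (-1) * x ^ 5 + (-2) * x ^ 6 + (-1) * x ^ 7 + (-1) * x ^ 9 + (-1) * x ^ 10 + (-1) * x ^ 14 + (-1) * x ^ 15 + (-1) * x ^ 17 + (-2) * x ^ 18 + (-1) * x ^ 19 + (-1) * x ^ 21 + (-1) * x ^ 22 + (-1) * x ^ 26 + (-1) * x ^ 27 + (-1) * x ^ 29 + (-2) * x ^ 30 + (-1) * x ^ 31 + (-1) * x ^ 33 + (-1) * x ^ 34 + (-1) * x ^ 38 + (-1) * x ^ 39 + (-1) * x ^ 41 + (-2) * x ^ 42 + (-1) * x ^ 43 + (-1) * x ^ 45 + (-1) * x ^ 46) * hw + (x ^ 3 + (-1) * x ^ 4 + (-1) * x ^ 4 * w + (-1) * x ^ 5 * w + x ^ 6 + (-1) * x ^ 8 * w + (-1) * x ^ 11 * w + (-1) * x ^ 12 + (-1) * x ^ 13 + (-1) * x ^ 13 * w + (-1) * x ^ 14 * w + (-1) * x ^ 16 + (-1) * x ^ 16 * w + (-1) * x ^ 17 * w + x ^ 18 + (-1) * x ^ 20 * w + (-1) * x ^ 23 * w + (-1) * x ^ 24 + (-1)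 * x ^ 25 + (-1) * x ^ 25 * w + (-1) * x ^ 26 * w + (-1) * x ^ 28 + (-1) * x ^ 28 * w + (-1) * x ^ 29 * w + x ^ 30 + (-1) * x ^ 32 * w + (-1) * x ^ 35 * w + (-1) * x ^ 36 + (-1) * x ^ 37 + (-1) * x ^ 37 * w + (-1) * x ^ 38 * w + (-1) * x ^ 40 + (-1) * x ^ 40 * w + (-1) * x ^ 41 * w + x ^ 42 + (-1) * x ^ 44 * w + (-1) * x ^ 47 * w) * h2

theorem cert_w1_0 {R : Type*} [CommRing R] (x w : R) (hw : w ^ 2 + w + 1 = 0) (h2 : (2 : R) = 0) :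
    x ^ 3 - 1 = (x ^ 3 + (w + 1) * x ^ 5 + x ^ 6 + w * x ^ 7 + w * x ^ 10 + x ^ 12 + w * x ^ 13 + (w + 1) * x ^ 14 + (w + 1) * x ^ 17 + w * x ^ 19 + (w + 1) * x ^ 20 + x ^ 21 + x ^ 24 + (w + 1) * x ^ 26 + x ^ 27 + w * x ^ 28 + w * x ^ 31 + x ^ 33 + w * x ^ 34 + (w + 1) * x ^ 35 + (w + 1) * x ^ 38 + w * x ^ 40 + (w + 1) * x ^ 41 + x ^ 42) * (x ^ 3 + (w + 1) * x ^ 2 + 0 * x + 1) + (1) * (x ^ 45 - 1) := by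
  linear_combination ((-1) * x ^ 7 + (-1) * x ^ 9 + (-1) * x ^ 12 + (-1) * x ^ 15 + (-1) * x ^ 16 + (-1) * x ^ 19 + (-1) * x ^ 21 + (-1) * x ^ 22 + (-1) * x ^ 28 + (-1) * x ^ 30 + (-1) * x ^ 33 + (-1) * x ^ 36 + (-1) * x ^ 37 + (-1) * x ^ 40 + (-1) * x ^ 42 + (-1) * x ^ 43) * hw + ((-1) * x ^ 5 + (-1) * x ^ 5 * w + (-1) * x ^ 6 + (-1) * x ^ 7 * w + (-1) * x ^ 8 + (-1) * x ^ 8 * w + (-1) * x ^ 10 * w + (-1) * x ^ 13 * w + (-1) * x ^ 14 + (-1) * x ^ 14 * w + (-1) * x ^ 16 * w + (-1) * x ^ 17 + (-1) * x ^ 17 * w + (-1) * x ^ 19 * w + (-1) * x ^ 20 + (-1) * x ^ 20 * w + (-1) * x ^ 22 * w + (-1) * x ^ 23 + (-1) * x ^ 23 * w + (-1) * x ^ 24 + (-1) * x ^ 26 + (-1) * x ^ 26 * w + (-1) * x ^ 27 + (-1) * x ^ 28 * w + (-1) * x ^ 29 + (-1) * x ^ 29 * w + (-1) * x ^ 31 * w + (-1)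 * x ^ 34 * w + (-1) * x ^ 35 + (-1) * x ^ 35 * w + (-1) * x ^ 37 * w + (-1) * x ^ 38 + (-1) * x ^ 38 * w + (-1) * x ^ 40 * w + (-1) * x ^ 41 + (-1) * x ^ 41 * w + (-1) * x ^ 43 * w + (-1) * x ^ 44 + (-1) * x ^ 44 * w + (-1) * x ^ 45) * h2

theorem cert_w1_1 {R : Type*} [CommRing R] (x w : R) (hw : w ^ 2 + w + 1 = 0) (h2 : (2 : R) = 0) :
    x ^ 5 - (w + 1) = ((w + 1) + (w + 1) * x + x ^ 2) * (x ^ 3 + (w + 1) * x ^ 2 + 1 * x + 1) + (0) * (x ^ 45 - 1) := by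
  linear_combination ((-1) * x ^ 2 + (-1) * x ^ 3) * hw + ((-1) + (-1) * w + (-1) * x + (-1) * x * w + (-1) * x ^ 2 + (-1) * x ^ 2 * w + (-1) * x ^ 3 + (-1) * x ^ 3 * w + (-1) * x ^ 4 + (-1) * x ^ 4 * w) * h2

theorem cert_w1_w {R : Type*} [CommRing R] (x w : R) (hw : w ^ 2 + w + 1 = 0) (h2 : (2 : R) = 0) :
    x ^ 3 - 1 = (w * x + w * x ^ 4 + (w + 1) * x ^ 5 + (w + 1) * x ^ 8 + x ^ 9 + x ^ 12 + w * x ^ 13 + w * x ^ 16 + (w + 1) * x ^ 17 + (w + 1) * x ^ 20 + x ^ 21 + x ^ 24 + w * x ^ 25 + w * x ^ 28 + (w + 1) * x ^ 29 + (w + 1) * x ^ 32 + x ^ 33 + x ^ 36 + w * x ^ 37 + w * x ^ 40 + (w + 1) * x ^ 41 + (w + 1) * x ^ 44) * (x ^ 3 + (w + 1) * x ^ 2 + w * x + 1) + (1 + w * x + (w + 1) * x ^ 2) * (x ^ 45 - 1) := by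
  linear_combination ((-1) * x ^ 2 + (-1) * x ^ 3 + (-1) * x ^ 5 + (-2) * x ^ 6 + (-1) * x ^ 7 + (-1) * x ^ 9 + (-1) * x ^ 10 + (-1) * x ^ 14 + (-1) * x ^ 15 + (-1) * x ^ 17 + (-2) * x ^ 18 + (-1) * x ^ 19 + (-1) * x ^ 21 + (-1) * x ^ 22 + (-1) * x ^ 26 + (-1) * x ^ 27 + (-1) * x ^ 29 + (-2) * x ^ 30 + (-1) * x ^ 31 + (-1) * x ^ 33 + (-1) * x ^ 34 + (-1) * x ^ 38 + (-1) * x ^ 39 + (-1) * x ^ 41 + (-2) * x ^ 42 + (-1) * x ^ 43 + (-1) * x ^ 45 + (-1) * x ^ 46) * hw + (x ^ 2 + x ^ 2 * w + x ^ 3 + (-1) * x ^ 4 * w + x ^ 6 + (-1) * x ^ 7 * w + (-1) * x ^ 8 + (-1) * x ^ 8 * w + (-1) * x ^ 10 * w + (-1) * x ^ 11 + (-1) * x ^ 11 * w + (-1) * x ^ 12 + (-1) * x ^ 13 * w + (-1) * x ^ 16 * w + x ^ 18 + (-1) * x ^ 19 * w + (-1) * x ^ 20 + (-1) * x ^ 20 * w + (-1) * x ^ 22 * w +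 (-1) * x ^ 23 + (-1) * x ^ 23 * w + (-1) * x ^ 24 + (-1) * x ^ 25 * w + (-1) * x ^ 28 * w + x ^ 30 + (-1) * x ^ 31 * w + (-1) * x ^ 32 + (-1) * x ^ 32 * w + (-1) * x ^ 34 * w + (-1) * x ^ 35 + (-1) * x ^ 35 * w + (-1) * x ^ 36 + (-1) * x ^ 37 * w + (-1) * x ^ 40 * w + x ^ 42 + (-1) * x ^ 43 * w + (-1) * x ^ 44 + (-1) * x ^ 44 * w + (-1) * x ^ 46 * w + (-1) * x ^ 47 + (-1) * x ^ 47 * w) * h2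

theorem cert_w1_w1 {R : Type*} [CommRing R] (x w : R) (hw : w ^ 2 + w + 1 = 0) (h2 : (2 : R) = 0) :
    x ^ 5 - 1 = (1 + (w + 1) * x + x ^ 2) * (x ^ 3 + (w + 1) * x ^ 2 + (w + 1) * x + 1) + (0) * (x ^ 45 - 1) := by
  linear_combination ((-1) * x ^ 2 + (-1) * x ^ 3) * hw + ((-1) + (-1) * x + (-1) * x * w + (-1) * x ^ 2 + (-1) * x ^ 2 * w + (-1) * x ^ 3 + (-1) * x ^ 3 * w + (-1) * x ^ 4 + (-1) * x ^ 4 * w) * h2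

end Cfsg.Agent.Lib.Helper19.F4Certs
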