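import Mathlib
import Cfsg.Agent.Lib.Helper48.Dickson.Packages
import Cfsg.Agent.Lib.Helper10.FusSimple
import Cfsg.Agent.S0809
import Cfsg.Agent.S0807

set_option autoImplicit false
set_option linter.unusedSimpArgs false
set_option linter.unusedSectionVars false

/-! # The `2`-fusion system of `PSL₂(q)`, `q² ≡ 1 (mod 16)`, is simple -/

namespace Cfsg.Agent.Lib.Helper19.FusPSL2

open Cfsg.Agent.Lib.Helper48.Dickson

section abstract
variable {G : Type*} [Group G] [Finite G] {p : ℕ} [Fact p.Prime] (D : DStruct G p)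

/-- the hypotheses on a Sylow `2`-subgroup -/
structure Setup (S : Sylow 2 G) (z : G) : Prop where
  hp2 : p ≠ 2
  hzS : z ∈ (S : Subgroup G)
  hz1 : z ≠ 1
  hz2 : z ^ 2 = 1
  hzc : ∀ s ∈ (S : Subgroup G), s * z = z * s
  hcard : 8 ≤ Nat.card (S : Subgroup G)
  hncyc : ¬ (S : Subgroup G) ≤ D.comp z

variable {D} {S : Sylow 2 G} {z : G}

theorem Setup.coprime (h : Setup D S z) : (Nat.card (D.comp z)).Coprime p := by
  rcases D.dich z h.hz1 with hU | hT
  · exfalso
    obtain ⟨k, hk⟩ := hU ⟨z, D.mem_comp z⟩
    have hk' : z ^ p ^ k = 1 := by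
      have := congrArg Subtype.val hk
      simpa using this
    have ho : orderOf z = 2 := orderOf_eq_prime h.hz2 h.hz1
    have h1 : 2 ∣ p ^ k := by rw [← ho]; exact orderOf_dvd_of_pow_eq_one hk'
    have pp : p.Prime := Fact.out
    have h2 : 2 ∣ p := Nat.Prime.dvd_of_dvd_pow Nat.prime_two h1
    exact h.hp2 ((Nat.prime_dvd_prime_iff_eq Nat.prime_two pp).mp h2).symm
  · exact hT

theorem Setup.centralizer_le (h : Setup D S z) (g : G) (hg : g * z = z * g) :
    g ∈ nrm (D.comp z) := by
  rw [D.mem_nrm_comp_iff h.hz1]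
  have : g * z * g⁻¹ = z := by rw [hg]; group
  rw [this]

theorem Setup.le_nrm (h : Setup D S z) : (S : Subgroup G) ≤ nrm (D.comp z) :=
  fun s hs => h.centralizer_le s (h.hzc s hs)

/-- `z` is the only involution of the torus -/
theorem Setup.unique_involution (h : Setup D S z) (x : G) (hx : x ∈ D.comp z) (hx2 : x ^ 2 = 1) :
    x = 1 ∨ x = z := by
  classical
  have hcyc : IsCyclic (D.comp z) := D.t_cyc z h.hz1 h.coprime
  have : Fintype (D.comp z) := Fintype.ofFinite _
  have hle := IsCyclic.card_pow_eq_one_le (α := D.comp z) (n := 2) (by norm_num)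
  by_contra hcon
  push Not at hcon
  let e1 : D.comp z := 1
  let ez : D.comp z := ⟨z, D.mem_comp z⟩
  let ex : D.comp z := ⟨x, hx⟩
  have hsub : ({e1, ez, ex} : Finset (D.comp z)) ⊆
      Finset.univ.filter (fun a : D.comp z => a ^ 2 = 1) := by
    intro a ha
    simp only [Finset.mem_insert, Finset.mem_singleton] at ha
    simp only [Finset.mem_filter, Finset.mem_univ, true_and]
    rcases ha with rfl | rfl | rfl
    · simp [e1]
    · apply Subtype.ext; simpa [ez] using h.hz2
    · apply Subtype.ext; simpa [ex] using hx2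
  have h3 : ({e1, ez, ex} : Finset (D.comp z)).card = 3 := by
    rw [Finset.card_insert_of_notMem, Finset.card_insert_of_notMem, Finset.card_singleton]
    · simp only [Finset.mem_singleton]
      intro hh
      exact hcon.2 (congrArg Subtype.val hh).symm
    · simp only [Finset.mem_insert, Finset.mem_singleton]
      rintro (hh | hh)
      · exact h.hz1 (congrArg Subtype.val hh).symm
      · exact hcon.1 (congrArg Subtype.val hh).symm
  have := Finset.card_le_card hsub
  omega

theorem Setup.exists_outside (h : Setup D S z) : ∃ t ∈ (S : Subgroup G), t ∉ D.comp z :=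
  SetLike.not_le_iff_exists.mp h.hncyc

theorem Setup.outside (h : Setup D S z) {s : G} (hs : s ∈ (S : Subgroup G)) (hsA : s ∉ D.comp z) :
    s ^ 2 = 1 ∧ ∀ c ∈ D.comp z, s * c * s⁻¹ = c⁻¹ :=
  D.t_inv z h.hz1 h.coprime s (h.le_nrm hs) hsA

theorem Setup.mul_mem (h : Setup D S z) {s t : G} (hs : s ∈ (S : Subgroup G)) (hsA : s ∉ D.comp z)
    (ht : t ∈ (S : Subgroup G)) (htA : t ∉ D.comp z) : s * t ∈ D.comp z :=
  D.t_idx z h.hz1 h.coprime s (h.le_nrm hs) t (h.le_nrm ht) hsA htA

/-- a `2`-element normalizing the Sylow subgroup lies in it -/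
theorem mem_of_two_element (S : Sylow 2 G) (g : G) (hg : ∀ x ∈ (S : Subgroup G), g * x * g⁻¹ ∈ (S : Subgroup G))
    (k : ℕ) (hk : g ^ 2 ^ k = 1) : g ∈ (S : Subgroup G) := by
  have hgp : IsPGroup 2 (Subgroup.zpowers g) := by
    rintro ⟨y, hy⟩
    obtain ⟨n, rfl⟩ := Subgroup.mem_zpowers_iff.mp hy
    refine ⟨k, ?_⟩
    apply Subtype.ext
    show (g ^ n) ^ 2 ^ k = 1
    rw [← zpow_natCast, ← zpow_mul, mul_comm, zpow_mul, zpow_natCast, hk, one_zpow]
  have hnorm : Subgroup.zpowers g ≤ Subgroup.normalizer ((S : Subgroup G) : Set G) := by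
    rw [Subgroup.zpowers_le]
    rw [Subgroup.mem_normalizer_iff]
    intro x
    constructor
    · exact hg x
    · intro hx
      -- conjugation is a bijection of `S`
      have hinj : Function.Injective (fun s : (S : Subgroup G) =>
          (⟨g * s.1 * g⁻¹, hg s.1 s.2⟩ : (S : Subgroup G))) := by
        intro a b hab
        have := congrArg Subtype.val hab
        simp only at this
        exact Subtype.ext (mul_left_cancel (mul_right_cancel this))
      have hsurj := Finite.injective_iff_surjective.mp hinj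
      obtain ⟨s, hs⟩ := hsurj ⟨g * x * g⁻¹, hx⟩
      have := congrArg Subtype.val hs
      simp only at this
      have hxs : s.1 = x := mul_left_cancel (mul_right_cancel this)
      rw [← hxs]; exact s.2
  have hsup := IsPGroup.to_sup_of_normal_left' S.isPGroup' hgp hnorm
  have := S.is_maximal' hsup le_sup_left
  have hle : Subgroup.zpowers g ≤ (S : Subgroup G) := by
    rw [← this]; exact le_sup_right
  exact hle (Subgroup.mem_zpowers g)

/-- the Sylow subgroup is self-normalizing -/
theorem Setup.normalizer_le (h : Setup D S z) (g : G)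
    (hg : ∀ x ∈ (S : Subgroup G), g * x * g⁻¹ ∈ (S : Subgroup G)) : g ∈ (S : Subgroup G) := by
  obtain ⟨t, htS, htA⟩ := h.exists_outside
  -- surjectivity of conjugation
  have hinj : Function.Injective (fun s : (S : Subgroup G) =>
      (⟨g * s.1 * g⁻¹, hg s.1 s.2⟩ : (S : Subgroup G))) := by
    intro a b hab
    have := congrArg Subtype.val hab
    simp only at this
    exact Subtype.ext (mul_left_cancel (mul_right_cancel this))
  have hsurj := Finite.injective_iff_surjective.mp hinj
  -- `g z g⁻¹` is a central involution of `S`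
  set x := g * z * g⁻¹ with hx
  have hxS : x ∈ (S : Subgroup G) := hg z h.hzS
  have hx1 : x ≠ 1 := DStruct.conj_ne_one h.hz1
  have hx2 : x ^ 2 = 1 := by
    rw [hx, pow_two]
    have : g * z * g⁻¹ * (g * z * g⁻¹) = g * (z ^ 2) * g⁻¹ := by rw [pow_two]; group
    rw [this, h.hz2]; group
  have hxc : ∀ s ∈ (S : Subgroup G), s * x = x * s := by
    intro s hs
    obtain ⟨s', hs'⟩ := hsurj ⟨s, hs⟩
    have hs'' : g * s'.1 * g⁻¹ = s := congrArg Subtype.val hs'
    rw [← hs'', hx]
    have := h.hzc s'.1 s'.2
    calc g * s'.1 * g⁻¹ * (g * z * g⁻¹) = g * (s'.1 * z) * g⁻¹ := by group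
      _ = g * (z * s'.1) * g⁻¹ := by rw [this]
      _ = g * z * g⁻¹ * (g * s'.1 * g⁻¹) := by group
  -- `x = z`
  have hxz : x = z := by
    by_cases hxA : x ∈ D.comp z
    · exact (h.unique_involution x hxA hx2).resolve_left hx1
    · exfalso
      have hinv := (h.outside hxS hxA).2
      -- every element of `S ∩ A` has square one
      have hC : ∀ c ∈ (S : Subgroup G), c ∈ D.comp z → c = 1 ∨ c = z := by
        intro c hcS hcA
        apply h.unique_involution c hcA
        have h1 := hinv c hcA
        have h2 := hxc c hcS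
        have h3 : x * c * x⁻¹ = c := by rw [← h2]; group
        rw [h3] at h1
        rw [pow_two]
        nth_rewrite 1 [h1]
        group
      -- so `S` has at most four elements
      have hS4 : ∀ s ∈ (S : Subgroup G), s = 1 ∨ s = z ∨ s = t ∨ s = z * t := by
        intro s hs
        by_cases hsA : s ∈ D.comp z
        · rcases hC s hs hsA with h1 | h1
          · exact Or.inl h1
          · exact Or.inr (Or.inl h1)
        · have hst := h.mul_mem hs hsA htS htA
          have ht2 := (h.outside htS htA).1
          have hts : s = s * t * t := by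
            rw [mul_assoc, ← pow_two, ht2, mul_one]
          rcases hC (s * t) (Subgroup.mul_mem _ hs htS) hst with h1 | h1
          · right; right; left
            rw [hts, h1, one_mul]
          · right; right; right
            rw [hts, h1]
      have hle : Nat.card (S : Subgroup G) ≤ 4 := by
        classical
        have hsub : ((S : Subgroup G) : Set G) ⊆ (({1, z, t, z * t} : Finset G) : Set G) := by
          intro s hs
          have := hS4 s hs
          simp only [Finset.coe_insert, Finset.coe_singleton, Set.mem_insert_iff,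
            Set.mem_singleton_iff]
          exact this
        have h1 := Set.ncard_le_ncard hsub (Finset.finite_toSet _)
        rw [Set.ncard_coe_finset] at h1
        have h2 : ({1, z, t, z * t} : Finset G).card ≤ 4 := Finset.card_le_four
        have h3 : Nat.card (S : Subgroup G) = ((S : Subgroup G) : Set G).ncard :=
          (Nat.card_coe_set_eq _).symm ▸ rfl
        omega
      have := h.hcard
      omega
  -- `g` normalizes the torus
  have hgz : g * z = z * g := by
    have : g * z * g⁻¹ = z := hxz
    calc g * z = g * z * g⁻¹ * g := by group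
      _ = z * g := by rw [this]
  have hgN := h.centralizer_le g hgz
  by_cases hgA : g ∈ D.comp z
  · -- `g² ∈ S`
    have hinv := (h.outside htS htA).2 g⁻¹ ((D.comp z).inv_mem hgA)
    rw [inv_inv] at hinv
    have hg2 : g ^ 2 ∈ (S : Subgroup G) := by
      have h1 : g * t * g⁻¹ = g ^ 2 * t := by
        calc g * t * g⁻¹ = g * (t * g⁻¹ * t⁻¹) * t := by group
          _ = g * g * t := by rw [hinv]
          _ = g ^ 2 * t := by rw [pow_two]
      have h2 := hg t htS
      rw [h1] at h2
      have : g ^ 2 = g ^ 2 * t * t⁻¹ := by group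
      rw [this]
      exact Subgroup.mul_mem _ h2 (Subgroup.inv_mem _ htS)
    obtain ⟨k, hk⟩ := S.isPGroup' ⟨g ^ 2, hg2⟩
    have hk' : (g ^ 2) ^ 2 ^ k = 1 := by
      have := congrArg Subtype.val hk
      simpa using this
    apply mem_of_two_element S g hg (k + 1)
    rw [pow_succ', pow_mul]; exact hk'
  · have hg2 := (D.t_inv z h.hz1 h.coprime g hgN hgA).1
    apply mem_of_two_element S g hg 1
    rw [pow_one]; exact hg2

/-- no proper non-trivial subgroup of `S` is closed under fusion -/
theorem Setup.strongly_closed (h : Setup D S z)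
    (hconj : ∀ x y : G, orderOf x = 2 → orderOf y = 2 → IsConj x y)
    (T : Subgroup G) (hTS : T ≤ (S : Subgroup G)) (hT1 : T ≠ ⊥)
    (hcl : ∀ x ∈ T, ∀ g : G, g * x * g⁻¹ ∈ (S : Subgroup G) → g * x * g⁻¹ ∈ T) :
    T = (S : Subgroup G) := by
  -- an involution in `T`
  have hTp : IsPGroup 2 T := S.isPGroup'.to_le hTS
  have hTnt : Nontrivial T := (Subgroup.nontrivial_iff_ne_bot T).mpr hT1
  have h2dvd : 2 ∣ Nat.card T := by
    obtain ⟨n, hn⟩ := hTp.exists_card_eq
    have hn0 : n ≠ 0 := by
      rintro rfl
      rw [pow_zero] at hn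
      have := Finite.one_lt_card (α := T)
      omega
    rw [hn]; exact dvd_pow_self 2 hn0
  obtain ⟨t₀, ht₀⟩ := exists_prime_orderOf_dvd_card' (G := T) 2 h2dvd
  have ht₀' : orderOf t₀.1 = 2 := by rw [← ht₀]; exact (Subgroup.orderOf_coe t₀)
  have hinvol : ∀ s ∈ (S : Subgroup G), s ≠ 1 → s ^ 2 = 1 → s ∈ T := by
    intro s hs hs1 hs2
    have hos : orderOf s = 2 := orderOf_eq_prime hs2 hs1
    obtain ⟨g, hg⟩ := isConj_iff.mp (hconj t₀.1 s ht₀' hos)
    rw [← hg]
    apply hcl t₀.1 t₀.2 g
    rw [hg]; exact hs
  obtain ⟨t, htS, htA⟩ := h.exists_outside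
  have ht2 := (h.outside htS htA).1
  have ht1 : t ≠ 1 := by
    rintro rfl
    exact htA (Subgroup.one_mem _)
  have htT : t ∈ T := hinvol t htS ht1 ht2
  apply le_antisymm hTS
  intro s hs
  by_cases hsA : s ∈ D.comp z
  · have hstA : s * t ∉ D.comp z := by
      intro hh
      apply htA
      have : t = s⁻¹ * (s * t) := by group
      rw [this]
      exact (D.comp z).mul_mem ((D.comp z).inv_mem hsA) hh
    have hstS : s * t ∈ (S : Subgroup G) := Subgroup.mul_mem _ hs htS
    have hst1 : s * t ≠ 1 := by
      intro hh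
      apply hstA
      rw [hh]; exact Subgroup.one_mem _
    have hstT := hinvol (s * t) hstS hst1 (h.outside hstS hstA).1
    have : s = s * t * t⁻¹ := by group
    rw [this]
    exact T.mul_mem hstT (T.inv_mem htT)
  · have hs1 : s ≠ 1 := by
      rintro rfl
      exact hsA (Subgroup.one_mem _)
    exact hinvol s hs hs1 (h.outside hs hsA).1

end abstract

end Cfsg.Agent.Lib.Helper19.FusPSL2
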