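import Mathlib
import Cfsg.Prelude.Def_Solvable
import Cfsg.Agent.Lib.Helper72.G42Defs
import Cfsg.Agent.Lib.Helper23.G42L8a
import Cfsg.Agent.Lib.Helper04.BurnsidePQ

/-!
# K-G42-L8 (255312): glue `case8` over L8a (on main), L8b and L8c (taken as hypotheses here).
-/

set_option autoImplicit false

namespace Cfsg.Agent.Lib.Helper19.G42

open Cfsg.Agent.Lib.Helper72.G42 MulAction

/-- the statement of leaf L8b (`jordan5`) -/
def Jordan5Stmt : Prop :=
  ∀ (G : Subgroup (Equiv.Perm (Fin 8))), G ≤ alternatingGroup (Fin 8) →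
    MulAction.IsPreprimitive ↥G (Fin 8) → 5 ∣ Nat.card ↥G → G = alternatingGroup (Fin 8)

/-- the statement of leaf L8c (`order8`) -/
def Order8Stmt : Prop :=
  ∀ (G : Subgroup (Equiv.Perm (Fin 8))), G ≤ alternatingGroup (Fin 8) →
    MulAction.IsPretransitive ↥G (Fin 8) → 7 ∣ Nat.card ↥G → ¬ 5 ∣ Nat.card ↥G →
    Nat.card ↥G = 56 ∨ Nat.card ↥G = 168 ∨
      (Nat.card ↥G = 1344 ∧ IsSimpleGroup ↥(MulAction.stabilizer ↥G (0 : Fin 8)))

theorem l8_normalizedBy_self {G : Type*} [Group G] (K : Subgroup G) : NormalizedBy K K :=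
  fun _ hk _ hm => K.mul_mem (K.mul_mem hk hm) (K.inv_mem hk)

/-- primitivity goes up to overgroups -/
theorem l8_isPreprimitive_of_le {N K : Subgroup (Equiv.Perm (Fin 8))} (hNK : N ≤ K)
    (hN : MulAction.IsPreprimitive ↥N (Fin 8)) : MulAction.IsPreprimitive ↥K (Fin 8) := by
  let φ : ↥N → ↥K := fun n => ⟨n.1, hNK n.2⟩
  let f : Fin 8 →ₑ[φ] Fin 8 :=
    { toFun := id
      map_smul' := fun n x => rfl }
  exact IsPreprimitive.of_surjective (f := f) Function.surjective_id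

/-- a subgroup of `S_8` of order prime to `35` is solvable (Burnside) -/
theorem l8_solvable_of_not_dvd (G : Subgroup (Equiv.Perm (Fin 8))) (h5 : ¬ 5 ∣ Nat.card ↥G)
    (h7 : ¬ 7 ∣ Nat.card ↥G) : Group.IsSolvable ↥G := by
  have hdvd : Nat.card ↥G ∣ Nat.card (Equiv.Perm (Fin 8)) := Subgroup.card_subgroup_dvd_card G
  have hcard : Nat.card (Equiv.Perm (Fin 8)) = (2 ^ 7 * 3 ^ 2) * 35 := by
    rw [Nat.card_eq_fintype_card, Fintype.card_perm, Fintype.card_fin]
    rfl
  rw [hcard] at hdvd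
  have hcop : Nat.Coprime (Nat.card ↥G) 35 := by
    have h35 : (35 : ℕ) = 5 * 7 := rfl
    rw [h35]
    apply Nat.Coprime.mul_right
    · exact (Nat.Coprime.symm ((Nat.Prime.coprime_iff_not_dvd (by norm_num)).2 h5))
    · exact (Nat.Coprime.symm ((Nat.Prime.coprime_iff_not_dvd (by norm_num)).2 h7))
  have hdvd2 : Nat.card ↥G ∣ 2 ^ 7 * 3 ^ 2 := hcop.dvd_of_dvd_mul_right hdvd
  obtain ⟨d1, d2, hd1, hd2, hprod⟩ := (Nat.dvd_mul).1 hdvd2
  obtain ⟨a, -, ha⟩ := (Nat.dvd_prime_pow Nat.prime_two).1 hd1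
  obtain ⟨b, -, hb⟩ := (Nat.dvd_prime_pow Nat.prime_three).1 hd2
  exact Cfsg.Agent.Lib.Helper04.burnside_paqb 2 3 a b Nat.prime_two Nat.prime_three
    (by rw [← hprod, ha, hb])

theorem l8_solvable_of_card_56 (G : Subgroup (Equiv.Perm (Fin 8))) (h : Nat.card ↥G = 56) :
    Group.IsSolvable ↥G :=
  Cfsg.Agent.Lib.Helper04.burnside_paqb 2 7 3 1 Nat.prime_two (by norm_num) (by rw [h]; rfl)

/-- `8 * |G_0| = |G|` for a transitive group on `Fin 8` -/
theorem l8_card_stabilizer (G : Subgroup (Equiv.Perm (Fin 8)))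
    [MulAction.IsPretransitive ↥G (Fin 8)] :
    8 * Nat.card ↥(MulAction.stabilizer ↥G (0 : Fin 8)) = Nat.card ↥G := by
  have h1 := MulAction.index_stabilizer_of_transitive ↥G (0 : Fin 8)
  have h2 := Subgroup.index_mul_card (MulAction.stabilizer ↥G (0 : Fin 8))
  rw [h1, Nat.card_eq_fintype_card, Fintype.card_fin] at h2
  exact h2

/-- if `K = N` then `K` is simple (minimality of `N`) -/
theorem l8_simple_of_eq {K N : Subgroup (Equiv.Perm (Fin 8))} {Δ : Finset (Fin 8)}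
    (h : Cfg K N Δ) (hKN : N = K) : IsSimpleGroup ↥K := by
  have hK1 : K ≠ ⊥ := by rw [← hKN]; exact h.hN1
  have : Nontrivial ↥K := (Subgroup.nontrivial_iff_ne_bot K).2 hK1
  refine ⟨fun H hH => ?_⟩
  have hM_le : H.map K.subtype ≤ N := by
    rw [hKN]
    exact Subgroup.map_subtype_le H
  have hMnorm : NormalizedBy K (H.map K.subtype) := by
    intro k hk m hm
    obtain ⟨x, hx, rfl⟩ := hm
    refine ⟨(⟨k, hk⟩ : ↥K) * x * (⟨k, hk⟩ : ↥K)⁻¹, hH.conj_mem x hx _, ?_⟩
    simp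
  rcases h.hmin _ hM_le hMnorm with h0 | h1
  · left
    exact (Subgroup.map_eq_bot_iff_of_injective H K.subtype_injective).1 h0
  · right
    rw [eq_top_iff]
    intro x _
    have hx : (x : Equiv.Perm (Fin 8)) ∈ H.map K.subtype := by
      rw [h1, hKN]; exact x.2
    obtain ⟨y, hy, hyx⟩ := hx
    have : y = x := Subtype.ext hyx
    rw [← this]; exact hy

/-- the mixed case `|N| = 168`, `|K| = 1344` is impossible -/
theorem l8_mixed_false {K N : Subgroup (Equiv.Perm (Fin 8))} {Δ : Finset (Fin 8)}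
    (h : Cfg K N Δ) (hmem : ∀ x : Fin 8, x ∈ Δ)
    [MulAction.IsPretransitive ↥N (Fin 8)] [MulAction.IsPretransitive ↥K (Fin 8)]
    (hN : Nat.card ↥N = 168) (hK : Nat.card ↥K = 1344)
    (hs : IsSimpleGroup ↥(MulAction.stabilizer ↥K (0 : Fin 8))) : False := by
  have hK0 : Nat.card ↥(MulAction.stabilizer ↥K (0 : Fin 8)) = 168 := by
    have := l8_card_stabilizer K
    omega
  have hNKn : (N.subgroupOf K).Normal := by
    refine ⟨fun n hn k => ?_⟩
    rw [Subgroup.mem_subgroupOf] at hn ⊢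
    have := h.hnorm k.1 k.2 n.1 hn
    simpa using this
  have hXn : ((N.subgroupOf K).subgroupOf (MulAction.stabilizer ↥K (0 : Fin 8))).Normal :=
    hNKn.subgroupOf _
  rcases hs.eq_bot_or_eq_top_of_normal _ hXn with hbot | htop
  · -- the stabilizer of `0` in `N` is trivial, so `|N| = 8`
    have hst : MulAction.stabilizer ↥N (0 : Fin 8) = ⊥ := by
      rw [Subgroup.eq_bot_iff_forall]
      intro x hx
      have hx0 : (x : Equiv.Perm (Fin 8)) 0 = 0 := hx
      let y : ↥K := ⟨x.1, h.hNK x.2⟩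
      have hy : y ∈ MulAction.stabilizer ↥K (0 : Fin 8) := hx0
      have hyX : (⟨y, hy⟩ : ↥(MulAction.stabilizer ↥K (0 : Fin 8))) ∈
          (N.subgroupOf K).subgroupOf (MulAction.stabilizer ↥K (0 : Fin 8)) := by
        rw [Subgroup.mem_subgroupOf, Subgroup.mem_subgroupOf]
        exact x.2
      rw [hbot, Subgroup.mem_bot] at hyX
      have hy1 : y = 1 := congrArg Subtype.val hyX
      have hx1 : (x : Equiv.Perm (Fin 8)) = 1 := congrArg Subtype.val hy1
      exact Subtype.ext hx1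
    have := l8_card_stabilizer N
    rw [hst, Subgroup.card_bot] at this
    omega
  · -- `K_0 ≤ N`, equal cardinalities, so `K_0 = N` but `N` moves `0`
    rw [Subgroup.subgroupOf_eq_top] at htop
    have hcardNK : Nat.card ↥(N.subgroupOf K) = 168 := by
      rw [Nat.card_congr (Subgroup.subgroupOfEquivOfLe h.hNK).toEquiv, hN]
    have heq : MulAction.stabilizer ↥K (0 : Fin 8) = N.subgroupOf K :=
      Subgroup.eq_of_le_of_card_ge htop (by rw [hcardNK, hK0])
    obtain ⟨n, hn, hn01⟩ := h.htrans 0 (hmem 0) 1 (hmem 1)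
    have hnK0 : (⟨n, h.hNK hn⟩ : ↥K) ∈ MulAction.stabilizer ↥K (0 : Fin 8) := by
      rw [heq, Subgroup.mem_subgroupOf]; exact hn
    have : n 0 = 0 := hnK0
    rw [hn01] at this
    exact absurd this (by decide)

/-- 255312 L8 with L8b, L8c as hypotheses -/
theorem case8_of (hJ : Jordan5Stmt) (hO : Order8Stmt)
    {K N : Subgroup (Equiv.Perm (Fin 8))} {Δ : Finset (Fin 8)} (h : Cfg K N Δ) (h8 : Δ.card = 8) :
    Nonempty (↥K ≃* ↥(alternatingGroup (Fin 8))) ∨ (IsSimpleGroup ↥K ∧ Nat.card ↥K = 168) ∨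
      (IsSimpleGroup ↥K ∧ Nat.card ↥K = 1344) := by
  have hΔ : Δ = Finset.univ := by
    apply Finset.eq_univ_of_card
    rw [h8]; simp
  have hmem : ∀ x : Fin 8, x ∈ Δ := fun x => by rw [hΔ]; exact Finset.mem_univ x
  have hNprim : MulAction.IsPreprimitive ↥N (Fin 8) := Cfsg.Agent.Lib.Helper23.G42.prim8 h h8
  have hKprim : MulAction.IsPreprimitive ↥K (Fin 8) := l8_isPreprimitive_of_le h.hNK hNprim
  have hNtr : MulAction.IsPretransitive ↥N (Fin 8) := hNprim.toIsPretransitive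
  have hKtr : MulAction.IsPretransitive ↥K (Fin 8) := hKprim.toIsPretransitive
  have hK1 : K ≠ ⊥ := fun hK => h.hN1 (le_bot_iff.1 (hK ▸ h.hNK))
  have hNns : ¬ Group.IsSolvable ↥N := fun hs => h.hN1 (h.hsolv N h.hNK h.hnorm hs)
  have hKns : ¬ Group.IsSolvable ↥K := fun hs => hK1 (h.hsolv K le_rfl (l8_normalizedBy_self K) hs)
  have hNA : N ≤ alternatingGroup (Fin 8) := h.hNK.trans h.hKA
  have hdvd : Nat.card ↥N ∣ Nat.card ↥K := Subgroup.card_dvd_of_le h.hNK
  by_cases h5 : 5 ∣ Nat.card ↥K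
  · left
    exact ⟨MulEquiv.subgroupCongr (hJ K h.hKA hKprim h5)⟩
  · right
    have h5N : ¬ 5 ∣ Nat.card ↥N := fun hh => h5 (hh.trans hdvd)
    have h7N : 7 ∣ Nat.card ↥N := by
      by_contra h7
      exact hNns (l8_solvable_of_not_dvd N h5N h7)
    have h7K : 7 ∣ Nat.card ↥K := h7N.trans hdvd
    have hNc := hO N hNA hNtr h7N h5N
    have hKc := hO K h.hKA hKtr h7K h5
    have hN56 : Nat.card ↥N ≠ 56 := fun hh => hNns (l8_solvable_of_card_56 N hh)
    have hK56 : Nat.card ↥K ≠ 56 := fun hh => hKns (l8_solvable_of_card_56 K hh)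
    have hsimple_of_eq : Nat.card ↥N = Nat.card ↥K → IsSimpleGroup ↥K := by
      intro hc
      exact l8_simple_of_eq h (Subgroup.eq_of_le_of_card_ge h.hNK (le_of_eq hc.symm))
    rcases hNc with hN | hN | ⟨hN, -⟩
    · exact absurd hN hN56
    · rcases hKc with hK | hK | ⟨hK, hs⟩
      · exact absurd hK hK56
      · left
        exact ⟨hsimple_of_eq (by rw [hN, hK]), hK⟩
      · exact (l8_mixed_false h hmem hN hK hs).elim
    · rcases hKc with hK | hK | ⟨hK, -⟩
      · exact absurd hK hK56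
      · exfalso
        rw [hN, hK] at hdvd
        omega
      · right
        exact ⟨hsimple_of_eq (by rw [hN, hK]), hK⟩

end Cfsg.Agent.Lib.Helper19.G42
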