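import Cfsg.Agent.Lib.Helper07.OrthS

set_option autoImplicit false
set_option linter.unusedSimpArgs false
set_option linter.unusedVariables false
set_option linter.unusedSectionVars false

/-! The image of the semisimilarity group in `Aut(PΩ(Q))`: it is a group extension of the image
`pgoAut` of the similarity group by the group of field automorphisms admitting a semisimilarity.
Main result: `card_gammaPOmega`. -/

namespace Cfsg.Agent.Lib.Helper19.GammaCard

open Module Matrix Cfsg.Agent.Lib.Helper43 Cfsg.Agent.Lib.Helper07.OG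

variable {F : Type*} [Field F] [Fintype F] {ι : Type} [Fintype ι] [DecidableEq ι]
variable {Q : QuadraticForm F (ι → F)}

local notation "Bf" => QuadraticMap.polarBilin Q

/-- an automorphism induced by a semisimilarity pair is the automorphism `autS` of that pair. -/
theorem eq_autS_of_induced {g : GL ι F} {σ : F ≃+* F} (h : Cfsg.IsSemisimilarityPair (⇑Q) g σ)
    {β : MulAut (Cfsg.POmega F ⇑Q)} (hβ : Cfsg.IsInducedBySemilinearPOmega (⇑Q) g σ β) :
    β = autS g σ h := by
  ext x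
  obtain ⟨s, rfl⟩ := prj_surjective x
  rw [autS_prj]
  exact hβ s (autSΩ g σ h s) (by rw [autSΩ_val, semiConj_val])

theorem autS_congr {g g' : GL ι F} {σ σ' : F ≃+* F} (h : Cfsg.IsSemisimilarityPair (⇑Q) g σ)
    (h' : Cfsg.IsSemisimilarityPair (⇑Q) g' σ') (hg : g = g') (hσ : σ = σ') :
    autS g σ h = autS g' σ' h' := by
  subst hg hσ
  rfl

theorem semiAct_injective (g : GL ι F) (σ : F ≃+* F) : Function.Injective (semiAct g σ) :=
  Finite.injective_iff_surjective.2 (semiAct_surjective g σ)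

/-- composition of semilinear maps. -/
theorem semiAct_comp (g g' : GL ι F) (σ σ' : F ≃+* F) (v : ι → F) :
    semiAct g σ (semiAct g' σ' v) =
      semiAct (g * Matrix.GeneralLinearGroup.map (σ : F →+* F) g') (σ'.trans σ) v := by
  unfold semiAct
  rw [Units.val_mul, ← Matrix.mulVec_mulVec]
  congr 1
  funext i
  have := (σ : F →+* F).map_mulVec (g' : Matrix ι ι F) (fun j => σ' (v j)) i
  simp only [RingEquiv.coe_toRingHom] at this
  rw [this]
  rfl

theorem semiConj_comp (g g' : GL ι F) (σ σ' : F ≃+* F) (s : GL ι F) :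
    semiConj g σ (semiConj g' σ' s) =
      semiConj (g * Matrix.GeneralLinearGroup.map (σ : F →+* F) g') (σ'.trans σ) s := by
  show g * Matrix.GeneralLinearGroup.map (σ : F →+* F)
      (g' * Matrix.GeneralLinearGroup.map (σ' : F →+* F) s * g'⁻¹) * g⁻¹ =
    (g * Matrix.GeneralLinearGroup.map (σ : F →+* F) g') *
      Matrix.GeneralLinearGroup.map ((σ'.trans σ : F ≃+* F) : F →+* F) s *
      (g * Matrix.GeneralLinearGroup.map (σ : F →+* F) g')⁻¹
  have h1 : Matrix.GeneralLinearGroup.map (σ : F →+* F)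
      (Matrix.GeneralLinearGroup.map (σ' : F →+* F) s) =
      Matrix.GeneralLinearGroup.map ((σ'.trans σ : F ≃+* F) : F →+* F) s := by
    apply Units.ext
    ext i j
    simp
  rw [map_mul, map_mul, map_inv, h1]
  group

/-- the product of two semisimilarity pairs. -/
theorem semisim_mul {g g' : GL ι F} {σ σ' : F ≃+* F} (h : Cfsg.IsSemisimilarityPair (⇑Q) g σ)
    (h' : Cfsg.IsSemisimilarityPair (⇑Q) g' σ') :
    Cfsg.IsSemisimilarityPair (⇑Q) (g * Matrix.GeneralLinearGroup.map (σ : F →+* F) g')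
      (σ'.trans σ) := by
  obtain ⟨c, hc⟩ := h
  obtain ⟨c', hc'⟩ := h'
  refine ⟨c * Units.map (σ : F →* F) c', ?_⟩
  intro v
  have e1 := semiAct_comp g g' σ σ' v
  unfold semiAct at e1
  rw [← e1, hc, hc']
  simp only [Units.val_mul, Units.coe_map, MonoidHom.coe_coe, map_mul, RingEquiv.trans_apply]
  ring

theorem semisim_one : Cfsg.IsSemisimilarityPair (⇑Q) (1 : GL ι F) (RingEquiv.refl F) :=
  ⟨1, fun v => by simp⟩

theorem autS_one : autS (Q := Q) (1 : GL ι F) (RingEquiv.refl F) semisim_one = 1 := by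
  ext x
  obtain ⟨s, rfl⟩ := prj_surjective x
  rw [autS_prj, MulAut.one_apply]
  congr 1
  apply Cfsg.Agent.Lib.Helper08.Omega_ext
  rw [autSΩ_val, semiConj_val]
  have : ((((s : ↥(Cfsg.isometryGroup F ⇑Q)) : GL ι F) : Matrix ι ι F)).map (RingEquiv.refl F) =
      (((s : ↥(Cfsg.isometryGroup F ⇑Q)) : GL ι F) : Matrix ι ι F) := by
    ext i j
    simp
  rw [this]
  simp

theorem autS_mul {g g' : GL ι F} {σ σ' : F ≃+* F} (h : Cfsg.IsSemisimilarityPair (⇑Q) g σ)
    (h' : Cfsg.IsSemisimilarityPair (⇑Q) g' σ') :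
    autS g σ h * autS g' σ' h' =
      autS (g * Matrix.GeneralLinearGroup.map (σ : F →+* F) g') (σ'.trans σ)
        (semisim_mul h h') := by
  apply eq_autS_of_induced
  intro s s' hs'
  show autS g σ h (autS g' σ' h' (prj s)) = prj s'
  rw [autS_prj, autS_prj]
  congr 1
  apply Cfsg.Agent.Lib.Helper08.Omega_ext
  rw [hs', autSΩ_val, autSΩ_val, semiConj_comp, semiConj_val]


/-- the set of automorphisms induced by semisimilarity pairs. -/
def semiSet (Q : QuadraticForm F (ι → F)) : Set (MulAut (Cfsg.POmega F ⇑Q)) :=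
  {β | ∃ (g : GL ι F) (σ : F ≃+* F) (h : Cfsg.IsSemisimilarityPair (⇑Q) g σ), β = autS g σ h}

theorem semiSet_eq :
    semiSet Q = {β | ∃ (g : GL ι F) (σ : F ≃+* F), Cfsg.IsSemisimilarityPair (⇑Q) g σ ∧
      Cfsg.IsInducedBySemilinearPOmega (⇑Q) g σ β} := by
  ext β
  constructor
  · rintro ⟨g, σ, h, rfl⟩
    exact ⟨g, σ, h, isInduced_autS g σ h⟩
  · rintro ⟨g, σ, h, hβ⟩
    exact ⟨g, σ, h, eq_autS_of_induced h hβ⟩

theorem one_mem_semiSet : (1 : MulAut (Cfsg.POmega F ⇑Q)) ∈ semiSet Q :=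
  ⟨1, RingEquiv.refl F, semisim_one, autS_one.symm⟩

theorem mul_mem_semiSet {β β' : MulAut (Cfsg.POmega F ⇑Q)} (hβ : β ∈ semiSet Q)
    (hβ' : β' ∈ semiSet Q) : β * β' ∈ semiSet Q := by
  obtain ⟨g, σ, h, rfl⟩ := hβ
  obtain ⟨g', σ', h', rfl⟩ := hβ'
  exact ⟨_, _, semisim_mul h h', autS_mul h h'⟩

theorem pow_mem_semiSet {β : MulAut (Cfsg.POmega F ⇑Q)} (hβ : β ∈ semiSet Q) (n : ℕ) :
    β ^ n ∈ semiSet Q := by
  induction n with
  | zero => rw [pow_zero]; exact one_mem_semiSet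
  | succ n ih => rw [pow_succ]; exact mul_mem_semiSet ih hβ

instance finite_POmega : Finite (Cfsg.POmega F ⇑Q) := by
  have : Finite (GL ι F) := Finite.of_injective (fun g : GL ι F => (g : Matrix ι ι F))
    Units.val_injective
  infer_instance

instance finite_mulAut : Finite (MulAut (Cfsg.POmega F ⇑Q)) :=
  Finite.of_injective (fun β : MulAut (Cfsg.POmega F ⇑Q) => (β : Cfsg.POmega F ⇑Q → Cfsg.POmega F ⇑Q))
    (fun a b hab => MulEquiv.ext (congrFun hab))

/-- the automorphisms induced by semisimilarity pairs form a group. -/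
noncomputable def semiGrp (Q : QuadraticForm F (ι → F)) : Subgroup (MulAut (Cfsg.POmega F ⇑Q)) where
  carrier := semiSet Q
  one_mem' := one_mem_semiSet
  mul_mem' := mul_mem_semiSet
  inv_mem' := by
    intro β hβ
    have hpos : 0 < orderOf β := orderOf_pos β
    have h1 : β⁻¹ = β ^ (orderOf β - 1) := by
      rw [inv_eq_iff_mul_eq_one, ← pow_succ', Nat.sub_add_cancel hpos, pow_orderOf_eq_one]
    rw [h1]
    exact pow_mem_semiSet hβ _

theorem mem_semiGrp {β : MulAut (Cfsg.POmega F ⇑Q)} :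
    β ∈ semiGrp Q ↔ ∃ (g : GL ι F) (σ : F ≃+* F) (h : Cfsg.IsSemisimilarityPair (⇑Q) g σ),
      β = autS g σ h := Iff.rfl

theorem gammaPOmega_eq_semiGrp : Cfsg.gammaPOmega F ⇑Q = semiGrp Q := by
  unfold Cfsg.gammaPOmega Cfsg.autSubgroupOf
  rw [← semiSet_eq]
  exact Subgroup.closure_eq (semiGrp Q)


/-- the value of a semisimilarity automorphism on a Siegel element, in terms of the multiplier. -/
theorem autSΩ_sg' (C : OC Q) (g : GL ι F) (σ : F ≃+* F) (h : Cfsg.IsSemisimilarityPair (⇑Q) g σ)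
    {u w : ι → F} (hu : Q u = 0) (huw : Bf u w = 0) :
    ∃ c : F, c ≠ 0 ∧ (∀ v, Q (semiAct g σ v) = c * σ (Q v)) ∧
      ∀ t : F, autSΩ g σ h (sg C u (t • w)) =
        sg C (semiAct g σ u) (σ t • (c⁻¹ • semiAct g σ w)) := by
  obtain ⟨c, hc⟩ := id h
  refine ⟨c, c.ne_zero, hc, ?_⟩
  intro t
  have huw' : Bf u (t • w) = 0 := by rw [map_smul, huw, smul_zero]
  rw [autSΩ_sg C g σ h c.ne_zero hc hu huw', semiAct_smul, smul_comm]

/-- **the field automorphism of a semisimilarity is determined by the induced automorphism**. -/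
theorem sigma_unique (C : OC Q) (p : ℕ) [Fact p.Prime] [CharP F p]
    {g g' : GL ι F} {σ σ' : F ≃+* F} (h : Cfsg.IsSemisimilarityPair (⇑Q) g σ)
    (h' : Cfsg.IsSemisimilarityPair (⇑Q) g' σ') (heq : autS g σ h = autS g' σ' h') : σ = σ' := by
  obtain ⟨e, f, he, hf, hef⟩ := exists_hyp C
  have he0 : e ≠ 0 := by
    rintro rfl
    simp at hef
  obtain ⟨w, y, hew, -, -, -, hw, -, hwe⟩ := exists_singular_perp C e e
  obtain ⟨c, hc0, hc, hA⟩ := autSΩ_sg' C g σ h he hew
  obtain ⟨c', hc0', hc', hA'⟩ := autSΩ_sg' C g' σ' h' he hew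
  -- the two images of the Siegel elements agree in `Ω`
  have key : ∀ t : F, autSΩ g σ h (sg C e (t • w)) = autSΩ g' σ' h' (sg C e (t • w)) := by
    intro t
    have huw' : Bf e (t • w) = 0 := by rw [map_smul, hew, smul_zero]
    obtain ⟨a, ha⟩ : ∃ a, a = autSΩ g σ h (sg C e (t • w)) := ⟨_, rfl⟩
    obtain ⟨b, hb⟩ : ∃ b, b = autSΩ g' σ' h' (sg C e (t • w)) := ⟨_, rfl⟩
    rw [← ha, ← hb]
    have hap : a ^ p = 1 := by rw [ha, ← map_pow, sg_pow_p C p he huw', map_one]
    have hbp : b ^ p = 1 := by rw [hb, ← map_pow, sg_pow_p C p he huw', map_one]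
    have h1 : prj a = prj b := by
      rw [ha, hb, ← autS_prj, ← autS_prj, heq]
    rw [prj_eq_iff] at h1
    have hcomm : Commute a b := by
      have h2 := Subgroup.mem_center_iff.1 h1 a
      have h3 : a * b = b * a := by
        calc a * b = a * (a * (a⁻¹ * b)) := by group
          _ = a * ((a⁻¹ * b) * a) := by rw [h2]
          _ = b * a := by group
      exact h3
    have h4 : (a⁻¹ * b) ^ (p ^ 1) = 1 := by
      rw [pow_one, (hcomm.inv_left).mul_pow, inv_pow, hap, hbp, inv_one, one_mul]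
    have h5 := center_pow_eq_one C p h1 h4
    exact inv_mul_eq_one.1 h5
  -- notation for the images
  obtain ⟨U, hU⟩ : ∃ U, U = semiAct g σ e := ⟨_, rfl⟩
  obtain ⟨W, hW⟩ : ∃ W, W = c⁻¹ • semiAct g σ w := ⟨_, rfl⟩
  obtain ⟨U', hU'⟩ : ∃ U', U' = semiAct g' σ' e := ⟨_, rfl⟩
  obtain ⟨W', hW'⟩ : ∃ W', W' = c'⁻¹ • semiAct g' σ' w := ⟨_, rfl⟩
  have hQU : Q U = 0 := by rw [hU, hc, he, map_zero, mul_zero]
  have hQU' : Q U' = 0 := by rw [hU', hc', he, map_zero, mul_zero]
  have hQW : Q W = 0 := by rw [hW, Q_smul, hc, hw, map_zero, mul_zero, mul_zero]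
  have hQW' : Q W' = 0 := by rw [hW', Q_smul, hc', hw, map_zero, mul_zero, mul_zero]
  have hUW : Bf U W = 0 := by
    rw [hU, hW, map_smul, polar_semiAct hc, hew, map_zero, mul_zero, smul_zero]
  have hUW' : Bf U' W' = 0 := by
    rw [hU', hW', map_smul, polar_semiAct hc', hew, map_zero, mul_zero, smul_zero]
  have hU0 : U ≠ 0 := by
    rw [hU]
    intro h0
    apply he0
    apply semiAct_injective g σ
    rw [h0]
    have := semiAct_smul g σ 0 (0 : ι → F)
    simpa using this.symm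
  have hmain : ∀ t : F, sg C U (σ t • W) = sg C U' (σ' t • W') := by
    intro t
    rw [hU, hW, hU', hW', ← hA t, ← hA' t]
    exact key t
  -- the nilpotent parts
  have hN : ∀ (t : F) (x : ι → F), σ t • (Bf x W • U - Bf x U • W) =
      σ' t • (Bf x W' • U' - Bf x U' • W') := by
    intro t x
    have h1 : lo Q (sg C U (σ t • W)) x = lo Q (sg C U' (σ' t • W')) x := by rw [hmain t]
    have hb1 : Bf U (σ t • W) = 0 := by rw [map_smul, hUW, smul_zero]
    have hb2 : Bf U' (σ' t • W') = 0 := by rw [map_smul, hUW', smul_zero]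
    rw [sg_apply C hQU hb1, sg_apply C hQU' hb2, Q_smul, Q_smul, hQW, hQW', map_smul,
      map_smul] at h1
    simp only [smul_eq_mul, mul_zero, zero_mul, sub_zero] at h1
    have h2 : (σ t * Bf x W) • U + -Bf x U • σ t • W =
        (σ' t * Bf x W') • U' + -Bf x U' • σ' t • W' := by
      have h3 := h1
      rw [add_assoc, add_assoc] at h3
      exact add_left_cancel h3
    rw [smul_sub, smul_sub, smul_smul, smul_smul, smul_smul, smul_smul]
    rw [neg_smul, neg_smul, smul_smul, smul_smul, ← sub_eq_add_neg, ← sub_eq_add_neg] at h2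
    rw [mul_comm (σ t) (Bf x U), mul_comm (σ' t) (Bf x U')]
    exact h2
  have hN1 : ∀ x : ι → F, Bf x W' • U' - Bf x U' • W' = Bf x W • U - Bf x U • W := by
    intro x
    have := hN 1 x
    rw [map_one, map_one, one_smul, one_smul] at this
    exact this.symm
  -- a vector not killed
  obtain ⟨x₀, hx₀⟩ : ∃ x₀ : ι → F, Bf x₀ W • U - Bf x₀ U • W ≠ 0 := by
    by_contra hall
    rw [not_exists] at hall
    have h1 : sg C U W = 1 := by
      apply lo_ext
      intro x
      have h2 := hall x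
      rw [not_not] at h2
      rw [sg_apply C hQU hUW, hQW, zero_mul, sub_zero, lo_one_apply, add_assoc, neg_smul,
        ← sub_eq_add_neg, h2, add_zero]
    obtain ⟨t₀, ht₀⟩ := (sg_eq_one_iff C hU0 hQU hUW).1 h1
    apply hwe
    refine ⟨σ.symm (c * t₀), ?_⟩
    apply semiAct_injective g σ
    rw [semiAct_smul, RingEquiv.apply_symm_apply, ← hU, mul_smul, ← ht₀, hW, smul_smul,
      mul_inv_cancel₀ hc0, one_smul]
  ext t
  have h1 := hN t x₀
  rw [hN1 x₀] at h1
  have h2 : (σ t - σ' t) • (Bf x₀ W • U - Bf x₀ U • W) = 0 := by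
    rw [sub_smul, h1, sub_self]
  rcases smul_eq_zero.1 h2 with h3 | h3
  · exact sub_eq_zero.1 h3
  · exact absurd h3 hx₀


theorem exists_sigma (β : ↥(semiGrp Q)) : ∃ σ : RingAut F, ∃ (g : GL ι F)
    (h : Cfsg.IsSemisimilarityPair (⇑Q) g σ), (β : MulAut (Cfsg.POmega F ⇑Q)) = autS g σ h := by
  obtain ⟨g, σ, h, hβ⟩ := β.2
  exact ⟨σ, g, h, hβ⟩

/-- the field automorphism attached to an element of `semiGrp`. -/
noncomputable def sigmaOf (β : ↥(semiGrp Q)) : RingAut F := Classical.choose (exists_sigma β)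

theorem sigmaOf_eq (C : OC Q) (p : ℕ) [Fact p.Prime] [CharP F p] (β : ↥(semiGrp Q))
    {g : GL ι F} {σ : F ≃+* F} (h : Cfsg.IsSemisimilarityPair (⇑Q) g σ)
    (hβ : (β : MulAut (Cfsg.POmega F ⇑Q)) = autS g σ h) : sigmaOf β = σ := by
  obtain ⟨g', h', hβ'⟩ := Classical.choose_spec (exists_sigma β)
  exact sigma_unique C p h' h (hβ'.symm.trans hβ)

/-- the homomorphism from the image of the semisimilarity group onto field automorphisms. -/
noncomputable def sigmaHom (C : OC Q) (p : ℕ) [Fact p.Prime] [CharP F p] :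
    ↥(semiGrp Q) →* RingAut F where
  toFun := sigmaOf
  map_one' := by
    show sigmaOf (1 : ↥(semiGrp Q)) = RingEquiv.refl F
    exact sigmaOf_eq C p 1 semisim_one (by rw [Subgroup.coe_one]; exact autS_one.symm)
  map_mul' β β' := by
    obtain ⟨g, σ, h, hβ⟩ := β.2
    obtain ⟨g', σ', h', hβ'⟩ := β'.2
    rw [sigmaOf_eq C p β h hβ, sigmaOf_eq C p β' h' hβ']
    show sigmaOf (β * β') = σ'.trans σ
    exact sigmaOf_eq C p (β * β') (semisim_mul h h') (by rw [Subgroup.coe_mul, hβ, hβ', autS_mul])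

theorem semisim_refl_iff (g : GL ι F) :
    Cfsg.IsSemisimilarityPair (⇑Q) g (RingEquiv.refl F) ↔
      g ∈ Cfsg.Geo.quadSimilarityGroup (F := F) ⇑Q := Iff.rfl

theorem pgoAut_eq_ker (C : OC Q) (p : ℕ) [Fact p.Prime] [CharP F p] :
    Cfsg.pgoAut F ⇑Q = (sigmaHom C p).ker.map (semiGrp Q).subtype := by
  unfold Cfsg.pgoAut Cfsg.autSubgroupOf
  have hset : {β : MulAut (Cfsg.POmega F ⇑Q) | Cfsg.IsSimilarityInducedAutPOmega (⇑Q) β} =
      (((sigmaHom C p).ker.map (semiGrp Q).subtype : Subgroup (MulAut (Cfsg.POmega F ⇑Q))) :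
        Set (MulAut (Cfsg.POmega F ⇑Q))) := by
    ext β
    constructor
    · rintro ⟨g, hg, hβ⟩
      have h : Cfsg.IsSemisimilarityPair (⇑Q) g (RingEquiv.refl F) := (semisim_refl_iff g).2 hg
      have hβ' := eq_autS_of_induced h hβ
      refine ⟨⟨β, ⟨g, _, h, hβ'⟩⟩, ?_, rfl⟩
      rw [SetLike.mem_coe, MonoidHom.mem_ker]
      exact sigmaOf_eq C p _ h hβ'
    · rintro ⟨β', hker, rfl⟩
      rw [SetLike.mem_coe, MonoidHom.mem_ker] at hker
      obtain ⟨g, σ, h, hβ⟩ := β'.2
      have hσ : σ = RingEquiv.refl F := by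
        rw [← sigmaOf_eq C p β' h hβ]
        exact hker
      subst hσ
      refine ⟨g, (semisim_refl_iff g).1 h, ?_⟩
      show Cfsg.IsInducedBySemilinearPOmega (⇑Q) g (RingEquiv.refl F) (β' : MulAut _)
      rw [hβ]
      exact isInduced_autS g _ h
  rw [hset]
  exact Subgroup.closure_eq _

/-- **the order of the image of the semisimilarity group**, when every field automorphism admits
a semisimilarity. -/
theorem card_gammaPOmega (C : OC Q) (p : ℕ) [Fact p.Prime] [CharP F p]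
    (hex : ∀ σ : F ≃+* F, ∃ g : GL ι F, Cfsg.IsSemisimilarityPair (⇑Q) g σ) :
    Nat.card ↥(Cfsg.gammaPOmega F ⇑Q) = Nat.card (RingAut F) * Nat.card ↥(Cfsg.pgoAut F ⇑Q) := by
  rw [gammaPOmega_eq_semiGrp, pgoAut_eq_ker C p]
  have hsurj : Function.Surjective (sigmaHom C p) := by
    intro σ
    obtain ⟨g, h⟩ := hex σ
    exact ⟨⟨autS g σ h, ⟨g, σ, h, rfl⟩⟩, sigmaOf_eq C p _ h rfl⟩
  rw [Subgroup.card_eq_card_quotient_mul_card_subgroup (sigmaHom C p).ker,
    Nat.card_congr (QuotientGroup.quotientKerEquivOfSurjective (sigmaHom C p) hsurj).toEquiv]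
  congr 1
  exact (Subgroup.card_map_of_injective (Subgroup.subtype_injective _)).symm

end Cfsg.Agent.Lib.Helper19.GammaCard
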