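import Mathlib
import Cfsg.Agent.Lib.Helper19.TwoTrans

set_option autoImplicit false
set_option linter.unusedSimpArgs false
set_option linter.unusedSectionVars false

/-! # The exceptional case of Dickson's generation lemma: an orbit of length 40 in `𝔽₉²` -/

namespace Cfsg.Agent.Lib.Helper19.GenF9

open Matrix Cfsg.Agent.Lib.Helper60 Cfsg.Agent.S0807 Cfsg.Agent.S0808 Cfsg.Agent.S0802
open Cfsg.Agent.Lib.Helper19.TwoTrans

/-- the model of `𝔽₉ = 𝔽₃[i]` -/
abbrev R9 : Type := ZMod 3 × ZMod 3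

/-- multiplication by `i` in the model -/
def lamM (x : R9) : R9 := (-x.2, x.1)

def actA (v : R9 × R9) : R9 × R9 := (v.1, v.1 + v.2)
def actAi (v : R9 × R9) : R9 × R9 := (v.1, v.2 - v.1)
def actB (v : R9 × R9) : R9 × R9 := (v.1 + lamM v.2, v.2)
def actBi (v : R9 × R9) : R9 × R9 := (v.1 - lamM v.2, v.2)

/-- the orbit of `(1, 0)` -/
def olist : List (R9 × R9) := [((0, 0), (1, 1)), ((0, 0), (1, 2)), ((0, 0), (2, 1)), ((0, 0), (2, 2)), ((0, 1), (0, 0)), ((0, 1), (0, 1)), ((0, 1), (0, 2)), ((0, 2), (0, 0)), ((0, 2), (0, 1)), ((0, 2), (0, 2)), ((1, 0), (0, 0)), ((1, 0), (1, 0)), ((1, 0), (2, 0)), ((1, 1), (0, 1)), ((1, 1), (0, 2)), ((1, 1), (1, 0)), ((1, 1), (1, 2)), ((1, 1), (2, 0)), ((1, 1), (2, 1)), ((1, 2), (0, 1)), ((1, 2), (0, 2)), ((1, 2), (1, 0)), ((1, 2), (1, 1)), ((1, 2), (2, 0)), ((1, 2), (2, 2)), ((2, 0), (0, 0)), ((2, 0), (1, 0)), ((2, 0), (2, 0)), ((2, 1), (0, 1)), ((2, 1), (0, 2)), ((2, 1), (1, 0)), ((2, 1), (1, 1)), ((2, 1),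 (2, 0)), ((2, 1), (2, 2)), ((2, 2), (0, 1)), ((2, 2), (0, 2)), ((2, 2), (1, 0)), ((2, 2), (1, 2)), ((2, 2), (2, 0)), ((2, 2), (2, 1))]

theorem olist_closed : ∀ v ∈ olist,
    actA v ∈ olist ∧ actAi v ∈ olist ∧ actB v ∈ olist ∧ actBi v ∈ olist := by decide

theorem olist_length : olist.length = 40 := by decide

theorem e1_mem : (((1 : ZMod 3), (0 : ZMod 3)), ((0 : ZMod 3), (0 : ZMod 3))) ∈ olist := by decide


section transfer
variable {F : Type*} [Field F] [CharP F 3] (lam : F)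

/-- the map from the model to the field -/
def phi (x : R9) : F :=
  ZMod.castHom (dvd_refl 3) F x.1 + ZMod.castHom (dvd_refl 3) F x.2 * lam

theorem phi_add (x y : R9) : phi lam (x + y) = phi lam x + phi lam y := by
  simp only [phi, Prod.fst_add, Prod.snd_add, map_add]; ring

theorem phi_sub (x y : R9) : phi lam (x - y) = phi lam x - phi lam y := by
  simp only [phi, Prod.fst_sub, Prod.snd_sub, map_sub]; ring

theorem phi_lamM (hl : lam ^ 2 = -1) (x : R9) : phi lam (lamM x) = lam * phi lam x := by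
  simp only [phi, lamM, map_neg]
  linear_combination (-(ZMod.castHom (dvd_refl 3) F x.2)) * hl

/-- vectors -/
def Phi (v : R9 × R9) : Fin 2 → F := ![phi lam v.1, phi lam v.2]

/-- the orbit as a set of vectors over `F` -/
def Oset : Set (Fin 2 → F) := {w | ∃ v ∈ olist, w = Phi lam v}

theorem mulVec_eq (M : Matrix (Fin 2) (Fin 2) F) (w : Fin 2 → F) :
    M.mulVec w = ![M 0 0 * w 0 + M 0 1 * w 1, M 1 0 * w 0 + M 1 1 * w 1] := by
  ext i
  fin_cases i <;> simp [Matrix.mulVec, dotProduct, Fin.sum_univ_two]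

theorem gen_pres (hl : lam ^ 2 = -1) (g : Matrix.SpecialLinearGroup (Fin 2) F)
    (hg : (g : Matrix (Fin 2) (Fin 2) F) = !![1, 0; 1, 1] ∨
      (g : Matrix (Fin 2) (Fin 2) F) = !![1, lam; 0, 1]) :
    (∀ w ∈ Oset lam, g.1.mulVec w ∈ Oset lam) ∧ (∀ w ∈ Oset lam, (g⁻¹).1.mulVec w ∈ Oset lam) := by
  have hg' : (g.1 : Matrix (Fin 2) (Fin 2) F) = !![1, 0; 1, 1] ∨
      (g.1 : Matrix (Fin 2) (Fin 2) F) = !![1, lam; 0, 1] := hg
  constructor
  · rintro w ⟨v, hv, rfl⟩
    obtain ⟨h1, h2, h3, h4⟩ := olist_closed v hv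
    rcases hg' with h | h
    · refine ⟨actA v, h1, ?_⟩
      rw [mulVec_eq, h]
      simp [Phi, actA, phi_add]
    · refine ⟨actB v, h3, ?_⟩
      rw [mulVec_eq, h]
      simp [Phi, actB, phi_add, phi_lamM lam hl]
  · rintro w ⟨v, hv, rfl⟩
    obtain ⟨h1, h2, h3, h4⟩ := olist_closed v hv
    have e00 := i00 g
    have e01 := i01 g
    have e10 := i10 g
    have e11 := i11 g
    rcases hg' with h | h
    · refine ⟨actAi v, h2, ?_⟩
      rw [mulVec_eq, e00, e01, e10, e11, h]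
      simp [Phi, actAi, phi_sub]
      ring
    · refine ⟨actBi v, h4, ?_⟩
      rw [mulVec_eq, e00, e01, e10, e11, h]
      simp [Phi, actBi, phi_sub, phi_lamM lam hl]
      ring

theorem closure_pres (hl : lam ^ 2 = -1) (g : Matrix.SpecialLinearGroup (Fin 2) F)
    (hg : g ∈ Subgroup.closure {g : Matrix.SpecialLinearGroup (Fin 2) F |
      (g : Matrix (Fin 2) (Fin 2) F) = !![1, 0; 1, 1] ∨
        (g : Matrix (Fin 2) (Fin 2) F) = !![1, lam; 0, 1]}) :
    ∀ w ∈ Oset lam, g.1.mulVec w ∈ Oset lam := by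
  induction hg using Subgroup.closure_induction'' with
  | mem x hx => exact (gen_pres lam hl x hx).1
  | inv_mem x hx => exact (gen_pres lam hl x hx).2
  | one =>
    intro w hw
    simpa using hw
  | mul x y _ _ hx hy =>
    intro w hw
    have : (x * y).1.mulVec w = x.1.mulVec (y.1.mulVec w) := by
      show (x.1 * y.1).mulVec w = _
      rw [Matrix.mulVec_mulVec]
    rw [this]
    exact hx _ (hy _ hw)

theorem Oset_ncard_le : (Oset lam).ncard ≤ 40 := by
  classical
  have h1 : Oset lam = (Phi lam) '' (↑olist.toFinset : Set (R9 × R9)) := by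
    ext w
    constructor
    · rintro ⟨v, hv, rfl⟩
      exact ⟨v, by simpa using hv, rfl⟩
    · rintro ⟨v, hv, rfl⟩
      exact ⟨v, by simpa using hv, rfl⟩
  rw [h1]
  calc ((Phi lam) '' (↑olist.toFinset : Set (R9 × R9))).ncard
      ≤ (↑olist.toFinset : Set (R9 × R9)).ncard := Set.ncard_image_le (Finset.finite_toSet _)
    _ = olist.toFinset.card := Set.ncard_coe_finset _
    _ ≤ olist.length := List.toFinset_card_le _
    _ = 40 := olist_length

end transfer

/-- in the exceptional case the two transvections do not generate `SL₂(𝔽₉)` -/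
theorem closure_ne_top {F : Type*} [Field F] [Fintype F] (h9 : Fintype.card F = 9) (lam : F)
    (hl : lam ^ 2 = -1) :
    Subgroup.closure {g : Matrix.SpecialLinearGroup (Fin 2) F |
      (g : Matrix (Fin 2) (Fin 2) F) = !![1, 0; 1, 1] ∨
        (g : Matrix (Fin 2) (Fin 2) F) = !![1, lam; 0, 1]} ≠ ⊤ := by
  classical
  intro htop
  -- characteristic three
  obtain ⟨p, hp⟩ := CharP.exists F
  have : Fact p.Prime := ⟨CharP.char_is_prime F p⟩
  obtain ⟨n, hpp, hn⟩ := FiniteField.card F p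
  have hp3 : p = 3 := by
    rw [h9] at hn
    have h1 : p ∣ 3 ^ 2 := by
      have : (9 : ℕ) = 3 ^ 2 := by norm_num
      rw [← this, hn]
      exact dvd_pow_self p n.ne_zero
    exact (Nat.prime_dvd_prime_iff_eq hpp Nat.prime_three).mp (hpp.dvd_of_dvd_pow h1)
  subst hp3
  have hall : ∀ w : Fin 2 → F, w ≠ 0 → w ∈ Oset lam := by
    intro w hw
    obtain ⟨g, hg0, hg1⟩ := exists_col w hw
    have hg : g ∈ Subgroup.closure {g : Matrix.SpecialLinearGroup (Fin 2) F |
      (g : Matrix (Fin 2) (Fin 2) F) = !![1, 0; 1, 1] ∨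
        (g : Matrix (Fin 2) (Fin 2) F) = !![1, lam; 0, 1]} := by rw [htop]; trivial
    have h1 := closure_pres lam hl g hg (Phi lam ((1, 0), (0, 0))) ⟨_, e1_mem, rfl⟩
    have h2 : g.1.mulVec (Phi lam ((1, 0), (0, 0))) = w := by
      rw [mulVec_eq]
      ext i
      fin_cases i <;> simp [Phi, phi, hg0, hg1]
    rwa [h2] at h1
  have hsub : ({0}ᶜ : Set (Fin 2 → F)) ⊆ Oset lam := fun w hw => hall w hw
  have hc := Set.ncard_le_ncard hsub (Set.toFinite _)
  have h81 : Nat.card (Fin 2 → F) = 81 := by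
    rw [Nat.card_eq_fintype_card, Fintype.card_fun, h9]; rfl
  have hcompl : ({0}ᶜ : Set (Fin 2 → F)).ncard = 80 := by
    rw [Set.ncard_compl, Set.ncard_singleton, h81]
  have := Oset_ncard_le lam
  omega

end Cfsg.Agent.Lib.Helper19.GenF9
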