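import Mathlib
import Cfsg.Agent.Lib.Helper48.Dickson.Packages
import Cfsg.Agent.Lib.Helper19.DicksonUse

set_option autoImplicit false
set_option linter.unusedSimpArgs false
set_option linter.unusedSectionVars false

/-! # Dickson's generation lemma: two transvections generate `SL₂(F)` (up to one exception) -/

namespace Cfsg.Agent.Lib.Helper19.GenSL2

open Matrix Cfsg.Agent.Lib.Helper60 Cfsg.Agent.S0807 Cfsg.Agent.S0808 Cfsg.Agent.S0802
open Cfsg.Agent.Lib.Helper19.TwoTrans Cfsg.Agent.Lib.Helper19.DicksonUse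

section star
variable {F : Type*} [Field F] [Finite F]

/-- Counting cosets of the Borel part, with an arbitrary element outside the Borel part. -/
theorem star' (L : Subgroup (Matrix.SpecialLinearGroup (Fin 2) F)) (A : Set F) (P m : ℕ)
    (hAc : A.ncard = P) (hA : ∀ a ∈ A, umat a ∈ L)
    (h₁ : Matrix.SpecialLinearGroup (Fin 2) F) (h₁L : h₁ ∈ L) (hg₁ : h₁.1 1 0 ≠ 0)
    (hN : m ≤ Nat.card {h : Matrix.SpecialLinearGroup (Fin 2) F // h ∈ L ∧ h.1 1 0 = 0})
    (hL : Nat.card L = (P + 1) * m) :
    (∀ h ∈ L, h.1 1 0 ≠ 0 → h.1 0 0 / h.1 1 0 - h₁.1 0 0 / h₁.1 1 0 ∈ A) ∧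
      Nat.card {h : Matrix.SpecialLinearGroup (Fin 2) F // h ∈ L ∧ h.1 1 0 = 0} = m := by
  classical
  have : Fintype F := Fintype.ofFinite F
  have : Fintype L := Fintype.ofFinite L
  have hAfin : A.Finite := Set.toFinite A
  set c₁ := h₁.1 0 0 / h₁.1 1 0 with hc₁
  set S : Finset (Option F) := Finset.univ.image (fun h : L => ptOf h.1) with hS
  set n := Nat.card {h : Matrix.SpecialLinearGroup (Fin 2) F // h ∈ L ∧ h.1 1 0 = 0} with hn
  have hn0 : n ≠ 0 := by
    have : Nonempty {h : Matrix.SpecialLinearGroup (Fin 2) F // h ∈ L ∧ h.1 1 0 = 0} :=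
      ⟨⟨1, L.one_mem, by simp⟩⟩
    exact Nat.card_pos.ne'
  -- fibres
  have hfib : ∀ h₀ : L, (Finset.univ.filter (fun h : L => ptOf h.1 = ptOf h₀.1)).card = n := by
    intro h₀
    rw [hn, ← Cfsg.Agent.S0807.filter_card_eq_natCard]
    apply Finset.card_bij (fun h _ => h₀.1⁻¹ * h.1)
    · intro h hh
      simp only [Finset.mem_filter, Finset.mem_univ, true_and] at hh ⊢
      exact ⟨L.mul_mem (L.inv_mem h₀.2) h.2, (ptOf_eq_iff h.1 h₀.1).mp hh⟩
    · intro a _ b _ hab
      exact Subtype.ext (mul_left_cancel hab)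
    · intro x hx
      simp only [Finset.mem_filter, Finset.mem_univ, true_and] at hx
      refine ⟨⟨h₀.1 * x, L.mul_mem h₀.2 hx.1⟩, ?_, ?_⟩
      · simp only [Finset.mem_filter, Finset.mem_univ, true_and]
        rw [ptOf_eq_iff]
        have : h₀.1⁻¹ * (h₀.1 * x) = x := by group
        rw [this]; exact hx.2
      · show h₀.1⁻¹ * (h₀.1 * x) = x
        group
  -- counting
  have hcount : Fintype.card L = S.card * n := by
    rw [← Finset.card_univ]
    rw [Finset.card_eq_sum_card_fiberwise (f := fun h : L => ptOf h.1) (t := S)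
      (fun h _ => Finset.mem_image_of_mem _ (Finset.mem_univ h))]
    rw [Finset.sum_const_nat (m := n)]
    intro s hs
    rw [hS, Finset.mem_image] at hs
    obtain ⟨h₀, _, rfl⟩ := hs
    exact hfib h₀
  set S₀ : Finset (Option F) :=
    insert none (hAfin.toFinset.image (fun a => some (a + c₁))) with hS₀
  have hinj : Function.Injective (fun a : F => some (a + c₁)) := by
    intro a b hab
    simp only [Option.some.injEq] at hab
    exact add_right_cancel hab
  have hS₀card : S₀.card = P + 1 := by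
    rw [hS₀, Finset.card_insert_of_notMem (by simp),
      Finset.card_image_of_injective _ hinj, ← hAc,
      Set.ncard_eq_toFinset_card A hAfin]
  have hsub : S₀ ⊆ S := by
    intro s hs
    rw [hS₀, Finset.mem_insert] at hs
    rw [hS, Finset.mem_image]
    rcases hs with rfl | hs
    · refine ⟨⟨1, L.one_mem⟩, Finset.mem_univ _, ?_⟩
      simp [ptOf]
    · rw [Finset.mem_image] at hs
      obtain ⟨a, ha, rfl⟩ := hs
      rw [Set.Finite.mem_toFinset] at ha
      refine ⟨⟨umat a * h₁, L.mul_mem (hA a ha) h₁L⟩, Finset.mem_univ _, ?_⟩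
      have e10 : (umat a * h₁).1 1 0 = h₁.1 1 0 := by rw [m10]; simp
      have e00 : (umat a * h₁).1 0 0 = h₁.1 0 0 + a * h₁.1 1 0 := by rw [m00]; simp
      simp only [ptOf, e10, e00, hg₁, if_false]
      rw [hc₁]
      congr 1
      field_simp
      ring
  have hle : P + 1 ≤ S.card := by
    rw [← hS₀card]; exact Finset.card_le_card hsub
  rw [Nat.card_eq_fintype_card, hcount] at hL
  have hnm : n = m := by
    have h1 : (P + 1) * n ≤ S.card * n := Nat.mul_le_mul_right _ hle
    have h2 : (P + 1) * m ≤ (P + 1) * n := Nat.mul_le_mul_left _ hN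
    have h3 : (P + 1) * n = (P + 1) * m := by omega
    exact Nat.eq_of_mul_eq_mul_left (Nat.succ_pos P) h3
  have hScard : S.card = P + 1 := by
    rw [← hnm] at hL
    exact Nat.eq_of_mul_eq_mul_right (Nat.pos_of_ne_zero hn0) hL
  have hSS : S₀ = S := Finset.eq_of_subset_of_card_le hsub (by rw [hScard, hS₀card])
  refine ⟨?_, hnm⟩
  intro h hh hg
  have hmem : ptOf h ∈ S := by
    rw [hS, Finset.mem_image]
    exact ⟨⟨h, hh⟩, Finset.mem_univ _, rfl⟩
  rw [← hSS, hS₀, Finset.mem_insert] at hmem
  simp only [ptOf, hg, if_false] at hmem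
  rcases hmem with hmem | hmem
  · exact absurd hmem (by simp)
  · rw [Finset.mem_image] at hmem
    obtain ⟨a, ha, hae⟩ := hmem
    rw [Set.Finite.mem_toFinset] at ha
    rw [Option.some.injEq] at hae
    rw [← hae, add_sub_cancel_right]; exact ha

end star


section hyp
variable {F : Type*} [Field F] [Fintype F]

theorem lmat_add (a b : F) : lmat (a + b) = lmat a * lmat b := by
  apply sl_ext <;> simp [m00, m01, m10, m11]

/-- the two-transitive configuration containing the two transvections is everything -/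
theorem gen_of_hyp (p : ℕ) [Fact p.Prime] [CharP F p] (hp2 : p ≠ 2) (lam : F) (hlam : lam ≠ 0)
    (hgen : Subfield.closure ({lam} : Set F) = ⊤)
    (H : Subgroup (Matrix.ProjectiveSpecialLinearGroup (Fin 2) F))
    (hl : (QuotientGroup.mk (lmat (1 : F)) : Matrix.ProjectiveSpecialLinearGroup (Fin 2) F) ∈ H)
    (hu : (QuotientGroup.mk (umat lam) : Matrix.ProjectiveSpecialLinearGroup (Fin 2) F) ∈ H)
    (P k : ℕ) (hP : 1 < P) (hk : k = P - 1 ∨ 2 * k = P - 1)
    (hQ : Nat.card (H ⊓ Ubar F : Subgroup _) = P)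
    (hN : Nat.card (H ⊓ Subgroup.normalizer ((H ⊓ Ubar F : Subgroup _) : Set _) : Subgroup _) =
      P * k)
    (hH : Nat.card H = (P + 1) * P * k) : H = ⊤ := by
  classical
  have pp : p.Prime := Fact.out
  have h2F : (2 : F) ≠ 0 := by
    intro h
    have h1 : ((2 : ℕ) : F) = 0 := by exact_mod_cast h
    have h3 := (CharP.cast_eq_zero_iff F p 2).mp h1
    exact hp2 ((Nat.prime_dvd_prime_iff_eq pp Nat.prime_two).mp h3)
  set Q : Subgroup (Matrix.ProjectiveSpecialLinearGroup (Fin 2) F) := H ⊓ Ubar F with hQdef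
  have hQU : Q ≤ Ubar F := inf_le_right
  have hQH : Q ≤ H := inf_le_left
  set L : Subgroup (Matrix.SpecialLinearGroup (Fin 2) F) :=
    H.comap (QuotientGroup.mk' (Subgroup.center _)) with hL
  have hmemL : ∀ x, x ∈ L ↔
      (QuotientGroup.mk x : Matrix.ProjectiveSpecialLinearGroup (Fin 2) F) ∈ H := fun x => Iff.rfl
  have hAmem : ∀ a, a ∈ Aset L ↔
      (QuotientGroup.mk (umat a) : Matrix.ProjectiveSpecialLinearGroup (Fin 2) F) ∈ Q := by
    intro a
    rw [hQdef, Subgroup.mem_inf]
    exact ⟨fun h => ⟨h, a, rfl⟩, fun h => h.1⟩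
  have hAc : (Aset L).ncard = P := by
    rw [← hQ, ← Nat.card_coe_set_eq]
    apply Nat.card_congr
    apply Equiv.ofBijective (fun a : Aset L =>
      (⟨QuotientGroup.mk (umat a.1), (hAmem a.1).mp a.2⟩ : Q))
    constructor
    · intro a b hab
      exact Subtype.ext (mk_umat_inj (congrArg Subtype.val hab))
    · rintro ⟨x, hx⟩
      obtain ⟨a, rfl⟩ := hQU hx
      exact ⟨⟨a, (hAmem a).mpr hx⟩, rfl⟩
  set d := Nat.card (Subgroup.center (Matrix.SpecialLinearGroup (Fin 2) F)) with hd
  have hLcard : Nat.card L = (P + 1) * (d * P * k) := by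
    rw [hL, card_comap_mk, hH]; ring
  have hlamA : lam ∈ Aset L := hu
  -- the normaliser part is upper triangular
  have hNle : d * P * k ≤
      Nat.card {h : Matrix.SpecialLinearGroup (Fin 2) F // h ∈ L ∧ h.1 1 0 = 0} := by
    have hc : Nat.card ((H ⊓ Subgroup.normalizer (Q : Set _) : Subgroup _).comap
        (QuotientGroup.mk' (Subgroup.center (Matrix.SpecialLinearGroup (Fin 2) F)))) =
        d * (P * k) := by
      rw [card_comap_mk, hN]
    rw [mul_assoc, ← hc]
    have hprop : ∀ x : ((H ⊓ Subgroup.normalizer (Q : Set _) : Subgroup _).comap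
        (QuotientGroup.mk' (Subgroup.center (Matrix.SpecialLinearGroup (Fin 2) F)))),
        x.1 ∈ L ∧ x.1.1 1 0 = 0 := by
      rintro ⟨x, hx⟩
      have hx' : (QuotientGroup.mk x : Matrix.ProjectiveSpecialLinearGroup (Fin 2) F) ∈
          H ⊓ Subgroup.normalizer (Q : Set _) := hx
      rw [Subgroup.mem_inf] at hx'
      refine ⟨hx'.1, ?_⟩
      have h1 := (Subgroup.mem_normalizer_iff.mp hx'.2 _).mp ((hAmem lam).mp hlamA)
      rw [← QuotientGroup.mk_mul, ← QuotientGroup.mk_inv, ← QuotientGroup.mk_mul] at h1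
      obtain ⟨a', ha'⟩ := hQU h1
      rw [mk_eq_mk_iff] at ha'
      have h2 : (x * umat lam * x⁻¹).1 1 0 = 0 := by
        rcases ha' with h | h
        · rw [h]; simp
        · rw [h]; simp
      rw [conj_u10] at h2
      have h3 : lam * (x.1 1 0) ^ 2 = 0 := neg_eq_zero.mp h2
      rcases mul_eq_zero.mp h3 with h | h
      · exact absurd h hlam
      · exact pow_eq_zero_iff (two_ne_zero) |>.mp h
    apply Nat.card_le_card_of_injective (fun x => (⟨x.1, hprop x⟩ :
      {h : Matrix.SpecialLinearGroup (Fin 2) F // h ∈ L ∧ h.1 1 0 = 0}))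
    intro x y hxy
    have h3 : x.1 = y.1 := congrArg (fun z :
      {h : Matrix.SpecialLinearGroup (Fin 2) F // h ∈ L ∧ h.1 1 0 = 0} => z.1) hxy
    exact Subtype.ext h3
  have hl1 : lmat (1 : F) ∈ L := hl
  obtain ⟨hstar', hNcard⟩ := star' L (Aset L) P (d * P * k) hAc (fun a ha => ha) (lmat 1) hl1
    (by simp) hNle hLcard
  -- `1 ∈ A`
  have hl2 : lmat (2 : F) ∈ L := by
    have : lmat (2 : F) = lmat 1 * lmat 1 := by rw [← lmat_add]; norm_num
    rw [this]; exact L.mul_mem hl1 hl1
  have h1A : (1 : F) ∈ Aset L := by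
    have h := hstar' (lmat 2) hl2 (by simpa using h2F)
    simp only [lmat00, lmat10] at h
    have h' := Aset_neg L (Aset_add L h h)
    have e : -((1 : F) / 2 - 1 / 1 + (1 / 2 - 1 / 1)) = 1 := by field_simp; ring
    rwa [e] at h'
  have hstar : ∀ h ∈ L, h.1 1 0 ≠ 0 → h.1 0 0 / h.1 1 0 ∈ Aset L := by
    intro h hh h10
    have h' := Aset_add L (hstar' h hh h10) h1A
    simp only [lmat00, lmat10] at h'
    have e : h.1 0 0 / h.1 1 0 - (1 : F) / 1 + 1 = h.1 0 0 / h.1 1 0 := by ring
    rwa [e] at h'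
  -- the element with vanishing corner
  have hh₁ : umat (-1 : F) * lmat 1 ∈ L := L.mul_mem (Aset_neg L h1A) hl1
  have hh₁0 : (umat (-1 : F) * lmat 1).1 0 0 = 0 := by rw [m00]; simp
  obtain ⟨K, hK⟩ := exists_subfield L p hstar _ hh₁ hh₁0 lam hlamA hlam
  have hlamK : lam ∈ K := by
    have h1 : lam⁻¹ ∈ K := by
      rw [hK, mul_inv_cancel₀ hlam]; exact h1A
    have := K.inv_mem h1
    rwa [inv_inv] at this
  have hKtop : K = ⊤ := by
    apply top_le_iff.mp
    rw [← hgen]
    exact Subfield.closure_le.mpr (by simpa using hlamK)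
  have hAuniv : Aset L = Set.univ := by
    apply Set.eq_univ_of_forall
    intro x
    have h1 : lam⁻¹ * x ∈ K := by rw [hKtop]; trivial
    rw [hK, ← mul_assoc, mul_inv_cancel₀ hlam, one_mul] at h1
    exact h1
  have hPq : P = Fintype.card F := by
    rw [← hAc, hAuniv, Set.ncard_univ, Nat.card_eq_fintype_card]
  -- cardinalities
  have hqodd : Odd (Fintype.card F) := by
    obtain ⟨n, _, hn⟩ := FiniteField.card F p
    rw [hn]; exact (pp.odd_of_ne_two hp2).pow
  have hpsl := card_psl_mul_d (F := F)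
  rw [gcd_two_odd hqodd] at hpsl
  have hle : Nat.card H ≤ Nat.card (Matrix.ProjectiveSpecialLinearGroup (Fin 2) F) :=
    Subgroup.card_le_card_group H
  apply Subgroup.eq_top_of_card_eq
  apply le_antisymm hle
  rw [hH, ← hPq] at *
  obtain ⟨j, rfl⟩ : ∃ j, P = j + 2 := ⟨P - 2, by omega⟩
  have e1 : (j + 2) * (j + 2) - 1 = (j + 1) * (j + 3) := by
    have : (j + 2) * (j + 2) = (j + 1) * (j + 3) + 1 := by ring
    rw [this]; omega
  rw [e1] at hpsl
  have e2 : j + 2 - 1 = j + 1 := by omega
  rw [e2] at hk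
  rcases hk with hk | hk
  · exfalso
    rw [hk] at hle
    nlinarith
  · nlinarith

end hyp


section lift
variable {F : Type*} [Field F]

theorem neg_one_entries : ((-1 : Matrix.SpecialLinearGroup (Fin 2) F).1 0 0 = -1) ∧
    ((-1 : Matrix.SpecialLinearGroup (Fin 2) F).1 0 1 = 0) ∧
    ((-1 : Matrix.SpecialLinearGroup (Fin 2) F).1 1 0 = 0) ∧
    ((-1 : Matrix.SpecialLinearGroup (Fin 2) F).1 1 1 = -1) := by
  refine ⟨?_, ?_, ?_, ?_⟩ <;> simp

/-- a lift of an involution of `PSL₂` squares to `-1` -/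
theorem sq_eq_neg_one (h2 : (2 : F) ≠ 0) (x : Matrix.SpecialLinearGroup (Fin 2) F)
    (hx1 : (QuotientGroup.mk x : Matrix.ProjectiveSpecialLinearGroup (Fin 2) F) ≠ 1)
    (hx2 : (QuotientGroup.mk x : Matrix.ProjectiveSpecialLinearGroup (Fin 2) F) ^ 2 = 1) :
    x * x = -1 := by
  rw [pow_two, ← QuotientGroup.mk_mul] at hx2
  have h := (mk_eq_mk_iff (x * x) 1).mp hx2
  rcases h with h | h
  · exfalso
    apply hx1
    have hinv : x⁻¹ = x := by
      rw [inv_eq_iff_mul_eq_one]; exact h
    have e00 := i00 x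
    have e01 := i01 x
    have e10 := i10 x
    rw [hinv] at e00 e01 e10
    have h01 : x.1 0 1 = 0 := by
      have : (2 : F) * x.1 0 1 = 0 := by linear_combination e01
      exact (mul_eq_zero.mp this).resolve_left h2
    have h10 : x.1 1 0 = 0 := by
      have : (2 : F) * x.1 1 0 = 0 := by linear_combination e10
      exact (mul_eq_zero.mp this).resolve_left h2
    have hd := sl2_det x
    rw [h01, ← e00] at hd
    have hsq : (x.1 0 0 - 1) * (x.1 0 0 + 1) = 0 := by linear_combination hd
    show (QuotientGroup.mk x : Matrix.ProjectiveSpecialLinearGroup (Fin 2) F) = QuotientGroup.mk 1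
    rw [mk_eq_mk_iff]
    rcases mul_eq_zero.mp hsq with h0 | h0
    · left
      have h00 : x.1 0 0 = 1 := by linear_combination h0
      apply sl_ext <;> simp [h00, h01, h10, ← e00]
    · right
      have h00 : x.1 0 0 = -1 := by linear_combination h0
      apply sl_ext <;> simp [h00, h01, h10, ← e00]
  · exact h

theorem neg_one_mem_of_involution (h2 : (2 : F) ≠ 0)
    (L₀ : Subgroup (Matrix.SpecialLinearGroup (Fin 2) F))
    (z : Matrix.ProjectiveSpecialLinearGroup (Fin 2) F)
    (hz : z ∈ L₀.map (QuotientGroup.mk' (Subgroup.center _))) (hz1 : z ≠ 1) (hz2 : z ^ 2 = 1) :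
    (-1 : Matrix.SpecialLinearGroup (Fin 2) F) ∈ L₀ := by
  obtain ⟨x, hx, rfl⟩ := hz
  rw [← sq_eq_neg_one h2 x hz1 hz2]
  exact L₀.mul_mem hx hx

theorem comap_map_eq_self (L₀ : Subgroup (Matrix.SpecialLinearGroup (Fin 2) F))
    (hneg : (-1 : Matrix.SpecialLinearGroup (Fin 2) F) ∈ L₀) :
    (L₀.map (QuotientGroup.mk' (Subgroup.center _))).comap
      (QuotientGroup.mk' (Subgroup.center _)) = L₀ := by
  rw [Subgroup.comap_map_eq, QuotientGroup.ker_mk']
  apply sup_eq_left.mpr
  intro x hx
  have h1 : (QuotientGroup.mk x : Matrix.ProjectiveSpecialLinearGroup (Fin 2) F) =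
      QuotientGroup.mk 1 := by
    rw [QuotientGroup.mk_one]
    exact (QuotientGroup.eq_one_iff x).mpr hx
  rcases (mk_eq_mk_iff x 1).mp h1 with h | h
  · rw [h]; exact L₀.one_mem
  · rw [h]; exact hneg

/-- powers of a matrix of determinant one are linear in the matrix -/
def IsLin (M X : Matrix.SpecialLinearGroup (Fin 2) F) (α β : F) : Prop :=
  X.1 0 0 = α * M.1 0 0 - β ∧ X.1 0 1 = α * M.1 0 1 ∧ X.1 1 0 = α * M.1 1 0 ∧
    X.1 1 1 = α * M.1 1 1 - β

theorem isLin_self (M : Matrix.SpecialLinearGroup (Fin 2) F) : IsLin M M 1 0 := by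
  refine ⟨?_, ?_, ?_, ?_⟩ <;> ring

theorem isLin_mul (M X : Matrix.SpecialLinearGroup (Fin 2) F) (α β : F) (h : IsLin M X α β) :
    IsLin M (X * M) (α * (M.1 0 0 + M.1 1 1) - β) α := by
  obtain ⟨h00, h01, h10, h11⟩ := h
  have hd := sl2_det M
  refine ⟨?_, ?_, ?_, ?_⟩
  · rw [m00, h00, h01]; linear_combination (-α) * hd
  · rw [m01, h00, h01]; ring
  · rw [m10, h10, h11]; ring
  · rw [m11, h10, h11]; linear_combination (-α) * hd

theorem corner_of_mk_eq_one (X : Matrix.SpecialLinearGroup (Fin 2) F)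
    (h : (QuotientGroup.mk X : Matrix.ProjectiveSpecialLinearGroup (Fin 2) F) = 1) :
    X.1 1 0 = 0 := by
  rw [← QuotientGroup.mk_one, mk_eq_mk_iff] at h
  rcases h with h | h
  · rw [h]; simp
  · rw [h]; simp

/-- traces of elements of `PSL₂` of orders two, three and five -/
theorem trace_cases (M : Matrix.SpecialLinearGroup (Fin 2) F) (h10 : M.1 1 0 ≠ 0) (t : F)
    (ht : t = M.1 0 0 + M.1 1 1) :
    ((QuotientGroup.mk M : Matrix.ProjectiveSpecialLinearGroup (Fin 2) F) ^ 2 = 1 → t = 0) ∧
    ((QuotientGroup.mk M : Matrix.ProjectiveSpecialLinearGroup (Fin 2) F) ^ 3 = 1 → t ^ 2 = 1) ∧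
    ((QuotientGroup.mk M : Matrix.ProjectiveSpecialLinearGroup (Fin 2) F) ^ 5 = 1 →
      t ^ 4 - 3 * t ^ 2 + 1 = 0) := by
  have l1 := isLin_self M
  have l2 := isLin_mul M _ _ _ l1
  have l3 := isLin_mul M _ _ _ l2
  have l4 := isLin_mul M _ _ _ l3
  have l5 := isLin_mul M _ _ _ l4
  rw [← ht] at l2 l3 l4 l5
  refine ⟨?_, ?_, ?_⟩
  · intro h
    have e : M ^ 2 = M * M := by rw [pow_two]
    rw [← QuotientGroup.mk_pow, e] at h
    have := corner_of_mk_eq_one _ h
    rw [l2.2.2.1] at this
    rcases mul_eq_zero.mp this with h0 | h0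
    · linear_combination h0
    · exact absurd h0 h10
  · intro h
    have e : M ^ 3 = M * M * M := by rw [pow_succ, pow_two]
    rw [← QuotientGroup.mk_pow, e] at h
    have := corner_of_mk_eq_one _ h
    rw [l3.2.2.1] at this
    rcases mul_eq_zero.mp this with h0 | h0
    · linear_combination h0
    · exact absurd h0 h10
  · intro h
    have e : M ^ 5 = M * M * M * M * M := by rw [pow_succ, pow_succ, pow_succ, pow_two]
    rw [← QuotientGroup.mk_pow, e] at h
    have := corner_of_mk_eq_one _ h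
    rw [l5.2.2.1] at this
    rcases mul_eq_zero.mp this with h0 | h0
    · linear_combination h0
    · exact absurd h0 h10

end lift


section exceptional
variable {F : Type*} [Field F] [Fintype F]

theorem card_le_of_pow_eq (n : ℕ) (hn : 1 < n) (h : ∀ x : F, x ^ n = x) : Fintype.card F ≤ n := by
  classical
  have h1 : (Finset.univ : Finset F).val ⊆ (Polynomial.X ^ n - Polynomial.X : Polynomial F).roots := by
    intro x _
    rw [Polynomial.mem_roots (FiniteField.X_pow_card_sub_X_ne_zero F hn)]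
    simp [h x]
  have h2 := Polynomial.card_le_degree_of_subset_roots h1
  rwa [FiniteField.X_pow_card_sub_X_natDegree_eq F hn, Finset.card_univ] at h2

theorem card_le_of_small (H : Subgroup (Matrix.ProjectiveSpecialLinearGroup (Fin 2) F))
    (hq : Fintype.card F ≤ 3) : Nat.card H ≤ 24 := by
  have h1 := card_psl_mul_d (F := F)
  have h2 : Nat.card H ≤ Nat.card (Matrix.ProjectiveSpecialLinearGroup (Fin 2) F) :=
    Subgroup.card_le_card_group H
  have h3 : 0 < Nat.gcd 2 (Fintype.card F - 1) := Nat.gcd_pos_of_pos_left _ (by norm_num)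
  have h4 : Nat.card (Matrix.ProjectiveSpecialLinearGroup (Fin 2) F) ≤
      Fintype.card F * (Fintype.card F * Fintype.card F - 1) := by
    rw [← h1]; exact Nat.le_mul_of_pos_right _ h3
  have h5 : Fintype.card F * (Fintype.card F * Fintype.card F - 1) ≤ 24 := by
    have : 0 < Fintype.card F := Fintype.card_pos
    interval_cases (Fintype.card F) <;> norm_num
  omega

/-- the icosahedral case in characteristic three -/
theorem exceptional [CharP F 3] (lam : F) (hlam : lam ≠ 0)
    (hgen : Subfield.closure ({lam} : Set F) = ⊤)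
    (H : Subgroup (Matrix.ProjectiveSpecialLinearGroup (Fin 2) F))
    (hl : (QuotientGroup.mk (lmat (1 : F)) : Matrix.ProjectiveSpecialLinearGroup (Fin 2) F) ∈ H)
    (hu : (QuotientGroup.mk (umat lam) : Matrix.ProjectiveSpecialLinearGroup (Fin 2) F) ∈ H)
    (h60 : Nat.card H = 60)
    (hord : ∀ z ∈ H, z ^ 2 = 1 ∨ z ^ 3 = 1 ∨ z ^ 5 = 1) :
    Fintype.card F = 9 ∧ lam ^ 2 = -1 := by
  have h3 : (3 : F) = 0 := by
    have := CharP.cast_eq_zero F 3
    exact_mod_cast this
  have hbig : ¬ Fintype.card F ≤ 3 := by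
    intro hq
    have := card_le_of_small H hq
    omega
  -- `λ` is not in the prime field
  have hcube : lam ^ 3 ≠ lam := by
    intro hc
    apply hbig
    apply card_le_of_pow_eq 3 (by norm_num)
    have hle : Subfield.closure ({lam} : Set F) ≤
        (frobenius F 3).eqLocusField (RingHom.id F) := by
      apply Subfield.closure_le.mpr
      intro x hx
      rw [Set.mem_singleton_iff] at hx
      subst hx
      show frobenius F 3 x = x
      rw [frobenius_def]; exact hc
    rw [hgen] at hle
    intro x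
    have : x ∈ (frobenius F 3).eqLocusField (RingHom.id F) := hle trivial
    have h' : frobenius F 3 x = x := this
    rwa [frobenius_def] at h'
  -- the two products
  have hM1 : (QuotientGroup.mk (lmat (1 : F) * umat lam) :
      Matrix.ProjectiveSpecialLinearGroup (Fin 2) F) ∈ H := by
    rw [QuotientGroup.mk_mul]; exact H.mul_mem hl hu
  have hM2 : (QuotientGroup.mk (lmat (1 : F) * umat (-lam)) :
      Matrix.ProjectiveSpecialLinearGroup (Fin 2) F) ∈ H := by
    rw [QuotientGroup.mk_mul, umat_neg, QuotientGroup.mk_inv]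
    exact H.mul_mem hl (H.inv_mem hu)
  have t1 := trace_cases (lmat (1 : F) * umat lam) (by rw [m10]; simp) (2 + lam)
    (by rw [m00, m11]; simp; ring)
  have t2 := trace_cases (lmat (1 : F) * umat (-lam)) (by rw [m10]; simp) (2 - lam)
    (by rw [m00, m11]; simp; ring)
  have c1 : (2 + lam) ^ 4 - 3 * (2 + lam) ^ 2 + 1 = 0 := by
    rcases hord _ hM1 with h | h | h
    · exfalso
      have e := t1.1 h
      apply hcube
      linear_combination (lam ^ 2 - 2 * lam + 3) * e - 2 * h3
    · exfalso
      have e := t1.2.1 h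
      apply hcube
      linear_combination (lam - 1) * e - (lam ^ 2 - 1) * h3
    · exact t1.2.2 h
  have c2 : (2 - lam) ^ 4 - 3 * (2 - lam) ^ 2 + 1 = 0 := by
    rcases hord _ hM2 with h | h | h
    · exfalso
      have e := t2.1 h
      apply hcube
      linear_combination (-(lam ^ 2 + 2 * lam + 3)) * e + 2 * h3
    · exfalso
      have e := t2.2.1 h
      apply hcube
      linear_combination (lam + 1) * e + (lam ^ 2 - 1) * h3
    · exact t2.2.2 h
  have hl2 : lam ^ 2 = -1 := by
    have h0 : lam * (lam ^ 2 + 1) = 0 := by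
      linear_combination c1 - c2 - (8 * lam + 5 * lam * (lam ^ 2 + 1)) * h3
    rcases mul_eq_zero.mp h0 with h | h
    · exact absurd h hlam
    · linear_combination h
  refine ⟨?_, hl2⟩
  -- the field has nine elements
  have h9 : Fintype.card F ≤ 9 := by
    apply card_le_of_pow_eq 9 (by norm_num)
    have hle : Subfield.closure ({lam} : Set F) ≤
        ((frobenius F 3).comp (frobenius F 3)).eqLocusField (RingHom.id F) := by
      apply Subfield.closure_le.mpr
      intro x hx
      rw [Set.mem_singleton_iff] at hx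
      subst hx
      show frobenius F 3 (frobenius F 3 x) = x
      rw [frobenius_def, frobenius_def]
      have : (x ^ 3) ^ 3 = x * (x ^ 2) ^ 4 := by ring
      rw [this, hl2]; ring
    rw [hgen] at hle
    intro x
    have : x ∈ ((frobenius F 3).comp (frobenius F 3)).eqLocusField (RingHom.id F) := hle trivial
    have h' : frobenius F 3 (frobenius F 3 x) = x := this
    rw [frobenius_def, frobenius_def] at h'
    calc x ^ 9 = (x ^ 3) ^ 3 := by ring
      _ = x := h'
  obtain ⟨n, _, hn⟩ := FiniteField.card F 3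
  have hn1 : (n : ℕ) ≠ 1 := by
    intro h1
    apply hbig
    rw [hn, h1]; norm_num
  have hn2 : (n : ℕ) ≤ 2 := by
    by_contra hcon
    push Not at hcon
    have : 3 ^ 3 ≤ 3 ^ (n : ℕ) := Nat.pow_le_pow_right (by norm_num) hcon
    rw [← hn] at this
    omega
  have hn0 : 0 < (n : ℕ) := n.pos
  have : (n : ℕ) = 2 := by omega
  rw [hn, this]; norm_num

end exceptional


section main
variable {F : Type*} [Field F] [Fintype F]

open Cfsg.Agent.Lib.Helper48.Dickson

theorem lmat_pow (a : F) (n : ℕ) : lmat a ^ n = lmat (n • a) := by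
  induction n with
  | zero =>
    rw [pow_zero, zero_smul]
    apply sl_ext <;> simp
  | succ n ih => rw [pow_succ, ih, ← lmat_add, succ_nsmul]

theorem comp_umat (p : ℕ) [Fact p.Prime] [CharP F p] (lam : F) (hlam : lam ≠ 0) :
    (dstruct (tPack p) (uPack p)).comp
      (QuotientGroup.mk (umat lam) : Matrix.ProjectiveSpecialLinearGroup (Fin 2) F) = Ubar F := by
  ext y
  obtain ⟨B, rfl⟩ := QuotientGroup.mk_surjective y
  show (mk2 B) ∈ comp2 (mk2 (umat lam)) ↔ _
  rw [mem_comp2_iff]
  constructor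
  · intro h
    have h00 := congrArg (fun M : Matrix.SpecialLinearGroup (Fin 2) F => M.1 0 0) h
    have h01 := congrArg (fun M : Matrix.SpecialLinearGroup (Fin 2) F => M.1 0 1) h
    simp only [m00, m01] at h00 h01
    simp at h00 h01
    have h10 : B.1 1 0 = 0 := by
      rcases h00 with h | h
      · exact absurd h hlam
      · exact h
    have h11 : B.1 0 0 = B.1 1 1 := by
      have : lam * (B.1 0 0 - B.1 1 1) = 0 := by linear_combination h01
      rcases mul_eq_zero.mp this with h | h
      · exact absurd h hlam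
      · linear_combination h
    have hd := sl2_det B
    rw [h10, ← h11] at hd
    have hsq : (B.1 0 0 - 1) * (B.1 0 0 + 1) = 0 := by linear_combination hd
    rcases mul_eq_zero.mp hsq with h0 | h0
    · have hb : B.1 0 0 = 1 := by linear_combination h0
      refine ⟨B.1 0 1, ?_⟩
      congr 1
      apply sl_ext <;> simp [hb, h10, ← h11]
    · have hb : B.1 0 0 = -1 := by linear_combination h0
      refine ⟨-B.1 0 1, ?_⟩
      rw [mk_eq_mk_iff]
      right
      apply sl_ext <;> simp [hb, h10, ← h11]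
  · rintro ⟨a, ha⟩
    rw [mk_eq_mk_iff] at ha
    rcases ha with ha | ha
    · rw [ha, ← umat_add, ← umat_add, add_comm]
    · rw [ha, neg_mul, mul_neg, ← umat_add, ← umat_add, add_comm]

/-- **Dickson's generation lemma**, abstract form: a subgroup of `SL₂(F)` containing the two
transvections is everything, or we are in the exceptional case. -/
theorem main_A (p : ℕ) [Fact p.Prime] [CharP F p] (hp2 : p ≠ 2) (lam : F) (hlam : lam ≠ 0)
    (hgen : Subfield.closure ({lam} : Set F) = ⊤)
    (L₀ : Subgroup (Matrix.SpecialLinearGroup (Fin 2) F))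
    (hl0 : lmat (1 : F) ∈ L₀) (hu0 : umat lam ∈ L₀) :
    L₀ = ⊤ ∨ (Fintype.card F = 9 ∧ lam ^ 2 = -1 ∧ Nat.card L₀ = 120) := by
  classical
  have pp : p.Prime := Fact.out
  have h2F : (2 : F) ≠ 0 := by
    intro h
    have h1 : ((2 : ℕ) : F) = 0 := by exact_mod_cast h
    have h3 := (CharP.cast_eq_zero_iff F p 2).mp h1
    exact hp2 ((Nat.prime_dvd_prime_iff_eq pp Nat.prime_two).mp h3)
  have hqodd : Odd (Fintype.card F) := by
    obtain ⟨n, _, hn⟩ := FiniteField.card F p
    rw [hn]; exact (pp.odd_of_ne_two hp2).pow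
  set H : Subgroup (Matrix.ProjectiveSpecialLinearGroup (Fin 2) F) :=
    L₀.map (QuotientGroup.mk' (Subgroup.center _)) with hH
  set a : Matrix.ProjectiveSpecialLinearGroup (Fin 2) F := QuotientGroup.mk (lmat (1 : F)) with ha
  set b : Matrix.ProjectiveSpecialLinearGroup (Fin 2) F := QuotientGroup.mk (umat lam) with hb
  have haH : a ∈ H := ⟨_, hl0, rfl⟩
  have hbH : b ∈ H := ⟨_, hu0, rfl⟩
  have ha1 : a ≠ 1 := by
    intro h
    have := corner_of_mk_eq_one _ h
    simp at this
  have hb1 : b ≠ 1 := by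
    intro h
    rw [hb, ← QuotientGroup.mk_one, mk_eq_mk_iff] at h
    rcases h with h | h
    · have := congrArg (fun M : Matrix.SpecialLinearGroup (Fin 2) F => M.1 0 1) h
      simp at this
      exact hlam this
    · have := congrArg (fun M : Matrix.SpecialLinearGroup (Fin 2) F => M.1 0 1) h
      simp at this
      exact hlam this
  have hap : a ^ p = 1 := by
    rw [ha, ← QuotientGroup.mk_pow, lmat_pow]
    have : p • (1 : F) = 0 := by
      rw [nsmul_eq_mul, CharP.cast_eq_zero F p, zero_mul]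
    rw [this]
    have : lmat (0 : F) = 1 := by apply sl_ext <;> simp
    rw [this]; rfl
  have hbp : b ^ p = 1 := by
    rw [hb, ← QuotientGroup.mk_pow, umat_pow]
    have : p • lam = 0 := by
      rw [nsmul_eq_mul, CharP.cast_eq_zero F p, zero_mul]
    rw [this, umat_zero]; rfl
  have hoa : orderOf a = p := orderOf_eq_prime hap ha1
  have hob : orderOf b = p := orderOf_eq_prime hbp hb1
  have hab : a * b ≠ b * a := by
    intro h
    rw [ha, hb, ← QuotientGroup.mk_mul, ← QuotientGroup.mk_mul, mk_eq_mk_iff] at h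
    rcases h with h | h
    · have := congrArg (fun M : Matrix.SpecialLinearGroup (Fin 2) F => M.1 0 0) h
      simp only [m00] at this
      simp at this
      exact hlam this
    · have e1 : (lmat (1 : F) * umat lam).1 1 0 = 1 := by rw [m10]; simp
      have e2 : (-(umat lam * lmat (1 : F))).1 1 0 = -1 := by
        have e3 : (umat lam * lmat (1 : F)).1 1 0 = 1 := by rw [m10]; simp
        show (-(umat lam * lmat (1 : F)).1) 1 0 = -1
        rw [Matrix.neg_apply, e3]
      rw [h, e2] at e1
      apply h2F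
      linear_combination -e1
  have hpdvd : p ∣ Nat.card H := by
    rw [← hoa]; exact Subgroup.orderOf_dvd_natCard H haH
  set D := dstruct (F := F) (tPack p) (uPack p) with hD
  have hcompb : D.comp b = Ubar F := comp_umat p lam hlam
  have hUb : IsPGroup p (D.comp b) := by rw [hcompb]; exact Ubar_pGroup p
  have hXb : D.XH H b = H ⊓ Ubar F := by
    unfold DStruct.XH
    rw [hcompb]
  have hNb : D.NH H b = H ⊓ Subgroup.normalizer ((H ⊓ Ubar F : Subgroup _) : Set _) := by
    rw [D.NH_eq H hb1 hbH, hXb]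
  -- the conclusion from `H = ⊤`
  have hfin : H = ⊤ → L₀ = ⊤ := by
    intro htop
    have hw : (QuotientGroup.mk (wmat (1 : F) one_ne_zero) :
        Matrix.ProjectiveSpecialLinearGroup (Fin 2) F) ∈ H := by rw [htop]; trivial
    have hw1 : (QuotientGroup.mk (wmat (1 : F) one_ne_zero) :
        Matrix.ProjectiveSpecialLinearGroup (Fin 2) F) ≠ 1 := by
      intro h
      have := corner_of_mk_eq_one _ h
      simp at this
    have hw2 : (QuotientGroup.mk (wmat (1 : F) one_ne_zero) :
        Matrix.ProjectiveSpecialLinearGroup (Fin 2) F) ^ 2 = 1 := by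
      rw [← QuotientGroup.mk_pow, ← QuotientGroup.mk_one, mk_eq_mk_iff]
      right
      rw [pow_two]
      apply sl_ext <;> simp [m00, m01, m10, m11]
    have hneg := neg_one_mem_of_involution h2F L₀ _ hw hw1 hw2
    have := comap_map_eq_self L₀ hneg
    rw [← this, ← hH, htop, Subgroup.comap_top]
  -- the commuting contradiction
  have hcomm : ∀ g, g ≠ 1 → a ∈ D.comp g → b ∈ D.comp g → False :=
    fun g hg hag hbg => hab (D.comp_comm g hg a hag b hbg)
  have hnot2 : ∀ x : Matrix.ProjectiveSpecialLinearGroup (Fin 2) F, orderOf x = p → x ^ 2 ≠ 1 := by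
    intro x hx h
    have h1 : p ∣ 2 := by rw [← hx]; exact orderOf_dvd_of_pow_eq_one h
    exact hp2 ((Nat.prime_dvd_prime_iff_eq pp Nat.prime_two).mp h1)
  -- the generic two-transitive conclusion
  have hgenU : ∀ g, g ∈ H → g ≠ 1 → IsPGroup p (D.comp g) → ∀ P k : ℕ, 1 < P →
      (k = P - 1 ∨ 2 * k = P - 1) → Nat.card (D.XH H g) = P → Nat.card (D.NH H g) = P * k →
      Nat.card H = (P + 1) * P * k → L₀ = ⊤ := by
    intro g hgH hg hU P k hP hk hx hn hc
    apply hfin
    have hrel := D.rel_of_U H hg hb1 hgH hbH hU hUb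
    have hx' : Nat.card (D.XH H b) = P := (D.card_XH_of_rel H hg hb1 hrel).trans hx
    have hn' : Nat.card (D.NH H b) = P * k := (D.card_NH_of_rel H hg hb1 hrel).trans hn
    rw [hXb] at hx'
    rw [hNb] at hn'
    exact gen_of_hyp p hp2 lam hlam hgen H haH hbH P k hP hk hx' hn' hc
  have h3dvd : ∀ g, Nat.card (D.XH H g) = 3 → 3 ∣ Nat.card (D.comp g) := by
    intro g hx
    rw [← hx]; exact Subgroup.card_dvd_of_le inf_le_right
  rcases D.outcome H with h1 | ⟨g, hg, hT, hle⟩ | ⟨g, hgH, hg, hT, hle, hcard⟩ | ⟨g, hg, hU, hle⟩ |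
    ⟨h12, g, hgH, hg, hx, hn⟩ | ⟨h24, g, hgH, hg, hT, hx, hn⟩ | ⟨h60, hall, hrel⟩ |
    ⟨g, hgH, hg, hU, k, hk2, hnk, hhk, hk, -⟩
  · -- trivial
    exfalso
    rw [h1, Subgroup.mem_bot] at haH
    exact ha1 haH
  · -- inside a torus
    exact (hcomm g hg (hle haH) (hle hbH)).elim
  · -- inside the normalizer of a torus
    exfalso
    have hin : ∀ x, x ∈ H → orderOf x = p → x ∈ D.comp g := by
      intro x hxH hox
      by_contra hxc
      exact hnot2 x hox (D.t_inv g hg hT x (hle hxH) hxc).1
    exact hcomm g hg (hin a haH hoa) (hin b hbH hob)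
  · -- inside the normalizer of a Sylow subgroup
    exfalso
    have hin : ∀ x, x ∈ H → orderOf x = p → x ∈ D.comp g := by
      intro x hxH hox
      by_contra hxc
      exact D.u_not_dvd g hg hU x (hle hxH) hxc (by rw [hox])
    exact hcomm g hg (hin a haH hoa) (hin b hbH hob)
  · -- order 12
    left
    have hp3 : p = 3 := by
      rw [h12] at hpdvd
      have h1 : p ∣ 2 * 2 * 3 := hpdvd
      rcases (Nat.Prime.dvd_mul pp).mp h1 with h | h
      · rcases (Nat.Prime.dvd_mul pp).mp h with h | h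
        · exact absurd ((Nat.prime_dvd_prime_iff_eq pp Nat.prime_two).mp h) hp2
        · exact absurd ((Nat.prime_dvd_prime_iff_eq pp Nat.prime_two).mp h) hp2
      · exact (Nat.prime_dvd_prime_iff_eq pp Nat.prime_three).mp h
    have hU : IsPGroup p (D.comp g) := by
      rcases D.dich g hg with hU | hT
      · exact hU
      · exfalso
        have h3 := h3dvd g hx
        have hpd : p ∣ Nat.card (D.comp g) := dvd_trans (by rw [hp3]) h3
        have h4 := Nat.dvd_gcd hpd (dvd_refl p)
        rw [hT.gcd_eq_one] at h4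
        exact pp.one_lt.ne' (Nat.dvd_one.mp h4)
    exact hgenU g hgH hg hU 3 1 (by norm_num) (Or.inr rfl) hx (by rw [hn]) (by rw [h12])
  · -- order 24
    exfalso
    have hp3 : p = 3 := by
      rw [h24] at hpdvd
      have h1 : p ∣ 2 * 2 * 2 * 3 := hpdvd
      rcases (Nat.Prime.dvd_mul pp).mp h1 with h | h
      · rcases (Nat.Prime.dvd_mul pp).mp h with h | h
        · rcases (Nat.Prime.dvd_mul pp).mp h with h | h
          · exact absurd ((Nat.prime_dvd_prime_iff_eq pp Nat.prime_two).mp h) hp2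
          · exact absurd ((Nat.prime_dvd_prime_iff_eq pp Nat.prime_two).mp h) hp2
        · exact absurd ((Nat.prime_dvd_prime_iff_eq pp Nat.prime_two).mp h) hp2
      · exact (Nat.prime_dvd_prime_iff_eq pp Nat.prime_three).mp h
    have h3 := h3dvd g hx
    have hpd : p ∣ Nat.card (D.comp g) := dvd_trans (by rw [hp3]) h3
    have h4 := Nat.dvd_gcd hpd (dvd_refl p)
    rw [hT.gcd_eq_one] at h4
    exact pp.one_lt.ne' (Nat.dvd_one.mp h4)
  · -- order 60
    have hp35 : p = 3 ∨ p = 5 := by
      rw [h60] at hpdvd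
      have h1 : p ∣ 2 * 2 * 3 * 5 := hpdvd
      rcases (Nat.Prime.dvd_mul pp).mp h1 with h | h
      · rcases (Nat.Prime.dvd_mul pp).mp h with h | h
        · rcases (Nat.Prime.dvd_mul pp).mp h with h | h
          · exact absurd ((Nat.prime_dvd_prime_iff_eq pp Nat.prime_two).mp h) hp2
          · exact absurd ((Nat.prime_dvd_prime_iff_eq pp Nat.prime_two).mp h) hp2
        · left; exact (Nat.prime_dvd_prime_iff_eq pp Nat.prime_three).mp h
      · right; exact (Nat.prime_dvd_prime_iff_eq pp Nat.prime_five).mp h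
    rcases hp35 with hp3 | hp5
    · -- the exceptional case
      right
      have hC3 : CharP F 3 := by rw [← hp3]; infer_instance
      have hord : ∀ z ∈ H, z ^ 2 = 1 ∨ z ^ 3 = 1 ∨ z ^ 5 = 1 := by
        intro z hz
        by_cases hz1 : z = 1
        · left; rw [hz1, one_pow]
        have hpw : z ^ Nat.card (D.XH H z) = 1 :=
          orderOf_dvd_iff_pow_eq_one.mp (Subgroup.orderOf_dvd_natCard _ (D.self_mem_XH H hz))
        rcases hall z hz hz1 with ⟨h, _⟩ | ⟨h, _⟩ | ⟨h, _⟩
        · left; rwa [h] at hpw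
        · right; left; rwa [h] at hpw
        · right; right; rwa [h] at hpw
      obtain ⟨h9, hl2⟩ := exceptional lam hlam hgen H haH hbH h60 hord
      refine ⟨h9, hl2, ?_⟩
      -- the order of `L₀`
      have h2dvd : 2 ∣ Nat.card H := by rw [h60]; norm_num
      obtain ⟨z, hz⟩ := exists_prime_orderOf_dvd_card' (G := H) 2 h2dvd
      have hz1 : z.1 ≠ 1 := by
        intro h
        have : z = 1 := Subtype.ext h
        rw [this, orderOf_one] at hz
        omega
      have hz2 : z.1 ^ 2 = 1 := by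
        have h' : z ^ 2 = 1 := by
          have := pow_orderOf_eq_one z
          rwa [hz] at this
        have h'' := congrArg Subtype.val h'
        exact h''
      have hneg := neg_one_mem_of_involution h2F L₀ z.1 z.2 hz1 hz2
      have hcm := comap_map_eq_self L₀ hneg
      rw [← hcm, card_comap_mk, card_center_two hqodd, ← hH, h60]
    · -- `p = 5`
      left
      have h5 : 5 ∣ Nat.card (D.XH H b) := by
        have h := Subgroup.orderOf_dvd_natCard _ (D.self_mem_XH H hbH)
        rw [hob] at h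
        exact dvd_trans (by rw [hp5]) h
      rcases hall b hbH hb1 with ⟨h, _⟩ | ⟨h, _⟩ | ⟨h, h'⟩
      · rw [h] at h5; omega
      · rw [h] at h5; omega
      · exact hgenU b hbH hb1 hUb 5 2 (by norm_num) (Or.inr rfl) h (by rw [h']) (by rw [h60])
  · -- the two-transitive case
    left
    have hP : 1 < Nat.card (D.XH H g) := by
      rcases hk with h | h <;> omega
    exact hgenU g hgH hg hU _ k hP hk rfl hnk (by rw [hhk]; ring)

end main

end Cfsg.Agent.Lib.Helper19.GenSL2
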