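import Mathlib
import Cfsg.Prelude.Def_HallClasses

set_option autoImplicit false
set_option linter.unusedVariables false

/-! Keystone K-HB-D1 (253826): in a finite `D_π`-group there is a Hall `π`-subgroup containing a
conjugate of every `π`-subgroup. -/

open Cfsg

namespace Cfsg.Agent.Lib.Helper19.HallAlt

/-- every `π`-subgroup of a finite group lies in a maximal one -/
theorem exists_le_maximal_piSubgroup {G : Type*} [Group G] [Finite G] (π : Set ℕ)
    (K : Subgroup G) (hK : IsPiSubgroup π K) :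
    ∃ M : Subgroup G, K ≤ M ∧ Maximal (IsPiSubgroup π) M := by
  have hfin : {M : Subgroup G | IsPiSubgroup π M}.Finite := Set.toFinite _
  obtain ⟨M, hKM, hM⟩ := hfin.exists_le_maximal (a := K) hK
  exact ⟨M, hKM, hM⟩

theorem card_map_conj {G : Type*} [Group G] (H : Subgroup G) (g : G) :
    Nat.card (H.map (MulAut.conj g).toMonoidHom) = Nat.card H :=
  Subgroup.card_map_of_injective (MulAut.conj g).injective

/-- a `p`-subgroup with `p ∈ π` is a `π`-subgroup -/
theorem isPiSubgroup_of_isPGroup {G : Type*} [Group G] [Finite G] (π : Set ℕ) {p : ℕ}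
    [Fact p.Prime] (hp : p ∈ π) (P : Subgroup G) (hP : IsPGroup p P) : IsPiSubgroup π P := by
  intro q hq hqP
  obtain ⟨k, hk⟩ := IsPGroup.iff_card.1 hP
  rw [hk] at hqP
  have := (Nat.prime_dvd_prime_iff_eq hq (Fact.out : p.Prime)).1 (hq.dvd_of_dvd_pow hqP)
  rw [this]
  exact hp

/-- **K-HB-D1** (253826). -/
theorem hall_of_D {G : Type*} [Group G] [Finite G] (π : Set ℕ) (hD : IsDPiGroup π G) :
    ∃ H : Subgroup G, IsPiHall π H ∧
      ∀ K : Subgroup G, IsPiSubgroup π K → ∃ g : G, K ≤ H.map (MulAut.conj g).toMonoidHom := by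
  have hbot : IsPiSubgroup π (⊥ : Subgroup G) := by
    intro p hp hpd
    rw [Subgroup.card_bot] at hpd
    exact absurd (Nat.dvd_one.1 hpd) hp.one_lt.ne'
  obtain ⟨H, -, hH⟩ := exists_le_maximal_piSubgroup π ⊥ hbot
  have hcont : ∀ K : Subgroup G, IsPiSubgroup π K →
      ∃ g : G, K ≤ H.map (MulAut.conj g).toMonoidHom := by
    intro K hK
    obtain ⟨M, hKM, hM⟩ := exists_le_maximal_piSubgroup π K hK
    obtain ⟨g, hg⟩ := hD H M hH hM
    exact ⟨g, hg ▸ hKM⟩
  refine ⟨H, ⟨hH.1, ?_⟩, hcont⟩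
  intro p hp hpπ hpi
  have : Fact p.Prime := ⟨hp⟩
  obtain ⟨P⟩ : Nonempty (Sylow p G) := inferInstance
  obtain ⟨g, hg⟩ := hcont (P : Subgroup G)
    (isPiSubgroup_of_isPGroup π hpπ (P : Subgroup G) P.isPGroup')
  have h1 : Nat.card P ∣ Nat.card H := by
    rw [← card_map_conj H g]
    exact Subgroup.card_dvd_of_le hg
  rw [Sylow.card_eq_multiplicity] at h1
  have h2 : p ^ ((Nat.card G).factorization p + 1) ∣ Nat.card G := by
    rw [pow_succ]
    have h3 := Nat.mul_dvd_mul h1 hpi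
    rwa [Subgroup.card_mul_index] at h3
  exact Nat.pow_succ_factorization_not_dvd Nat.card_pos.ne' hp h2

end Cfsg.Agent.Lib.Helper19.HallAlt
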