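import Mathlib
import Cfsg.Prelude.Def_HallClasses
import Cfsg.Agent.Lib.Helper19.HallAltD1

set_option autoImplicit false
set_option linter.unusedVariables false

/-! Keystone K-HB-D2 (253827): the trivial cases of `D_π`. -/

open Cfsg

namespace Cfsg.Agent.Lib.Helper19.HallAlt

theorem map_conj_one {G : Type*} [Group G] (H : Subgroup G) :
    H.map (MulAut.conj (1 : G)).toMonoidHom = H := by
  ext x
  simp

/-- **K-HB-D2** (253827). -/
theorem D_of_trivial {G : Type*} [Group G] [Finite G] (π : Set ℕ)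
    (h : (∀ r s : ℕ, r.Prime → s.Prime → r ∈ π → s ∈ π → r ∣ Nat.card G → s ∣ Nat.card G → r = s) ∨
      ∀ r : ℕ, r.Prime → r ∣ Nat.card G → r ∈ π) : IsDPiGroup π G := by
  intro H K hH hK
  rcases h with h | h
  · by_cases hex : ∃ p : ℕ, p.Prime ∧ p ∈ π ∧ p ∣ Nat.card G
    · obtain ⟨p, hp, hpπ, hpG⟩ := hex
      have : Fact p.Prime := ⟨hp⟩
      -- every `π`-subgroup is a `p`-group
      have hpg : ∀ M : Subgroup G, IsPiSubgroup π M → IsPGroup p M := by
        intro M hM
        apply IsPGroup.of_card (n := (Nat.card M).primeFactorsList.length)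
        apply Nat.eq_prime_pow_of_unique_prime_dvd Nat.card_pos.ne'
        intro q hq hqM
        exact h q p hq hp (hM q hq hqM) hpπ (hqM.trans (Subgroup.card_subgroup_dvd_card M)) hpG
      -- maximal `π`-subgroups are Sylow
      have hsyl : ∀ M : Subgroup G, Maximal (IsPiSubgroup π) M →
          ∃ P : Sylow p G, (P : Subgroup G) = M := by
        intro M hM
        obtain ⟨P, hMP⟩ := (hpg M hM.1).exists_le_sylow
        refine ⟨P, le_antisymm ?_ hMP⟩
        exact hM.2 (isPiSubgroup_of_isPGroup π hpπ (P : Subgroup G) P.isPGroup') hMP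
      obtain ⟨P, rfl⟩ := hsyl H hH
      obtain ⟨P', rfl⟩ := hsyl K hK
      obtain ⟨g, hg⟩ := MulAction.exists_smul_eq G P P'
      refine ⟨g, ?_⟩
      rw [← hg, Sylow.coe_subgroup_smul]
      rfl
    · push Not at hex
      have hbot : ∀ M : Subgroup G, IsPiSubgroup π M → M = ⊥ := by
        intro M hM
        rw [← Subgroup.card_eq_one]
        by_contra hne
        obtain ⟨q, hq, hqM⟩ := Nat.exists_prime_and_dvd hne
        exact hex q hq (hM q hq hqM) (hqM.trans (Subgroup.card_subgroup_dvd_card M))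
      refine ⟨1, ?_⟩
      rw [map_conj_one, hbot H hH.1, hbot K hK.1]
  · have htop : IsPiSubgroup π (⊤ : Subgroup G) := by
      intro p hp hpd
      rw [Subgroup.card_top] at hpd
      exact h p hp hpd
    have hH' : H = ⊤ := top_le_iff.1 (hH.2 htop le_top)
    have hK' : K = ⊤ := top_le_iff.1 (hK.2 htop le_top)
    refine ⟨1, ?_⟩
    rw [map_conj_one, hH', hK']

end Cfsg.Agent.Lib.Helper19.HallAlt
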