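import Mathlib
import Cfsg.Agent.S3927

set_option autoImplicit false

/-! Keystone 392801 (K-IB-1) of helper41's pack for S3928: if `[G, α] = G` and `α ^ 2 = 1` then `G` is
generated by the elements of odd order inverted by `α`. -/

namespace Cfsg.Agent.Lib.Helper19.InvB

theorem odd_orderOf_pow_two_pow {G : Type*} [Group G] [Finite G] (x : G) :
    Odd (orderOf (x ^ 2 ^ Nat.card G)) := by
  have hn : 0 < orderOf x := orderOf_pos x
  obtain ⟨e, o, ho, hn'⟩ := Nat.exists_eq_two_pow_mul_odd hn.ne'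
  have hle : orderOf x ≤ Nat.card G := orderOf_le_card
  have he : e ≤ Nat.card G := by
    have h1 : 2 ^ e ≤ orderOf x := by
      rw [hn']
      exact Nat.le_mul_of_pos_right _ ho.pos
    have h2 : e < 2 ^ e := Nat.lt_two_pow_self
    omega
  have hy : (x ^ 2 ^ Nat.card G) ^ o = 1 := by
    obtain ⟨d, hd⟩ := Nat.exists_eq_add_of_le he
    rw [← pow_mul, hd, pow_add, mul_right_comm, ← hn', mul_comm, pow_mul, ← pow_mul, mul_comm, pow_mul,
      pow_orderOf_eq_one, one_pow]
  exact Odd.of_dvd_nat ho (orderOf_dvd_of_pow_eq_one hy)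

theorem closure_T_eq_top {G : Type*} [Group G] [Finite G] (α : MulAut G) (hα : α * α = 1)
    (h : Subgroup.closure (Set.range (fun c : G => c * (α c)⁻¹)) = ⊤) :
    Subgroup.closure {g : G | Odd (orderOf g) ∧ α g = g⁻¹} = ⊤ := by
  have hαα : ∀ x : G, α (α x) = x := by
    intro x
    have := congrArg (fun f : MulAut G => f x) hα
    simpa using this
  set ψ : G → G := fun c => c * (α c)⁻¹ with hψ
  have h1 : ∀ c, α (ψ c) = (ψ c)⁻¹ := by
    intro c
    simp only [hψ, map_mul, map_inv, hαα, mul_inv_rev, inv_inv]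
  have h2 : ∀ x, α x = x⁻¹ → ψ x = x ^ 2 := by
    intro x hx
    simp only [hψ, hx, inv_inv, pow_two]
  have h3 : ∀ k c, ψ^[k + 1] c = (ψ c) ^ 2 ^ k := by
    intro k
    induction k with
    | zero => intro c; simp
    | succ k ih =>
      intro c
      rw [Function.iterate_succ_apply', ih, h2, ← pow_mul, pow_succ]
      rw [map_pow, h1, inv_pow]
  have hk : 1 ≤ Nat.card G + 1 := Nat.le_add_left _ _
  have h4 := Cfsg.Agent.S3927.result α h (Nat.card G + 1) hk
  rw [eq_top_iff, ← h4, Subgroup.closure_le]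
  rintro _ ⟨c, rfl⟩
  apply Subgroup.subset_closure
  show Odd (orderOf (ψ^[Nat.card G + 1] c)) ∧ α (ψ^[Nat.card G + 1] c) = (ψ^[Nat.card G + 1] c)⁻¹
  rw [h3]
  refine ⟨odd_orderOf_pow_two_pow _, ?_⟩
  rw [map_pow, h1, inv_pow]

end Cfsg.Agent.Lib.Helper19.InvB
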