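import Mathlib
import Cfsg.Agent.Lib.Helper41.InvBDefs

set_option autoImplicit false

/-! Keystone 392808 (K-IB-6, parallel hand) of helper41's pack for S3928: `⟨TG a⟩ = Γ'`. -/

namespace Cfsg.Agent.Lib.Helper19.InvB

open Cfsg.Agent.Lib.Helper41.InvB
open scoped commutatorElement

variable {Γ : Type*} [Group Γ] [Finite Γ]

omit [Finite Γ] in
/-- every member of `TG a` is the square of a member `h` of `TG a`, and `t = ⁅h, a⁆` -/
theorem exists_half (a : Γ) (t : Γ) (ht : t ∈ TG a) :
    ∃ h ∈ TG a, t = h * h ∧ a * h⁻¹ * a⁻¹ = h := by
  obtain ⟨k, hk⟩ := ht.1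
  refine ⟨t ^ (k + 1), pow_mem_TG ht _, ?_, ?_⟩
  · rw [← pow_add]
    have : k + 1 + (k + 1) = orderOf t + 1 := by omega
    rw [this, pow_succ, pow_orderOf_eq_one, one_mul]
  · have h2 := (pow_mem_TG ht (k + 1)).2
    have : a * (t ^ (k + 1))⁻¹ * a⁻¹ = (a * t ^ (k + 1) * a⁻¹)⁻¹ := by group
    rw [this, h2, inv_inv]

omit [Finite Γ] in
theorem TG_subset_commutator (a : Γ) : TG a ⊆ (commutator Γ : Set Γ) := by
  intro t ht
  obtain ⟨h, -, h1, h2⟩ := exists_half a t ht
  have : t = ⁅h, a⁆ := by
    rw [commutatorElement_def, h1, mul_assoc h a, mul_assoc h, h2]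
  rw [SetLike.mem_coe, this]
  exact Subgroup.commutator_mem_commutator (Subgroup.mem_top _) (Subgroup.mem_top _)

theorem closure_TG_eq_commutator (a : Γ) (hg : Gen a) :
    Subgroup.closure (TG a) = commutator Γ := by
  apply le_antisymm
  · rw [Subgroup.closure_le]
    exact TG_subset_commutator a
  · set K := Subgroup.closure (TG a) with hK
    have hainv : a⁻¹ = a := inv_eq_of_mul_eq_one_right hg.1
    -- `K` is normalised by the generators
    have hKn : K.Normal := by
      rw [← Subgroup.normalizer_eq_top_iff, eq_top_iff, ← hg.2, Subgroup.closure_le]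
      have hconj : ∀ g : Γ, (∀ t ∈ TG a, g * t * g⁻¹ ∈ K) → (∀ t ∈ TG a, g⁻¹ * t * g ∈ K) →
          g ∈ Subgroup.normalizer (K : Set Γ) := by
        intro g h1 h2
        rw [Subgroup.mem_normalizer_iff]
        intro y
        constructor
        · intro hy
          induction hy using Subgroup.closure_induction with
          | mem t ht => exact h1 t ht
          | one => simp
          | mul u v _ _ hu hv =>
            have : g * (u * v) * g⁻¹ = (g * u * g⁻¹) * (g * v * g⁻¹) := by group
            rw [this]
            exact K.mul_mem hu hv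
          | inv u _ hu =>
            have : g * u⁻¹ * g⁻¹ = (g * u * g⁻¹)⁻¹ := by group
            rw [this]
            exact K.inv_mem hu
        · intro hy
          have key : ∀ z ∈ K, g⁻¹ * z * g ∈ K := by
            intro z hz
            induction hz using Subgroup.closure_induction with
            | mem t ht => exact h2 t ht
            | one => simp
            | mul u v _ _ hu hv =>
              have : g⁻¹ * (u * v) * g = (g⁻¹ * u * g) * (g⁻¹ * v * g) := by group
              rw [this]
              exact K.mul_mem hu hv
            | inv u _ hu =>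
              have : g⁻¹ * u⁻¹ * g = (g⁻¹ * u * g)⁻¹ := by group
              rw [this]
              exact K.inv_mem hu
          have := key _ hy
          have e : g⁻¹ * (g * y * g⁻¹) * g = y := by group
          rwa [e] at this
      rintro g (hgT | hga)
      · have hgK : g ∈ K := Subgroup.subset_closure hgT
        apply hconj
        · intro t ht
          exact K.mul_mem (K.mul_mem hgK (Subgroup.subset_closure ht)) (K.inv_mem hgK)
        · intro t ht
          exact K.mul_mem (K.mul_mem (K.inv_mem hgK) (Subgroup.subset_closure ht)) hgK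
      · rw [Set.mem_singleton_iff] at hga
        subst hga
        apply hconj
        · intro t ht
          rw [ht.2]
          exact Subgroup.subset_closure (inv_mem_TG ht)
        · intro t ht
          have : g⁻¹ * t * g = g * t * g⁻¹ := by rw [hainv]
          rw [this, ht.2]
          exact Subgroup.subset_closure (inv_mem_TG ht)
    -- the quotient is commutative
    have hcen : Subgroup.center (Γ ⧸ K) = ⊤ := by
      rw [eq_top_iff]
      have hsurj : Function.Surjective (QuotientGroup.mk' K) := QuotientGroup.mk'_surjective K
      have hle : (⊤ : Subgroup Γ) ≤ (Subgroup.centralizer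
          ((QuotientGroup.mk' K) '' (TG a ∪ {a}) : Set (Γ ⧸ K))).comap (QuotientGroup.mk' K) := by
        rw [← hg.2, Subgroup.closure_le]
        intro g hgm
        rw [SetLike.mem_coe, Subgroup.mem_comap, Subgroup.mem_centralizer_iff]
        rintro _ ⟨z, hz, rfl⟩
        have h1 : ∀ t ∈ TG a, (QuotientGroup.mk' K) t = 1 := by
          intro t ht
          exact (QuotientGroup.eq_one_iff t).mpr (Subgroup.subset_closure ht)
        rcases hz with hz | hz <;> rcases hgm with hgm | hgm
        · rw [h1 z hz, h1 g hgm]
        · rw [h1 z hz]; simp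
        · rw [h1 g hgm]; simp
        · rw [Set.mem_singleton_iff] at hz hgm
          rw [hz, hgm]
      -- every element of the quotient commutes with the images of the generators, hence is central
      intro y _
      rw [Subgroup.mem_center_iff]
      intro z
      obtain ⟨y', rfl⟩ := hsurj y
      obtain ⟨z', rfl⟩ := hsurj z
      -- `z'` is in the closure of the generators
      have hz' : z' ∈ Subgroup.closure (TG a ∪ {a}) := by rw [hg.2]; exact Subgroup.mem_top _
      have hy' : (QuotientGroup.mk' K) y' ∈ Subgroup.centralizer
          ((QuotientGroup.mk' K) '' (TG a ∪ {a}) : Set (Γ ⧸ K)) := hle (Subgroup.mem_top y')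
      rw [Subgroup.mem_centralizer_iff] at hy'
      induction hz' using Subgroup.closure_induction with
      | mem u hu => exact hy' _ ⟨u, hu, rfl⟩
      | one => simp
      | mul u v _ _ hu hv =>
        rw [map_mul, mul_assoc, hv, ← mul_assoc, hu, mul_assoc]
      | inv u _ hu =>
        rw [map_inv]
        exact (Commute.inv_left (show Commute ((QuotientGroup.mk' K) u) ((QuotientGroup.mk' K) y')
          from hu)).eq
    rw [commutator_def, Subgroup.commutator_le]
    intro g₁ _ g₂ _
    rw [← QuotientGroup.eq_one_iff, ← QuotientGroup.mk'_apply, map_commutatorElement]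
    have hc : (QuotientGroup.mk' K) g₁ ∈ Subgroup.center (Γ ⧸ K) := by rw [hcen]; exact Subgroup.mem_top _
    rw [commutatorElement_eq_one_iff_commute]
    exact ((Subgroup.mem_center_iff.mp hc) _).symm

end Cfsg.Agent.Lib.Helper19.InvB
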