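import Mathlib
import Cfsg.Agent.Lib.Helper41.InvBDefs
import Cfsg.Agent.Lib.Helper19.InvB6

set_option autoImplicit false

/-! Keystones 392809 (K-IB-7) and 392813 (K-IB-9c) of helper41's pack for S3928: the hypercentre
meets `Γ'` inside `Z(Γ')`. -/

namespace Cfsg.Agent.Lib.Helper19.InvB

open Cfsg.Agent.Lib.Helper41.InvB
open scoped commutatorElement

variable {Γ : Type*} [Group Γ] [Finite Γ]

theorem ucs_inf_commutator_central (a : Γ) (hg : Gen a) (n : ℕ) (x : Γ)
    (hx : x ∈ Subgroup.upperCentralSeries Γ n)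
    (hx' : x ∈ commutator Γ) (g : Γ) (hg' : g ∈ commutator Γ) : x * g = g * x := by
  induction n generalizing x g with
  | zero =>
    rw [Subgroup.upperCentralSeries_zero, Subgroup.mem_bot] at hx
    rw [hx, one_mul, mul_one]
  | succ i ih =>
    have hainv : a⁻¹ = a := inv_eq_of_mul_eq_one_right hg.1
    have hcl := closure_TG_eq_commutator a hg
    have hcomm : ∀ u v : Γ, ⁅u, v⁆ ∈ commutator Γ := fun u v =>
      Subgroup.commutator_mem_commutator (Subgroup.mem_top _) (Subgroup.mem_top _)
    -- `c y = ⁅x, y⁆`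
    have hcZ : ∀ y : Γ, ⁅x, y⁆ ∈ Subgroup.upperCentralSeries Γ i :=
      Subgroup.mem_upperCentralSeries_succ_iff.mp hx
    -- values of `c` are central in `Γ'`
    have hcen : ∀ y : Γ, ∀ z ∈ commutator Γ, ⁅x, y⁆ * z = z * ⁅x, y⁆ :=
      fun y z hz => ih _ (hcZ y) (hcomm x y) z hz
    -- `c` is a homomorphism on `Γ'`
    have hmul : ∀ y ∈ commutator Γ, ∀ z : Γ, ⁅x, y * z⁆ = ⁅x, y⁆ * ⁅x, z⁆ := by
      intro y hy z
      have h1 : ⁅x, y * z⁆ = ⁅x, y⁆ * (y * ⁅x, z⁆ * y⁻¹) := by
        simp only [commutatorElement_def]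
        group
      rw [h1, ← hcen z y hy, mul_assoc, mul_inv_cancel, mul_one]
    have hone : ⁅x, (1 : Γ)⁆ = 1 := by simp [commutatorElement_def]
    have hinv : ∀ y ∈ commutator Γ, ⁅x, y⁻¹⁆ = ⁅x, y⁆⁻¹ := by
      intro y hy
      have := hmul y hy y⁻¹
      rw [mul_inv_cancel, hone] at this
      exact (inv_eq_of_mul_eq_one_right this.symm).symm
    -- equivariance under `a`
    have hequiv : ∀ y ∈ commutator Γ, ⁅x, a * y * a⁻¹⁆ = a * ⁅x, y⁆ * a⁻¹ := by
      intro y hy
      set w := ⁅x⁻¹, a⁻¹⁆ with hw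
      have hwZ : w ∈ Subgroup.upperCentralSeries Γ i :=
        Subgroup.mem_upperCentralSeries_succ_iff.mp (inv_mem hx) a⁻¹
      have hwc : w * y = y * w := ih w hwZ (hcomm _ _) y hy
      have hxa : a⁻¹ * x * a = x * w := by
        rw [hw, commutatorElement_def]
        group
      have h1 : ⁅x, a * y * a⁻¹⁆ = a * ((a⁻¹ * x * a) * y * (a⁻¹ * x * a)⁻¹ * y⁻¹) * a⁻¹ := by
        rw [commutatorElement_def]
        group
      rw [h1, hxa, commutatorElement_def]
      have h2 : x * w * y * (x * w)⁻¹ * y⁻¹ = x * (w * y * w⁻¹) * x⁻¹ * y⁻¹ := by group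
      rw [h2, hwc, mul_assoc y, mul_inv_cancel, mul_one]
    -- the value on a member of `TG a`
    have hT : ∀ t ∈ TG a, ∃ h ∈ commutator Γ, ⁅x, t⁆ = ⁅⁅x, h⁆, a⁆ := by
      intro t ht
      obtain ⟨h, hh, h1, h2⟩ := exists_half a t ht
      have hhc : h ∈ commutator Γ := TG_subset_commutator a hh
      refine ⟨h, hhc, ?_⟩
      have e1 : t = h * (a * h⁻¹ * a⁻¹) := by rw [h2, h1]
      rw [e1, hmul h hhc, hequiv h⁻¹ (inv_mem hhc), hinv h hhc, commutatorElement_def ⁅x, h⁆ a]
      group
    -- descent
    have hdesc : ∀ k : ℕ, k ≤ i → ∀ y ∈ commutator Γ,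
        ⁅x, y⁆ ∈ Subgroup.upperCentralSeries Γ (i - k) := by
      intro k
      induction k with
      | zero => intro _ y _; exact hcZ y
      | succ k ihk =>
        intro hk y hy
        have hk' : k ≤ i := by omega
        have hprev := ihk hk'
        have hik : i - k = (i - (k + 1)) + 1 := by omega
        rw [← hcl] at hy
        induction hy using Subgroup.closure_induction with
        | mem t ht =>
          obtain ⟨h, hhc, e⟩ := hT t ht
          rw [e]
          have := hprev h hhc
          rw [hik] at this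
          exact Subgroup.mem_upperCentralSeries_succ_iff.mp this a
        | one => rw [hone]; exact one_mem _
        | mul u v hu hv hu' hv' =>
          rw [hmul u (by rw [← hcl]; exact hu)]
          exact mul_mem hu' hv'
        | inv u hu hu' =>
          rw [hinv u (by rw [← hcl]; exact hu)]
          exact inv_mem hu'
    have hfin := hdesc i le_rfl g hg'
    rw [Nat.sub_self, Subgroup.upperCentralSeries_zero, Subgroup.mem_bot,
      commutatorElement_eq_one_iff_commute] at hfin
    exact hfin.eq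

theorem index_center_commutator_le (a : Γ) (hg : Gen a) (n : ℕ) :
    (Subgroup.center ↥(commutator Γ)).index ≤ (Subgroup.upperCentralSeries Γ n).index := by
  -- `Z_n ∩ Γ'` (as a subgroup of `Γ'`) is contained in the centre of `Γ'`
  have hle : (Subgroup.upperCentralSeries Γ n).subgroupOf (commutator Γ) ≤
      Subgroup.center ↥(commutator Γ) := by
    intro x hx
    rw [Subgroup.mem_center_iff]
    intro g
    apply Subtype.ext
    have := ucs_inf_commutator_central a hg n (x : Γ) (Subgroup.mem_subgroupOf.mp hx) x.2 (g : Γ) g.2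
    simpa using this.symm
  have h1 : (Subgroup.center ↥(commutator Γ)).index ≤
      ((Subgroup.upperCentralSeries Γ n).subgroupOf (commutator Γ)).index :=
    Nat.le_of_dvd (Nat.pos_of_ne_zero Subgroup.index_ne_zero_of_finite)
      (Subgroup.index_dvd_of_le hle)
  have h2 : ((Subgroup.upperCentralSeries Γ n).subgroupOf (commutator Γ)).index ≤
      (Subgroup.upperCentralSeries Γ n).index := by
    have : ((Subgroup.upperCentralSeries Γ n).subgroupOf (commutator Γ)).index =
        (Subgroup.upperCentralSeries Γ n).relIndex (commutator Γ) := rfl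
    rw [this]
    exact Nat.le_of_dvd (Nat.pos_of_ne_zero Subgroup.index_ne_zero_of_finite)
      (Subgroup.relIndex_dvd_index_of_normal _ _)
  exact h1.trans h2

end Cfsg.Agent.Lib.Helper19.InvB
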