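import Mathlib
import Cfsg.Agent.S0040

/-!
# K-1542-E (keystone 154202, S1542): `index_dvd_exponent`

In a Frobenius group of odd order the index of the kernel divides the exponent of the quotient.
-/

set_option autoImplicit false

namespace Cfsg.Agent.Lib.Helper19.K1542

open Cfsg

/-- **Leaf E**. -/
theorem index_dvd_exponent {N : Type*} [Group N] [Finite N] (K U : Subgroup N) [K.Normal]
    (hodd : Odd (Nat.card N)) (hK1 : K ≠ ⊥) (hc : Subgroup.IsComplement' K U)
    (hC : ∀ k ∈ K, k ≠ 1 → Subgroup.centralizer ({k} : Set N) ≤ K) :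
    K.index ∣ Monoid.exponent (N ⧸ K) := by
  classical
  have hdisj : K ⊓ U = ⊥ := disjoint_iff.mp hc.disjoint
  have hidx : K.index = Nat.card U := hc.symm.index_eq_card
  have hUN : Nat.card U ∣ Nat.card N := Subgroup.card_subgroup_dvd_card U
  -- fixed point freeness
  have hfpf : ∀ h ∈ U, h ≠ 1 → K ⊓ Subgroup.centralizer {h} = ⊥ := by
    intro h hh hh1
    rw [eq_bot_iff]
    intro k hk
    rw [Subgroup.mem_inf, Subgroup.mem_centralizer_singleton_iff] at hk
    rw [Subgroup.mem_bot]
    by_contra hk1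
    have h1 : h ∈ Subgroup.centralizer ({k} : Set N) := by
      rw [Subgroup.mem_centralizer_singleton_iff]
      exact hk.2.symm
    have h2 : h ∈ K := hC k hk.1 hk1 h1
    have h3 : h ∈ K ⊓ U := ⟨h2, hh⟩
    rw [hdisj, Subgroup.mem_bot] at h3
    exact hh1 h3
  -- the injective map `U → N ⧸ K`
  set f : U →* N ⧸ K := (QuotientGroup.mk' K).comp U.subtype with hf
  have hfinj : Function.Injective f := by
    rw [injective_iff_map_eq_one]
    intro x hx
    have h1 : (x : N) ∈ K := by
      have : ((x : N) : N ⧸ K) = 1 := hx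
      rwa [QuotientGroup.eq_one_iff] at this
    have h3 : (x : N) ∈ K ⊓ U := ⟨h1, x.2⟩
    rw [hdisj, Subgroup.mem_bot] at h3
    exact Subtype.ext h3
  rw [hidx, Nat.dvd_iff_prime_pow_dvd_dvd]
  intro p k hp hpk
  have : Fact p.Prime := ⟨hp⟩
  obtain ⟨P⟩ : Nonempty (Sylow p U) := inferInstance
  have hPk : p ^ k ∣ Nat.card P := P.pow_dvd_card_of_pow_dvd_card hpk
  have hcyc : IsCyclic P := by
    rcases Cfsg.Agent.S0040.result K U hc hK1 hfpf p P with h | ⟨n, ⟨e⟩⟩
    · exact h
    · exfalso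
      have h1 : Nat.card (P : Subgroup U) = 4 * 2 ^ n := by
        rw [Nat.card_congr e.toEquiv, Nat.card_eq_fintype_card, QuaternionGroup.card]
      have h2 : Nat.card (P : Subgroup U) ∣ Nat.card U := Subgroup.card_subgroup_dvd_card _
      have h3 : 2 ∣ Nat.card N :=
        (Dvd.dvd.trans ⟨2 * 2 ^ n, by rw [h1]; ring⟩ h2).trans hUN
      exact (Nat.not_even_iff_odd.mpr hodd) (even_iff_two_dvd.mpr h3)
  obtain ⟨g, hg⟩ := hcyc.exists_generator
  have hord : orderOf g = Nat.card P := orderOf_eq_card_of_forall_mem_zpowers hg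
  have h1 : orderOf (f (g : U)) = orderOf g := by
    rw [orderOf_injective f hfinj, Subgroup.orderOf_coe]
  have h2 : orderOf (f (g : U)) ∣ Monoid.exponent (N ⧸ K) := Monoid.order_dvd_exponent _
  rw [h1, hord] at h2
  exact hPk.trans h2

end Cfsg.Agent.Lib.Helper19.K1542
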