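import Mathlib
import Cfsg.Agent.Lib.Helper12.KKDefs

/-!
# Keystone K-S3779-LOOP (helper19, for helper12 / S3779)

The loop ring `Loop p L = (ZMod p → L)` with the convolution bracket, its `ℤ/p`-graded family of
`φ`-eigen-components, and the embedding `ι : L → Loop p L` of a Lie ring with a regular automorphism
of prime order `p` (with `p` invertible on `L`).
-/

set_option autoImplicit false

namespace Cfsg.Agent.Lib.Helper19.KK

open Cfsg.Agent.Lib.Helper12.KK Finset

universe u

/-- the loop ring: functions `ZMod p → L` with the convolution bracket -/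
structure Loop (p : ℕ) (L : Type u) : Type u where
  /-- the coefficients -/
  toFun : ZMod p → L

namespace Loop

variable {p : ℕ} {L : Type u}

instance : CoeFun (Loop p L) (fun _ => ZMod p → L) := ⟨Loop.toFun⟩

/-- the underlying equivalence with functions -/
def equivFun : Loop p L ≃ (ZMod p → L) := ⟨Loop.toFun, Loop.mk, fun _ => rfl, fun _ => rfl⟩

@[ext] theorem ext {f g : Loop p L} (h : ∀ k, f k = g k) : f = g := by
  cases f; cases g
  congr
  funext k
  exact h k

@[simp] theorem mk_apply (F : ZMod p → L) (k : ZMod p) : (Loop.mk F : Loop p L) k = F k := rfl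

instance instAddCommGroup [AddCommGroup L] : AddCommGroup (Loop p L) := equivFun.addCommGroup

@[simp] theorem add_apply [AddCommGroup L] (f g : Loop p L) (k : ZMod p) : (f + g) k = f k + g k := rfl
@[simp] theorem zero_apply [AddCommGroup L] (k : ZMod p) : (0 : Loop p L) k = 0 := rfl
@[simp] theorem neg_apply [AddCommGroup L] (f : Loop p L) (k : ZMod p) : (-f) k = -f k := rfl
@[simp] theorem sub_apply [AddCommGroup L] (f g : Loop p L) (k : ZMod p) : (f - g) k = f k - g k := rfl

/-- evaluation at `k` as an additive map -/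
def evalHom [AddCommGroup L] (k : ZMod p) : Loop p L →+ L where
  toFun f := f k
  map_zero' := rfl
  map_add' _ _ := rfl

theorem sum_apply [AddCommGroup L] {ι : Type*} (s : Finset ι) (F : ι → Loop p L) (k : ZMod p) :
    (∑ i ∈ s, F i) k = ∑ i ∈ s, F i k :=
  map_sum (evalHom k) F s

/-- the element concentrated in degree `0` -/
def single [Zero L] (x : L) : Loop p L := ⟨fun k => if k = 0 then x else 0⟩

/-- the constant element -/
def const (y : L) : Loop p L := ⟨fun _ => y⟩

@[simp] theorem single_apply [Zero L] (x : L) (k : ZMod p) :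
    (single x : Loop p L) k = if k = 0 then x else 0 := rfl

@[simp] theorem const_apply (y : L) (k : ZMod p) : (const y : Loop p L) k = y := rfl

section lie

variable [LieRing L] [Fact p.Prime]

/-- the convolution bracket -/
noncomputable def conv (f g : Loop p L) : Loop p L := ⟨fun k => ∑ i : ZMod p, ⁅f i, g (k - i)⁆⟩

theorem conv_apply (f g : Loop p L) (k : ZMod p) : conv f g k = ∑ i : ZMod p, ⁅f i, g (k - i)⁆ := rfl

theorem conv_self (f : Loop p L) : conv f f = 0 := by
  ext k
  rw [conv_apply, zero_apply]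
  refine Finset.sum_involution (fun i _ => k - i) ?_ ?_ (fun _ _ => Finset.mem_univ _) ?_
  · intro i _
    rw [sub_sub_cancel, ← lie_skew (f i) (f (k - i)), neg_add_cancel]
  · intro i _ hne h
    apply hne
    rw [h, lie_self]
  · intro i _
    simp

theorem conv_jacobi (x y z : Loop p L) :
    conv x (conv y z) = conv (conv x y) z + conv y (conv x z) := by
  ext k
  rw [add_apply]
  simp only [conv_apply, lie_sum, sum_lie]
  have h1 : ∑ a : ZMod p, ∑ i : ZMod p, ⁅⁅x i, y (a - i)⁆, z (k - a)⁆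
      = ∑ i : ZMod p, ∑ j : ZMod p, ⁅⁅x i, y j⁆, z (k - i - j)⁆ := by
    rw [Finset.sum_comm]
    refine Finset.sum_congr rfl (fun i _ => ?_)
    refine Fintype.sum_equiv (Equiv.subRight i) _ _ (fun a => ?_)
    simp only [Equiv.subRight_apply]
    rw [show k - i - (a - i) = k - a by abel]
  have h2 : ∑ j : ZMod p, ∑ i : ZMod p, ⁅y j, ⁅x i, z (k - j - i)⁆⁆
      = ∑ i : ZMod p, ∑ j : ZMod p, ⁅y j, ⁅x i, z (k - i - j)⁆⁆ := by
    rw [Finset.sum_comm]
    refine Finset.sum_congr rfl (fun i _ => Finset.sum_congr rfl (fun j _ => ?_))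
    rw [sub_right_comm]
  rw [h1, h2, ← Finset.sum_add_distrib]
  refine Finset.sum_congr rfl (fun i _ => ?_)
  rw [← Finset.sum_add_distrib]
  refine Finset.sum_congr rfl (fun j _ => ?_)
  exact leibniz_lie _ _ _

noncomputable instance instLieRing : LieRing (Loop p L) where
  __ := (instAddCommGroup : AddCommGroup (Loop p L))
  bracket := conv
  add_lie := by
    intro x y z
    ext k
    show conv (x + y) z k = conv x z k + conv y z k
    simp only [conv_apply, add_apply, add_lie, Finset.sum_add_distrib]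
  lie_add := by
    intro x y z
    ext k
    show conv x (y + z) k = conv x y k + conv x z k
    simp only [conv_apply, add_apply, lie_add, Finset.sum_add_distrib]
  lie_self := conv_self
  leibniz_lie := conv_jacobi

theorem lie_apply (f g : Loop p L) (k : ZMod p) : ⁅f, g⁆ k = ∑ i : ZMod p, ⁅f i, g (k - i)⁆ := rfl

theorem single_lie (x : L) (g : Loop p L) (k : ZMod p) : ⁅(single x : Loop p L), g⁆ k = ⁅x, g k⁆ := by
  rw [lie_apply, Finset.sum_eq_single (0 : ZMod p)]
  · simp
  · intro i _ hi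
    simp [hi]
  · intro h
    exact absurd (Finset.mem_univ _) h

theorem lie_single (f : Loop p L) (y : L) (k : ZMod p) : ⁅f, (single y : Loop p L)⁆ k = ⁅f k, y⁆ := by
  rw [lie_apply, Finset.sum_eq_single k]
  · simp
  · intro i _ hi
    have : k - i ≠ 0 := sub_ne_zero.mpr (Ne.symm hi)
    simp [this]
  · intro h
    exact absurd (Finset.mem_univ _) h

theorem const_lie_const (a b : L) (k : ZMod p) :
    ⁅(const a : Loop p L), (const b : Loop p L)⁆ k = p • ⁅a, b⁆ := by
  rw [lie_apply]
  simp [ZMod.card]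

end lie

end Loop

section main

variable {L : Type u} [LieRing L] (p : ℕ) [Fact p.Prime] (φ : L →+ L)

open Loop

omit [Fact p.Prime] in
/-- iterates of `φ` only depend on the exponent modulo `p` -/
theorem iterate_mod (hφp : ∀ x : L, (⇑φ)^[p] x = x) (n : ℕ) (y : L) :
    (⇑φ)^[n] y = (⇑φ)^[n % p] y := by
  have hid : (⇑φ)^[p] = id := funext hφp
  conv_lhs => rw [← Nat.mod_add_div n p]
  rw [Function.iterate_add_apply, Function.iterate_mul, hid, Function.iterate_id, id]

theorem iterate_val_add_one (hφp : ∀ x : L, (⇑φ)^[p] x = x) (a : ZMod p) (y : L) :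
    (⇑φ)^[(a + 1).val] y = φ ((⇑φ)^[a.val] y) := by
  rw [ZMod.val_add, ZMod.val_one_eq_one_mod, Nat.add_mod_mod, ← iterate_mod p φ hφp,
    Function.iterate_succ_apply']

/-- the `ℤ/p`-graded family of eigen-components of the loop ring -/
noncomputable def loopFam (hφlie : ∀ x y : L, φ ⁅x, y⁆ = ⁅φ x, φ y⁆)
    (hfpf : ∀ x : L, φ x = x → x = 0) : GFam p (Loop p L) where
  T i :=
    { carrier := {f | ∀ k, φ (f k) = f (k - i)}
      zero_mem' := fun k => by simp
      add_mem' := fun {f g} hf hg k => by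
        show φ ((f + g) k) = (f + g) (k - i)
        rw [Loop.add_apply, Loop.add_apply, map_add, hf k, hg k]
      neg_mem' := fun {f} hf k => by
        show φ ((-f) k) = (-f) (k - i)
        rw [Loop.neg_apply, Loop.neg_apply, map_neg, hf k] }
  lie_mem := by
    intro i j f g hf hg k
    show φ (⁅f, g⁆ k) = ⁅f, g⁆ (k - (i + j))
    rw [lie_apply, lie_apply, map_sum]
    refine Fintype.sum_equiv (Equiv.subRight i) _ _ (fun a => ?_)
    simp only [Equiv.subRight_apply]
    rw [hφlie, hf a, hg (k - a)]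
    congr 2
    abel
  zero := by
    rw [eq_bot_iff]
    intro f hf
    rw [AddSubgroup.mem_bot]
    ext k
    have h := hf k
    rw [sub_zero] at h
    exact hfpf _ h

omit [LieRing L] [Fact p.Prime] in
theorem smul_inj [AddCommGroup L] (htf : ∀ x : L, p • x = 0 → x = 0) {a b : L}
    (h : p • a = p • b) : a = b := by
  have h1 : p • (a - b) = 0 := by rw [smul_sub, h, sub_self]
  exact sub_eq_zero.mp (htf _ h1)

/-- division by `p` -/
noncomputable def divP (hdiv : ∀ x : L, ∃ y : L, p • y = x) (htf : ∀ x : L, p • x = 0 → x = 0) :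
    L →+ L :=
  AddMonoidHom.mk' (fun x => Classical.choose (hdiv x)) (by
    intro a b
    apply smul_inj p htf
    rw [smul_add, Classical.choose_spec (hdiv a), Classical.choose_spec (hdiv b),
      Classical.choose_spec (hdiv (a + b))])

omit [Fact p.Prime] in
theorem smul_divP (hdiv : ∀ x : L, ∃ y : L, p • y = x) (htf : ∀ x : L, p • x = 0 → x = 0)
    (x : L) : p • divP p hdiv htf x = x := Classical.choose_spec (hdiv x)

omit [Fact p.Prime] in
theorem divP_lie_left (hdiv : ∀ x : L, ∃ y : L, p • y = x) (htf : ∀ x : L, p • x = 0 → x = 0)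
    (x y : L) : ⁅divP p hdiv htf x, y⁆ = divP p hdiv htf ⁅x, y⁆ := by
  apply smul_inj p htf
  rw [← nsmul_lie, smul_divP, smul_divP]

omit [Fact p.Prime] in
theorem divP_lie_right (hdiv : ∀ x : L, ∃ y : L, p • y = x) (htf : ∀ x : L, p • x = 0 → x = 0)
    (x y : L) : ⁅x, divP p hdiv htf y⁆ = divP p hdiv htf ⁅x, y⁆ := by
  apply smul_inj p htf
  rw [← lie_nsmul, smul_divP, smul_divP]

omit [Fact p.Prime] in
theorem smul_divP_lie_divP (hdiv : ∀ x : L, ∃ y : L, p • y = x)
    (htf : ∀ x : L, p • x = 0 → x = 0) (x y : L) :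
    p • ⁅divP p hdiv htf x, divP p hdiv htf y⁆ = divP p hdiv htf ⁅x, y⁆ := by
  rw [← nsmul_lie, smul_divP, divP_lie_right]

theorem sum_iterate_eq_zero (hφp : ∀ x : L, (⇑φ)^[p] x = x) (hfpf : ∀ x : L, φ x = x → x = 0)
    (y : L) : ∑ j : ZMod p, (⇑φ)^[j.val] y = 0 := by
  apply hfpf
  rw [map_sum]
  refine Fintype.sum_equiv (Equiv.addRight (1 : ZMod p)) _ _ (fun j => ?_)
  simp only [Equiv.coe_addRight]
  exact (iterate_val_add_one p φ hφp j y).symm

/-- the `i`-th eigen-component of (the constant) `y` -/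
noncomputable def eigen (i : ZMod p) (y : L) : Loop p L :=
  ⟨fun k => (⇑φ)^[(-(k * i⁻¹)).val] y⟩

theorem eigen_mem (hφlie : ∀ x y : L, φ ⁅x, y⁆ = ⁅φ x, φ y⁆) (hφp : ∀ x : L, (⇑φ)^[p] x = x)
    (hfpf : ∀ x : L, φ x = x → x = 0) {i : ZMod p} (hi : i ≠ 0) (y : L) :
    eigen p φ i y ∈ (loopFam p φ hφlie hfpf).T i := by
  intro k
  show φ ((⇑φ)^[(-(k * i⁻¹)).val] y) = (⇑φ)^[(-((k - i) * i⁻¹)).val] y
  rw [← iterate_val_add_one p φ hφp]
  congr 2
  rw [sub_mul, mul_inv_cancel₀ hi]
  ring

/-- the embedding of `L` into the loop ring -/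
noncomputable def iota (hdiv : ∀ x : L, ∃ y : L, p • y = x) (htf : ∀ x : L, p • x = 0 → x = 0) :
    L →+ Loop p L where
  toFun x := single x - const (divP p hdiv htf x)
  map_zero' := by
    ext k
    simp
  map_add' x y := by
    ext k
    simp only [Loop.sub_apply, Loop.add_apply, single_apply, const_apply, map_add]
    split_ifs <;> abel

theorem iota_apply (hdiv : ∀ x : L, ∃ y : L, p • y = x) (htf : ∀ x : L, p • x = 0 → x = 0)
    (x : L) (k : ZMod p) :
    iota p hdiv htf x k = (if k = 0 then x else 0) - divP p hdiv htf x := rfl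

theorem iota_eq_sum (hφp : ∀ x : L, (⇑φ)^[p] x = x) (hfpf : ∀ x : L, φ x = x → x = 0)
    (hdiv : ∀ x : L, ∃ y : L, p • y = x) (htf : ∀ x : L, p • x = 0 → x = 0) (x : L) :
    iota p hdiv htf x
      = ∑ i ∈ (Finset.univ.erase (0 : ZMod p)), eigen p φ i (divP p hdiv htf x) := by
  have hp : p.Prime := Fact.out
  ext k
  rw [Loop.sum_apply, iota_apply]
  show _ = ∑ i ∈ (Finset.univ.erase (0 : ZMod p)), (⇑φ)^[(-(k * i⁻¹)).val] (divP p hdiv htf x)
  by_cases hk : k = 0
  · subst hk
    simp only [if_true, zero_mul, neg_zero, ZMod.val_zero, Function.iterate_zero, id,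
      Finset.sum_const, Finset.card_erase_of_mem (Finset.mem_univ _), Finset.card_univ, ZMod.card]
    have h1 : (p - 1 + 1) • divP p hdiv htf x = x := by
      rw [Nat.sub_add_cancel hp.one_le, smul_divP]
    rw [succ_nsmul] at h1
    rw [sub_eq_iff_eq_add]
    exact h1.symm
  · rw [if_neg hk, zero_sub]
    have h1 : ∑ i ∈ (Finset.univ.erase (0 : ZMod p)), (⇑φ)^[(-(k * i⁻¹)).val] (divP p hdiv htf x)
        = ∑ j ∈ (Finset.univ.erase (0 : ZMod p)), (⇑φ)^[j.val] (divP p hdiv htf x) := by
      refine Finset.sum_nbij' (fun i => -(k * i⁻¹)) (fun j => -(k * j⁻¹)) ?_ ?_ ?_ ?_ ?_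
      · intro i hi
        have hi0 : i ≠ 0 := Finset.ne_of_mem_erase hi
        refine Finset.mem_erase.mpr ⟨?_, Finset.mem_univ _⟩
        exact neg_ne_zero.mpr (mul_ne_zero hk (inv_ne_zero hi0))
      · intro j hj
        have hj0 : j ≠ 0 := Finset.ne_of_mem_erase hj
        refine Finset.mem_erase.mpr ⟨?_, Finset.mem_univ _⟩
        exact neg_ne_zero.mpr (mul_ne_zero hk (inv_ne_zero hj0))
      · intro i hi
        have hi0 : i ≠ 0 := Finset.ne_of_mem_erase hi
        field_simp
      · intro j hj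
        have hj0 : j ≠ 0 := Finset.ne_of_mem_erase hj
        field_simp
      · intro i _
        rfl
    rw [h1, Finset.sum_erase_eq_sub (Finset.mem_univ _), sum_iterate_eq_zero p φ hφp hfpf,
      ZMod.val_zero, Function.iterate_zero, id, zero_sub]

theorem iota_mem_tot (hφlie : ∀ x y : L, φ ⁅x, y⁆ = ⁅φ x, φ y⁆)
    (hφp : ∀ x : L, (⇑φ)^[p] x = x) (hfpf : ∀ x : L, φ x = x → x = 0)
    (hdiv : ∀ x : L, ∃ y : L, p • y = x) (htf : ∀ x : L, p • x = 0 → x = 0) (x : L) :
    iota p hdiv htf x ∈ (loopFam p φ hφlie hfpf).tot := by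
  rw [iota_eq_sum p φ hφp hfpf hdiv htf x]
  refine AddSubgroup.sum_mem _ (fun i hi => ?_)
  exact AddSubgroup.mem_iSup_of_mem i (eigen_mem p φ hφlie hφp hfpf (Finset.ne_of_mem_erase hi) _)

theorem iota_lie (hdiv : ∀ x : L, ∃ y : L, p • y = x) (htf : ∀ x : L, p • x = 0 → x = 0)
    (x y : L) : iota p hdiv htf ⁅x, y⁆ = ⁅iota p hdiv htf x, iota p hdiv htf y⁆ := by
  ext k
  show (single ⁅x, y⁆ - const (divP p hdiv htf ⁅x, y⁆) : Loop p L) k
    = ⁅(single x - const (divP p hdiv htf x) : Loop p L),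
        (single y - const (divP p hdiv htf y) : Loop p L)⁆ k
  rw [sub_lie, lie_sub, lie_sub]
  simp only [Loop.sub_apply, single_lie, lie_single, const_lie_const, single_apply, const_apply]
  rw [smul_divP_lie_divP, divP_lie_left, divP_lie_right]
  split_ifs <;> simp

theorem iota_injective (hdiv : ∀ x : L, ∃ y : L, p • y = x) (htf : ∀ x : L, p • x = 0 → x = 0)
    (x : L) (hx : iota p hdiv htf x = 0) : x = 0 := by
  have h1 : iota p hdiv htf x (1 : ZMod p) = 0 := by rw [hx]; rfl
  rw [iota_apply, if_neg one_ne_zero, zero_sub, neg_eq_zero] at h1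
  rw [← smul_divP p hdiv htf x, h1, smul_zero]

theorem iota_mem_lcs (hφlie : ∀ x y : L, φ ⁅x, y⁆ = ⁅φ x, φ y⁆)
    (hφp : ∀ x : L, (⇑φ)^[p] x = x) (hfpf : ∀ x : L, φ x = x → x = 0)
    (hdiv : ∀ x : L, ∃ y : L, p • y = x) (htf : ∀ x : L, p • x = 0 → x = 0) (t : ℕ) :
    ∀ x ∈ lcsFrom (⊤ : AddSubgroup L) t,
      iota p hdiv htf x ∈ lcsFrom (loopFam p φ hφlie hfpf).tot t := by
  induction t with
  | zero =>
    intro x _
    exact iota_mem_tot p φ hφlie hφp hfpf hdiv htf x
  | succ t ih =>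
    intro x hx
    change x ∈ AddSubgroup.closure _ at hx
    show iota p hdiv htf x ∈ AddSubgroup.closure _
    induction hx using AddSubgroup.closure_induction with
    | mem z hz =>
      obtain ⟨a, ha, b, _, rfl⟩ := hz
      rw [iota_lie]
      exact AddSubgroup.subset_closure
        ⟨_, ih a ha, _, iota_mem_tot p φ hφlie hφp hfpf hdiv htf b, rfl⟩
    | zero => rw [map_zero]; exact zero_mem _
    | add a b _ _ ha hb => rw [map_add]; exact add_mem ha hb
    | neg a _ ha => rw [map_neg]; exact neg_mem ha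

end main

open Loop in
/-- **Keystone K-S3779-LOOP.** -/
theorem lcs_eq_bot_of_regular {L : Type u} [LieRing L] (p : ℕ) [Fact p.Prime] (φ : L →+ L)
    (hφlie : ∀ x y : L, φ ⁅x, y⁆ = ⁅φ x, φ y⁆) (hφp : ∀ x : L, (⇑φ)^[p] x = x)
    (hfpf : ∀ x : L, φ x = x → x = 0)
    (hdiv : ∀ x : L, ∃ y : L, p • y = x) (htf : ∀ x : L, p • x = 0 → x = 0) (c : ℕ)
    (H : ∀ (L' : Type u) [LieRing L'] (F : GFam p L'), lcsFrom F.tot c = ⊥) :
    lcsFrom (⊤ : AddSubgroup L) c = ⊥ := by
  rw [eq_bot_iff]
  intro x hx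
  rw [AddSubgroup.mem_bot]
  have h1 := iota_mem_lcs p φ hφlie hφp hfpf hdiv htf c x hx
  rw [H (Loop p L) (loopFam p φ hφlie hfpf), AddSubgroup.mem_bot] at h1
  exact iota_injective p hdiv htf x h1

end Cfsg.Agent.Lib.Helper19.KK
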