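import Mathlib
import Cfsg.Prelude.Def_LieTypeDatum

set_option autoImplicit false
set_option linter.unusedSimpArgs false
set_option linter.unusedVariables false
set_option linter.unusedSectionVars false

/-! Every field automorphism `σ` of a finite field admits a `σ`-semisimilarity of the minus-type form
`quadFormMinus m F a b`: the binary forms `z₁² + a z₁ z₂ + b z₂²` and `z₁² + σ(a) z₁ z₂ + σ(b) z₂²`
are isometric. -/

namespace Cfsg.Agent.Lib.Helper19.MinusSemi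

open Matrix

variable {F : Type*} [Field F] [Fintype F]

theorem nonsq_mul_nonsq' (a b : F) (ha : ¬IsSquare a) (hb : ¬IsSquare b) :
    IsSquare (a * b) := by
  classical
  have ha0 : a ≠ 0 := by rintro rfl; exact ha (IsSquare.zero)
  have hb0 : b ≠ 0 := by rintro rfl; exact hb (IsSquare.zero)
  rw [← quadraticChar_neg_one_iff_not_isSquare] at ha hb
  rw [← quadraticChar_one_iff_isSquare (mul_ne_zero ha0 hb0), map_mul, ha, hb]
  norm_num

omit [Fintype F] in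
theorem disc_nonsq (h2 : (2 : F) ≠ 0) (a c : F)
    (hac : ∀ z₁ z₂ : F, z₁ ^ 2 + a * z₁ * z₂ + c * z₂ ^ 2 = 0 → z₁ = 0 ∧ z₂ = 0) :
    ¬ IsSquare (a ^ 2 - 4 * c) := by
  rintro ⟨s, hs⟩
  have h := hac ((s - a) / 2) 1 (by
    field_simp
    linear_combination (-1 : F) * hs)
  exact one_ne_zero h.2

/-- odd characteristic: the change of basis of the binary form. -/
theorem exists_st_odd (h2 : (2 : F) ≠ 0) (a b : F)
    (hab : ∀ z₁ z₂ : F, z₁ ^ 2 + a * z₁ * z₂ + b * z₂ ^ 2 = 0 → z₁ = 0 ∧ z₂ = 0)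
    (σ : F ≃+* F) :
    ∃ s t : F, t ≠ 0 ∧ 2 * s + a * t = σ a ∧ s ^ 2 + a * s * t + b * t ^ 2 = σ b := by
  obtain ⟨D, hD⟩ : ∃ D, D = a ^ 2 - 4 * b := ⟨_, rfl⟩
  have hDns : ¬ IsSquare D := by rw [hD]; exact disc_nonsq h2 a b hab
  have hD0 : D ≠ 0 := by rintro rfl; exact hDns IsSquare.zero
  have hσDns : ¬ IsSquare (σ D) := by
    rintro ⟨e, he⟩
    apply hDns
    refine ⟨σ.symm e, ?_⟩
    apply σ.injective
    rw [he, map_mul, RingEquiv.apply_symm_apply]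
  obtain ⟨r, hr⟩ := nonsq_mul_nonsq' (σ D) D hσDns hDns
  have hσD0 : σ D ≠ 0 := by rintro h0; exact hσDns (h0 ▸ IsSquare.zero)
  have hr0 : r ≠ 0 := by
    rintro rfl
    rw [mul_zero] at hr
    exact mul_ne_zero hσD0 hD0 hr
  have hσD : σ D = (σ a) ^ 2 - 4 * σ b := by
    rw [hD, map_sub, map_pow, map_mul, map_ofNat]
  refine ⟨(σ a - a * (r / D)) / 2, r / D, div_ne_zero hr0 hD0, ?_, ?_⟩
  · field_simp
    ring
  · have ht : (r / D) ^ 2 * D = (σ a) ^ 2 - 4 * σ b := by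
      rw [← hσD]
      field_simp
      linear_combination -hr
    obtain ⟨t, htdef⟩ : ∃ t, t = r / D := ⟨_, rfl⟩
    rw [← htdef] at ht ⊢
    rw [hD] at ht
    field_simp
    linear_combination -ht

omit [Fintype F] in
theorem exists_artin (h2 : (2 : F) = 0) (κ : F) (n : ℕ) : ∃ y : F, y ^ 2 + y = κ ^ (2 ^ n) + κ := by
  induction n with
  | zero =>
    refine ⟨0, ?_⟩
    simp only [pow_zero, pow_one]
    linear_combination (-κ) * h2
  | succ n ih =>
    obtain ⟨y, hy⟩ := ih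
    refine ⟨y + κ ^ (2 ^ n), ?_⟩
    rw [pow_succ 2 n, pow_mul]
    linear_combination hy + (κ ^ (2 ^ n) + y * κ ^ (2 ^ n)) * h2

theorem exists_frob_pow (h2 : (2 : F) = 0) (σ : F ≃+* F) : ∃ n : ℕ, ∀ x : F, σ x = x ^ (2 ^ n) := by
  have : CharP F 2 := CharTwo.of_one_ne_zero_of_two_eq_zero one_ne_zero h2
  let _ := ZMod.algebra F 2
  let σ' : F ≃ₐ[ZMod 2] F := AlgEquiv.ofRingEquiv (f := σ) (fun r => by
    have : ((σ : F →+* F).comp (algebraMap (ZMod 2) F)) = algebraMap (ZMod 2) F :=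
      Subsingleton.elim _ _
    exact DFunLike.congr_fun this r)
  obtain ⟨n, hn⟩ := (FiniteField.bijective_frobeniusAlgEquivOfAlgebraic_pow (ZMod 2) F).2 σ'
  refine ⟨n.1, ?_⟩
  intro x
  have h1 : σ x = σ' x := rfl
  rw [h1, ← hn]
  simp only
  rw [AlgEquiv.coe_pow, FiniteField.coe_frobeniusAlgEquivOfAlgebraic_iterate, ZMod.card]

/-- characteristic two: the change of basis of the binary form. -/
theorem exists_st_even (h2 : (2 : F) = 0) (a b : F)
    (hab : ∀ z₁ z₂ : F, z₁ ^ 2 + a * z₁ * z₂ + b * z₂ ^ 2 = 0 → z₁ = 0 ∧ z₂ = 0)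
    (σ : F ≃+* F) :
    ∃ s t : F, t ≠ 0 ∧ 2 * s + a * t = σ a ∧ s ^ 2 + a * s * t + b * t ^ 2 = σ b := by
  have hchar : ringChar F = 2 := by
    have : CharP F 2 := CharTwo.of_one_ne_zero_of_two_eq_zero one_ne_zero h2
    exact ringChar.eq F 2
  have ha0 : a ≠ 0 := by
    rintro rfl
    obtain ⟨r, hr⟩ := FiniteField.isSquare_of_char_two hchar b
    have h := hab r 1 (by
      rw [hr]
      linear_combination (r * r) * h2)
    exact one_ne_zero h.2
  have hσa0 : σ a ≠ 0 := by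
    intro h0
    apply ha0
    apply σ.injective
    rw [h0, map_zero]
  obtain ⟨n, hn⟩ := exists_frob_pow h2 σ
  obtain ⟨y, hy⟩ := exists_artin h2 (b / a ^ 2) n
  rw [← hn, map_div₀, map_pow] at hy
  refine ⟨σ a * y, σ a / a, div_ne_zero hσa0 ha0, ?_, ?_⟩
  · field_simp
    linear_combination y * h2
  · have hy' : (y ^ 2 + y) * ((σ a) ^ 2 * a ^ 2) = σ b * a ^ 2 + b * (σ a) ^ 2 := by
      rw [hy]
      field_simp
    field_simp
    linear_combination hy' + (b * (σ a) ^ 2) * h2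

theorem exists_st (a b : F)
    (hab : ∀ z₁ z₂ : F, z₁ ^ 2 + a * z₁ * z₂ + b * z₂ ^ 2 = 0 → z₁ = 0 ∧ z₂ = 0)
    (σ : F ≃+* F) :
    ∃ s t : F, t ≠ 0 ∧ 2 * s + a * t = σ a ∧ s ^ 2 + a * s * t + b * t ^ 2 = σ b := by
  by_cases h2 : (2 : F) = 0
  · exact exists_st_even h2 a b hab σ
  · exact exists_st_odd h2 a b hab σ


section mat

variable {m : ℕ}

/-- the matrix acting as `(z₁, z₂) ↦ (z₁ + s z₂, t z₂)` on the anisotropic part and as the identity
on the hyperbolic part. -/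
def gMat (m : ℕ) (s t : F) :
    Matrix ((Fin m ⊕ Fin m) ⊕ Fin 2) ((Fin m ⊕ Fin m) ⊕ Fin 2) F :=
  Matrix.fromBlocks 1 0 0 !![1, s; 0, t]

omit [Fintype F] in
theorem det_gMat (s t : F) : (gMat m s t).det = t := by
  unfold gMat
  rw [Matrix.det_fromBlocks_zero₂₁, Matrix.det_one, one_mul, Matrix.det_fin_two_of]
  ring

omit [Fintype F] in
theorem gMat_mulVec_inl (s t : F) (v : (Fin m ⊕ Fin m) ⊕ Fin 2 → F) (k : Fin m ⊕ Fin m) :
    (gMat m s t *ᵥ v) (Sum.inl k) = v (Sum.inl k) := by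
  unfold gMat
  rw [Matrix.fromBlocks_mulVec]
  simp

omit [Fintype F] in
theorem gMat_mulVec_inr0 (s t : F) (v : (Fin m ⊕ Fin m) ⊕ Fin 2 → F) :
    (gMat m s t *ᵥ v) (Sum.inr 0) = v (Sum.inr 0) + s * v (Sum.inr 1) := by
  unfold gMat
  rw [Matrix.fromBlocks_mulVec]
  simp [Matrix.mulVec, dotProduct, Fin.sum_univ_two]

omit [Fintype F] in
theorem gMat_mulVec_inr1 (s t : F) (v : (Fin m ⊕ Fin m) ⊕ Fin 2 → F) :
    (gMat m s t *ᵥ v) (Sum.inr 1) = t * v (Sum.inr 1) := by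
  unfold gMat
  rw [Matrix.fromBlocks_mulVec]
  simp [Matrix.mulVec, dotProduct, Fin.sum_univ_two]

/-- **every field automorphism admits a semisimilarity of the minus-type form**. -/
theorem exists_semisim_minus (m : ℕ) (a b : F)
    (hab : ∀ z₁ z₂ : F, z₁ ^ 2 + a * z₁ * z₂ + b * z₂ ^ 2 = 0 → z₁ = 0 ∧ z₂ = 0)
    (σ : F ≃+* F) :
    ∃ g : GL ((Fin m ⊕ Fin m) ⊕ Fin 2) F,
      Cfsg.IsSemisimilarityPair (Cfsg.quadFormMinus m F a b) g σ := by
  obtain ⟨s, t, ht, h1, h2⟩ := exists_st a b hab σ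
  refine ⟨Matrix.GeneralLinearGroup.mkOfDetNeZero (gMat m s t) (by rw [det_gMat]; exact ht),
    1, ?_⟩
  intro v
  have hval : ((Matrix.GeneralLinearGroup.mkOfDetNeZero (gMat m s t)
      (by rw [det_gMat]; exact ht) : GL ((Fin m ⊕ Fin m) ⊕ Fin 2) F) :
        Matrix ((Fin m ⊕ Fin m) ⊕ Fin 2) ((Fin m ⊕ Fin m) ⊕ Fin 2) F) = gMat m s t := rfl
  rw [hval]
  unfold Cfsg.quadFormMinus
  simp only [gMat_mulVec_inl, gMat_mulVec_inr0, gMat_mulVec_inr1, Units.val_one, one_mul,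
    map_add, map_mul, map_pow, map_sum]
  linear_combination (σ (v (Sum.inr 0)) * σ (v (Sum.inr 1))) * h1 +
    (σ (v (Sum.inr 1)) ^ 2) * h2

end mat

end Cfsg.Agent.Lib.Helper19.MinusSemi
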