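import Cfsg.Agent.Lib.Helper19.GammaCard
import Cfsg.Agent.Lib.Helper19.MinusSemi
import Cfsg.Agent.Lib.Helper19.PgoCard
import Cfsg.Agent.Lib.Helper07.OrthT
import Cfsg.Agent.S2696
import Cfsg.Agent.S2728

set_option autoImplicit false
set_option linter.unusedSimpArgs false
set_option linter.unusedVariables false
set_option linter.unusedSectionVars false

/-! The order of `Aut(PΩ⁻_{2m+2}(q))`. -/

namespace Cfsg.Agent.Lib.Helper19.MinusAutCard

open Module Matrix Cfsg.Agent.Lib.Helper43 Cfsg.Agent.Lib.Helper07.OG Cfsg.Agent.Lib.Helper08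
open Cfsg.Agent.Lib.Helper19.GammaCard Cfsg.Agent.Lib.Helper19.PgoCard

variable {F : Type*} [Field F] [Fintype F]

/-- the ring automorphisms of a finite field of characteristic `p` are its `ZMod p`-algebra
automorphisms. -/
noncomputable def ringAutEquivGal19 (p : ℕ) [Fact p.Prime] [CharP F p] :
    letI := ZMod.algebra F p
    RingAut F ≃ (F ≃ₐ[ZMod p] F) :=
  letI := ZMod.algebra F p
  { toFun := fun σ => AlgEquiv.ofRingEquiv (f := σ) (fun r => by
      have : ((σ : F →+* F).comp (algebraMap (ZMod p) F)) = algebraMap (ZMod p) F :=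
        Subsingleton.elim _ _
      exact DFunLike.congr_fun this r)
    invFun := fun τ => τ.toRingEquiv
    left_inv := fun σ => by ext; rfl
    right_inv := fun τ => by ext; rfl }

theorem card_ringAut19 (p : ℕ) [Fact p.Prime] [CharP F p] {f : ℕ} (hF : Fintype.card F = p ^ f) :
    Nat.card (RingAut F) = f := by
  let _ := ZMod.algebra F p
  rw [Nat.card_congr (ringAutEquivGal19 (F := F) p), IsGalois.card_aut_eq_finrank]
  have h1 : Fintype.card F = Fintype.card (ZMod p) ^ Module.finrank (ZMod p) F :=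
    Module.card_eq_pow_finrank
  rw [ZMod.card, hF] at h1
  exact (Nat.pow_right_injective (Fact.out : p.Prime).two_le h1).symm

theorem inn_le_pgoAut {ι : Type} [Fintype ι] [DecidableEq ι] (Q : (ι → F) → F) :
    Cfsg.Inn (Cfsg.POmega F Q) ≤ Cfsg.pgoAut F Q := by
  rw [inn_eq, pgoAut_eq]
  rintro _ ⟨g, hg, rfl⟩
  exact ⟨_, (autO_apply Q g).symm⟩

theorem card_of_hom {G H : Type*} [Group G] [Group H] (φ : G →* H) (hφ : Function.Surjective φ) :
    Nat.card G = Nat.card H * Nat.card φ.ker := by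
  rw [Subgroup.card_eq_card_quotient_mul_card_subgroup φ.ker,
    Nat.card_congr (QuotientGroup.quotientKerEquivOfSurjective φ hφ).toEquiv]


section generic

variable {ι : Type} [Fintype ι] [DecidableEq ι]

theorem card_inn_fun (p : ℕ) [Fact p.Prime] [CharP F p] (Q : QuadraticForm F (ι → F))
    (q : (ι → F) → F) (hq : ⇑Q = q) (C : OC Q) :
    Nat.card ↥(Cfsg.Inn (Cfsg.POmega F q)) = Nat.card (Cfsg.POmega F q) := by
  subst hq
  exact card_inn_POmega C p

theorem card_pgoAut_char_two_fun (Q : QuadraticForm F (ι → F))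
    (q : (ι → F) → F) (hq : ⇑Q = q) (C : OC Q) (h2 : (2 : F) = 0) :
    Nat.card ↥(Cfsg.pgoAut F q) = 2 * Nat.card (Cfsg.POmega F q) := by
  subst hq
  exact card_pgoAut_char_two C h2

theorem card_gammaPOmega_fun (p : ℕ) [Fact p.Prime] [CharP F p] (Q : QuadraticForm F (ι → F))
    (q : (ι → F) → F) (hq : ⇑Q = q) (C : OC Q)
    (hex : ∀ σ : F ≃+* F, ∃ g : GL ι F, Cfsg.IsSemisimilarityPair q g σ) :
    Nat.card ↥(Cfsg.gammaPOmega F q) = Nat.card (RingAut F) * Nat.card ↥(Cfsg.pgoAut F q) := by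
  subst hq
  exact card_gammaPOmega C p hex

end generic

section minus

variable {n : ℕ} (hn : 3 ≤ n) (a b : F)
  (hab : ∀ z₁ z₂ : F, z₁ ^ 2 + a * z₁ * z₂ + b * z₂ ^ 2 = 0 → z₁ = 0 ∧ z₂ = 0)

include hn in
theorem oc_minus : OC (qdataMinus43 n a b hab).qf := by
  refine ⟨(qdataMinus43 n a b hab).qf_nondeg, ?_⟩
  rw [Fintype.card_sum, Fintype.card_sum, Fintype.card_fin, Fintype.card_fin]
  omega

include hn hab in
theorem card_inn_minus (p : ℕ) [Fact p.Prime] [CharP F p] :
    Nat.card ↥(Cfsg.Inn (Cfsg.POmega F (Cfsg.quadFormMinus n F a b))) =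
      Nat.card (Cfsg.POmega F (Cfsg.quadFormMinus n F a b)) :=
  card_inn_fun p _ _ (qdataMinus43 n a b hab).qf_coe (oc_minus hn a b hab)

include hn hab in
theorem card_pgoAut_minus_odd (hodd : Odd (Fintype.card F)) (p : ℕ) [Fact p.Prime] [CharP F p] :
    Nat.card ↥(Cfsg.pgoAut F (Cfsg.quadFormMinus n F a b)) =
      (if Even n ∧ Fintype.card F % 4 = 3 then 8 else 4) *
        Nat.card (Cfsg.POmega F (Cfsg.quadFormMinus n F a b)) := by
  have hS := Cfsg.Agent.S2728.result hodd hn a b hab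
  have hInn := card_inn_minus hn a b hab p
  have hsub : Nat.card ↥((Cfsg.Inn (Cfsg.POmega F (Cfsg.quadFormMinus n F a b))).subgroupOf
      (Cfsg.pgoAut F (Cfsg.quadFormMinus n F a b))) =
      Nat.card (Cfsg.POmega F (Cfsg.quadFormMinus n F a b)) := by
    rw [Nat.card_congr (Subgroup.subgroupOfEquivOfLe (inn_le_pgoAut _)).toEquiv, hInn]
  by_cases h : Even n ∧ Fintype.card F % 4 = 3
  · obtain ⟨φ, hφ, hker⟩ := hS.1 h
    rw [if_pos h, card_of_hom φ hφ, hker, hsub, DihedralGroup.nat_card]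
  · obtain ⟨φ, hφ, hker⟩ := hS.2 h
    rw [if_neg h, card_of_hom φ hφ, hker, hsub]
    congr 1
    rw [Nat.card_congr Multiplicative.toAdd, Nat.card_prod, Nat.card_zmod]

include hn hab in
theorem card_pgoAut_minus_even (h2 : (2 : F) = 0) :
    Nat.card ↥(Cfsg.pgoAut F (Cfsg.quadFormMinus n F a b)) =
      2 * Nat.card (Cfsg.POmega F (Cfsg.quadFormMinus n F a b)) :=
  card_pgoAut_char_two_fun _ _ (qdataMinus43 n a b hab).qf_coe (oc_minus hn a b hab) h2

include hn hab in
/-- **the order of `Aut(PΩ⁻_{2n+2}(q))`**, `q = p^f`, `n ≥ 3`. -/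
theorem card_mulAut_minus (p f : ℕ) [Fact p.Prime] (hF : Fintype.card F = p ^ f) :
    Nat.card (MulAut (Cfsg.POmega F (Cfsg.quadFormMinus n F a b))) =
      (if p = 2 then 2 else (if Even n ∧ Fintype.card F % 4 = 3 then 8 else 4)) * f *
        Nat.card (Cfsg.POmega F (Cfsg.quadFormMinus n F a b)) := by
  have hchar : CharP F p := charP_of_card_eq_prime_pow hF
  have htop := Cfsg.Agent.S2696.result hn a b hab
  have h1 : Nat.card (MulAut (Cfsg.POmega F (Cfsg.quadFormMinus n F a b))) =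
      Nat.card ↥(Cfsg.gammaPOmega F (Cfsg.quadFormMinus n F a b)) := by
    rw [htop]
    exact (Nat.card_congr (Subgroup.topEquiv).toEquiv).symm
  have h3 : Nat.card ↥(Cfsg.gammaPOmega F (Cfsg.quadFormMinus n F a b)) =
      Nat.card (RingAut F) * Nat.card ↥(Cfsg.pgoAut F (Cfsg.quadFormMinus n F a b)) :=
    card_gammaPOmega_fun p _ _ (qdataMinus43 n a b hab).qf_coe (oc_minus hn a b hab)
      (fun σ => Cfsg.Agent.Lib.Helper19.MinusSemi.exists_semisim_minus n a b hab σ)
  rw [h1, h3, card_ringAut19 p hF]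
  by_cases hp : p = 2
  · subst hp
    have h2 : (2 : F) = 0 := by
      have := CharP.cast_eq_zero F 2
      exact_mod_cast this
    rw [if_pos rfl, card_pgoAut_minus_even hn a b hab h2]
    ring
  · have hodd : Odd (Fintype.card F) := by
      rw [hF]
      exact Odd.pow ((Fact.out : p.Prime).odd_of_ne_two hp)
    rw [if_neg hp, card_pgoAut_minus_odd hn a b hab hodd p]
    ring

end minus

end Cfsg.Agent.Lib.Helper19.MinusAutCard
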