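import Cfsg.Agent.Lib.Helper19.OEvenType2

set_option autoImplicit false
set_option linter.unusedSimpArgs false
set_option linter.unusedVariables false
set_option linter.unusedSectionVars false

/-! Type criteria, part 3 (odd characteristic): two complementary orthogonal non-degenerate
subspaces of the same dimension are isometric iff the discriminant of the whole form is a
square. -/

namespace Cfsg.Agent.Lib.Helper19.OEvenType

open Module QuadraticMap Cfsg.Agent.Lib.Helper50 Cfsg.Geo

variable {F : Type*} [Field F] {n : ℕ}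
variable (Q : (Fin n → F) → F) (hQ : IsNondegenerateQuadraticForm Q)

/-- a basis adapted to a non-degenerate decomposition (arbitrary bases of the pieces): the Gram
matrix is block diagonal -/
theorem exists_basis_gram_blockDiagonal {t k : ℕ} (D : Fin t → Submodule F (Fin n → F))
    (hD : IsNondegenerateMDecomposition (polar Q) k D) (v : ∀ i, Basis (Fin k) F (D i)) :
    ∃ b : Basis (Fin k × Fin t) F (Fin n → F),
      (∀ a i, b (a, i) = ((v i a : D i) : Fin n → F)) ∧
      (Matrix.of fun i j => polar Q (b i) (b j)) =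
        Matrix.blockDiagonal (fun i : Fin t => Matrix.of fun a c =>
          polar Q ((v i a : D i) : Fin n → F) ((v i c : D i) : Fin n → F)) := by
  classical
  have hdec := hD.decomp
  have hint : DirectSum.IsInternal D :=
    DirectSum.isInternal_submodule_of_iSupIndep_of_iSup_eq_top hdec.indep hdec.iSup_eq_top
  let B : Basis (Σ _ : Fin t, Fin k) F (Fin n → F) := hint.collectedBasis v
  let eq : (Σ _ : Fin t, Fin k) ≃ Fin k × Fin t :=
    (Equiv.sigmaEquivProd (Fin t) (Fin k)).trans (Equiv.prodComm _ _)
  let b : Basis (Fin k × Fin t) F (Fin n → F) := B.reindex eq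
  have hb : ∀ (a : Fin k) (i : Fin t), b (a, i) = ((v i a : D i) : Fin n → F) := by
    intro a i
    show (B.reindex eq) (a, i) = _
    rw [Basis.reindex_apply]
    show B ⟨i, a⟩ = _
    rw [show B = hint.collectedBasis v from rfl, DirectSum.IsInternal.collectedBasis_coe]
  refine ⟨b, hb, ?_⟩
  ext ⟨a, i⟩ ⟨c, j⟩
  rw [Matrix.of_apply, hb, hb, Matrix.blockDiagonal_apply]
  by_cases hij : i = j
  · subst hij
    rw [if_pos rfl]
    rfl
  · rw [if_neg hij]
    exact hD.orthogonal i j hij _ (v i a).2 _ (v j c).2

/-- the quadratic form induced on a piece, in coordinates -/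
noncomputable def pieceForm {k : ℕ} (W : Submodule F (Fin n → F)) (v : Basis (Fin k) F W) :
    QuadraticForm F (Fin k → F) :=
  (geoForm Q hQ).comp (W.subtype ∘ₗ (v.equivFun.symm : (Fin k → F) →ₗ[F] W))

theorem pieceForm_apply {k : ℕ} (W : Submodule F (Fin n → F)) (v : Basis (Fin k) F W)
    (x : Fin k → F) : pieceForm Q hQ W v x = Q ((v.equivFun.symm x : W) : Fin n → F) := rfl

theorem polar_pieceForm {k : ℕ} (W : Submodule F (Fin n → F)) (v : Basis (Fin k) F W)
    (x y : Fin k → F) :
    polar (⇑(pieceForm Q hQ W v)) x y =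
      polar Q ((v.equivFun.symm x : W) : Fin n → F) ((v.equivFun.symm y : W) : Fin n → F) := by
  unfold polar
  rw [pieceForm_apply, pieceForm_apply, pieceForm_apply, map_add, Submodule.coe_add]

theorem disc_pieceForm {k : ℕ} (W : Submodule F (Fin n → F)) (v : Basis (Fin k) F W) :
    disc (pieceForm Q hQ W v) =
      (Matrix.of fun a c => polar Q ((v a : W) : Fin n → F) ((v c : W) : Fin n → F)).det := by
  classical
  unfold disc
  congr 1
  ext a c
  rw [Matrix.of_apply, Matrix.of_apply, polar_pieceForm]
  have h : ∀ a : Fin k, v.equivFun.symm (Pi.single a (1 : F)) = v a := by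
    intro a
    rw [Basis.equivFun_symm_apply]
    simp [Pi.single_apply]
  rw [h, h]

theorem qnd_pieceForm {k : ℕ} (W : Submodule F (Fin n → F)) (v : Basis (Fin k) F W)
    (hW : IsNondegenerateOn (polar Q) W) : QND (pieceForm Q hQ W v) := by
  intro x hx
  by_contra hne
  have hw : ((v.equivFun.symm x : W) : Fin n → F) ≠ 0 := by
    intro h0
    apply hne
    have : v.equivFun.symm x = 0 := Subtype.ext h0
    exact (LinearEquiv.map_eq_zero_iff _).mp this
  obtain ⟨-, ⟨y', hy', hy⟩⟩ := hW _ (v.equivFun.symm x).2 hw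
  apply hy
  have := hx (v.equivFun ⟨y', hy'⟩)
  rw [polar_pieceForm, LinearEquiv.symm_apply_apply] at this
  exact this

variable [Fintype F]

include hQ in
/-- **T3 (odd characteristic)**: the two members of a non-degenerate decomposition into two
`k`-spaces are isometric iff the type of `Q` is the one forced by a square discriminant. -/
theorem areIsometricFor_iff_of_pair (h2 : (2 : F) ≠ 0) {M : ℕ} (hn : n = 2 * M) {k : ℕ}
    (D : Fin 2 → Submodule F (Fin n → F))
    (hD : IsNondegenerateMDecomposition (polar Q) k D) :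
    AreIsometricFor Q (D 0) (D 1) ↔ (IsPlusTypeOn Q ⊤ ↔ IsSquare ((-1 : F) ^ M)) := by
  classical
  constructor
  · rintro ⟨e, he⟩
    have hD' : IsOrthogonalMDecomposition Q k D := by
      refine ⟨hD, ?_⟩
      intro i j
      fin_cases i <;> fin_cases j
      · exact ⟨LinearEquiv.refl F _, fun w => rfl⟩
      · exact ⟨e, he⟩
      · refine ⟨e.symm, fun w => ?_⟩
        have := he (e.symm w)
        rw [LinearEquiv.apply_symm_apply] at this
        exact this.symm
      · exact ⟨LinearEquiv.refl F _, fun w => rfl⟩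
    exact isPlusTypeOn_top_iff_of_even_decomposition Q hQ h2 hn D hD' ⟨1, rfl⟩
  · intro hiff
    let v : ∀ i, Basis (Fin k) F (D i) := fun i =>
      Module.finBasisOfFinrankEq F (D i) (hD.decomp.finrank_eq i)
    obtain ⟨b, hb, hG⟩ := exists_basis_gram_blockDiagonal Q D hD v
    have hcrit := isPlusTypeOn_top_iff_gram Q hQ h2 hn b
    have hsq : IsSquare (Matrix.of fun i j => polar Q (b i) (b j)).det := by
      by_cases hB : IsSquare ((-1 : F) ^ M)
      · exact (hcrit.mp (hiff.mpr hB)).mpr hB
      · by_contra hA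
        have hP : IsPlusTypeOn Q ⊤ := hcrit.mpr ⟨fun h => absurd h hA, fun h => absurd h hB⟩
        exact hB (hiff.mp hP)
    rw [hG, Matrix.det_blockDiagonal, Fin.prod_univ_two, ← disc_pieceForm Q hQ (D 0) (v 0),
      ← disc_pieceForm Q hQ (D 1) (v 1)] at hsq
    obtain ⟨g, hg⟩ := isometric_of_disc h2 (pieceForm Q hQ (D 0) (v 0)) (pieceForm Q hQ (D 1) (v 1))
      (qnd_pieceForm Q hQ (D 0) (v 0) (hD.nondegenerate 0))
      (qnd_pieceForm Q hQ (D 1) (v 1) (hD.nondegenerate 1)) hsq
    refine ⟨((v 0).equivFun.trans g).trans (v 1).equivFun.symm, fun w => ?_⟩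
    have h1 := hg ((v 0).equivFun w)
    rw [pieceForm_apply, pieceForm_apply, LinearEquiv.symm_apply_apply] at h1
    exact h1

include hQ in
/-- `n/2` odd (e.g. `n = 10`), odd characteristic: for a MINUS type form the two members of a
non-degenerate decomposition into two `k`-spaces are isometric iff `|F| ≡ 3 mod 4`; for a PLUS
type form iff `|F| ≡ 1 mod 4`. -/
theorem areIsometricFor_iff_of_pair_of_odd (h2 : (2 : F) ≠ 0) {M : ℕ} (hn : n = 2 * M)
    (hM : Odd M) {k : ℕ} (D : Fin 2 → Submodule F (Fin n → F))
    (hD : IsNondegenerateMDecomposition (polar Q) k D) :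
    AreIsometricFor Q (D 0) (D 1) ↔ (IsPlusTypeOn Q ⊤ ↔ Fintype.card F % 4 ≠ 3) := by
  rw [areIsometricFor_iff_of_pair Q hQ h2 hn D hD, isSquare_neg_one_pow_iff]
  have : (Even M ∨ Fintype.card F % 4 ≠ 3) ↔ Fintype.card F % 4 ≠ 3 := by
    constructor
    · rintro (h | h)
      · exact absurd h (Nat.not_even_iff_odd.mpr hM)
      · exact h
    · intro h; exact Or.inr h
  rw [this]

end Cfsg.Agent.Lib.Helper19.OEvenType
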