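import Mathlib
import Cfsg.Agent.Lib.Helper43.WittQuad

set_option autoImplicit false

/-! Keystone 597705 (K-OQF-M2) of helper72's pack for S5977: any two self-adjoint square roots of a
non-square `δ` are conjugate under an isometry. -/

namespace Cfsg.Agent.Lib.Helper19.OQF

open Module

section Plane

variable {F : Type*} [Field F] {V : Type*} [AddCommGroup V] [Module F V]
variable (Q : QuadraticForm F V)

theorem two_ne_zero_of_odd_card [Fintype F] (hodd : Odd (Fintype.card F)) : (2 : F) ≠ 0 := by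
  apply Ring.two_ne_zero
  intro h
  have h1 := FiniteField.even_card_iff_char_two.mp h
  have h2 := Nat.odd_iff.mp hodd
  omega

/-- `B (θ x) (θ y) = δ B x y` -/
theorem polar_theta_theta (δ : F) (θ : V →ₗ[F] V) (hθ : ∀ v, θ (θ v) = δ • v)
    (hsa : ∀ u v, QuadraticMap.polar (⇑Q) (θ u) v = QuadraticMap.polar (⇑Q) u (θ v)) (x y : V) :
    QuadraticMap.polar (⇑Q) (θ x) (θ y) = δ * QuadraticMap.polar (⇑Q) x y := by
  rw [hsa, hθ, QuadraticMap.polar_smul_right, smul_eq_mul]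

/-- `Q (θ x) = δ Q x` -/
theorem map_theta (h2 : (2 : F) ≠ 0) (δ : F) (θ : V →ₗ[F] V) (hθ : ∀ v, θ (θ v) = δ • v)
    (hsa : ∀ u v, QuadraticMap.polar (⇑Q) (θ u) v = QuadraticMap.polar (⇑Q) u (θ v)) (x : V) :
    Q (θ x) = δ * Q x := by
  have h := polar_theta_theta Q δ θ hθ hsa x x
  rw [QuadraticMap.polar_self, QuadraticMap.polar_self] at h
  simp only [nsmul_eq_mul, Nat.cast_ofNat] at h
  have : (2 : F) * Q (θ x) = 2 * (δ * Q x) := by rw [h]; ring
  exact mul_left_cancel₀ h2 this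

/-- the Gram determinant of `(u, θ u)` does not vanish -/
theorem gram_ne_zero (δ : F) (hδ : ¬ IsSquare δ) (a β : F) (ha : a ≠ 0) (h2 : (2 : F) ≠ 0) :
    4 * δ * a ^ 2 - β ^ 2 ≠ 0 := by
  intro h
  apply hδ
  refine ⟨β / (2 * a), ?_⟩
  field_simp
  linear_combination h

/-- the dimension is even -/
theorem even_finrank_of_theta [FiniteDimensional F V] (δ : F) (hδ : ¬ IsSquare δ) (θ : V →ₗ[F] V)
    (hθ : ∀ v, θ (θ v) = δ • v) : Even (finrank F V) := by
  by_contra hodd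
  rw [Nat.not_even_iff_odd] at hodd
  obtain ⟨k, hk⟩ := hodd
  have hδ0 : δ ≠ 0 := by
    rintro rfl
    exact hδ ⟨0, by simp⟩
  have h1 : θ * θ = δ • (1 : V →ₗ[F] V) := by
    apply LinearMap.ext
    intro v
    simp [hθ]
  have h2 := congrArg LinearMap.det h1
  rw [map_mul, LinearMap.det_smul, map_one, mul_one, hk] at h2
  apply hδ
  refine ⟨LinearMap.det θ / δ ^ k, ?_⟩
  field_simp
  rw [sq (LinearMap.det θ), h2]
  ring

/-- coordinates of the orthogonal projection onto the plane `span {u, θ u}` -/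
theorem exists_coords (h2 : (2 : F) ≠ 0) (δ : F) (hδ : ¬ IsSquare δ) (θ : V →ₗ[F] V)
    (hθ : ∀ v, θ (θ v) = δ • v)
    (hsa : ∀ u v, QuadraticMap.polar (⇑Q) (θ u) v = QuadraticMap.polar (⇑Q) u (θ v))
    (u : V) (hu : Q u ≠ 0) :
    ∃ c₁ c₂ : V →ₗ[F] F,
      (∀ v, QuadraticMap.polar (⇑Q) u (v - (c₁ v • u + c₂ v • θ u)) = 0 ∧
        QuadraticMap.polar (⇑Q) (θ u) (v - (c₁ v • u + c₂ v • θ u)) = 0) ∧
      (c₁ u = 1 ∧ c₂ u = 0 ∧ c₁ (θ u) = 0 ∧ c₂ (θ u) = 1) ∧
      (∀ w, QuadraticMap.polar (⇑Q) u w = 0 → QuadraticMap.polar (⇑Q) (θ u) w = 0 →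
        c₁ w = 0 ∧ c₂ w = 0) ∧
      (∀ v, c₁ (θ v) = δ * c₂ v ∧ c₂ (θ v) = c₁ v) := by
  set a := Q u with ha
  set β := QuadraticMap.polar (⇑Q) u (θ u) with hβ
  have hD : 4 * δ * a ^ 2 - β ^ 2 ≠ 0 := gram_ne_zero δ hδ a β hu h2
  set D := 4 * δ * a ^ 2 - β ^ 2 with hDdef
  have huu : QuadraticMap.polar (⇑Q) u u = 2 * a := by
    rw [QuadraticMap.polar_self]; simp [ha]
  have htu : QuadraticMap.polar (⇑Q) (θ u) u = β := by
    rw [QuadraticMap.polar_comm]
  have htt : QuadraticMap.polar (⇑Q) (θ u) (θ u) = 2 * δ * a := by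
    rw [polar_theta_theta Q δ θ hθ hsa, huu]; ring
  refine ⟨D⁻¹ • ((2 * δ * a) • QuadraticMap.polarBilin Q u - β • QuadraticMap.polarBilin Q (θ u)),
    D⁻¹ • ((2 * a) • QuadraticMap.polarBilin Q (θ u) - β • QuadraticMap.polarBilin Q u),
    ?_, ?_, ?_, ?_⟩
  · intro v
    simp only [LinearMap.smul_apply, LinearMap.sub_apply, QuadraticMap.polarBilin_apply_apply,
      smul_eq_mul, QuadraticMap.polar_sub_right, QuadraticMap.polar_add_right,
      QuadraticMap.polar_smul_right, huu, htu, htt, ← hβ]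
    constructor
    · field_simp
      rw [hDdef]
      ring
    · field_simp
      rw [hDdef]
      ring
  · simp only [LinearMap.smul_apply, LinearMap.sub_apply, QuadraticMap.polarBilin_apply_apply,
      smul_eq_mul, huu, htu, htt, ← hβ]
    refine ⟨?_, ?_, ?_, ?_⟩
    · field_simp
      rw [hDdef]
      ring
    · field_simp
      ring
    · field_simp
      ring
    · field_simp
      rw [hDdef]
      ring
  · intro w h1 h2'
    simp only [LinearMap.smul_apply, LinearMap.sub_apply, QuadraticMap.polarBilin_apply_apply,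
      smul_eq_mul, h1, h2']
    simp
  · intro v
    have e1 : QuadraticMap.polar (⇑Q) u (θ v) = QuadraticMap.polar (⇑Q) (θ u) v := (hsa u v).symm
    have e2 : QuadraticMap.polar (⇑Q) (θ u) (θ v) = δ * QuadraticMap.polar (⇑Q) u v :=
      polar_theta_theta Q δ θ hθ hsa u v
    simp only [LinearMap.smul_apply, LinearMap.sub_apply, QuadraticMap.polarBilin_apply_apply,
      smul_eq_mul, e1, e2]
    constructor
    · ring
    · ring

theorem exists_nonsingular [Nontrivial V]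
    (hQ : (QuadraticMap.polarBilin Q).Nondegenerate) : ∃ u, Q u ≠ 0 := by
  by_contra hcon
  push Not at hcon
  obtain ⟨v, hv⟩ := exists_ne (0 : V)
  apply hv
  apply hQ.1
  intro y
  rw [QuadraticMap.polarBilin_apply_apply, QuadraticMap.polar, hcon, hcon, hcon]
  simp

/-- `Q` on the plane `span {u, θ u}` -/
theorem map_plane (h2 : (2 : F) ≠ 0) (δ : F) (θ : V →ₗ[F] V) (hθ : ∀ v, θ (θ v) = δ • v)
    (hsa : ∀ u v, QuadraticMap.polar (⇑Q) (θ u) v = QuadraticMap.polar (⇑Q) u (θ v))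
    (u : V) (x y : F) :
    Q (x • u + y • θ u) =
      x * x * Q u + y * y * (δ * Q u) + x * y * QuadraticMap.polar (⇑Q) u (θ u) := by
  rw [QuadraticMap.map_add Q, QuadraticMap.map_smul, QuadraticMap.map_smul,
    QuadraticMap.polar_smul_left, QuadraticMap.polar_smul_right, map_theta Q h2 δ θ hθ hsa]
  simp only [smul_eq_mul]
  ring

/-- the Witt step: an isometry moving `(u, θ u)` to `(u', θ' u')` -/
theorem exists_g0 [FiniteDimensional F V] (h2 : (2 : F) ≠ 0)
    (hQ : (QuadraticMap.polarBilin Q).Nondegenerate) (δ : F) (hδ : ¬ IsSquare δ)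
    (θ θ' : V →ₗ[F] V) (hθ : ∀ v, θ (θ v) = δ • v) (hθ' : ∀ v, θ' (θ' v) = δ • v)
    (hsa : ∀ u v, QuadraticMap.polar (⇑Q) (θ u) v = QuadraticMap.polar (⇑Q) u (θ v))
    (hsa' : ∀ u v, QuadraticMap.polar (⇑Q) (θ' u) v = QuadraticMap.polar (⇑Q) u (θ' v))
    (u u' : V) (hu : Q u ≠ 0) (hQu : Q u' = Q u)
    (hβ : QuadraticMap.polar (⇑Q) u' (θ' u') = QuadraticMap.polar (⇑Q) u (θ u)) :
    ∃ g₀ : V ≃ₗ[F] V, (∀ v, Q (g₀ v) = Q v) ∧ g₀ u = u' ∧ g₀ (θ u) = θ' u' := by
  obtain ⟨c₁, c₂, -, ⟨hc1, hc2, hc3, hc4⟩, -, -⟩ := exists_coords Q h2 δ hδ θ hθ hsa u hu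
  obtain ⟨d₁, d₂, -, ⟨hd1, hd2, hd3, hd4⟩, -, -⟩ :=
    exists_coords Q h2 δ hδ θ' hθ' hsa' u' (by rw [hQu]; exact hu)
  set f : V →ₗ[F] V := c₁.smulRight u' + c₂.smulRight (θ' u') with hf
  have hfv : ∀ v, f v = c₁ v • u' + c₂ v • θ' u' := by
    intro v
    simp [hf]
  have hfp : ∀ x y : F, f (x • u + y • θ u) = x • u' + y • θ' u' := by
    intro x y
    rw [hfv, map_add, map_add, map_smul, map_smul, map_smul, map_smul, hc1, hc2, hc3, hc4]
    simp
  obtain ⟨g, hg1, hg2⟩ := Cfsg.Agent.Lib.Helper43.witt_quad_aux Q hQ _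
    (Submodule.span F {u, θ u}) rfl f
    (by
      intro p hp
      obtain ⟨x, y, rfl⟩ := Submodule.mem_span_pair.mp hp
      rw [hfp, map_plane Q h2 δ θ hθ hsa, map_plane Q h2 δ θ' hθ' hsa', hQu, hβ])
    (by
      intro p hp h0
      obtain ⟨x, y, rfl⟩ := Submodule.mem_span_pair.mp hp
      rw [hfp] at h0
      have e1 := congrArg d₁ h0
      have e2 := congrArg d₂ h0
      rw [map_add, map_smul, map_smul, hd1, hd3, map_zero] at e1
      rw [map_add, map_smul, map_smul, hd2, hd4, map_zero] at e2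
      simp only [smul_eq_mul, mul_one, mul_zero, add_zero, zero_add] at e1 e2
      rw [e1, e2]
      simp)
  refine ⟨g, hg1, ?_, ?_⟩
  · rw [hg2 u (Submodule.subset_span (by simp)), hfv, hc1, hc2]
    simp
  · rw [hg2 (θ u) (Submodule.subset_span (by simp)), hfv, hc3, hc4]
    simp

/-- the inductive step: split off the plane `span {u, θ u}` on which `θ` and `θ''` agree -/
theorem exists_g1 [FiniteDimensional F V] (h2 : (2 : F) ≠ 0)
    (hQ : (QuadraticMap.polarBilin Q).Nondegenerate) (δ : F) (hδ : ¬ IsSquare δ)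
    (θ θ'' : V →ₗ[F] V) (hθ : ∀ v, θ (θ v) = δ • v) (hθ'' : ∀ v, θ'' (θ'' v) = δ • v)
    (hsa : ∀ u v, QuadraticMap.polar (⇑Q) (θ u) v = QuadraticMap.polar (⇑Q) u (θ v))
    (hsa'' : ∀ u v, QuadraticMap.polar (⇑Q) (θ'' u) v = QuadraticMap.polar (⇑Q) u (θ'' v))
    (u : V) (hu : Q u ≠ 0) (hagree : θ'' u = θ u)
    (IH : ∀ W : Submodule F V, finrank F W < finrank F V → ∀ QW : QuadraticForm F W,
      (QuadraticMap.polarBilin QW).Nondegenerate → ∀ θ₁ θ₂ : W →ₗ[F] W,
      (∀ v, θ₁ (θ₁ v) = δ • v) → (∀ v, θ₂ (θ₂ v) = δ • v) →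
      (∀ a b, QuadraticMap.polar (⇑QW) (θ₁ a) b = QuadraticMap.polar (⇑QW) a (θ₁ b)) →
      (∀ a b, QuadraticMap.polar (⇑QW) (θ₂ a) b = QuadraticMap.polar (⇑QW) a (θ₂ b)) →
      ∃ g : W ≃ₗ[F] W, (∀ v, QW (g v) = QW v) ∧ ∀ v, g (θ₁ v) = θ₂ (g v)) :
    ∃ g₁ : V ≃ₗ[F] V, (∀ v, Q (g₁ v) = Q v) ∧ ∀ v, g₁ (θ v) = θ'' (g₁ v) := by
  obtain ⟨c₁, c₂, hperp, ⟨hc1, hc2, hc3, hc4⟩, hW0, hcθ⟩ := exists_coords Q h2 δ hδ θ hθ hsa u hu
  set W : Submodule F V :=
    LinearMap.ker (QuadraticMap.polarBilin Q u) ⊓ LinearMap.ker (QuadraticMap.polarBilin Q (θ u))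
    with hWdef
  have hmemW : ∀ w, w ∈ W ↔
      QuadraticMap.polar (⇑Q) u w = 0 ∧ QuadraticMap.polar (⇑Q) (θ u) w = 0 := by
    intro w
    rw [hWdef, Submodule.mem_inf, LinearMap.mem_ker, LinearMap.mem_ker,
      QuadraticMap.polarBilin_apply_apply, QuadraticMap.polarBilin_apply_apply]
  set π : V →ₗ[F] V := c₁.smulRight u + c₂.smulRight (θ u) with hπdef
  have hπ : ∀ v, π v = c₁ v • u + c₂ v • θ u := by
    intro v
    simp [hπdef]
  have hres : ∀ v, v - π v ∈ W := by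
    intro v
    rw [hmemW, hπ]
    exact hperp v
  have hθθ'' : θ'' (θ u) = δ • u := by rw [← hagree, hθ'']
  have hθW : ∀ w ∈ W, θ w ∈ W := by
    intro w hw
    rw [hmemW] at hw ⊢
    constructor
    · rw [← hsa, hw.2]
    · rw [polar_theta_theta Q δ θ hθ hsa, hw.1, mul_zero]
  have hθ''W : ∀ w ∈ W, θ'' w ∈ W := by
    intro w hw
    rw [hmemW] at hw ⊢
    constructor
    · rw [← hsa'', hagree, hw.2]
    · rw [← hsa'', hθθ'', QuadraticMap.polar_smul_left, hw.1, smul_zero]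
  have huW : u ∉ W := by
    intro h
    have := ((hmemW u).mp h).1
    rw [QuadraticMap.polar_self] at this
    simp only [nsmul_eq_mul, Nat.cast_ofNat] at this
    rcases mul_eq_zero.mp this with h' | h'
    · exact h2 h'
    · exact hu h'
  have hlt : finrank F W < finrank F V := by
    apply Submodule.finrank_lt
    intro htop
    apply huW
    rw [htop]
    exact Submodule.mem_top
  -- the restricted form
  set QW : QuadraticForm F W := Q.comp W.subtype with hQWdef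
  have hQW : ∀ w : W, QW w = Q (w : V) := by
    intro w
    rw [hQWdef, QuadraticMap.comp_apply]
    rfl
  have hpolW : ∀ a b : W, QuadraticMap.polar (⇑QW) a b = QuadraticMap.polar (⇑Q) (a : V) (b : V) := by
    intro a b
    simp only [QuadraticMap.polar, hQW, Submodule.coe_add]
  have hpolπ : ∀ v w, w ∈ W → QuadraticMap.polar (⇑Q) (π v) w = 0 := by
    intro v w hw
    rw [hmemW] at hw
    rw [hπ, QuadraticMap.polar_add_left, QuadraticMap.polar_smul_left,
      QuadraticMap.polar_smul_left, hw.1, hw.2]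
    simp
  have hsepL : ∀ x : W, (∀ y : W, QuadraticMap.polar (⇑QW) x y = 0) → x = 0 := by
    intro x hx
    apply Subtype.ext
    apply hQ.1
    intro v
    rw [QuadraticMap.polarBilin_apply_apply]
    have hv : v = π v + (v - π v) := by abel
    rw [hv, QuadraticMap.polar_add_right, QuadraticMap.polar_comm, hpolπ v x x.2, zero_add]
    have := hx ⟨v - π v, hres v⟩
    rw [hpolW] at this
    exact this
  have hQWnd : (QuadraticMap.polarBilin QW).Nondegenerate := by
    constructor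
    · intro x hx
      apply hsepL
      intro y
      have := hx y
      rwa [QuadraticMap.polarBilin_apply_apply] at this
    · intro y hy
      apply hsepL
      intro x
      have := hy x
      rwa [QuadraticMap.polarBilin_apply_apply, QuadraticMap.polar_comm] at this
  obtain ⟨gW, hgW1, hgW2⟩ := IH W hlt QW hQWnd (θ.restrict hθW) (θ''.restrict hθ''W)
    (by
      intro v
      apply Subtype.ext
      rw [LinearMap.coe_restrict_apply, LinearMap.coe_restrict_apply, hθ]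
      rfl)
    (by
      intro v
      apply Subtype.ext
      rw [LinearMap.coe_restrict_apply, LinearMap.coe_restrict_apply, hθ'']
      rfl)
    (by
      intro a b
      rw [hpolW, hpolW, LinearMap.coe_restrict_apply, LinearMap.coe_restrict_apply, hsa])
    (by
      intro a b
      rw [hpolW, hpolW, LinearMap.coe_restrict_apply, LinearMap.coe_restrict_apply, hsa''])
  -- the glued map
  set ρ : V →ₗ[F] W := (LinearMap.id - π).codRestrict W (by
    intro v
    rw [LinearMap.sub_apply, LinearMap.id_apply]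
    exact hres v) with hρdef
  have hρ : ∀ v, (ρ v : V) = v - π v := by
    intro v
    rw [hρdef, LinearMap.codRestrict_apply, LinearMap.sub_apply, LinearMap.id_apply]
  set g₁ : V →ₗ[F] V := π + W.subtype ∘ₗ (gW : W →ₗ[F] W) ∘ₗ ρ with hg₁def
  have hg₁ : ∀ v, g₁ v = π v + (gW (ρ v) : V) := by
    intro v
    simp [hg₁def]
  have hQsplit : ∀ v w, w ∈ W → Q (π v + w) = Q (π v) + Q w := by
    intro v w hw
    rw [QuadraticMap.map_add Q, hpolπ v w hw, add_zero]
  have hiso : ∀ v, Q (g₁ v) = Q v := by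
    intro v
    rw [hg₁, hQsplit v _ (gW (ρ v)).2, ← hQW, hgW1, hQW, hρ, ← hQsplit v _ (hres v)]
    congr 1
    abel
  have hπθ : ∀ v, π (θ v) = θ (π v) := by
    intro v
    rw [hπ, hπ, map_add, map_smul, map_smul, hθ, (hcθ v).1, (hcθ v).2, smul_smul, mul_comm δ,
      add_comm]
  have hρθ : ∀ v, ρ (θ v) = (θ.restrict hθW) (ρ v) := by
    intro v
    apply Subtype.ext
    rw [hρ, LinearMap.coe_restrict_apply, hρ, hπθ, map_sub]
  have hθ''π : ∀ v, θ'' (π v) = θ (π v) := by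
    intro v
    rw [hπ, map_add, map_add, map_smul, map_smul, map_smul, map_smul, hagree, hθθ'', hθ]
  have hint : ∀ v, g₁ (θ v) = θ'' (g₁ v) := by
    intro v
    rw [hg₁, hg₁, map_add, hρθ, hgW2, LinearMap.coe_restrict_apply, hθ''π, hπθ]
  have hinj : Function.Injective g₁ := Cfsg.Agent.Lib.Helper43.isometry_injective Q hQ g₁ hiso
  refine ⟨LinearEquiv.ofInjectiveEndo g₁ hinj, ?_, ?_⟩
  · intro v
    rw [LinearEquiv.coe_ofInjectiveEndo]
    exact hiso v
  · intro v
    rw [LinearEquiv.coe_ofInjectiveEndo]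
    exact hint v

end Plane

section Main

universe u v

/-- K-OQF-M2 with the two representation lemmas (keystone 597704) as hypotheses -/
theorem exists_isometry_intertwining_of {F : Type u} [Field F] [Fintype F]
    (hodd : Odd (Fintype.card F)) (δ : F) (hδ : ¬ IsSquare δ)
    (Hrep : ∀ (V : Type v) [AddCommGroup V] [Module F V] [FiniteDimensional F V]
      (Q : QuadraticForm F V), (QuadraticMap.polarBilin Q).Nondegenerate →
      ∀ θ : V →ₗ[F] V, (∀ v, θ (θ v) = δ • v) →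
      (∀ u v, QuadraticMap.polar (⇑Q) (θ u) v = QuadraticMap.polar (⇑Q) u (θ v)) →
      4 ≤ finrank F V → ∀ a β : F, ∃ u : V, Q u = a ∧ QuadraticMap.polar (⇑Q) u (θ u) = β)
    (Hplane : ∀ (V : Type v) [AddCommGroup V] [Module F V] [FiniteDimensional F V]
      (Q : QuadraticForm F V), (QuadraticMap.polarBilin Q).Nondegenerate →
      ∀ θ θ' : V →ₗ[F] V, (∀ v, θ (θ v) = δ • v) → (∀ v, θ' (θ' v) = δ • v) →
      (∀ u v, QuadraticMap.polar (⇑Q) (θ u) v = QuadraticMap.polar (⇑Q) u (θ v)) →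
      (∀ u v, QuadraticMap.polar (⇑Q) (θ' u) v = QuadraticMap.polar (⇑Q) u (θ' v)) →
      finrank F V = 2 → ∀ u : V, Q u ≠ 0 →
      ∃ u' : V, Q u' = Q u ∧
        QuadraticMap.polar (⇑Q) u' (θ' u') = QuadraticMap.polar (⇑Q) u (θ u)) :
    ∀ (n : ℕ) (V : Type v) [AddCommGroup V] [Module F V] [FiniteDimensional F V]
      (Q : QuadraticForm F V), (QuadraticMap.polarBilin Q).Nondegenerate →
      ∀ θ θ' : V →ₗ[F] V, (∀ v, θ (θ v) = δ • v) → (∀ v, θ' (θ' v) = δ • v) →
      (∀ u v, QuadraticMap.polar (⇑Q) (θ u) v = QuadraticMap.polar (⇑Q) u (θ v)) →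
      (∀ u v, QuadraticMap.polar (⇑Q) (θ' u) v = QuadraticMap.polar (⇑Q) u (θ' v)) →
      finrank F V = n →
      ∃ g : V ≃ₗ[F] V, (∀ v, Q (g v) = Q v) ∧ ∀ v, g (θ v) = θ' (g v) := by
  have h2 : (2 : F) ≠ 0 := two_ne_zero_of_odd_card hodd
  intro n
  induction n using Nat.strong_induction_on with
  | _ n ih =>
  intro V _ _ _ Q hQ θ θ' hθ hθ' hsa hsa' hn
  rcases Nat.eq_zero_or_pos n with h0 | hpos
  · -- trivial space
    rw [h0] at hn
    haveI : Subsingleton V := Module.finrank_zero_iff.mp hn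
    exact ⟨LinearEquiv.refl F V, fun v => by rw [Subsingleton.elim v 0]; simp,
      fun v => Subsingleton.elim _ _⟩
  · haveI : Nontrivial V := Module.nontrivial_of_finrank_pos (R := F) (by rw [hn]; exact hpos)
    obtain ⟨u, hu⟩ := exists_nonsingular Q hQ
    have heven : Even (finrank F V) := even_finrank_of_theta δ hδ θ hθ
    -- the matching vector for `θ'`
    obtain ⟨u', hu'1, hu'2⟩ : ∃ u' : V, Q u' = Q u ∧
        QuadraticMap.polar (⇑Q) u' (θ' u') = QuadraticMap.polar (⇑Q) u (θ u) := by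
      by_cases h4 : 4 ≤ finrank F V
      · exact Hrep V Q hQ θ' hθ' hsa' h4 _ _
      · have h2' : finrank F V = 2 := by
          obtain ⟨k, hk⟩ := heven
          omega
        exact Hplane V Q hQ θ θ' hθ hθ' hsa hsa' h2' u hu
    obtain ⟨g₀, hg₀Q, hg₀u, hg₀θ⟩ :=
      exists_g0 Q h2 hQ δ hδ θ θ' hθ hθ' hsa hsa' u u' hu hu'1 hu'2
    have hpol₀ : ∀ x y, QuadraticMap.polar (⇑Q) (g₀ x) (g₀ y) = QuadraticMap.polar (⇑Q) x y := by
      intro x y
      simp only [QuadraticMap.polar, ← map_add, hg₀Q]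
    -- the transported structure
    set θ'' : V →ₗ[F] V := (g₀.symm : V →ₗ[F] V) ∘ₗ θ' ∘ₗ (g₀ : V →ₗ[F] V) with hθ''def
    have hθ''v : ∀ v, θ'' v = g₀.symm (θ' (g₀ v)) := by
      intro v
      simp [hθ''def]
    have hθ''2 : ∀ v, θ'' (θ'' v) = δ • v := by
      intro v
      rw [hθ''v, hθ''v, LinearEquiv.apply_symm_apply, hθ', map_smul, LinearEquiv.symm_apply_apply]
    have hsa'' : ∀ x y, QuadraticMap.polar (⇑Q) (θ'' x) y = QuadraticMap.polar (⇑Q) x (θ'' y) := by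
      intro x y
      rw [← hpol₀ (θ'' x) y, ← hpol₀ x (θ'' y), hθ''v, hθ''v, LinearEquiv.apply_symm_apply,
        LinearEquiv.apply_symm_apply, hsa']
    have hagree : θ'' u = θ u := by
      rw [hθ''v, hg₀u, ← hg₀θ, LinearEquiv.symm_apply_apply]
    obtain ⟨g₁, hg₁Q, hg₁θ⟩ := exists_g1 Q h2 hQ δ hδ θ θ'' hθ hθ''2 hsa hsa'' u hu hagree
      (by
        intro W hlt QW hQW θ₁ θ₂ h1 h2'' h3 h4
        exact ih (finrank F W) (by rw [← hn]; exact hlt) W QW hQW θ₁ θ₂ h1 h2'' h3 h4 rfl)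
    refine ⟨g₁.trans g₀, ?_, ?_⟩
    · intro v
      rw [LinearEquiv.trans_apply, hg₀Q, hg₁Q]
    · intro v
      rw [LinearEquiv.trans_apply, LinearEquiv.trans_apply, hg₁θ, hθ''v,
        LinearEquiv.apply_symm_apply]

end Main

end Cfsg.Agent.Lib.Helper19.OQF
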