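import Mathlib
import Cfsg.Agent.Lib.Helper19.OQFM2

set_option autoImplicit false

/-! Keystone 597704 (K-OQF-REP), part 2, of helper72's pack for S5977: on a plane, two self-adjoint
square roots of a non-square `δ` represent the same values.  Elementary route (no quadratic
extension): `θ u = x u + y θ' u`, the Gram determinants differ by `y ^ 2`, and the wanted vector is
`s u + t θ' u` with `s ^ 2 + δ t ^ 2 = X`, `s t = Y`. -/

namespace Cfsg.Agent.Lib.Helper19.OQF

open Module

variable {F : Type*} [Field F]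

/-- the quotient of two nonsquares of a finite field is a square -/
theorem isSquare_div_of_nonsquares [Fintype F] {x y : F} (hx : ¬ IsSquare x) (hy : ¬ IsSquare y) :
    IsSquare (x / y) := by
  classical
  have hx0 : x ≠ 0 := fun h => hx (by rw [h]; exact IsSquare.zero)
  have hy0 : y ≠ 0 := fun h => hy (by rw [h]; exact IsSquare.zero)
  rw [← quadraticChar_one_iff_isSquare (div_ne_zero hx0 hy0), div_eq_mul_inv, map_mul,
    quadraticChar_neg_one_iff_not_isSquare.mpr hx]
  have hy1 : quadraticChar F y = -1 := quadraticChar_neg_one_iff_not_isSquare.mpr hy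
  have hyi : quadraticChar F y⁻¹ = -1 := by
    have h1 : quadraticChar F y * quadraticChar F y⁻¹ = 1 := by
      rw [← map_mul, mul_inv_cancel₀ hy0, map_one]
    rw [hy1] at h1
    linarith
  rw [hyi]
  norm_num

/-- solving `(s + t ω) ^ 2 = X + 2 Y ω`, `ω ^ 2 = δ`, when the norm of the right side is a square -/
theorem exists_sqrt_pair [Fintype F] (h2 : (2 : F) ≠ 0) (δ : F) (hδ : ¬ IsSquare δ) (X Y c : F)
    (hc : X ^ 2 - 4 * δ * Y ^ 2 = c ^ 2) (hX : Y = 0 → X ≠ 0) :
    ∃ s t : F, s ^ 2 + δ * t ^ 2 = X ∧ s * t = Y := by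
  have hδ0 : δ ≠ 0 := fun h => hδ (by rw [h]; exact IsSquare.zero)
  by_cases hY : Y = 0
  · have hX0 := hX hY
    by_cases hsq : IsSquare X
    · obtain ⟨s, hs⟩ := hsq
      exact ⟨s, 0, by rw [hs]; ring, by rw [hY]; ring⟩
    · obtain ⟨t, ht⟩ := isSquare_div_of_nonsquares hsq hδ
      refine ⟨0, t, ?_, by rw [hY]; ring⟩
      have : X = δ * (t * t) := by rw [← ht]; field_simp
      rw [this]
      ring
  · obtain ⟨A, A', hsum, hAA⟩ : ∃ A A' : F, A + A' = X ∧ A * A' = δ * Y ^ 2 := by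
      refine ⟨(X + c) / 2, (X - c) / 2, ?_, ?_⟩
      · field_simp
        ring
      · field_simp
        linear_combination hc
    have hA0 : A ≠ 0 := by
      intro h
      rw [h, zero_mul] at hAA
      rcases mul_eq_zero.mp hAA.symm with h' | h'
      · exact hδ0 h'
      · exact hY (pow_eq_zero_iff (two_ne_zero) |>.mp h')
    by_cases hsq : IsSquare A
    · obtain ⟨s, hs⟩ := hsq
      have hs0 : s ≠ 0 := by
        rintro rfl
        rw [mul_zero] at hs
        exact hA0 hs
      refine ⟨s, Y / s, ?_, by field_simp⟩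
      have h1 : δ * (Y / s) ^ 2 = A' := by
        rw [div_pow, sq s, ← hs, ← mul_div_assoc, ← hAA, mul_div_cancel_left₀ _ hA0]
      rw [h1, sq, ← hs, hsum]
    · obtain ⟨t, ht⟩ := isSquare_div_of_nonsquares hsq hδ
      have hA : A = δ * (t * t) := by rw [← ht]; field_simp
      have ht0 : t ≠ 0 := by
        rintro rfl
        rw [mul_zero, mul_zero] at hA
        exact hA0 hA
      refine ⟨Y / t, t, ?_, by field_simp⟩
      have h1 : (Y / t) ^ 2 = A' := by
        have h3 : δ * ((t * t) * A') = δ * Y ^ 2 := by rw [← mul_assoc, ← hA, hAA]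
        have h4 : (t * t) * A' = Y ^ 2 := mul_left_cancel₀ hδ0 h3
        rw [div_pow, ← h4, sq t, mul_div_cancel_left₀ _ (mul_ne_zero ht0 ht0)]
      rw [h1, sq t, ← hA, add_comm, hsum]

/-- K-OQF-REP (597704), part 2 -/
theorem exists_rep_plane {V : Type*} [AddCommGroup V] [Module F V] [FiniteDimensional F V]
    [Fintype F] (hodd : Odd (Fintype.card F)) (Q : QuadraticForm F V)
    (hQ : (QuadraticMap.polarBilin Q).Nondegenerate)
    (δ : F) (hδ : ¬ IsSquare δ) (θ θ' : V →ₗ[F] V) (hθ : ∀ v, θ (θ v) = δ • v)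
    (hθ' : ∀ v, θ' (θ' v) = δ • v)
    (hsa : ∀ u v, QuadraticMap.polar (⇑Q) (θ u) v = QuadraticMap.polar (⇑Q) u (θ v))
    (hsa' : ∀ u v, QuadraticMap.polar (⇑Q) (θ' u) v = QuadraticMap.polar (⇑Q) u (θ' v))
    (hdim : Module.finrank F V = 2) (u : V) (hu : Q u ≠ 0) :
    ∃ u' : V, Q u' = Q u ∧
      QuadraticMap.polar (⇑Q) u' (θ' u') = QuadraticMap.polar (⇑Q) u (θ u) := by
  have h2 : (2 : F) ≠ 0 := two_ne_zero_of_odd_card hodd
  have hδ0 : δ ≠ 0 := fun h => hδ (by rw [h]; exact IsSquare.zero)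
  have hu0 : u ≠ 0 := by
    rintro rfl
    exact hu (map_zero Q)
  -- `θ u` in the basis `(u, θ' u)`
  obtain ⟨d₁, d₂, -, ⟨hd1, hd2, hd3, hd4⟩, -, -⟩ := exists_coords Q h2 δ hδ θ' hθ' hsa' u hu
  have hli : LinearIndependent F ![u, θ' u] := by
    rw [LinearIndependent.pair_iff]
    intro s t h0
    have e1 := congrArg d₁ h0
    have e2 := congrArg d₂ h0
    rw [map_add, map_smul, map_smul, hd1, hd3, map_zero] at e1
    rw [map_add, map_smul, map_smul, hd2, hd4, map_zero] at e2
    simp only [smul_eq_mul, mul_one, mul_zero, add_zero, zero_add] at e1 e2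
    exact ⟨e1, e2⟩
  have hspan : Submodule.span F (Set.range ![u, θ' u]) = ⊤ :=
    hli.span_eq_top_of_card_eq_finrank' (by rw [hdim]; simp)
  obtain ⟨x, y, hxy⟩ : ∃ x y : F, θ u = x • u + y • θ' u := by
    have hmem : θ u ∈ Submodule.span F (Set.range ![u, θ' u]) := by
      rw [hspan]
      exact Submodule.mem_top
    obtain ⟨c, hc⟩ := (Submodule.mem_span_range_iff_exists_fun F).mp hmem
    rw [Fin.sum_univ_two] at hc
    exact ⟨c 0, c 1, by rw [← hc]; simp⟩
  -- the relations
  set a := Q u with ha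
  set β := QuadraticMap.polar (⇑Q) u (θ u) with hβ
  set β' := QuadraticMap.polar (⇑Q) u (θ' u) with hβ'
  have huu : QuadraticMap.polar (⇑Q) u u = 2 * a := by
    rw [QuadraticMap.polar_self]; simp [ha]
  have htt' : QuadraticMap.polar (⇑Q) (θ' u) (θ' u) = 2 * δ * a := by
    rw [polar_theta_theta Q δ θ' hθ' hsa', huu]; ring
  have htu' : QuadraticMap.polar (⇑Q) (θ' u) u = β' := by
    rw [QuadraticMap.polar_comm]
  have R1 : β = 2 * a * x + y * β' := by
    rw [hβ, hxy, QuadraticMap.polar_add_right, QuadraticMap.polar_smul_right,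
      QuadraticMap.polar_smul_right, huu, ← hβ']
    simp only [smul_eq_mul]
    ring
  have R2 : δ * a = x * x * a + y * y * (δ * a) + x * y * β' := by
    have e1 := map_theta Q h2 δ θ hθ hsa u
    rw [hxy, map_plane Q h2 δ θ' hθ' hsa'] at e1
    exact e1.symm
  have hD' : 4 * δ * a ^ 2 - β' ^ 2 ≠ 0 := gram_ne_zero δ hδ a β' hu h2
  have hy0 : y ≠ 0 := by
    rintro rfl
    rw [zero_smul, add_zero] at hxy
    have h1 : θ (θ u) = (x * x) • u := by rw [hxy, map_smul, hxy, smul_smul]
    rw [hθ] at h1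
    have h3 : (δ - x * x) • u = 0 := by rw [sub_smul, h1, sub_self]
    rcases smul_eq_zero.mp h3 with h4 | h4
    · exact hδ ⟨x, sub_eq_zero.mp h4⟩
    · exact hu0 h4
  set D' := 4 * δ * a ^ 2 - β' ^ 2 with hD'def
  -- the linear system
  have hnorm : ((4 * a ^ 2 * δ - β' * β) / D') ^ 2 - 4 * δ * (a * (β - β') / D') ^ 2 = y ^ 2 := by
    rw [div_pow, div_pow, mul_div_assoc', div_sub_div_same, div_eq_iff (pow_ne_zero 2 hD')]
    rw [R1, hD'def]
    linear_combination (4 * a * (4 * δ * a ^ 2 - β' ^ 2)) * R2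
  obtain ⟨s, t, hst1, hst2⟩ := exists_sqrt_pair h2 δ hδ _ _ y hnorm (by
    intro hY0 hX0
    rw [hY0, hX0] at hnorm
    apply hy0
    have : y ^ 2 = 0 := by rw [← hnorm]; ring
    exact pow_eq_zero_iff (two_ne_zero) |>.mp this)
  refine ⟨s • u + t • θ' u, ?_, ?_⟩
  · rw [map_plane Q h2 δ θ' hθ' hsa', ← ha, ← hβ']
    have : s * s * a + t * t * (δ * a) + s * t * β' = a * (s ^ 2 + δ * t ^ 2) + β' * (s * t) := by
      ring
    rw [this, hst1, hst2]
    field_simp
    rw [hD'def]
    ring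
  · have e0 : QuadraticMap.polar (⇑Q) (s • u + t • θ' u) (θ' (s • u + t • θ' u)) =
        β' * (s ^ 2 + δ * t ^ 2) + 4 * a * δ * (s * t) := by
      simp only [map_add, map_smul, hθ', QuadraticMap.polar_add_left, QuadraticMap.polar_add_right,
        QuadraticMap.polar_smul_left, QuadraticMap.polar_smul_right, huu, htt', htu', ← hβ',
        smul_eq_mul]
      ring
    rw [e0, hst1, hst2]
    field_simp
    rw [hD'def]
    ring

end Cfsg.Agent.Lib.Helper19.OQF
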