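import Mathlib
import Cfsg.Agent.Lib.Helper19.OQFM2
import Cfsg.Agent.Lib.Helper19.OQFREP2
import Cfsg.Agent.Lib.Helper74.OQFREP1

set_option autoImplicit false

/-! Keystone 597705 (K-OQF-M2) of helper72's pack for S5977, exact signature: any two self-adjoint
square roots of a non-square `δ` are conjugate under an isometry. -/

namespace Cfsg.Agent.Lib.Helper19.OQF

variable {F : Type*} [Field F]

theorem exists_isometry_intertwining {V : Type*} [AddCommGroup V] [Module F V]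
    [FiniteDimensional F V] [Fintype F]
    (hodd : Odd (Fintype.card F)) (Q : QuadraticForm F V)
    (hQ : (QuadraticMap.polarBilin Q).Nondegenerate)
    (δ : F) (hδ : ¬ IsSquare δ) (θ θ' : V →ₗ[F] V) (hθ : ∀ v, θ (θ v) = δ • v)
    (hθ' : ∀ v, θ' (θ' v) = δ • v)
    (hsa : ∀ u v, QuadraticMap.polar (⇑Q) (θ u) v = QuadraticMap.polar (⇑Q) u (θ v))
    (hsa' : ∀ u v, QuadraticMap.polar (⇑Q) (θ' u) v = QuadraticMap.polar (⇑Q) u (θ' v)) :
    ∃ g : V ≃ₗ[F] V, (∀ v, Q (g v) = Q v) ∧ ∀ v, g (θ v) = θ' (g v) :=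
  exists_isometry_intertwining_of hodd δ hδ
    (fun _ _ _ _ Q hQ θ hθ hsa hdim a β =>
      Cfsg.Agent.Lib.Helper74.OQF.exists_rep hodd Q hQ δ hδ θ hθ hsa hdim a β)
    (fun _ _ _ _ Q hQ θ θ' hθ hθ' hsa hsa' hdim u hu =>
      exists_rep_plane hodd Q hQ δ hδ θ θ' hθ hθ' hsa hsa' hdim u hu)
    (Module.finrank F V) V Q hQ θ θ' hθ hθ' hsa hsa' rfl

end Cfsg.Agent.Lib.Helper19.OQF
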