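import Cfsg.Agent.Lib.Helper50.TypeCriteria
import Cfsg.Agent.Lib.Helper50.WittMain
import Cfsg.Agent.Lib.Helper50.GeoBridge
import Cfsg.Agent.Lib.Helper50.SpinorCrit
import Cfsg.Agent.Lib.Helper08.GOOdd

set_option autoImplicit false
set_option linter.unusedSectionVars false
set_option linter.unusedVariables false

/-! Keystone 597215 (K-OsEl-N) of helper8's pack for S5972: involutions of `Ω(Q)`, `q` odd: the
`(-1)`-eigenspace has even dimension and, when `-1` is a square, is of plus type. -/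

namespace Cfsg.Agent.Lib.Helper19.OsEl

open Module Matrix QuadraticMap Cfsg.Agent.Lib.Helper50 Cfsg.Agent.Lib.Helper19

universe u

section generic

variable {F : Type u} [Field F] {ι : Type} [Fintype ι] [DecidableEq ι]
variable (Q : QuadraticForm F (ι → F))

theorem polar_list_sum_eq_zero (v : ι → F) (l : List (ι → F)) (c : (ι → F) → F)
    (h : ∀ u ∈ l, polar (⇑Q) v u = 0) :
    polar (⇑Q) v (l.map (fun u => c u • u)).sum = 0 := by
  induction l with
  | nil => simp
  | cons u l ih =>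
    rw [List.map_cons, List.sum_cons, polar_add_right, polar_smul_right,
      h u (List.mem_cons_self), ih (fun w hw => h w (List.mem_cons_of_mem _ hw))]
    simp

/-- the product of the reflections in pairwise orthogonal vectors -/
theorem prod_reflection_mulVec (l : List (ι → F))
    (hp : l.Pairwise (fun u v => polar (⇑Q) u v = 0)) (w : ι → F) :
    (l.map (fun v => Cfsg.reflectionMatrix (⇑Q) v)).prod *ᵥ w =
      w - (l.map (fun v => ((Q v)⁻¹ * polar (⇑Q) v w) • v)).sum := by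
  induction l with
  | nil => simp
  | cons v l ih =>
    rw [List.pairwise_cons] at hp
    rw [List.map_cons, List.prod_cons, ← Matrix.mulVec_mulVec, ih hp.2, List.map_cons,
      List.sum_cons, reflectionMatrix_mulVec, polar_sub_right,
      polar_list_sum_eq_zero Q v l _ hp.1, sub_zero]
    abel

/-- the `(-1)`-eigenspace of an isometric involution is nondegenerate -/
theorem neg_eigenspace_nondeg (h2 : (2 : F) ≠ 0) (hQ : (polarBilin Q).Nondegenerate)
    (A : Matrix ι ι F) (hA : ∀ v, Q (A *ᵥ v) = Q v) (hAA : A * A = 1)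
    (u : ι → F) (hu : A *ᵥ u = -u)
    (h : ∀ k : ι → F, A *ᵥ k = -k → polar (⇑Q) u k = 0) : u = 0 := by
  apply hQ.1 u
  intro w
  rw [polarBilin_apply_apply]
  have h1 : polar (⇑Q) u (w - A *ᵥ w) = 0 := by
    apply h
    rw [Matrix.mulVec_sub, Matrix.mulVec_mulVec, hAA, Matrix.one_mulVec]
    abel
  have h3 : polar (⇑Q) u (A *ᵥ w) = -polar (⇑Q) u w := by
    have := polar_mulVec_isometry Q A hA u (A *ᵥ w)
    rw [Matrix.mulVec_mulVec, hAA, Matrix.one_mulVec, hu, polar_neg_left] at this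
    exact this.symm
  rw [polar_sub_right, h3] at h1
  have h4 : (2 : F) * polar (⇑Q) u w = 0 := by linear_combination h1
  rcases mul_eq_zero.mp h4 with h | h
  · exact absurd h h2
  · exact h

set_option maxHeartbeats 1600000 in
/-- involutions of `Ω(Q)`: spinor norm data of the `(-1)`-eigenspace -/
theorem involution_data [Fintype F] (h2 : (2 : F) ≠ 0) (hQ : (polarBilin Q).Nondegenerate)
    (g : ↥(Cfsg.isometryGroup F ⇑Q)) (hg : g ∈ Cfsg.Omega F ⇑Q)
    (hgg : ((g : GL ι F) : Matrix ι ι F) * ((g : GL ι F) : Matrix ι ι F) = 1) :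
    Even (finrank F (LinearMap.ker (Matrix.toLin' ((g : GL ι F) : Matrix ι ι F) + 1))) ∧
    (IsSquare (-1 : F) →
      ∃ X : Submodule F (ι → F),
        X ≤ LinearMap.ker (Matrix.toLin' ((g : GL ι F) : Matrix ι ι F) + 1) ∧
        (∀ w ∈ X, Q w = 0) ∧
        2 * finrank F X =
          finrank F (LinearMap.ker (Matrix.toLin' ((g : GL ι F) : Matrix ι ι F) + 1))) := by
  classical
  obtain ⟨A, hAdef⟩ : ∃ A : Matrix ι ι F, A = ((g : GL ι F) : Matrix ι ι F) := ⟨_, rfl⟩
  rw [← hAdef] at hgg ⊢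
  have hA : ∀ v, Q (A *ᵥ v) = Q v := by
    intro v; rw [hAdef]; exact O_isometry (⇑Q) g v
  obtain ⟨K, hK⟩ : ∃ K : Submodule F (ι → F), K = LinearMap.ker (Matrix.toLin' A + 1) := ⟨_, rfl⟩
  rw [← hK]
  have hmemK : ∀ v, v ∈ K ↔ A *ᵥ v = -v := by
    intro v
    rw [hK, LinearMap.mem_ker, LinearMap.add_apply, Matrix.toLin'_apply, Module.End.one_apply,
      add_eq_zero_iff_eq_neg]
  have hinv : Invertible (2 : F) := invertibleOfNonzero h2
  -- the restricted form
  obtain ⟨B, hB⟩ : ∃ B : LinearMap.BilinForm F ↥K, B = LinearMap.BilinForm.restrict (polarBilin Q) K := ⟨_, rfl⟩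
  have hBapp : ∀ x y : ↥K, B x y = polar (⇑Q) (x : ι → F) (y : ι → F) := by
    intro x y; rw [hB]; rfl
  have hBs : LinearMap.IsSymm B := by
    refine ⟨fun x y => ?_⟩
    rw [hBapp, hBapp, polar_comm]
    rfl
  obtain ⟨b, hb⟩ := LinearMap.BilinForm.exists_orthogonal_basis hBs
  rw [LinearMap.isOrthoᵢ_def] at hb
  obtain ⟨v, hv⟩ : ∃ v : Fin (finrank F ↥K) → (ι → F), v = fun i => ((b i : ↥K) : ι → F) :=
    ⟨_, rfl⟩
  have hvK : ∀ i, A *ᵥ v i = -v i := by
    intro i; rw [hv]; exact (hmemK _).mp (b i).2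
  have hvo : ∀ i j, i ≠ j → polar (⇑Q) (v i) (v j) = 0 := by
    intro i j hij
    rw [hv]
    show polar (⇑Q) ((b i : ↥K) : ι → F) ((b j : ↥K) : ι → F) = 0
    rw [← hBapp]; exact hb i j hij
  have hsum : ∀ z : ↥K, (z : ι → F) = ∑ i, b.repr z i • v i := by
    intro z
    conv_lhs => rw [← b.sum_repr z]
    rw [Submodule.coe_sum, hv]
    rfl
  have hexp : ∀ (z : ↥K) (j : Fin (finrank F ↥K)),
      polar (⇑Q) (v j) (z : ι → F) = b.repr z j * (2 * Q (v j)) := by
    intro z j
    rw [hsum z, ← polarBilin_apply_apply, map_sum, Finset.sum_eq_single j]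
    · rw [map_smul, smul_eq_mul, polarBilin_apply_apply, polar_self]
      simp
    · intro i _ hij
      rw [map_smul, polarBilin_apply_apply, hvo j i hij.symm, smul_zero]
    · intro h; exact absurd (Finset.mem_univ j) h
  have hQv : ∀ i, Q (v i) ≠ 0 := by
    intro i h0
    have h1 : v i = 0 := by
      apply neg_eigenspace_nondeg Q h2 hQ A hA hgg (v i) (hvK i)
      intro k hk
      have := hexp ⟨k, (hmemK k).mpr hk⟩ i
      rw [h0] at this
      simpa using this
    apply b.ne_zero i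
    apply Subtype.ext
    rw [hv] at h1
    exact h1
  have hanti : ∀ (j : Fin (finrank F ↥K)) (w : ι → F),
      polar (⇑Q) (v j) (A *ᵥ w) = -polar (⇑Q) (v j) w := by
    intro j w
    have := polar_mulVec_isometry Q A hA (v j) (A *ᵥ w)
    rw [Matrix.mulVec_mulVec, hgg, Matrix.one_mulVec, hvK j, polar_neg_left] at this
    exact this.symm
  have hAw : ∀ w, A *ᵥ w = w - ∑ i, ((Q (v i))⁻¹ * polar (⇑Q) (v i) w) • v i := by
    intro w
    have hz : w - A *ᵥ w ∈ K := by
      rw [hmemK, Matrix.mulVec_sub, Matrix.mulVec_mulVec, hgg, Matrix.one_mulVec]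
      abel
    have hc : ∀ j, b.repr ⟨_, hz⟩ j = (Q (v j))⁻¹ * polar (⇑Q) (v j) w := by
      intro j
      have h3 := hexp ⟨_, hz⟩ j
      simp only [polar_sub_right, hanti] at h3
      have hq := hQv j
      field_simp
      have h4 : (2 : F) * (b.repr ⟨_, hz⟩ j * Q (v j) - polar (⇑Q) (v j) w) = 0 := by
        linear_combination -h3
      rcases mul_eq_zero.mp h4 with h | h
      · exact absurd h h2
      · linear_combination h
    have h5 := hsum ⟨_, hz⟩
    simp only [hc] at h5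
    rw [← h5]
    abel
  have hpair : (List.ofFn v).Pairwise (fun u w => polar (⇑Q) u w = 0) := by
    rw [List.pairwise_ofFn]
    intro i j hij
    exact hvo i j hij.ne
  have hvs : ∀ u ∈ List.ofFn v, Q u ≠ 0 := by
    intro u hu
    rw [List.mem_ofFn] at hu
    obtain ⟨i, rfl⟩ := hu
    exact hQv i
  have hval : A = ((List.ofFn v).map (fun u => Cfsg.reflectionMatrix (⇑Q) u)).prod := by
    apply Matrix.toLin'.injective
    apply LinearMap.ext
    intro w
    rw [Matrix.toLin'_apply, Matrix.toLin'_apply, prod_reflection_mulVec Q _ hpair w, hAw w,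
      List.map_ofFn, List.sum_ofFn]
    rfl
  have hcrit := (spinor_criterion h2 Q g (List.ofFn v) hvs (by rw [← hAdef]; exact hval)).mp hg
  rw [List.length_ofFn] at hcrit
  refine ⟨hcrit.1, ?_⟩
  intro hm1
  obtain ⟨Qk, hQk⟩ : ∃ Qk : QuadraticForm F ↥K, Qk = Q.comp K.subtype := ⟨_, rfl⟩
  have hQkapp : ∀ x : ↥K, Qk x = Q (x : ι → F) := by intro x; rw [hQk]; rfl
  have hQkpol : ∀ x y : ↥K, polar (⇑Qk) x y = polar (⇑Q) (x : ι → F) (y : ι → F) := by
    intro x y
    simp only [polar, hQkapp]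
    rfl
  have hQND : QND Qk := by
    intro x hx
    apply Subtype.ext
    apply neg_eigenspace_nondeg Q h2 hQ A hA hgg (x : ι → F) ((hmemK _).mp x.2)
    intro k hk
    have := hx ⟨k, (hmemK k).mpr hk⟩
    rw [hQkpol] at this
    exact this
  have hvi : ∀ i, ((b i : ↥K) : ι → F) = v i := by intro i; rw [hv]
  have hgram : (Matrix.of fun i j => polar (⇑Qk) (b i) (b j)) =
      Matrix.diagonal (fun i => 2 * Q (v i)) := by
    ext i j
    rw [Matrix.of_apply, hQkpol, hvi, hvi]
    by_cases hij : i = j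
    · subst hij
      rw [Matrix.diagonal_apply_eq, polar_self]
      simp
    · rw [Matrix.diagonal_apply_ne _ hij]
      exact hvo i j hij
  have hdet : IsSquare (Matrix.of fun i j => polar (⇑Qk) (b i) (b j)).det := by
    rw [hgram, Matrix.det_diagonal, Finset.prod_mul_distrib, Finset.prod_const, Finset.card_univ,
      Fintype.card_fin]
    obtain ⟨k, hk⟩ := hcrit.1
    obtain ⟨s, hs⟩ := hcrit.2
    rw [List.map_ofFn, List.prod_ofFn] at hs
    have h2k : (2 : F) ^ finrank F ↥K = 2 ^ k * 2 ^ k := by rw [← pow_add, ← hk]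
    refine ⟨2 ^ k * s, ?_⟩
    rw [h2k]
    have hs' : ∏ i, Q (v i) = s * s := hs
    rw [hs']
    ring
  rcases witt_type (finrank F ↥K) Qk rfl hQND with
    ⟨m, hm, hp⟩ | ⟨m, ζ, hm, hζ, hmin⟩ | ⟨m, c, hm, -, -⟩
  · obtain ⟨X', hX', hX'0⟩ := exists_totally_singular_of_plusType Qk m hp
    refine ⟨X'.map K.subtype, Submodule.map_subtype_le K X', ?_, ?_⟩
    · rintro w ⟨x, hx, rfl⟩
      have := hX'0 x hx
      rw [hQkapp] at this
      exact this
    · rw [Submodule.finrank_map_subtype_eq, hX']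
      exact hm.symm
  · exfalso
    have h1 := (gram_isSquare_minus h2 Qk m ζ hζ hmin b).mp hdet
    exact h1 (hm1.pow (m + 1))
  · exfalso
    obtain ⟨k, hk⟩ := hcrit.1
    omega

end generic

section leaf

variable {F : Type u} [Field F]

/-- K-OsEl-N: involutions of `Ω_{2d+1}(q)`, `q` odd. -/
theorem omega_involution_data [Fintype F] (hodd : Odd (Fintype.card F)) (d : ℕ) (hd : 3 ≤ d)
    (x : Matrix.GeneralLinearGroup (Unit ⊕ (Fin d ⊕ Fin d)) F)
    (hx : x ∈ Cfsg.Geo.omegaGL (Cfsg.quadFormOdd d F)) (hx2 : x * x = 1) :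
    Even (finrank F (LinearMap.ker
      (Matrix.toLin' (x : Matrix (Unit ⊕ (Fin d ⊕ Fin d)) (Unit ⊕ (Fin d ⊕ Fin d)) F) + 1))) ∧
    (Fintype.card F % 4 = 1 →
      ∃ X : Submodule F (Unit ⊕ (Fin d ⊕ Fin d) → F),
        X ≤ LinearMap.ker
          (Matrix.toLin' (x : Matrix (Unit ⊕ (Fin d ⊕ Fin d)) (Unit ⊕ (Fin d ⊕ Fin d)) F) + 1) ∧
        (∀ w ∈ X, Cfsg.quadFormOdd d F w = 0) ∧
        2 * finrank F X = finrank F (LinearMap.ker
          (Matrix.toLin' (x : Matrix (Unit ⊕ (Fin d ⊕ Fin d)) (Unit ⊕ (Fin d ⊕ Fin d)) F) + 1))) := by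
  have h2 : (2 : F) ≠ 0 := two_ne_zero_of_odd_card rfl hodd
  obtain ⟨h, hΩ⟩ := (mem_omegaGL_iff _ x).mp hx
  have hgg : (x : Matrix (Unit ⊕ (Fin d ⊕ Fin d)) (Unit ⊕ (Fin d ⊕ Fin d)) F) *
      (x : Matrix (Unit ⊕ (Fin d ⊕ Fin d)) (Unit ⊕ (Fin d ⊕ Fin d)) F) = 1 := by
    rw [← Units.val_mul, hx2, Units.val_one]
  have key := involution_data (Cfsg.Agent.Lib.Helper08.qdataOdd d h2).qf h2
    (Cfsg.Agent.Lib.Helper08.qdataOdd d h2).qf_nondeg ⟨x, h⟩ hΩ hgg
  refine ⟨key.1, fun h1 => ?_⟩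
  apply key.2
  rw [FiniteField.isSquare_neg_one_iff]
  omega

end leaf

end Cfsg.Agent.Lib.Helper19.OsEl
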