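import Cfsg.Agent.Lib.Helper07.OrthTd
import Cfsg.Agent.Lib.Helper50.PlusKer
import Cfsg.Agent.Lib.Helper19.S2716T

set_option autoImplicit false
set_option linter.unusedSimpArgs false
set_option linter.unusedVariables false
set_option linter.unusedSectionVars false

/-! Keystone K-S2717-U7: spinor norms die in an extension in which every element of the small
field becomes a square. -/

namespace Cfsg.Agent.Lib.Helper19.S2717K

open Matrix Cfsg.Agent.Lib.Helper08 Cfsg.Agent.Lib.Helper07.OG Cfsg.Agent.Lib.Helper50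
open Cfsg.Agent.Lib.Helper51.POAut

universe u v

section U_7

variable {F₀ : Type v} {F : Type u} [Field F₀] [Fintype F₀] [Field F] [Fintype F]
  {ι : Type} [Fintype ι] [DecidableEq ι]
variable (Q₀ : QuadraticForm F₀ (ι → F₀)) (Q : QuadraticForm F (ι → F)) {j : F₀ →+* F}

theorem isSquare_list_prod_of_forall {R : Type*} [CommMonoid R] (l : List R)
    (h : ∀ x ∈ l, IsSquare x) : IsSquare l.prod := by
  induction l with
  | nil => simp
  | cons a t ih =>
    rw [List.prod_cons]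
    exact (h a List.mem_cons_self).mul (ih (fun x hx => h x (List.mem_cons_of_mem _ hx)))

/-- K-S2717-U7 (odd characteristic): if every element of `F₀` becomes a square in `F`, the base
change of an element of `SO(Q₀)` lies in `Ω(Q)`. -/
theorem bc_SO_mem_Omega (h2 : (2 : F) ≠ 0) (hQ₀ : (QuadraticMap.polarBilin Q₀).Nondegenerate)
    (hι : 5 ≤ Fintype.card ι) (hc : Compat Q₀ Q j) (hsq : ∀ c : F₀, IsSquare (j c))
    (s₀ : ↥(Cfsg.isometryGroup F₀ ⇑Q₀))
    (hs₀ : ((s₀ : GL ι F₀) : Matrix ι ι F₀).det = 1) :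
    ∃ ω : ↥(Cfsg.isometryGroup F ⇑Q), ω ∈ Cfsg.Omega F ⇑Q ∧
      ((ω : GL ι F) : Matrix ι ι F) = ((s₀ : GL ι F₀) : Matrix ι ι F₀).map j := by
  have h2₀ : (2 : F₀) ≠ 0 := by
    intro h
    apply h2
    rw [← map_ofNat j 2, h, map_zero]
  have hgen₀ := Cfsg.Agent.Lib.Helper43.reflGenerated_of_two_ne_zero Q₀ h2₀ hQ₀
  obtain ⟨l, hl, hs₀l⟩ := Cfsg.Agent.Lib.Helper43.exists_list_reflO Q₀ hgen₀ s₀
  have hl' : ∀ v ∈ l.map (fun u => (fun k => j (u k))), Q v ≠ 0 := by
    intro v hv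
    rw [List.mem_map] at hv
    obtain ⟨u, hu, rfl⟩ := hv
    rw [hc]
    exact (map_ne_zero j).2 (hl u hu)
  have heven : Even l.length := by
    have h3 : ((s₀ : GL ι F₀) : Matrix ι ι F₀).det = (-1) ^ l.length := by
      rw [hs₀l, Cfsg.Agent.Lib.Helper43.val_prod_reflO Q₀ l hl, det_prod_reflection Q₀ l hl]
    rw [hs₀] at h3
    refine (neg_one_pow_eq_one_iff_even ?_).mp h3.symm
    intro h
    apply h2₀
    linear_combination -h
  refine ⟨((l.map (fun u => (fun k => j (u k)))).map (Cfsg.Agent.Lib.Helper43.reflO Q)).prod,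
    ?_, ?_⟩
  · rw [spinor_criterion h2 Q _ (l.map (fun u => (fun k => j (u k)))) hl'
      (Cfsg.Agent.Lib.Helper43.val_prod_reflO Q _ hl')]
    refine ⟨by rwa [List.length_map], ?_⟩
    apply isSquare_list_prod_of_forall
    intro x hx
    rw [List.mem_map] at hx
    obtain ⟨v, hv, rfl⟩ := hx
    rw [List.mem_map] at hv
    obtain ⟨u, hu, rfl⟩ := hv
    rw [hc]
    exact hsq _
  · rw [hs₀l]
    exact (Cfsg.Agent.Lib.Helper19.S2716K.bc_prod_reflO Q₀ Q hc l hl).symm

end U_7

end Cfsg.Agent.Lib.Helper19.S2717K
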