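import Cfsg.Agent.Lib.Helper50.MinusInndiag
import Cfsg.Agent.Lib.Helper50.SpinorCrit
import Cfsg.Agent.Lib.Helper07.OrthT
import Cfsg.Agent.Lib.Helper30.S2718R

set_option autoImplicit false
set_option linter.unusedSectionVars false
set_option linter.unusedVariables false

/-! Keystone K-S2719-C1 (parallel hand by the architect): the commutator of a reflection with a
similarity of nonsquare multiplier is a product of two reflections outside `Ω`. -/

namespace Cfsg.Agent.Lib.Helper19.S2719K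

open Module Matrix Cfsg.Agent.Lib.Helper43 Cfsg.Agent.Lib.Helper08 Cfsg.Agent.Lib.Helper50
  Cfsg.Agent.Lib.Helper07.OG

universe u

section generic

variable {F : Type u} [Field F] [Fintype F] {ι : Type} [Fintype ι] [DecidableEq ι]
variable (Q : QuadraticForm F (ι → F))

/-- the product of two reflections with nonsquare product of norms is not in `Ω` -/
theorem reflPair_not_mem_Omega_gen (h2 : (2 : F) ≠ 0) (u v : ι → F)
    (hu : Q u ≠ 0) (hv : Q v ≠ 0) (hns : ¬ IsSquare (Q u * Q v)) :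
    Cfsg.Agent.Lib.Helper50.reflO Q u * Cfsg.Agent.Lib.Helper50.reflO Q v ∉ Cfsg.Omega F (⇑Q) := by
  classical
  intro hmem
  have hvs : ∀ w ∈ [u, v], Q w ≠ 0 := by
    intro w hw
    simp only [List.mem_cons, List.not_mem_nil, or_false] at hw
    rcases hw with rfl | rfl
    · exact hu
    · exact hv
  have hval : (((Cfsg.Agent.Lib.Helper50.reflO Q u * Cfsg.Agent.Lib.Helper50.reflO Q v :
      ↥(Cfsg.isometryGroup F (⇑Q))) : GL ι F) : Matrix ι ι F) =
      ([u, v].map (fun w => Cfsg.reflectionMatrix (⇑Q) w)).prod := by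
    rw [Subgroup.coe_mul, Units.val_mul, Cfsg.Agent.Lib.Helper50.reflO_val _ u hu,
      Cfsg.Agent.Lib.Helper50.reflO_val _ v hv]
    simp
  have h := (spinor_criterion h2 Q _ [u, v] hvs hval).mp hmem
  apply hns
  have h3 := h.2
  simpa using h3

theorem comm_refl_not_mem_Omega (h2 : (2 : F) ≠ 0)
    (d : ↥(Cfsg.Geo.quadSimilarityGroup (F := F) ⇑Q)) (hd : ¬ IsSquare ((multFun Q d : Fˣ) : F))
    (u : ι → F) (hu : Q u ≠ 0) (r : ↥(Cfsg.Geo.quadSimilarityGroup (F := F) ⇑Q))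
    (hr : ((r : GL ι F) : Matrix ι ι F) = Cfsg.reflectionMatrix (⇑Q) u) :
    ∃ s : ↥(Cfsg.isometryGroup F ⇑Q), s ∉ Cfsg.Omega F ⇑Q ∧
      ((s : GL ι F) : Matrix ι ι F).det = 1 ∧ r * d * r⁻¹ * d⁻¹ = inclGO Q s := by
  obtain ⟨D, hD⟩ : ∃ D : Matrix ι ι F, D = ((d : GL ι F) : Matrix ι ι F) := ⟨_, rfl⟩
  obtain ⟨μ, hμ⟩ : ∃ μ : F, μ = ((multFun Q d : Fˣ) : F) := ⟨_, rfl⟩
  have hμ0 : μ ≠ 0 := by rw [hμ]; exact Units.ne_zero _
  have hDQ : ∀ v, Q (D *ᵥ v) = μ * Q v := by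
    intro v; rw [hD, hμ]; exact multFun_spec Q d v
  have hdu : Q (D *ᵥ u) ≠ 0 := by
    rw [hDQ]; exact mul_ne_zero hμ0 hu
  have hns : ¬ IsSquare (Q u * Q (D *ᵥ u)) := by
    rintro ⟨x, hx⟩
    apply hd
    rw [← hμ]
    refine ⟨x / Q u, ?_⟩
    rw [hDQ] at hx
    field_simp
    linear_combination hx
  refine ⟨Cfsg.Agent.Lib.Helper50.reflO Q u * Cfsg.Agent.Lib.Helper50.reflO Q (D *ᵥ u),
    reflPair_not_mem_Omega_gen Q h2 u _ hu hdu hns, ?_, ?_⟩
  · rw [Subgroup.coe_mul, Units.val_mul, Matrix.det_mul,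
      Cfsg.Agent.Lib.Helper50.reflO_val Q u hu, Cfsg.Agent.Lib.Helper50.reflO_val Q _ hdu,
      Cfsg.Agent.Lib.Helper19.reflectionMatrix_det Q u hu,
      Cfsg.Agent.Lib.Helper19.reflectionMatrix_det Q _ hdu]
    ring
  · have hrr : r = inclGO Q (Cfsg.Agent.Lib.Helper50.reflO Q u) := by
      apply Subtype.ext
      apply Units.ext
      rw [hr, inclGO_val]
      exact (Cfsg.Agent.Lib.Helper50.reflO_val Q u hu).symm
    have hrinv : r⁻¹ = r := by
      rw [hrr, ← map_inv, Cfsg.Agent.Lib.Helper50.reflO_inv]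
    rw [hrinv, mul_inv_eq_iff_eq_mul, map_mul, ← hrr]
    apply Subtype.ext
    apply Units.ext
    simp only [Subgroup.coe_mul, Units.val_mul, inclGO_val]
    rw [hr, Cfsg.Agent.Lib.Helper50.reflO_val Q _ hdu, ← hD, Matrix.mul_assoc, Matrix.mul_assoc,
      Cfsg.Agent.Lib.Helper30.S2718K.sim_mul_reflection Q D μ hμ0 hDQ u]

end generic

end Cfsg.Agent.Lib.Helper19.S2719K
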