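import Cfsg.Agent.Lib.Helper50.MinusInndiag
import Cfsg.Agent.Lib.Helper50.SpinorCrit
import Cfsg.Agent.Lib.Helper50.SpinorIndex
import Cfsg.Agent.Lib.Helper07.OrthT
import Cfsg.Agent.Lib.Helper30.S2718R

set_option autoImplicit false
set_option linter.unusedSectionVars false
set_option linter.unusedVariables false

/-! Keystone K-S2719-N2 (parallel hand by the architect): if `-1 ∉ Ω` then `s ∈ Ω` or `-s ∈ Ω` for
every isometry `s` of determinant one. -/

namespace Cfsg.Agent.Lib.Helper19.S2719K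

open Module Matrix Cfsg.Agent.Lib.Helper43 Cfsg.Agent.Lib.Helper08 Cfsg.Agent.Lib.Helper50
  Cfsg.Agent.Lib.Helper07.OG

universe u

section generic

variable {F : Type u} [Field F] [Fintype F] {ι : Type} [Fintype ι] [DecidableEq ι]
variable (Q : QuadraticForm F (ι → F))

theorem mem_Omega_or_neg_mem (h2 : (2 : F) ≠ 0) (hQ : (QuadraticMap.polarBilin Q).Nondegenerate)
    (hcard : Even (Fintype.card ι))
    (hneg : ¬ ∃ g : ↥(Cfsg.isometryGroup F ⇑Q), g ∈ Cfsg.Omega F ⇑Q ∧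
      ((g : GL ι F) : Matrix ι ι F) = -1)
    (s : ↥(Cfsg.isometryGroup F ⇑Q)) (hs : ((s : GL ι F) : Matrix ι ι F).det = 1) :
    s ∈ Cfsg.Omega F ⇑Q ∨ ∃ s' : ↥(Cfsg.isometryGroup F ⇑Q), s' ∈ Cfsg.Omega F ⇑Q ∧
      ((s' : GL ι F) : Matrix ι ι F) = -((s : GL ι F) : Matrix ι ι F) := by
  classical
  obtain ⟨ζ, hζ⟩ := exists_nonsquare_of_two_ne_zero h2
  have hdn : detHom (⇑Q) (negO Q) = 1 := by
    apply Units.ext
    rw [detHom_val, negO_val, Matrix.det_neg, Matrix.det_one, hcard.neg_one_pow]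
    simp
  have hds : detHom (⇑Q) s = 1 := by
    apply Units.ext
    rw [detHom_val, hs]
    simp
  have hθn : theta (⇑Q) ζ (negO Q) = -1 := by
    rcases Int.units_eq_one_or (theta (⇑Q) ζ (negO Q)) with h | h
    · exfalso
      apply hneg
      refine ⟨negO Q, ?_, negO_val Q⟩
      exact (mem_commutator_iff h2 Q hQ ζ hζ (negO Q)).mpr ⟨hdn, h⟩
    · exact h
  rcases Int.units_eq_one_or (theta (⇑Q) ζ s) with h | h
  · left
    exact (mem_commutator_iff h2 Q hQ ζ hζ s).mpr ⟨hds, h⟩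
  · right
    refine ⟨negO Q * s, ?_, ?_⟩
    · apply (mem_commutator_iff h2 Q hQ ζ hζ _).mpr
      refine ⟨by rw [map_mul, hdn, hds, one_mul], ?_⟩
      rw [map_mul, hθn, h]
      simp
    · rw [Subgroup.coe_mul, Units.val_mul, negO_val]
      simp

end generic

end Cfsg.Agent.Lib.Helper19.S2719K
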