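import Cfsg.Agent.Lib.Helper19.S2719C1
import Cfsg.Agent.Lib.Helper19.S2719N2
import Cfsg.Agent.Lib.Helper04.S2719Dt
import Cfsg.Agent.Lib.Helper78.S2719N1
import Cfsg.Agent.Lib.Helper78.S2719Ng
import Cfsg.Agent.Lib.Helper62.S2719P
import Cfsg.Agent.Lib.Helper01.S2719A
import Cfsg.Agent.Lib.Helper77.S2719C2
import Cfsg.Agent.Lib.Helper50.S2718Glue
import Cfsg.Agent.Lib.Helper07.OrthZj
import Cfsg.Agent.Lib.Helper19.S2716T
import Cfsg.Agent.S0791

set_option autoImplicit false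
set_option linter.unusedSectionVars false
set_option linter.unusedVariables false

/-! Glue for S2719: the `Inndiag`-class of an involutory graph automorphism of `PΩ⁻_{2m+2}(q)`,
`q` odd, is the union of two `Inn`-classes unless `m` is even and `q ≡ 1 mod 4`. -/

namespace Cfsg.Agent.Lib.Helper19.S2719K

open Module Matrix Cfsg.Agent.Lib.Helper43 Cfsg.Agent.Lib.Helper08 Cfsg.Agent.Lib.Helper50
  Cfsg.Agent.Lib.Helper07.OG Cfsg.Agent.Lib.Helper50.S2718K

universe u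

section generic

variable {F : Type u} [Field F] [Fintype F] [DecidableEq F] {ι : Type} [Fintype ι] [DecidableEq ι]
variable (Q : QuadraticForm F (ι → F))

/-- the lower bound witness, generic form -/
theorem exists_lower_pair_gen (h2 : (2 : F) ≠ 0) (hQ : (QuadraticMap.polarBilin Q).Nondegenerate)
    (n : ℕ) (hn : 2 ≤ n) (hcard : Fintype.card ι = 2 * n) {u0 : ι → F} (hu0 : Q u0 = 1)
    (hanti : ∀ (M : Matrix ι ι F) (c : F), c ≠ 0 → M * M = (c * c) • 1 →
      (∀ v, Q (M *ᵥ v) = -(c * c) * Q v) → False)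
    (t : ↥(Cfsg.Geo.quadSimilarityGroup (F := F) ⇑Q)) (hδ : delta Q hu0 n t ≠ 1) (lam : F)
    (hsq : ((t : GL ι F) : Matrix ι ι F) * ((t : GL ι F) : Matrix ι ι F) = lam • 1) :
    ∃ u v : ι → F, Q u ≠ 0 ∧ Q v ≠ 0 ∧ ¬ IsSquare (Q u * Q v) ∧
      (t : GL ι F) * ((Cfsg.Agent.Lib.Helper50.reflO Q u * Cfsg.Agent.Lib.Helper50.reflO Q v :
        ↥(Cfsg.isometryGroup F ⇑Q)) : GL ι F) =
      ((Cfsg.Agent.Lib.Helper50.reflO Q u * Cfsg.Agent.Lib.Helper50.reflO Q v :
        ↥(Cfsg.isometryGroup F ⇑Q)) : GL ι F) * (t : GL ι F) := by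
  obtain ⟨M, hM⟩ : ∃ M : Matrix ι ι F, M = ((t : GL ι F) : Matrix ι ι F) := ⟨_, rfl⟩
  rw [← hM] at hsq
  obtain ⟨μ, hμ⟩ : ∃ μ : F, μ = (multFun Q t : F) := ⟨_, rfl⟩
  have hμ0 : μ ≠ 0 := by rw [hμ]; exact Units.ne_zero _
  have hμQ : ∀ v, Q (M *ᵥ v) = μ * Q v := by
    intro v; rw [hM, hμ]; exact multFun_spec Q t v
  have hμμ : μ * μ = lam * lam := by
    have h1 := hμQ (M *ᵥ u0)
    rw [hμQ u0, hu0, Matrix.mulVec_mulVec, hsq, Matrix.smul_mulVec, Matrix.one_mulVec,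
      QuadraticMap.map_smul, hu0, smul_eq_mul, mul_one, mul_one] at h1
    exact h1.symm
  have hcases : μ = lam ∨ μ = -lam := by
    have h1 : (μ - lam) * (μ + lam) = 0 := by linear_combination hμμ
    rcases mul_eq_zero.mp h1 with h | h
    · left; exact sub_eq_zero.mp h
    · right; exact eq_neg_of_add_eq_zero_left h
  by_cases hl : IsSquare lam
  · obtain ⟨c, hc⟩ := hl
    have hc0 : c ≠ 0 := by
      rintro rfl
      rw [mul_zero] at hc
      rw [hc, mul_zero] at hμμ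
      exact hμ0 (mul_self_eq_zero.mp hμμ)
    rcases hcases with h | h
    · -- isometry involution
      obtain ⟨u, v, hu, hv, hns, hSu, hSv⟩ :=
        Cfsg.Agent.Lib.Helper45.S2718K.exists_eigen_pair Q h2 hQ
        (by rw [hcard]; omega) (c⁻¹ • M)
        (by
          rw [Matrix.smul_mul, Matrix.mul_smul, hsq, smul_smul, smul_smul, hc]
          have : c⁻¹ * c⁻¹ * (c * c) = 1 := by field_simp
          rw [this, one_smul])
        (by
          intro w
          rw [Matrix.smul_mulVec, QuadraticMap.map_smul, hμQ, h, hc, smul_eq_mul]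
          field_simp)
      refine ⟨u, v, hu, hv, hns, ?_⟩
      apply Cfsg.Agent.Lib.Helper30.S2718K.reflPair_comm Q h2 t u v hu hv
      left
      have key : ∀ w : ι → F, ((c⁻¹ • M) *ᵥ w = w ∨ (c⁻¹ • M) *ᵥ w = -w) →
          ∃ a : F, M *ᵥ w = a • w := by
        intro w hw
        have h1 : M *ᵥ w = c • ((c⁻¹ • M) *ᵥ w) := by
          rw [Matrix.smul_mulVec, smul_smul, mul_inv_cancel₀ hc0, one_smul]
        rcases hw with hw | hw
        · exact ⟨c, by rw [h1, hw]⟩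
        · exact ⟨-c, by rw [h1, hw, smul_neg, neg_smul]⟩
      obtain ⟨a, ha⟩ := key u hSu
      obtain ⟨b, hb⟩ := key v hSv
      rw [← hM]
      exact ⟨a, b, ha, hb⟩
    · exfalso
      apply hanti M c hc0
      · rw [hsq, hc]
      · intro w
        have := hμQ w
        rw [h, hc] at this
        exact this
  · -- `lam` is a nonsquare
    have hμl : μ = lam := by
      rcases hcases with h | h
      · exact h
      · exfalso
        apply hδ
        rw [delta_eq_one_iff, ← hM, ← hμ,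
          Cfsg.Agent.Lib.Helper04.S2719K.det_of_sq_nonsquare n hcard M lam hl hsq, h]
    obtain ⟨u, hu, hpol⟩ :=
      Cfsg.Agent.Lib.Helper22.S2718K.exists_nonsingular_orth_image Q h2 hQ n
      hn hcard M lam μ hl hsq hμQ
    have hv : Q (M *ᵥ u) ≠ 0 := by
      rw [hμQ]
      exact mul_ne_zero hμ0 hu
    refine ⟨u, M *ᵥ u, hu, hv, ?_, ?_⟩
    · intro hsqr
      apply hl
      rw [← hμl]
      rw [hμQ] at hsqr
      apply isSquare_of_mul_sq hu
      have : Q u * (μ * Q u) = μ * (Q u * Q u) := by ring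
      rw [← this]
      exact hsqr
    · apply Cfsg.Agent.Lib.Helper30.S2718K.reflPair_comm Q h2 t u (M *ᵥ u) hu hv
      right
      rw [← hM]
      refine ⟨1, lam, by rw [one_smul], ?_, hpol⟩
      rw [Matrix.mulVec_mulVec, hsq, Matrix.smul_mulVec, Matrix.one_mulVec]

/-- the negative case: in even half-dimension with `-1 ∉ Ω`, an inner-diagonal automorphism
commuting with an involutory graph automorphism is inner -/
theorem mem_inn_of_commute (h2 : (2 : F) ≠ 0) (C : OC Q) (n : ℕ) (hn : Even n)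
    (hcard : Fintype.card ι = 2 * n) {u0 : ι → F} (hu0 : Q u0 = 1)
    (hneg : ¬ ∃ g : ↥(Cfsg.isometryGroup F ⇑Q), g ∈ Cfsg.Omega F ⇑Q ∧
      ((g : GL ι F) : Matrix ι ι F) = -1)
    (t : ↥(Cfsg.Geo.quadSimilarityGroup (F := F) ⇑Q)) (c : F) (hc0 : c ≠ 0)
    (hsq : ((t : GL ι F) : Matrix ι ι F) * ((t : GL ι F) : Matrix ι ι F) = (c * c) • 1)
    (hμt : (multFun Q t : F) = c * c) (hδt : delta Q hu0 n t ≠ 1)
    (h : ↥(Cfsg.Geo.quadSimilarityGroup (F := F) ⇑Q)) (hδh : delta Q hu0 n h = 1)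
    (hcomm : autPO ⇑Q h * autPO ⇑Q t = autPO ⇑Q t * autPO ⇑Q h) :
    autPO ⇑Q h ∈ Cfsg.Inn (Cfsg.POmega F ⇑Q) := by
  have hQ := C.hQ
  obtain ⟨T, hT⟩ : ∃ T : Matrix ι ι F, T = ((t : GL ι F) : Matrix ι ι F) := ⟨_, rfl⟩
  obtain ⟨H, hH⟩ : ∃ H : Matrix ι ι F, H = ((h : GL ι F) : Matrix ι ι F) := ⟨_, rfl⟩
  rw [← hT] at hsq
  have hTQ : ∀ v, Q (T *ᵥ v) = (c * c) * Q v := by
    intro v; rw [hT, ← hμt]; exact multFun_spec Q t v
  obtain ⟨μ, hμ⟩ : ∃ μ : F, μ = (multFun Q h : F) := ⟨_, rfl⟩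
  have hμ0 : μ ≠ 0 := by rw [hμ]; exact Units.ne_zero _
  have hHQ : ∀ v, Q (H *ᵥ v) = μ * Q v := by
    intro v; rw [hH, hμ]; exact multFun_spec Q h v
  -- the involution
  obtain ⟨S, hS⟩ : ∃ S : Matrix ι ι F, S = c⁻¹ • T := ⟨_, rfl⟩
  have hSS : S * S = 1 := by
    rw [hS, Matrix.smul_mul, Matrix.mul_smul, hsq, smul_smul, smul_smul]
    have : c⁻¹ * c⁻¹ * (c * c) = 1 := by field_simp
    rw [this, one_smul]
  have hSQ : ∀ v, Q (S *ᵥ v) = Q v := by
    intro v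
    rw [hS, Matrix.smul_mulVec, QuadraticMap.map_smul, hTQ, smul_eq_mul]
    field_simp
  have hdetT : T.det = -(c * c) ^ n := by
    rcases delta_cases Q hu0 n hQ hcard t with h1 | h1
    · exact absurd h1 hδt
    · have h3 := congrArg (fun x : Fˣ => (x : F)) h1
      rw [delta_apply] at h3
      simp only [Units.val_mul, Units.val_pow_eq_pow_val, Units.val_inv_eq_inv_val, detGO_val,
        Units.val_neg, Units.val_one, hμt] at h3
      rw [hT]
      have h0 : (c * c) ^ n ≠ 0 := pow_ne_zero _ (mul_ne_zero hc0 hc0)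
      rw [inv_pow] at h3
      field_simp at h3
      linear_combination h3
  have hdetS : S.det = -1 := by
    rw [hS, Matrix.det_smul, hcard, hdetT]
    have h0 : c ^ (2 * n) ≠ 0 := pow_ne_zero _ hc0
    rw [inv_pow]
    field_simp
    ring
  -- the commutator is a scalar
  obtain ⟨z, hz⟩ : ∃ z : ↥(Cfsg.Geo.quadSimilarityGroup (F := F) ⇑Q), z = h * t * h⁻¹ * t⁻¹ :=
    ⟨_, rfl⟩
  have hker : autPO ⇑Q z = 1 := by
    rw [hz, map_mul, map_mul, map_mul, map_inv, map_inv, hcomm]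
    group
  obtain ⟨ε, hε⟩ := (autPO_eq_one_iff_OC Q C _).mp hker
  have hHT : H * T = ε • (T * H) := by
    have h1 : h * t = z * (t * h) := by rw [hz]; group
    have h3 := congrArg (fun x : ↥(Cfsg.Geo.quadSimilarityGroup (F := F) ⇑Q) =>
      ((x : GL ι F) : Matrix ι ι F)) h1
    simp only [Subgroup.coe_mul, Units.val_mul] at h3
    rw [hH, hT, h3, hε, Matrix.smul_mul, Matrix.one_mul]
  have hHS : H * S = ε • (S * H) := by
    rw [hS, Matrix.mul_smul, Matrix.smul_mul, hHT, smul_smul, smul_smul, mul_comm]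
  have hHdet : IsUnit H.det := by
    rw [hH]
    exact (Matrix.isUnit_iff_isUnit_det _).mp (Units.isUnit _)
  have hεε : ε * ε = 1 := by
    have h1 : Q ((H * S) *ᵥ u0) = Q ((ε • (S * H)) *ᵥ u0) := by rw [hHS]
    rw [← Matrix.mulVec_mulVec, hHQ, hSQ, hu0, Matrix.smul_mulVec, QuadraticMap.map_smul,
      ← Matrix.mulVec_mulVec, hSQ, hHQ, hu0, smul_eq_mul, mul_one] at h1
    have h3 : (ε * ε - 1) * μ = 0 := by linear_combination -h1
    rcases mul_eq_zero.mp h3 with h4 | h4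
    · linear_combination h4
    · exact absurd h4 hμ0
  rcases mul_self_eq_one_iff.mp hεε with h1 | h1
  · -- `H` commutes with `S`
    rw [h1, one_smul] at hHS
    obtain ⟨ν, hν⟩ := Cfsg.Agent.Lib.Helper78.S2719K.isSquare_mult_of_commute Q h2 hQ S H μ hμ0
      hSQ hdetS hHQ hHS
    have hν0 : ν ≠ 0 := by
      rintro rfl
      rw [mul_zero] at hν
      exact hμ0 hν
    obtain ⟨N, hN⟩ : ∃ N : Fˣ, (N : F) = ν⁻¹ := ⟨Units.mk0 ν⁻¹ (inv_ne_zero hν0), rfl⟩
    have hsmem : Cfsg.Agent.Lib.Helper19.PgoCard.scalGL N * (h : GL ι F) ∈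
        Cfsg.isometryGroup F ⇑Q := by
      rw [Cfsg.Agent.Lib.Helper19.mem_isometryGroup_iff]
      intro v
      rw [Units.val_mul, Cfsg.Agent.Lib.Helper19.PgoCard.scalGL_val, Matrix.smul_mul,
        Matrix.one_mul, Matrix.smul_mulVec, QuadraticMap.map_smul, ← hH, hHQ, hN, hν, smul_eq_mul]
      field_simp
    obtain ⟨s, hs⟩ : ∃ s : ↥(Cfsg.isometryGroup F ⇑Q),
        s = ⟨Cfsg.Agent.Lib.Helper19.PgoCard.scalGL N * (h : GL ι F), hsmem⟩ := ⟨_, rfl⟩
    have hsval : ((s : GL ι F) : Matrix ι ι F) = ν⁻¹ • H := by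
      rw [hs]
      show ((Cfsg.Agent.Lib.Helper19.PgoCard.scalGL N * (h : GL ι F) : GL ι F) : Matrix ι ι F) = _
      rw [Units.val_mul, Cfsg.Agent.Lib.Helper19.PgoCard.scalGL_val, Matrix.smul_mul,
        Matrix.one_mul, hN, hH]
    have hsh : autO ⇑Q s = autPO ⇑Q h := by
      rw [autO_apply]
      apply Cfsg.Agent.Lib.Helper19.S2716K.autPO_eq_of_smul Q h _ ν⁻¹ (inv_ne_zero hν0)
      show ((s : GL ι F) : Matrix ι ι F) = _
      rw [hsval, hH]
    have hdets : ((s : GL ι F) : Matrix ι ι F).det = 1 := by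
      have h3 := (delta_eq_one_iff hu0 n h).mp hδh
      rw [hsval, Matrix.det_smul, hcard, hH, h3, ← hμ, hν]
      have h0 : ν ^ (2 * n) ≠ 0 := pow_ne_zero _ hν0
      rw [inv_pow]
      field_simp
      ring
    rw [← hsh, inn_eq]
    rcases mem_Omega_or_neg_mem Q h2 hQ
        (by rw [hcard]; exact even_two_mul n) hneg s hdets with h5 | ⟨s', hs', hs'v⟩
    · exact ⟨s, h5, rfl⟩
    · refine ⟨s', hs', ?_⟩
      rw [autO_apply, autO_apply]
      apply Cfsg.Agent.Lib.Helper19.S2716K.autPO_eq_of_smul Q _ _ (-1)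
        (neg_ne_zero.mpr one_ne_zero)
      show ((s' : GL ι F) : Matrix ι ι F) = (-1 : F) • ((s : GL ι F) : Matrix ι ι F)
      rw [hs'v, neg_one_smul]
  · -- `H` anticommutes with `S`: impossible
    exfalso
    rw [h1, neg_one_smul] at hHS
    have h3 := Cfsg.Agent.Lib.Helper78.S2719K.det_of_anticommute h2 n hcard S H hSS hHdet hHS
    rw [hdetS, hn.neg_one_pow] at h3
    apply h2
    linear_combination -h3

set_option maxHeartbeats 1600000 in
/-- the counting core of S2719, for a generic form -/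
theorem s2719_core (hodd : Odd (Fintype.card F)) (h2 : (2 : F) ≠ 0) (C : OC Q) (p : ℕ) [Fact p.Prime] [CharP F p] (n : ℕ)
    (hn : 2 ≤ n) (hcard : Fintype.card ι = 2 * n) {u0 : ι → F} (hu0 : Q u0 = 1)
    (e f : Fin 3 → ι → F) (HT : HypTriple Q e f)
    (hI4 : (Odd n ∧ Fintype.card F % 4 = 3) →
      (Cfsg.Inn (Cfsg.POmega F ⇑Q)).relIndex (Esub Q hu0 n) = 4 ∧
      ∀ x ∈ Esub Q hu0 n, ∀ y ∈ Esub Q hu0 n, x * y * x⁻¹ * y⁻¹ ∈ Cfsg.Inn (Cfsg.POmega F ⇑Q))
    (hI2 : ¬ (Odd n ∧ Fintype.card F % 4 = 3) →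
      (Cfsg.Inn (Cfsg.POmega F ⇑Q)).relIndex (Esub Q hu0 n) = 2)
    (hneg4 : (Odd n ∧ Fintype.card F % 4 = 3) →
      ∃ g : ↥(Cfsg.isometryGroup F ⇑Q), g ∈ Cfsg.Omega F ⇑Q ∧ ((g : GL ι F) : Matrix ι ι F) = -1)
    (hnegE : Even n →
      ¬ ∃ g : ↥(Cfsg.isometryGroup F ⇑Q), g ∈ Cfsg.Omega F ⇑Q ∧ ((g : GL ι F) : Matrix ι ι F) = -1)
    (hanti : ∀ (M : Matrix ι ι F) (c : F), c ≠ 0 → M * M = (c * c) • 1 →
      (∀ v, Q (M *ᵥ v) = -(c * c) * Q v) → False)
    (d : ↥(Cfsg.Geo.quadSimilarityGroup (F := F) ⇑Q)) (hdns : ¬ IsSquare ((multFun Q d : Fˣ) : F))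
    (hdδ : delta Q hu0 n d = 1)
    (t : ↥(Cfsg.Geo.quadSimilarityGroup (F := F) ⇑Q)) (hδt : delta Q hu0 n t ≠ 1)
    (hγγ : autPO ⇑Q t * autPO ⇑Q t = 1) :
    ((Cfsg.Inn (Cfsg.POmega F ⇑Q) ⊔
        (Esub Q hu0 n ⊓ Subgroup.centralizer {autPO ⇑Q t})).relIndex (Esub Q hu0 n) = 1 ∨
      (Cfsg.Inn (Cfsg.POmega F ⇑Q) ⊔
        (Esub Q hu0 n ⊓ Subgroup.centralizer {autPO ⇑Q t})).relIndex (Esub Q hu0 n) = 2) ∧
    (¬ (Odd n ∧ Fintype.card F % 4 = 1) →
      (Cfsg.Inn (Cfsg.POmega F ⇑Q) ⊔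
        (Esub Q hu0 n ⊓ Subgroup.centralizer {autPO ⇑Q t})).relIndex (Esub Q hu0 n) = 2) := by
  have hQ := C.hQ
  obtain ⟨I, hI⟩ : ∃ I : Subgroup (MulAut (Cfsg.POmega F ⇑Q)),
      I = Cfsg.Inn (Cfsg.POmega F ⇑Q) := ⟨_, rfl⟩
  obtain ⟨D, hD⟩ : ∃ D : Subgroup (MulAut (Cfsg.POmega F ⇑Q)), D = Esub Q hu0 n := ⟨_, rfl⟩
  obtain ⟨γ, hγ⟩ : ∃ γ : MulAut (Cfsg.POmega F ⇑Q), γ = autPO ⇑Q t := ⟨_, rfl⟩
  rw [← hI, ← hD] at hI4 hI2 ⊢
  rw [← hγ] at hγγ ⊢
  have hIn : I.Normal := by rw [hI]; infer_instance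
  have hID : I ≤ D := by rw [hI, hD]; exact inn_le_Esub hu0 n
  have hmemD : ∀ s : ↥(Cfsg.Geo.quadSimilarityGroup (F := F) ⇑Q),
      autPO ⇑Q s ∈ D ↔ delta Q hu0 n s = 1 := by
    intro s; rw [hD]; exact autPO_mem_Esub_iff hu0 n C p hcard s
  obtain ⟨lam, hlam⟩ : ∃ lam : F, ((t : GL ι F) : Matrix ι ι F) * ((t : GL ι F) : Matrix ι ι F) =
      lam • 1 := by
    have h1 : autPO ⇑Q (t * t) = 1 := by rw [map_mul, ← hγ, hγγ]
    obtain ⟨c, hc⟩ := (autPO_eq_one_iff_OC Q C (t * t)).mp h1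
    exact ⟨c, hc⟩
  have hδt' : delta Q hu0 n t = -1 := by
    rcases delta_cases Q hu0 n hQ hcard t with h | h
    · exact absurd h hδt
    · exact h
  have hu0' : Q u0 ≠ 0 := by rw [hu0]; exact one_ne_zero
  have hδr : delta Q hu0 n (inclGO Q (Cfsg.Agent.Lib.Helper50.reflO Q u0)) = -1 := by
    apply Units.ext
    rw [delta_apply, multFun_inclGO Q hu0]
    simp only [inv_one, one_pow, mul_one, detGO_val, inclGO_val, Units.val_neg, Units.val_one]
    rw [Cfsg.Agent.Lib.Helper50.reflO_val Q u0 hu0']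
    exact Cfsg.Agent.Lib.Helper19.reflectionMatrix_det Q u0 hu0'
  have hq4 : Fintype.card F % 4 = 1 ∨ Fintype.card F % 4 = 3 := by
    rcases hodd with ⟨r, hr⟩
    omega
  by_cases hcase : Odd n ∧ Fintype.card F % 4 = 3
  · -- `|D : I| = 4`
    obtain ⟨h4, hab⟩ := hI4 hcase
    have hneg := hneg4 hcase
    have hV6 := fun s => Cfsg.Agent.Lib.Helper50.S2717K.autO_mem_inn_iff_of_neg Q h2 hQ e f HT hneg s
    have key : (I ⊔ (D ⊓ Subgroup.centralizer {γ})).relIndex D = 2 := by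
      apply Cfsg.Agent.Lib.Helper90.S2718K.relIndex_eq_two_of I D hID h4 hab γ
      · -- upper bound
        obtain ⟨r, hr⟩ : ∃ r : ↥(Cfsg.Geo.quadSimilarityGroup (F := F) ⇑Q),
            r = inclGO Q (Cfsg.Agent.Lib.Helper50.reflO Q u0) := ⟨_, rfl⟩
        have hrval : ((r : GL ι F) : Matrix ι ι F) = Cfsg.reflectionMatrix (⇑Q) u0 := by
          rw [hr, inclGO_val]; exact Cfsg.Agent.Lib.Helper50.reflO_val Q u0 hu0'
        obtain ⟨s, hsΩ, hsdet, hcomm⟩ :=
          comm_refl_not_mem_Omega Q h2 d hdns u0 hu0' r hrval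
        refine ⟨autPO ⇑Q r, autPO ⇑Q (r⁻¹ * t), autPO ⇑Q d, ?_, ?_, ?_, ?_⟩
        · rw [← map_mul, mul_inv_cancel_left]; exact hγ
        · rw [hmemD, map_mul, map_inv, hr, hδr, hδt']
          simp
        · rw [hmemD]; exact hdδ
        · have h1 : autPO ⇑Q r * autPO ⇑Q d * (autPO ⇑Q r)⁻¹ * (autPO ⇑Q d)⁻¹ = autO ⇑Q s := by
            rw [← map_inv, ← map_inv, ← map_mul, ← map_mul, ← map_mul, hcomm]
            rfl
          rw [h1, hI]
          intro hmem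
          exact hsΩ ((hV6 s).mp hmem)
      · -- lower bound
        obtain ⟨u, v, hu, hv, hns, hcomm⟩ :=
          exists_lower_pair_gen Q h2 hQ n hn hcard hu0 hanti t hδt lam hlam
        refine ⟨autO ⇑Q (Cfsg.Agent.Lib.Helper50.reflO Q u * Cfsg.Agent.Lib.Helper50.reflO Q v),
          ?_, ?_, ?_⟩
        · rw [autO_eq_comp, MonoidHom.comp_apply, hmemD]
          apply Units.ext
          rw [delta_apply, multFun_inclGO Q hu0]
          simp only [inv_one, one_pow, mul_one, detGO_val, inclGO_val, Units.val_one]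
          rw [Subgroup.coe_mul, Units.val_mul, Matrix.det_mul,
            Cfsg.Agent.Lib.Helper50.reflO_val Q u hu, Cfsg.Agent.Lib.Helper50.reflO_val Q v hv,
            Cfsg.Agent.Lib.Helper19.reflectionMatrix_det Q u hu,
            Cfsg.Agent.Lib.Helper19.reflectionMatrix_det Q v hv]
          ring
        · rw [hγ, autO_eq_comp, MonoidHom.comp_apply, ← map_mul, ← map_mul]
          congr 1
          apply Subtype.ext
          exact hcomm.symm
        · rw [hI]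
          intro hmem
          exact reflPair_not_mem_Omega_gen Q h2 u v hu hv hns ((hV6 _).mp hmem)
    exact ⟨Or.inr key, fun _ => key⟩
  · have h2' := hI2 hcase
    refine ⟨relIndex_one_or_two I D _ le_sup_left (sup_le hID inf_le_left) h2', ?_⟩
    intro hex
    -- `n` is even
    have hne : Even n := by
      by_contra hno
      rw [Nat.not_even_iff_odd] at hno
      rcases hq4 with h | h
      · exact hex ⟨hno, h⟩
      · exact hcase ⟨hno, h⟩
    have hneg := hnegE hne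
    have hle : D ⊓ Subgroup.centralizer {γ} ≤ I := by
      rintro y ⟨hyD, hyC⟩
      rw [hD] at hyD
      obtain ⟨h, hh, rfl⟩ := hyD
      rw [SetLike.mem_coe, MonoidHom.mem_ker] at hh
      have hcomm : autPO ⇑Q h * autPO ⇑Q t = autPO ⇑Q t * autPO ⇑Q h := by
        rw [← hγ]
        exact Subgroup.mem_centralizer_singleton_iff.mp hyC
      -- `lam` is a square, the multiplier is `lam`
      obtain ⟨μ, hμ⟩ : ∃ μ : F, μ = (multFun Q t : F) := ⟨_, rfl⟩
      have hμ0 : μ ≠ 0 := by rw [hμ]; exact Units.ne_zero _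
      have hμQ : ∀ v, Q (((t : GL ι F) : Matrix ι ι F) *ᵥ v) = μ * Q v := by
        intro v; rw [hμ]; exact multFun_spec Q t v
      have hμμ : μ * μ = lam * lam := by
        have h1 := hμQ (((t : GL ι F) : Matrix ι ι F) *ᵥ u0)
        rw [hμQ u0, hu0, Matrix.mulVec_mulVec, hlam, Matrix.smul_mulVec, Matrix.one_mulVec,
          QuadraticMap.map_smul, hu0, smul_eq_mul, mul_one, mul_one] at h1
        exact h1.symm
      have hcases : μ = lam ∨ μ = -lam := by
        have h1 : (μ - lam) * (μ + lam) = 0 := by linear_combination hμμ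
        rcases mul_eq_zero.mp h1 with h | h
        · left; exact sub_eq_zero.mp h
        · right; exact eq_neg_of_add_eq_zero_left h
      have hlsq : IsSquare lam := by
        by_contra hl
        apply hδt
        rw [delta_eq_one_iff,
          Cfsg.Agent.Lib.Helper04.S2719K.det_of_sq_nonsquare n hcard _ lam hl hlam, ← hμ]
        rcases hcases with h | h
        · rw [h, hne.neg_pow]
        · rw [h]
      obtain ⟨c, hc⟩ := hlsq
      have hc0 : c ≠ 0 := by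
        rintro rfl
        rw [mul_zero] at hc
        rw [hc, mul_zero] at hμμ
        exact hμ0 (mul_self_eq_zero.mp hμμ)
      have hμc : μ = c * c := by
        rcases hcases with h | h
        · rw [h, hc]
        · exfalso
          apply hanti _ c hc0 (by rw [hlam, hc])
          intro w
          have := hμQ w
          rw [h, hc] at this
          exact this
      rw [hI]
      exact mem_inn_of_commute Q h2 C n hne hcard hu0 hneg t c hc0 (by rw [hlam, hc])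
        (by rw [← hμ, hμc]) hδt h hh hcomm
    rw [sup_eq_left.mpr hle]
    exact h2'


end generic

section minus

variable {F : Type u} [Field F] [Fintype F] [DecidableEq F] {m : ℕ}

/-- `Esub` has index two in the image of the similarity group -/
theorem relIndex_Esub_pgoAut {ι : Type} [Fintype ι] [DecidableEq ι] (Q : QuadraticForm F (ι → F))
    (h2 : (2 : F) ≠ 0) (C : OC Q) (p : ℕ) [Fact p.Prime] [CharP F p] (n : ℕ)
    (hcard : Fintype.card ι = 2 * n) {u0 : ι → F} (hu0 : Q u0 = 1) :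
    (Esub Q hu0 n).relIndex (Cfsg.pgoAut F ⇑Q) = 2 := by
  have hQ := C.hQ
  rw [pgoAut_eq, MonoidHom.range_eq_map]
  unfold Esub
  rw [Subgroup.relIndex_map_map]
  have hle : (autPO ⇑Q).ker ≤ (delta Q hu0 n).ker := ker_autPO_le_ker_delta hu0 n C p hcard
  rw [sup_eq_left.mpr hle, top_sup_eq, Subgroup.relIndex_top_right, Subgroup.index_eq_two_iff]
  have hu0' : Q u0 ≠ 0 := by rw [hu0]; exact one_ne_zero
  have hδr : delta Q hu0 n (inclGO Q (Cfsg.Agent.Lib.Helper50.reflO Q u0)) = -1 := by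
    apply Units.ext
    rw [delta_apply, multFun_inclGO Q hu0]
    simp only [inv_one, one_pow, mul_one, detGO_val, inclGO_val, Units.val_neg, Units.val_one]
    rw [Cfsg.Agent.Lib.Helper50.reflO_val Q u0 hu0']
    exact Cfsg.Agent.Lib.Helper19.reflectionMatrix_det Q u0 hu0'
  refine ⟨inclGO Q (Cfsg.Agent.Lib.Helper50.reflO Q u0), fun g => ?_⟩
  rw [MonoidHom.mem_ker, MonoidHom.mem_ker, map_mul, hδr]
  rcases delta_cases Q hu0 n hQ hcard g with h | h
  · rw [h]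
    refine Or.inr ⟨rfl, ?_⟩
    rw [one_mul]
    intro h0
    have := congrArg (fun x : Fˣ => (x : F)) h0
    simp only [Units.val_neg, Units.val_one] at this
    apply h2
    linear_combination -this
  · rw [h]
    refine Or.inl ⟨by simp, ?_⟩
    intro h0
    have := congrArg (fun x : Fˣ => (x : F)) h0
    simp only [Units.val_neg, Units.val_one] at this
    apply h2
    linear_combination -this

set_option maxHeartbeats 1600000 in
/-- an automorphism of `PΩ⁻` whose square is trivial is induced by a similarity -/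
theorem mem_pgoAut_of_sq {p f : ℕ} [Fact p.Prime] [CharP F p] (hF : Fintype.card F = p ^ f)
    (hp : p ≠ 2) (h2 : (2 : F) ≠ 0) (hm : 3 ≤ m) (a b : F)
    (hab : ∀ z₁ z₂ : F, z₁ ^ 2 + a * z₁ * z₂ + b * z₂ ^ 2 = 0 → z₁ = 0 ∧ z₂ = 0)
    (γ : MulAut (Cfsg.POmega F ⇑(qdataMinus43 m a b hab).qf)) (hγγ : γ * γ = 1) :
    γ ∈ Cfsg.pgoAut F ⇑(qdataMinus43 m a b hab).qf := by
  have : Finite (RingAut F) := finite_ringAut
  have hcard : Fintype.card ((Fin m ⊕ Fin m) ⊕ Fin 2) = 2 * (m + 1) := by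
    rw [Fintype.card_sum, Fintype.card_sum, Fintype.card_fin, Fintype.card_fin]; omega
  have C : OC (qdataMinus43 m a b hab).qf :=
    ⟨(qdataMinus43 m a b hab).qf_nondeg, by rw [hcard]; omega⟩
  have htop : Cfsg.gammaPOmega F ⇑(qdataMinus43 m a b hab).qf = ⊤ :=
    gamma_minus_eq_top hm a b hab
  have hg1 : ∀ v, (qdataMinus43 m a b hab).qf
      (semiAct (blkG m (M1G p a b h2 hab)) (frobF (F := F) p) v) =
      frobF (F := F) p ((qdataMinus43 m a b hab).qf v) := by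
    intro v
    show Cfsg.quadFormMinus m F a b
      (((blkG m (M1G p a b h2 hab) : GL ((Fin m ⊕ Fin m) ⊕ Fin 2) F) :
        Matrix ((Fin m ⊕ Fin m) ⊕ Fin 2) ((Fin m ⊕ Fin m) ⊕ Fin 2) F) *ᵥ
        (fun i => frobF (F := F) p (v i))) = frobF (F := F) p (Cfsg.quadFormMinus m F a b v)
    rw [blkG_val, blkM_mulVec, quadFormMinus_eq, quadFormMinus_eq]
    have h1 : (Sum.elim ((fun i => frobF (F := F) p (v i)) ∘ Sum.inl)
        (((M1G p a b h2 hab : GL (Fin 2) F) : Matrix (Fin 2) (Fin 2) F) *ᵥ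
          ((fun i => frobF (F := F) p (v i)) ∘ Sum.inr))) ∘ Sum.inr =
        (M1 p a b) *ᵥ (fun i => frobF (F := F) p ((v ∘ Sum.inr) i)) := by
      funext k
      simp [M1G_val]
    rw [h1, M1_semi p a b h2 hp]
    simp only [Sum.elim_inl, Function.comp_apply, map_add, map_sum, map_mul]
  have hgS : Cfsg.IsSemisimilarityPair (⇑(qdataMinus43 m a b hab).qf)
      (blkG m (M1G p a b h2 hab)) (frobF (F := F) p) := ⟨1, fun v => by
    have := hg1 v
    unfold semiAct at this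
    rw [this]
    simp⟩
  have hu0 : (qdataMinus43 m a b hab).qf (Pi.single (Sum.inr 0) 1) = 1 := by
    show Cfsg.quadFormMinus m F a b (Pi.single (Sum.inr 0) 1) = 1
    rw [quadFormMinus_eq]
    unfold qb
    simp
  have hdet : ((twG (frobF (F := F) p) (blkG m (M1G p a b h2 hab)) f :
      GL ((Fin m ⊕ Fin m) ⊕ Fin 2) F) :
      Matrix ((Fin m ⊕ Fin m) ⊕ Fin 2) ((Fin m ⊕ Fin m) ⊕ Fin 2) F).det = -1 := by
    rw [twG_blkG, blkG_val, det_blkM]
    exact det_twG_M1G p a b h2 hp hab hF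
  obtain ⟨hκs, hκk, hord⟩ := kappa_setup C p htop hF hgS
  have : (Cfsg.pgoAut F ⇑(qdataMinus43 m a b hab).qf).Normal := by rw [← hκk]; infer_instance
  have : (Esub (qdataMinus43 m a b hab).qf hu0 (m + 1)).Normal := Esub_normal hu0 (m + 1) htop
  have hf0 : 0 < f := by rw [← hord]; exact orderOf_pos _
  obtain ⟨ψ, hψ⟩ : ∃ ψ, ψ = autS (blkG m (M1G p a b h2 hab)) (frobF (F := F) p) hgS := ⟨_, rfl⟩
  have hκψ : kappa C p htop ψ = frobF (F := F) p := by rw [hψ]; exact kappa_autS C p htop hgS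
  have hφf : (frobF (F := F) p ^ f : RingAut F) = 1 := by rw [← hord]; exact pow_orderOf_eq_one _
  have hNiso : (twG (frobF (F := F) p) (blkG m (M1G p a b h2 hab)) f :
      GL ((Fin m ⊕ Fin m) ⊕ Fin 2) F) ∈ Cfsg.isometryGroup F ⇑(qdataMinus43 m a b hab).qf := by
    rw [Cfsg.Agent.Lib.Helper19.mem_isometryGroup_iff]
    intro v
    have := twG_semi hg1 f v
    rw [hφf] at this
    exact this
  have h3 : ψ ^ f = autO (⇑(qdataMinus43 m a b hab).qf)
      ⟨twG (frobF (F := F) p) (blkG m (M1G p a b h2 hab)) f, hNiso⟩ := by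
    obtain ⟨h', hpow⟩ := autS_pow hgS f
    rw [hψ, hpow, autO_eq_autS]
    exact autS_congr rfl hφf _ _
  have hψE : ψ ^ f ∉ Esub (qdataMinus43 m a b hab).qf hu0 (m + 1) := by
    rw [h3]
    exact autO_not_mem_Esub hu0 (m + 1) C p h2 hcard _ hdet
  have hEP : Esub (qdataMinus43 m a b hab).qf hu0 (m + 1) ≤
      Cfsg.pgoAut F ⇑(qdataMinus43 m a b hab).qf := by
    rw [pgoAut_eq]; exact Esub_le_range hu0 (m + 1)
  apply Cfsg.Agent.Lib.Helper62.S2719K.mem_of_sq_mem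
    (Cfsg.pgoAut F ⇑(qdataMinus43 m a b hab).qf)
    (Esub (qdataMinus43 m a b hab).qf hu0 (m + 1)) hEP
    (relIndex_Esub_pgoAut _ h2 C p (m + 1) hcard hu0) ψ hf0
  · intro x
    obtain ⟨j, hj⟩ := ringAut_eq_frobF_pow p (kappa C p htop x)
    refine ⟨j, (ψ ^ j)⁻¹ * x, ?_, by group⟩
    rw [← hκk, MonoidHom.mem_ker, map_mul, map_inv, map_pow, hκψ, hj, inv_mul_cancel]
  · intro k hk
    rw [← hκk, MonoidHom.mem_ker, map_pow, hκψ] at hk
    rw [← hord]
    exact orderOf_dvd_of_pow_eq_one hk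
  · rw [← hκk, MonoidHom.mem_ker, map_pow, hκψ, hφf]
  · exact hψE
  · rw [hγγ]; exact Subgroup.one_mem _

set_option maxHeartbeats 1600000 in
/-- S2719. -/
theorem s2719_main (hodd : Odd (Fintype.card F)) (hm : 3 ≤ m) (a b : F)
    (hab : ∀ z₁ z₂ : F, z₁ ^ 2 + a * z₁ * z₂ + b * z₂ ^ 2 = 0 → z₁ = 0 ∧ z₂ = 0)
    (γ : MulAut (Cfsg.POmega F (Cfsg.quadFormMinus m F a b)))
    (hγ : Cfsg.IsGraphAutClassPOmegaMinus m a b γ) (hγ2 : orderOf γ = 2) :
    (Cfsg.splitClassCount (Cfsg.inndiagPOmegaMinus m F a b)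
        (Cfsg.Inn (Cfsg.POmega F (Cfsg.quadFormMinus m F a b))) γ = 1 ∨
      Cfsg.splitClassCount (Cfsg.inndiagPOmegaMinus m F a b)
        (Cfsg.Inn (Cfsg.POmega F (Cfsg.quadFormMinus m F a b))) γ = 2) ∧
    (¬ (Even m ∧ Fintype.card F % 4 = 1) →
      Cfsg.splitClassCount (Cfsg.inndiagPOmegaMinus m F a b)
        (Cfsg.Inn (Cfsg.POmega F (Cfsg.quadFormMinus m F a b))) γ = 2) := by
  have h2 : (2 : F) ≠ 0 := two_ne_zero_of_odd_card rfl hodd
  obtain ⟨p, hpc⟩ := CharP.exists F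
  obtain ⟨f, hpp, hF⟩ := FiniteField.card F p
  have : Fact p.Prime := ⟨hpp⟩
  have hp : p ≠ 2 := by
    rintro rfl
    rw [hF] at hodd
    have h0 : (f : ℕ) ≠ 0 := f.pos.ne'
    exact (Nat.not_even_iff_odd.mpr hodd) ((Nat.even_pow.mpr ⟨even_two, h0⟩))
  have hcard : Fintype.card ((Fin m ⊕ Fin m) ⊕ Fin 2) = 2 * (m + 1) := by
    rw [Fintype.card_sum, Fintype.card_sum, Fintype.card_fin, Fintype.card_fin]; omega
  have C : OC (qdataMinus43 m a b hab).qf :=
    ⟨(qdataMinus43 m a b hab).qf_nondeg, by rw [hcard]; omega⟩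
  have hu0 : (qdataMinus43 m a b hab).qf (Pi.single (Sum.inr 0) 1) = 1 := by
    show Cfsg.quadFormMinus m F a b (Pi.single (Sum.inr 0) 1) = 1
    rw [quadFormMinus_eq]
    unfold qb
    simp
  have hE : Cfsg.inndiagPOmegaMinus m F a b = Esub (qdataMinus43 m a b hab).qf hu0 (m + 1) :=
    inndiagMinus_eq m a b h2 hab _ rfl hu0
  obtain ⟨hγΓ, hγD, -⟩ := hγ
  have hγγ : γ * γ = 1 := by
    have h1 : γ ^ orderOf γ = 1 := pow_orderOf_eq_one γ
    rw [hγ2, pow_two] at h1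
    exact h1
  have hγP := mem_pgoAut_of_sq hF hp h2 hm a b hab γ hγγ
  rw [pgoAut_eq] at hγP
  obtain ⟨t, ht⟩ := hγP
  rw [hE] at hγD ⊢
  have hδt : delta (qdataMinus43 m a b hab).qf hu0 (m + 1) t ≠ 1 := by
    intro h
    apply hγD
    rw [← ht]
    exact (autPO_mem_Esub_iff hu0 (m + 1) C p hcard t).mpr h
  have hsc := Cfsg.Agent.Lib.Helper07.splitClassCount_eq_relIndex
    (Esub (qdataMinus43 m a b hab).qf hu0 (m + 1))
    (Cfsg.Inn (Cfsg.POmega F ⇑(qdataMinus43 m a b hab).qf)) (inn_le_Esub hu0 (m + 1)) γ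
  obtain ⟨e, he⟩ : ∃ e : Fin 3 → ((Fin m ⊕ Fin m) ⊕ Fin 2 → F),
      e = fun i => Pi.single (Sum.inl (Sum.inl (Fin.castLE hm i))) 1 := ⟨_, rfl⟩
  obtain ⟨f', hf'⟩ : ∃ f' : Fin 3 → ((Fin m ⊕ Fin m) ⊕ Fin 2 → F),
      f' = fun i => Pi.single (Sum.inl (Sum.inr (Fin.castLE hm i))) 1 := ⟨_, rfl⟩
  have HT : HypTriple (qdataMinus43 m a b hab).qf e f' := by
    rw [he, hf']; exact hypTriple_minus (F := F) m hm a b hab
  have hres := inndiag_minus_main m a b hodd hm hab ⇑(qdataMinus43 m a b hab).qf rfl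
    (Esub (qdataMinus43 m a b hab).qf hu0 (m + 1))
    (inndiagMinus_eq m a b h2 hab (qdataMinus43 m a b hab).qf rfl hu0).symm
  have hpar : Odd (m + 1) ↔ Even m := by
    constructor
    · intro h
      by_contra hne
      rw [Nat.not_even_iff_odd] at hne
      exact (Nat.not_even_iff_odd.mpr h) hne.add_one
    · intro h; exact h.add_one
  have hpar' : Even (m + 1) ↔ Odd m := by
    constructor
    · intro h
      by_contra hne
      rw [Nat.not_odd_iff_even] at hne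
      exact (Nat.not_odd_iff_even.mpr h) hne.add_one
    · intro h; exact h.add_one
  have hI4 : (Odd (m + 1) ∧ Fintype.card F % 4 = 3) →
      (Cfsg.Inn (Cfsg.POmega F ⇑(qdataMinus43 m a b hab).qf)).relIndex
        (Esub (qdataMinus43 m a b hab).qf hu0 (m + 1)) = 4 ∧
      ∀ x ∈ Esub (qdataMinus43 m a b hab).qf hu0 (m + 1),
        ∀ y ∈ Esub (qdataMinus43 m a b hab).qf hu0 (m + 1),
        x * y * x⁻¹ * y⁻¹ ∈ Cfsg.Inn (Cfsg.POmega F ⇑(qdataMinus43 m a b hab).qf) := by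
    rintro ⟨h1, h3⟩
    obtain ⟨φ, hφ, hk⟩ := hres.1 ⟨hpar.mp h1, h3⟩
    refine ⟨?_, comm_mem_of_surj _ _ φ hk⟩
    rw [relIndex_of_surj _ _ φ hφ hk]
    simp [Nat.card_eq_fintype_card]
  have hI2 : ¬ (Odd (m + 1) ∧ Fintype.card F % 4 = 3) →
      (Cfsg.Inn (Cfsg.POmega F ⇑(qdataMinus43 m a b hab).qf)).relIndex
        (Esub (qdataMinus43 m a b hab).qf hu0 (m + 1)) = 2 := by
    intro hno
    obtain ⟨φ, hφ, hk⟩ := hres.2 (fun h => hno ⟨hpar.mpr h.1, h.2⟩)
    rw [relIndex_of_surj _ _ φ hφ hk]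
    simp [Nat.card_eq_fintype_card]
  have hS := Cfsg.Agent.S0791.result (F := F) rfl hodd (m + 1) (by omega) a b hab
  have hneg4 : (Odd (m + 1) ∧ Fintype.card F % 4 = 3) →
      ∃ g : ↥(Cfsg.isometryGroup F ⇑(qdataMinus43 m a b hab).qf),
        g ∈ Cfsg.Omega F ⇑(qdataMinus43 m a b hab).qf ∧
        ((g : GL ((Fin m ⊕ Fin m) ⊕ Fin 2) F) :
          Matrix ((Fin m ⊕ Fin m) ⊕ Fin 2) ((Fin m ⊕ Fin m) ⊕ Fin 2) F) = -1 := by
    rintro ⟨h1, h3⟩
    exact hS.mpr (pow_mod_four_of_mod_three_odd h3 h1)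
  have hnegE : Even (m + 1) →
      ¬ ∃ g : ↥(Cfsg.isometryGroup F ⇑(qdataMinus43 m a b hab).qf),
        g ∈ Cfsg.Omega F ⇑(qdataMinus43 m a b hab).qf ∧
        ((g : GL ((Fin m ⊕ Fin m) ⊕ Fin 2) F) :
          Matrix ((Fin m ⊕ Fin m) ⊕ Fin 2) ((Fin m ⊕ Fin m) ⊕ Fin 2) F) = -1 := by
    intro he hex
    have h3 := hS.mp hex
    have hq4 : Fintype.card F % 4 = 1 ∨ Fintype.card F % 4 = 3 := by
      rcases hodd with ⟨r, hr⟩
      omega
    rcases hq4 with h | h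
    · rw [pow_mod_four_of_mod_one h (m + 1)] at h3
      omega
    · rw [pow_mod_four_of_mod_three_even h he] at h3
      omega
  have hanti : ∀ (M : Matrix ((Fin m ⊕ Fin m) ⊕ Fin 2) ((Fin m ⊕ Fin m) ⊕ Fin 2) F) (c : F),
      c ≠ 0 → M * M = (c * c) • 1 →
      (∀ v, (qdataMinus43 m a b hab).qf (M *ᵥ v) = -(c * c) * (qdataMinus43 m a b hab).qf v) →
      False := by
    intro M c hc hM hμ
    exact Cfsg.Agent.Lib.Helper01.S2719K.false_of_anti_minus h2 a b hab M c hc hM hμ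
  obtain ⟨d, hdns, hdδ⟩ :=
    Cfsg.Agent.Lib.Helper77.S2719K.exists_sim_nonsquare_delta_one hodd hm a b hab hu0
  have hcore := s2719_core (qdataMinus43 m a b hab).qf hodd h2 C p (m + 1) (by omega) hcard hu0
    e f' HT hI4 hI2 hneg4 hnegE hanti d hdns hdδ t hδt (by rw [ht]; exact hγγ)
  rw [ht] at hcore
  refine ⟨?_, fun hno => ?_⟩
  · rcases hcore.1 with h | h
    · left; exact hsc.trans h
    · right; exact hsc.trans h
  · exact hsc.trans (hcore.2 (fun h => hno ⟨hpar.mp h.1, h.2⟩))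

end minus

end Cfsg.Agent.Lib.Helper19.S2719K
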