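import Mathlib
import Cfsg.Agent.Lib.Helper19.Recog

set_option autoImplicit false

/-! K-S4751-E3: a group of order 24 with a self-centralizing normal four-subgroup is `S₄`. -/

namespace Cfsg.Agent.Lib.Helper19.S4751

universe u

section core

variable {K : Type u} [Group K]

theorem inv_eq_self_of_sq {v : K} (h : v * v = 1) : v⁻¹ = v := inv_eq_of_mul_eq_one_left h

theorem comm_of_exp_two (V : Subgroup K) (hexp : ∀ v ∈ V, v * v = 1) {a b : K} (ha : a ∈ V)
    (hb : b ∈ V) : a * b = b * a := by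
  have h1 := hexp (a * b) (V.mul_mem ha hb)
  have h2 := inv_eq_self_of_sq (hexp a ha)
  have h3 := inv_eq_self_of_sq (hexp b hb)
  have h4 : (a * b)⁻¹ = a * b := inv_eq_self_of_sq h1
  rw [mul_inv_rev, h2, h3] at h4
  exact h4.symm

theorem mem_zpowers_of_sq {v y : K} (hv : v * v = 1) (hy : y ∈ Subgroup.zpowers v) :
    y = 1 ∨ y = v := by
  obtain ⟨k, rfl⟩ := Subgroup.mem_zpowers_iff.1 hy
  have hv2 : v ^ (2 : ℤ) = 1 := by rw [zpow_two]; exact hv
  rcases Int.even_or_odd' k with ⟨j, hj | hj⟩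
  · left
    rw [hj, zpow_mul, hv2, one_zpow]
  · right
    rw [hj, zpow_add, zpow_mul, hv2, one_zpow, one_mul, zpow_one]

/-- two elements of a four-group with exponent two outside `{1, v}` differ by `v`. -/
theorem four_cases [Finite K] (V : Subgroup K) (hV : Nat.card V = 4) (hexp : ∀ v ∈ V, v * v = 1)
    {v w y : K} (hv : v ∈ V) (hw : w ∈ V) (hy : y ∈ V) (hv1 : v ≠ 1) (hw1 : w ≠ 1) (hwv : w ≠ v)
    (hy1 : y ≠ 1) (hyv : y ≠ v) : y = w ∨ y = v * w := by
  have hvv := hexp v hv
  have hord : orderOf v = 2 := orderOf_eq_prime (by rw [pow_two]; exact hvv) hv1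
  have hZle : Subgroup.zpowers v ≤ V := by
    rw [Subgroup.zpowers_le]; exact hv
  have hZcard : Nat.card (Subgroup.zpowers v) = 2 := by rw [Nat.card_zpowers, hord]
  have hidx : ((Subgroup.zpowers v).subgroupOf V).index = 2 := by
    have h1 := Subgroup.card_mul_index ((Subgroup.zpowers v).subgroupOf V)
    rw [Nat.card_congr (Subgroup.subgroupOfEquivOfLe hZle).toEquiv, hZcard, hV] at h1
    omega
  have hmem : ∀ z : K, ∀ hz : z ∈ V,
      ((⟨z, hz⟩ : ↥V) ∈ (Subgroup.zpowers v).subgroupOf V ↔ z ∈ Subgroup.zpowers v) :=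
    fun z hz => Subgroup.mem_subgroupOf
  have hyZ : (⟨y, hy⟩ : ↥V) ∉ (Subgroup.zpowers v).subgroupOf V := by
    rw [hmem]
    intro h
    rcases mem_zpowers_of_sq hvv h with h | h
    · exact hy1 h
    · exact hyv h
  have hwZ : (⟨w, hw⟩ : ↥V) ∉ (Subgroup.zpowers v).subgroupOf V := by
    rw [hmem]
    intro h
    rcases mem_zpowers_of_sq hvv h with h | h
    · exact hw1 h
    · exact hwv h
  have h3 : (⟨y, hy⟩ : ↥V) * ⟨w, hw⟩ ∈ (Subgroup.zpowers v).subgroupOf V := by
    rw [Subgroup.mul_mem_iff_of_index_two hidx]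
    exact ⟨fun h => absurd h hyZ, fun h => absurd h hwZ⟩
  have h4 : y * w ∈ Subgroup.zpowers v := (hmem (y * w) (V.mul_mem hy hw)).1 h3
  have hww := hexp w hw
  rcases mem_zpowers_of_sq hvv h4 with h | h
  · left
    calc y = y * (w * w) := by rw [hww, mul_one]
      _ = (y * w) * w := by rw [mul_assoc]
      _ = w := by rw [h, one_mul]
  · right
    calc y = y * (w * w) := by rw [hww, mul_one]
      _ = (y * w) * w := by rw [mul_assoc]
      _ = v * w := by rw [h]

/-- an element of order dividing three commuting with a non-identity element of the four-group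
centralizes it. -/
theorem centralizes_of_fix [Finite K] (V : Subgroup K) (hVn : V.Normal) (hV : Nat.card V = 4)
    (hexp : ∀ v ∈ V, v * v = 1) {x v : K} (hx : x ^ 3 = 1) (hv : v ∈ V) (hv1 : v ≠ 1)
    (hxv : x * v = v * x) : ∀ w ∈ V, x * w = w * x := by
  intro w hw
  by_cases hw1 : w = 1
  · rw [hw1, mul_one, one_mul]
  by_cases hwv : w = v
  · rw [hwv]; exact hxv
  have hw' : x * w * x⁻¹ ∈ V := hVn.conj_mem w hw x
  have hw'1 : x * w * x⁻¹ ≠ 1 := by
    intro h
    apply hw1
    have : w = x⁻¹ * (x * w * x⁻¹) * x := by group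
    rw [this, h]; group
  have hw'v : x * w * x⁻¹ ≠ v := by
    intro h
    apply hwv
    have : w = x⁻¹ * (x * w * x⁻¹) * x := by group
    rw [this, h, mul_assoc, ← hxv, ← mul_assoc, inv_mul_cancel, one_mul]
  rcases four_cases V hV hexp hv hw hw' hv1 hw1 hwv hw'1 hw'v with h | h
  · calc x * w = (x * w * x⁻¹) * x := by group
      _ = w * x := by rw [h]
  · -- `x² ` commutes with `w`
    have h2 : x * (x * w * x⁻¹) * x⁻¹ = w := by
      rw [h]
      have e1 : x * (v * w) * x⁻¹ = (x * v * x⁻¹) * (x * w * x⁻¹) := by group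
      have e2 : x * v * x⁻¹ = v := by rw [hxv, mul_inv_cancel_right]
      rw [e1, e2, h, ← mul_assoc, hexp v hv, one_mul]
    have h3 : Commute (x * x) w := by
      show x * x * w = w * (x * x)
      calc x * x * w = (x * (x * w * x⁻¹) * x⁻¹) * (x * x) := by group
        _ = w * (x * x) := by rw [h2]
    have h4 : (x * x) * (x * x) = x := by
      have hx3 : x * x * x = 1 := by
        rw [← hx, pow_succ, pow_two]
      calc (x * x) * (x * x) = (x * x * x) * x := by simp only [mul_assoc]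
        _ = x := by rw [hx3, one_mul]
    have h5 := h3.mul_left h3
    rw [h4] at h5
    exact h5

/-- the core statement, for a group `K` of order 24. -/
theorem s4_core [Finite K] (hK : Nat.card K = 24) (V : Subgroup K) (hVn : V.Normal)
    (hV : Nat.card V = 4) (hexp : ∀ v ∈ V, v * v = 1)
    (hself : ∀ k : K, (∀ v ∈ V, k * v = v * k) → k ∈ V) :
    Nonempty (K ≃* Equiv.Perm (Fin 4)) := by
  classical
  have : Fact (Nat.Prime 3) := ⟨by norm_num⟩
  obtain ⟨P⟩ : Nonempty (Sylow 3 K) := inferInstance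
  have hfac : (24 : ℕ).factorization 3 = 1 := by
    show (3 * 8).factorization 3 = 1
    rw [Nat.factorization_mul (by norm_num) (by norm_num)]
    simp [Nat.Prime.factorization_self (by norm_num : Nat.Prime 3),
      Nat.factorization_eq_zero_of_not_dvd (by norm_num : ¬ 3 ∣ 8)]
  have hP : Nat.card (P : Subgroup K) = 3 := by
    rw [Sylow.card_eq_multiplicity, hK, hfac, pow_one]
  have hPV : (P : Subgroup K) ⊓ V = ⊥ :=
    (Subgroup.disjoint_of_coprime_natCard (by rw [hP, hV]; norm_num)).eq_bot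
  -- an element of order three
  have hPne : (P : Subgroup K) ≠ ⊥ := by
    intro h
    rw [h, Subgroup.card_bot] at hP
    omega
  obtain ⟨⟨x, hxP⟩, hx1'⟩ := (Subgroup.ne_bot_iff_exists_ne_one).1 hPne
  have hx1 : x ≠ 1 := fun h => hx1' (Subtype.ext h)
  have hx3 : x ^ 3 = 1 := by
    have h1 : (⟨x, hxP⟩ : ↥(P : Subgroup K)) ^ Nat.card (P : Subgroup K) = 1 := pow_card_eq_one'
    rw [hP] at h1
    exact congrArg Subtype.val h1
  have hxV : x ∉ V := by
    intro h
    have h1 : x ∈ (P : Subgroup K) ⊓ V := ⟨hxP, h⟩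
    rw [hPV, Subgroup.mem_bot] at h1
    exact hx1 h1
  -- `x` commutes with no non-identity element of `V`
  have hfree : ∀ v ∈ V, v ≠ 1 → x * v ≠ v * x := by
    intro v hv hv1 hxv
    exact hxV (hself x (centralizes_of_fix V hVn hV hexp hx3 hv hv1 hxv))
  -- `P` is not normal
  have hPn : ¬ (P : Subgroup K).Normal := by
    intro hn
    apply hxV
    apply hself
    intro v hv
    have h1 : v * x * v⁻¹ * x⁻¹ ∈ (P : Subgroup K) ⊓ V := by
      constructor
      · exact (P : Subgroup K).mul_mem (hn.conj_mem x hxP v) ((P : Subgroup K).inv_mem hxP)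
      · have h2 : v * x * v⁻¹ * x⁻¹ = v * (x * v⁻¹ * x⁻¹) := by group
        rw [h2]
        exact V.mul_mem hv (hVn.conj_mem _ (V.inv_mem hv) x)
    rw [hPV, Subgroup.mem_bot] at h1
    calc x * v = (v * x * v⁻¹ * x⁻¹)⁻¹ * (v * x) := by group
      _ = v * x := by rw [h1, inv_one, one_mul]
  -- the normalizer has order six
  have hidxP : (P : Subgroup K).index = 8 := by
    have h1 := Subgroup.card_mul_index (P : Subgroup K)
    rw [hP, hK] at h1
    omega
  have hn3 : Nat.card (Sylow 3 K) = 4 := by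
    have h1 : Nat.card (Sylow 3 K) ≡ 1 [MOD 3] := card_sylow_modEq_one 3 K
    have h2 : Nat.card (Sylow 3 K) ∣ 8 := by
      rw [← hidxP]; exact Sylow.card_dvd_index P
    have h3 : Nat.card (Sylow 3 K) ≤ 8 := Nat.le_of_dvd (by norm_num) h2
    have h4 : Nat.card (Sylow 3 K) ≠ 1 := by
      intro h
      rw [Sylow.card_eq_index_normalizer P, Subgroup.index_eq_one] at h
      exact hPn (Subgroup.normalizer_eq_top_iff.1 h)
    unfold Nat.ModEq at h1
    interval_cases (Nat.card (Sylow 3 K)) <;> omega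
  have hN6 : Nat.card (Subgroup.normalizer ((P : Subgroup K) : Set K)) = 6 := by
    have h1 := Subgroup.card_mul_index (Subgroup.normalizer ((P : Subgroup K) : Set K))
    have h2 : (Subgroup.normalizer ((P : Subgroup K) : Set K)).index = 4 := by
      rw [← hn3]
      exact (Sylow.card_eq_index_normalizer P).symm
    rw [h2, hK] at h1
    omega
  refine Cfsg.Agent.Lib.Helper19.Recog.s4_of_card hK (P : Subgroup K) hP hN6 ?_
  by_contra hall
  have hall' : ∀ n ∈ Subgroup.normalizer ((P : Subgroup K) : Set K), ∀ y ∈ (P : Subgroup K),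
      n * y * n⁻¹ = y := by
    intro n hn y hy
    by_contra hne
    exact hall ⟨n, hn, y, hy, hne⟩
  -- an involution of the normalizer
  have : Fact (Nat.Prime 2) := ⟨by norm_num⟩
  obtain ⟨⟨t, htN⟩, ht⟩ := exists_prime_orderOf_dvd_card'
    (G := ↥(Subgroup.normalizer ((P : Subgroup K) : Set K))) 2 (by rw [hN6]; norm_num)
  have ht2 : orderOf t = 2 := by
    rw [← ht]
    exact (Subgroup.orderOf_mk t htN).symm
  have htt : t * t = 1 := by
    rw [← pow_two, ← ht2, pow_orderOf_eq_one]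
  have ht1 : t ≠ 1 := by
    intro h
    rw [h, orderOf_one] at ht2
    omega
  have htx : t * x = x * t := by
    have h1 := hall' t htN x hxP
    calc t * x = (t * x * t⁻¹) * t := by group
      _ = x * t := by rw [h1]
  have htinv : t⁻¹ = t := inv_eq_self_of_sq htt
  -- a non-identity element of `V` fixed by `t`
  obtain ⟨u, huV, hu1, htu⟩ : ∃ u ∈ V, u ≠ 1 ∧ t * u = u * t := by
    have hVne : V ≠ ⊥ := by
      intro h
      rw [h, Subgroup.card_bot] at hV
      omega
    obtain ⟨⟨v₀, hv₀⟩, hv₀1'⟩ := (Subgroup.ne_bot_iff_exists_ne_one).1 hVne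
    have hv₀1 : v₀ ≠ 1 := fun h => hv₀1' (Subtype.ext h)
    have hc : t * v₀ * t⁻¹ ∈ V := hVn.conj_mem v₀ hv₀ t
    by_cases hu : v₀ * (t * v₀ * t⁻¹) = 1
    · refine ⟨v₀, hv₀, hv₀1, ?_⟩
      have h1 : t * v₀ * t⁻¹ = v₀ := by
        have h2 : t * v₀ * t⁻¹ = v₀⁻¹ := (inv_eq_of_mul_eq_one_right hu).symm
        rw [h2, inv_eq_self_of_sq (hexp v₀ hv₀)]
      calc t * v₀ = (t * v₀ * t⁻¹) * t := by group
        _ = v₀ * t := by rw [h1]
    · refine ⟨v₀ * (t * v₀ * t⁻¹), V.mul_mem hv₀ hc, hu, ?_⟩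
      have h1 : t * (v₀ * (t * v₀ * t⁻¹)) * t⁻¹ = v₀ * (t * v₀ * t⁻¹) := by
        have e1 : t * (v₀ * (t * v₀ * t⁻¹)) * t⁻¹ = (t * v₀ * t⁻¹) * (t * t * v₀ * (t * t)⁻¹) := by
          group
        rw [e1, htt]
        simp only [one_mul, inv_one, mul_one]
        exact comm_of_exp_two V hexp hc hv₀
      calc t * (v₀ * (t * v₀ * t⁻¹)) = (t * (v₀ * (t * v₀ * t⁻¹)) * t⁻¹) * t := by group
        _ = v₀ * (t * v₀ * t⁻¹) * t := by rw [h1]
  -- its conjugate under `x`
  have hu'V : x * u * x⁻¹ ∈ V := hVn.conj_mem u huV x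
  have hu'1 : x * u * x⁻¹ ≠ 1 := by
    intro h
    apply hu1
    have : u = x⁻¹ * (x * u * x⁻¹) * x := by group
    rw [this, h]; group
  have hu'u : x * u * x⁻¹ ≠ u := by
    intro h
    apply hfree u huV hu1
    calc x * u = (x * u * x⁻¹) * x := by group
      _ = u * x := by rw [h]
  have htu' : t * (x * u * x⁻¹) = (x * u * x⁻¹) * t := by
    calc t * (x * u * x⁻¹) = (t * x) * u * x⁻¹ := by group
      _ = x * (t * u) * x⁻¹ := by rw [htx]; group
      _ = x * u * (t * x⁻¹) := by rw [htu]; group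
      _ = x * u * (x⁻¹ * t) := by
          have : t * x⁻¹ = x⁻¹ * t := by
            calc t * x⁻¹ = x⁻¹ * (x * t) * x⁻¹ := by group
              _ = x⁻¹ * (t * x) * x⁻¹ := by rw [htx]
              _ = x⁻¹ * t := by group
          rw [this]
      _ = (x * u * x⁻¹) * t := by group
  -- `t` centralizes `V`
  have htV : t ∈ V := by
    apply hself
    intro y hy
    by_cases hy1 : y = 1
    · rw [hy1, mul_one, one_mul]
    by_cases hyu : y = u
    · rw [hyu]; exact htu
    rcases four_cases V hV hexp huV hu'V hy hu1 hu'1 hu'u hy1 hyu with h | h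
    · rw [h]; exact htu'
    · rw [h, ← mul_assoc, htu, mul_assoc, htu', ← mul_assoc]
  exact hfree t htV ht1 htx.symm

end core

/-- **K-S4751-E3**. -/
theorem s4_of_selfCentralizing_four {G : Type u} [Group G] [Finite G] (H N : Subgroup G)
    (hNH : N ≤ H) (hnorm : ∀ h ∈ H, ∀ x ∈ N, h * x * h⁻¹ ∈ N) (hH : Nat.card H = 24)
    (hN : Nat.card N = 4) (hexp : ∀ x ∈ N, x * x = 1)
    (hself : ∀ h ∈ H, (∀ x ∈ N, h * x = x * h) → h ∈ N) :
    Nonempty (H ≃* Equiv.Perm (Fin 4)) := by
  apply s4_core hH (N.subgroupOf H)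
  · constructor
    intro n hn g
    rw [Subgroup.mem_subgroupOf] at hn ⊢
    exact hnorm g.1 g.2 n.1 hn
  · rw [Nat.card_congr (Subgroup.subgroupOfEquivOfLe hNH).toEquiv, hN]
  · intro v hv
    rw [Subgroup.mem_subgroupOf] at hv
    exact Subtype.ext (hexp v.1 hv)
  · intro k hk
    rw [Subgroup.mem_subgroupOf]
    apply hself k.1 k.2
    intro x hx
    have h1 := hk ⟨x, hNH hx⟩ (by rw [Subgroup.mem_subgroupOf]; exact hx)
    exact congrArg Subtype.val h1

end Cfsg.Agent.Lib.Helper19.S4751
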