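import Mathlib

/-! K-SNC-11 (S4073 converse pack, architect helper72): arithmetic. -/

set_option autoImplicit false

namespace Cfsg.Agent.Lib.Helper19.SNC

theorem odd_of_dvd_dickson (n k : ℕ) (hn : 1 ≤ n)
    (h : k ∣ (2 ^ n + 1) / Nat.gcd 2 (2 ^ n - 1) ∨ k ∣ (2 ^ n - 1) / Nat.gcd 2 (2 ^ n - 1)) : Odd k := by
  have hev : Even (2 ^ n) := (Nat.even_pow.2 ⟨even_two, by omega⟩)
  have hpos : 0 < 2 ^ n := by positivity
  have hodd1 : Odd (2 ^ n - 1) := by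
    obtain ⟨j, hj⟩ := hev
    exact ⟨j - 1, by omega⟩
  have hodd2 : Odd (2 ^ n + 1) := hev.add_one
  have hg : Nat.gcd 2 (2 ^ n - 1) = 1 := Nat.coprime_two_left.mpr hodd1
  rw [hg, Nat.div_one, Nat.div_one] at h
  rcases h with h | h
  · exact Odd.of_dvd_nat hodd2 h
  · exact Odd.of_dvd_nat hodd1 h

theorem prime_of_mersenne (n : ℕ) (h : (2 ^ n - 1).Prime) : n.Prime := by
  have hn1 : n ≠ 1 := by
    rintro rfl
    norm_num at h
  exact (Nat.prime_of_pow_sub_one_prime hn1 h).2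

theorem card_eq_two_or (n : ℕ) (hn : n.Prime) (c m : ℕ) (hc : 2 ≤ c) (h : c ^ m = 2 ^ n) :
    c = 2 ∨ c = 2 ^ n := by
  have hm : m ≠ 0 := by
    rintro rfl
    have h1 : 1 < 2 ^ n := Nat.one_lt_two_pow hn.ne_zero
    rw [pow_zero] at h
    omega
  have hcd : c ∣ 2 ^ n := by
    rw [← h]
    exact dvd_pow_self c hm
  obtain ⟨j, -, hj⟩ := (Nat.dvd_prime_pow Nat.prime_two).1 hcd
  subst hj
  rw [← pow_mul] at h
  have hjm : j * m = n := Nat.pow_right_injective (le_refl 2) h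
  have hjd : j ∣ n := ⟨m, hjm.symm⟩
  rcases (Nat.dvd_prime hn).1 hjd with rfl | rfl
  · left; norm_num
  · right; rfl

end Cfsg.Agent.Lib.Helper19.SNC
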