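import Mathlib
import Cfsg.Agent.Lib.Helper19.MinSimple

/-! K-SNC-9 (S4073 converse pack, architect helper72): `N(P)/P` has order dividing `q - 1` in `PSL₂(q)`, `q` even. -/

set_option autoImplicit false

namespace Cfsg.Agent.Lib.Helper19.SNC

open Cfsg.Agent.Lib.Helper19.TwoTrans Cfsg.Agent.Lib.Helper19.DicksonUse
  Cfsg.Agent.Lib.Helper19.MinSimple

/-- 407309 SNC-9. -/
theorem index_subgroupOf_sylow_dvd {F : Type} [Field F] [Fintype F] [CharP F 2]
    (P : Sylow 2 (Matrix.ProjectiveSpecialLinearGroup (Fin 2) F))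
    (K : Subgroup (Matrix.ProjectiveSpecialLinearGroup (Fin 2) F))
    (hK : K ≤ Subgroup.normalizer ((P : Subgroup (Matrix.ProjectiveSpecialLinearGroup (Fin 2) F)) :
      Set (Matrix.ProjectiveSpecialLinearGroup (Fin 2) F))) :
    ((P : Subgroup (Matrix.ProjectiveSpecialLinearGroup (Fin 2) F)).subgroupOf K).index ∣ Fintype.card F - 1 := by
  classical
  have hF2 : Fact (Nat.Prime 2) := ⟨Nat.prime_two⟩
  set G := Matrix.ProjectiveSpecialLinearGroup (Fin 2) F with hG
  set q := Fintype.card F with hq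
  -- `q = 2 ^ n`
  obtain ⟨n, hn⟩ := FiniteField.card F 2
  have hqn : q = 2 ^ (n : ℕ) := hn.2
  have hqpos : 0 < q := Fintype.card_pos
  have hqeven : Even q := by
    rw [hqn]
    exact (Nat.even_pow.2 ⟨even_two, n.ne_zero⟩)
  have hd : Nat.gcd 2 (q - 1) = 1 := gcd_two_even hqeven hqpos
  -- `|G| = q (q q - 1)`
  have hGcard : Nat.card G = q * (q * q - 1) := by
    have := card_psl_mul_d (F := F)
    rw [hd, mul_one] at this
    exact this
  -- `|Bbar| = q (q - 1)`
  have hB : Nat.card (Bbar F) = q * (q - 1) := by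
    have h1 := Subgroup.card_mul_index (Bbar F)
    rw [index_Bbar, hGcard] at h1
    have h2 : q * (q * q - 1) = q * (q - 1) * (q + 1) := by
      obtain ⟨j, hj⟩ : ∃ j, q = j + 1 := ⟨q - 1, by omega⟩
      rw [hj]
      have e1 : (j + 1) * (j + 1) - 1 = j * (j + 2) := by
        have : (j + 1) * (j + 1) = j * (j + 2) + 1 := by ring
        omega
      have e2 : j + 1 - 1 = j := by omega
      rw [e1, e2]; ring
    rw [h2] at h1
    exact Nat.eq_of_mul_eq_mul_right (by omega) h1
  -- conjugate `P` into `Ubar`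
  obtain ⟨x, hx⟩ := normalize1 2 (P : Subgroup G) P.isPGroup'
  set Q := (P : Subgroup G).map (MulAut.conj x).toMonoidHom with hQ
  have hNQ : Nat.card (Subgroup.normalizer (Q : Set G)) =
      Nat.card (Subgroup.normalizer ((P : Subgroup G) : Set G)) := by
    rw [hQ, ← Subgroup.map_equiv_normalizer_eq,
      Subgroup.card_map_of_injective (MulAut.conj x).injective]
  -- `q ∣ |P|`
  have hUp : IsPGroup 2 (Ubar F) := IsPGroup.of_card (n := (n : ℕ)) (by rw [card_Ubar]; exact hn.2)
  have hqP : q ∣ Nat.card (P : Subgroup G) := by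
    obtain ⟨P', hP'⟩ := hUp.exists_le_sylow
    have h1 : Nat.card (P' : Subgroup G) = Nat.card (P : Subgroup G) := by
      rw [Sylow.card_eq_multiplicity, Sylow.card_eq_multiplicity]
    rw [← h1, hq, ← card_Ubar (F := F)]
    exact Subgroup.card_dvd_of_le hP'
  have hPne : (P : Subgroup G) ≠ ⊥ := by
    intro h
    rw [h, Subgroup.card_bot] at hqP
    have : q = 1 := Nat.dvd_one.1 hqP
    have h2 : 2 ≤ q := Fintype.one_lt_card
    omega
  have hQne : Q ≠ ⊥ := by
    intro h
    apply hPne
    rw [hQ] at h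
    exact (Subgroup.map_eq_bot_iff_of_injective _ (MulAut.conj x).injective).mp h
  have hN := normalizer_le_Bbar Q hx hQne
  -- `|N(P)| ∣ q (q - 1)`
  have hNdvd : Nat.card (Subgroup.normalizer ((P : Subgroup G) : Set G)) ∣ q * (q - 1) := by
    rw [← hNQ, ← hB]
    exact Subgroup.card_dvd_of_le hN
  -- index of `P` in `N(P)`
  set N := Subgroup.normalizer ((P : Subgroup G) : Set G) with hNdef
  have hPN : (P : Subgroup G) ≤ N := Subgroup.le_normalizer
  have hcardPN : Nat.card ((P : Subgroup G).subgroupOf N) = Nat.card (P : Subgroup G) :=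
    Nat.card_congr (Subgroup.subgroupOfEquivOfLe hPN).toEquiv
  have hidx : Nat.card (P : Subgroup G) * ((P : Subgroup G).subgroupOf N).index = Nat.card N := by
    rw [← hcardPN]
    exact Subgroup.card_mul_index _
  have hm : ((P : Subgroup G).subgroupOf N).index ∣ q - 1 := by
    obtain ⟨s, hs⟩ := hqP
    rw [← hidx, hs] at hNdvd
    have h1 : q * (s * ((P : Subgroup G).subgroupOf N).index) ∣ q * (q - 1) := by
      rw [← mul_assoc]; exact hNdvd
    have h2 := Nat.dvd_of_mul_dvd_mul_left hqpos h1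
    exact dvd_trans (dvd_mul_left _ _) h2
  -- relative indices
  have : ((P : Subgroup G).subgroupOf N).Normal := Subgroup.normal_in_normalizer
  have h3 := Subgroup.relIndex_dvd_index_of_normal ((P : Subgroup G).subgroupOf N) (K.subgroupOf N)
  have h4 : ((P : Subgroup G).subgroupOf N).relIndex (K.subgroupOf N) = (P : Subgroup G).relIndex K :=
    Subgroup.relIndex_subgroupOf hK
  rw [h4] at h3
  exact dvd_trans h3 hm

end Cfsg.Agent.Lib.Helper19.SNC
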