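import Mathlib

set_option autoImplicit false

/-! Keystone 267626 (K-SPC-D1) of the pack for S2676: an element of the symplectic group has order
`p = char F` iff `(g - 1) ^ p = 0` and `g ≠ 1`. -/

namespace Cfsg.Agent.Lib.Helper19.SPC

open Matrix

variable {F : Type*} [Field F]

theorem orderOf_symplectic_eq_char_iff {p : ℕ} [Fact p.Prime] [CharP F p] {m : ℕ}
    (g : ↥(Matrix.symplecticGroup (Fin m) F)) :
    orderOf g = p ↔ ((g : Matrix (Fin m ⊕ Fin m) (Fin m ⊕ Fin m) F) - 1) ^ p = 0 ∧ g ≠ 1 := by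
  rw [orderOf_eq_prime_iff]
  have hcoe : g ^ p = 1 ↔ (g : Matrix (Fin m ⊕ Fin m) (Fin m ⊕ Fin m) F) ^ p = 1 := by
    constructor
    · intro h
      have := congrArg (fun x : ↥(Matrix.symplecticGroup (Fin m) F) =>
        (x : Matrix (Fin m ⊕ Fin m) (Fin m ⊕ Fin m) F)) h
      simpa using this
    · intro h
      apply Subtype.ext
      simpa using h
  rw [hcoe]
  rcases Nat.eq_zero_or_pos m with hm | hm
  · subst hm
    have hsub : ∀ a b : Matrix (Fin 0 ⊕ Fin 0) (Fin 0 ⊕ Fin 0) F, a = b := by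
      intro a b
      ext i
      rcases i with i | i <;> exact i.elim0
    constructor
    · rintro ⟨-, hne⟩
      exact absurd (Subtype.ext (hsub _ _)) hne
    · rintro ⟨-, hne⟩
      exact absurd (Subtype.ext (hsub _ _)) hne
  · haveI : Nonempty (Fin m ⊕ Fin m) := ⟨Sum.inl ⟨0, hm⟩⟩
    haveI : CharP (Matrix (Fin m ⊕ Fin m) (Fin m ⊕ Fin m) F) p := Matrix.charP p
    have hcomm : Commute (g : Matrix (Fin m ⊕ Fin m) (Fin m ⊕ Fin m) F) 1 := Commute.one_right _
    rw [sub_pow_char_of_commute p hcomm, one_pow, sub_eq_zero]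

end Cfsg.Agent.Lib.Helper19.SPC
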