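import Mathlib
import Cfsg.Prelude.Def_Solvable
import Cfsg.Prelude.Def_Local
import Cfsg.Prelude.Def_SolvableStructure
import Cfsg.Agent.Lib.Helper41.SchmidtPLDefs
import Cfsg.Agent.Lib.Helper81.Cores

set_option autoImplicit false

/-! Keystone 439412 (K-SPL-G1) of helper41's pack for S4394. -/

namespace Cfsg.Agent.Lib.Helper19.SPL

open Cfsg Cfsg.Agent.Lib.Helper41.SchmidtPL
open scoped commutatorElement

theorem yOf_facts {W : Type*} [Group W] [Finite W] {p : ℕ} [Fact p.Prime] {Q : Subgroup W}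
    (h : WCtx p Q) :
    zIn Q ≤ yOf Q ∧ yOf Q ≤ Cfsg.pCore p W ∧ (∀ y ∈ yOf Q, ∀ x ∈ Cfsg.pCore p W, y * x = x * y) ∧
      (∀ y ∈ yOf Q, y ^ p = 1) := by
  have hHn : (Cfsg.pCore p W).Normal := Cfsg.Agent.Lib.Helper81.pCore_normal p
  have hZY : zIn Q ≤ yOf Q := by
    unfold yOf
    intro z hz
    exact Subgroup.subset_normalClosure hz
  -- `zIn Q ≤ zIn H`
  have hZH : zIn Q ≤ zIn (Cfsg.pCore p W) := by
    intro z hz
    have hzc : ∀ x ∈ Cfsg.pCore p W, x * z = z * x := fun x hx => (mem_zIn.mp hz).2 x (h.le hx)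
    refine mem_zIn.mpr ⟨?_, hzc⟩
    apply h.cent
    rw [Subgroup.mem_centralizer_iff]
    intro x hx
    exact hzc x hx
  have hZHn : (zIn (Cfsg.pCore p W)).Normal := by
    unfold zIn
    have : (Subgroup.centralizer ((Cfsg.pCore p W : Subgroup W) : Set W)).Normal :=
      Subgroup.normal_centralizer
    exact Subgroup.normal_inf_normal _ _
  have hYZH : yOf Q ≤ zIn (Cfsg.pCore p W) := by
    unfold yOf
    exact Subgroup.normalClosure_le_normal hZH
  have hYH : yOf Q ≤ Cfsg.pCore p W := fun y hy => (mem_zIn.mp (hYZH hy)).1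
  have hYc : ∀ y ∈ yOf Q, ∀ x ∈ Cfsg.pCore p W, y * x = x * y := fun y hy x hx =>
    ((mem_zIn.mp (hYZH hy)).2 x hx).symm
  refine ⟨hZY, hYH, hYc, ?_⟩
  -- exponent `p`
  let E : Subgroup W :=
    { carrier := {y | y ∈ zIn (Cfsg.pCore p W) ∧ y ^ p = 1}
      one_mem' := ⟨Subgroup.one_mem _, one_pow _⟩
      mul_mem' := by
        rintro a b ⟨ha, hap⟩ ⟨hb, hbp⟩
        refine ⟨Subgroup.mul_mem _ ha hb, ?_⟩
        have hcomm : Commute a b := ((mem_zIn.mp ha).2 b (mem_zIn.mp hb).1).symm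
        rw [hcomm.mul_pow, hap, hbp, one_mul]
      inv_mem' := by
        rintro a ⟨ha, hap⟩
        exact ⟨Subgroup.inv_mem _ ha, by rw [inv_pow, hap, inv_one]⟩ }
  have hYE : yOf Q ≤ E := by
    unfold yOf Subgroup.normalClosure
    rw [Subgroup.closure_le]
    intro a ha
    rw [Group.mem_conjugatesOfSet_iff] at ha
    obtain ⟨z, hz, hconj⟩ := ha
    rw [isConj_iff] at hconj
    obtain ⟨c, rfl⟩ := hconj
    refine ⟨hZHn.conj_mem z (hZH hz) c, ?_⟩
    rw [conj_pow, h.schm.expZ z hz, mul_one, mul_inv_cancel]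
  intro y hy
  exact (hYE hy).2

end Cfsg.Agent.Lib.Helper19.SPL
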