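import Mathlib
import Cfsg.Prelude.Def_Solvable
import Cfsg.Prelude.Def_Local
import Cfsg.Prelude.Def_SolvableStructure
import Cfsg.Agent.Lib.Helper41.SchmidtPLDefs
import Cfsg.Agent.Lib.Helper81.Cores

set_option autoImplicit false

/-! Keystone 439413 (K-SPL-G2) of helper41's pack for S4394. -/

namespace Cfsg.Agent.Lib.Helper19.SPL

open Cfsg Cfsg.Agent.Lib.Helper41.SchmidtPL
open scoped commutatorElement

/-- the stability group of the chain `1 ≤ Y ≤ H` -/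
def stabChain {W : Type*} [Group W] (Y H : Subgroup W) [hY : Y.Normal] [hH : H.Normal] :
    Subgroup W where
  carrier := {s | (∀ y ∈ Y, s * y = y * s) ∧ ∀ x ∈ H, s * x * s⁻¹ * x⁻¹ ∈ Y}
  one_mem' := ⟨fun y _ => by rw [one_mul, mul_one], fun x _ => by
    rw [one_mul, inv_one, mul_one, mul_inv_cancel]; exact Subgroup.one_mem _⟩
  mul_mem' := by
    rintro s t ⟨hs1, hs2⟩ ⟨ht1, ht2⟩
    refine ⟨fun y hy => ?_, fun x hx => ?_⟩
    · rw [mul_assoc, ht1 y hy, ← mul_assoc, hs1 y hy, mul_assoc]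
    · have h1 : s * t * x * (s * t)⁻¹ * x⁻¹ =
          (s * (t * x * t⁻¹ * x⁻¹) * s⁻¹) * (s * x * s⁻¹ * x⁻¹) := by group
      rw [h1]
      exact Subgroup.mul_mem _ (hY.conj_mem _ (ht2 x hx) s) (hs2 x hx)
  inv_mem' := by
    rintro s ⟨hs1, hs2⟩
    refine ⟨fun y hy => ?_, fun x hx => ?_⟩
    · have := hs1 y hy
      calc s⁻¹ * y = s⁻¹ * (y * s) * s⁻¹ := by group
        _ = s⁻¹ * (s * y) * s⁻¹ := by rw [this]
        _ = y * s⁻¹ := by group
    · have hx' : s⁻¹ * x * s ∈ H := by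
        have := hH.conj_mem x hx s⁻¹
        rwa [inv_inv] at this
      have h1 := hs2 _ hx'
      have h2 : s⁻¹ * x * s⁻¹⁻¹ * x⁻¹ = (s * (s⁻¹ * x * s) * s⁻¹ * (s⁻¹ * x * s)⁻¹)⁻¹ := by group
      rw [h2]
      exact Subgroup.inv_mem _ h1

theorem mem_stabChain {W : Type*} [Group W] (Y H : Subgroup W) [hY : Y.Normal] [hH : H.Normal]
    (s : W) : s ∈ stabChain Y H ↔
      (∀ y ∈ Y, s * y = y * s) ∧ ∀ x ∈ H, s * x * s⁻¹ * x⁻¹ ∈ Y := Iff.rfl

theorem stabChain_normal {W : Type*} [Group W] (Y H : Subgroup W) [hY : Y.Normal] [hH : H.Normal] :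
    (stabChain Y H).Normal := by
  constructor
  rintro s ⟨hs1, hs2⟩ w
  refine ⟨fun y hy => ?_, fun x hx => ?_⟩
  · have hy' : w⁻¹ * y * w ∈ Y := by
      have := hY.conj_mem y hy w⁻¹
      rwa [inv_inv] at this
    have := hs1 _ hy'
    calc w * s * w⁻¹ * y = w * (s * (w⁻¹ * y * w)) * w⁻¹ := by group
      _ = w * ((w⁻¹ * y * w) * s) * w⁻¹ := by rw [this]
      _ = y * (w * s * w⁻¹) := by group
  · have hx' : w⁻¹ * x * w ∈ H := by
      have := hH.conj_mem x hx w⁻¹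
      rwa [inv_inv] at this
    have h1 := hs2 _ hx'
    have h2 : w * s * w⁻¹ * x * (w * s * w⁻¹)⁻¹ * x⁻¹ =
        w * (s * (w⁻¹ * x * w) * s⁻¹ * (w⁻¹ * x * w)⁻¹) * w⁻¹ := by group
    rw [h2]
    exact hY.conj_mem _ h1 w

theorem centralizer_yOf_le {W : Type*} [Group W] [Finite W] {p : ℕ} [Fact p.Prime] {Q : Subgroup W}
    (h : WCtx p Q)
    (hY : zIn Q ≤ yOf Q ∧ yOf Q ≤ Cfsg.pCore p W ∧
      (∀ y ∈ yOf Q, ∀ x ∈ Cfsg.pCore p W, y * x = x * y) ∧ (∀ y ∈ yOf Q, y ^ p = 1)) :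
    ∀ g ∈ Q, (∀ y ∈ yOf Q, g * y = y * g) → g ∈ Cfsg.pCore p W := by
  obtain ⟨hZY, hYH, hYc, hYp⟩ := hY
  have hHn : (Cfsg.pCore p W).Normal := Cfsg.Agent.Lib.Helper81.pCore_normal p
  have hHp : IsPGroup p (Cfsg.pCore p W) := Cfsg.Agent.Lib.Helper81.isPGroup_pCore p
  have hYn : (yOf Q).Normal := by unfold yOf; exact Subgroup.normalClosure_normal
  have hSn := stabChain_normal (yOf Q) (Cfsg.pCore p W)
  -- `stabChain` is a `p`-group
  have hSp : IsPGroup p (stabChain (yOf Q) (Cfsg.pCore p W)) := by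
    rintro ⟨s, hs1, hs2⟩
    have hpow : ∀ x ∈ Cfsg.pCore p W, ∀ n : ℕ,
        s ^ n * x * (s ^ n)⁻¹ = (s * x * s⁻¹ * x⁻¹) ^ n * x := by
      intro x hx n
      induction n with
      | zero => simp
      | succ n ih =>
        have hy := hs2 x hx
        have hcomm : Commute s ((s * x * s⁻¹ * x⁻¹) ^ n) := Commute.pow_right (hs1 _ hy) n
        have h1 : s ^ (n + 1) * x * (s ^ (n + 1))⁻¹ = s * (s ^ n * x * (s ^ n)⁻¹) * s⁻¹ := by
          rw [pow_succ']; group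
        rw [h1, ih, ← mul_assoc, hcomm.eq, pow_succ]
        group
    have hsp : s ^ p ∈ Cfsg.pCore p W := by
      apply h.cent
      rw [Subgroup.mem_centralizer_iff]
      intro x hx
      have h1 := hpow x hx p
      rw [hYp _ (hs2 x hx), one_mul] at h1
      calc x * s ^ p = (s ^ p * x * (s ^ p)⁻¹) * s ^ p := by rw [h1]
        _ = s ^ p * x := by group
    obtain ⟨k, hk⟩ := hHp ⟨s ^ p, hsp⟩
    refine ⟨k + 1, ?_⟩
    apply Subtype.ext
    have := congrArg (fun t : ↥(Cfsg.pCore p W) => (t : W)) hk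
    simp only [Subgroup.coe_pow, Subgroup.coe_one] at this ⊢
    rw [pow_succ', pow_mul]
    exact this
  have hSH : stabChain (yOf Q) (Cfsg.pCore p W) ≤ Cfsg.pCore p W :=
    Cfsg.Agent.Lib.Helper81.le_pCore hSn hSp
  intro g hg hgY
  apply hSH
  refine ⟨hgY, fun x hx => ?_⟩
  apply hZY
  have := h.schm.class2 g hg x (h.le hx)
  rwa [commutatorElement_def] at this

end Cfsg.Agent.Lib.Helper19.SPL
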