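import Mathlib
import Cfsg.Prelude.Def_Solvable
import Cfsg.Prelude.Def_Local
import Cfsg.Prelude.Def_SolvableStructure
import Cfsg.Agent.Lib.Helper41.SchmidtPLDefs
import Cfsg.Agent.Lib.Helper81.Cores

set_option autoImplicit false

/-! Keystone 439419 (K-SPL-G3b) of helper41's pack for S4394. -/

namespace Cfsg.Agent.Lib.Helper19.SPL

open Cfsg Cfsg.Agent.Lib.Helper41.SchmidtPL
open scoped commutatorElement

theorem pCore_comm {W : Type*} [Group W] [Finite W] {p : ℕ} [Fact p.Prime] {Q : Subgroup W}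
    (h : WCtx p Q)
    (hC : ∀ g ∈ Q, (∀ y ∈ yOf Q, g * y = y * g) → g ∈ Cfsg.pCore p W)
    (hZ : Nat.card (zIn Q) = p) :
    ∀ x ∈ Cfsg.pCore p W, ∀ y ∈ Cfsg.pCore p W, x * y = y * x := by
  have hp : p.Prime := Fact.out
  have hHn : (Cfsg.pCore p W).Normal := Cfsg.Agent.Lib.Helper81.pCore_normal p
  have hDn : (⁅Cfsg.pCore p W, Cfsg.pCore p W⁆ : Subgroup W).Normal := Subgroup.commutator_normal _ _
  have hDZ : ⁅Cfsg.pCore p W, Cfsg.pCore p W⁆ ≤ zIn Q := by
    rw [Subgroup.commutator_le]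
    intro a ha b hb
    exact h.schm.class2 a (h.le ha) b (h.le hb)
  by_cases hbot : ⁅Cfsg.pCore p W, Cfsg.pCore p W⁆ = ⊥
  · intro x hx y hy
    have h1 : ⁅x, y⁆ ∈ ⁅Cfsg.pCore p W, Cfsg.pCore p W⁆ := Subgroup.commutator_mem_commutator hx hy
    rw [hbot, Subgroup.mem_bot, commutatorElement_eq_one_iff_mul_comm] at h1
    exact h1
  · exfalso
    have hdvd : Nat.card ↥(⁅Cfsg.pCore p W, Cfsg.pCore p W⁆ : Subgroup W) ∣ p := by
      have h1 := Subgroup.card_dvd_of_le hDZ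
      rw [hZ] at h1
      exact h1
    have hcard : Nat.card ↥(⁅Cfsg.pCore p W, Cfsg.pCore p W⁆ : Subgroup W) = p := by
      rcases (Nat.dvd_prime hp).mp hdvd with h1 | h1
      · exact absurd (Subgroup.card_eq_one.mp h1) hbot
      · exact h1
    have heq : ⁅Cfsg.pCore p W, Cfsg.pCore p W⁆ = zIn Q := by
      apply Subgroup.eq_of_le_of_card_ge hDZ
      rw [hcard, hZ]
    have hZn : (zIn Q).Normal := by rw [← heq]; exact hDn
    have hYZ : yOf Q = zIn Q := by
      unfold yOf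
      exact Subgroup.normalClosure_eq_self (zIn Q)
    apply h.lt
    intro g hg
    apply hC g hg
    intro y hy
    rw [hYZ] at hy
    exact (mem_zIn.mp hy).2 g hg

end Cfsg.Agent.Lib.Helper19.SPL
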