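import Mathlib
import Cfsg.Prelude.Def_Solvable
import Cfsg.Prelude.Def_Local
import Cfsg.Prelude.Def_SolvableStructure
import Cfsg.Agent.Lib.Helper41.SchmidtPLDefs

set_option autoImplicit false

/-! Keystone 439414 (K-SPL-G4) of helper41's pack for S4394. -/

namespace Cfsg.Agent.Lib.Helper19.SPL

open Cfsg Cfsg.Agent.Lib.Helper41.SchmidtPL
open scoped commutatorElement

theorem normal_le_centralizer_yOf {W : Type*} [Group W] {Q : Subgroup W} (B : Subgroup W)
    (hB : B.Normal) (hBQ : B ≤ Q ⊔ Subgroup.centralizer (yOf Q : Set W)) :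
    B ≤ Subgroup.centralizer (yOf Q : Set W) := by
  have hYn : (yOf Q).Normal := by unfold yOf; exact Subgroup.normalClosure_normal
  have hCn : (Subgroup.centralizer (yOf Q : Set W)).Normal := Subgroup.normal_centralizer
  have hFn : (yOf Q ⊓ Subgroup.centralizer (B : Set W)).Normal := by
    have : (Subgroup.centralizer (B : Set W)).Normal := Subgroup.normal_centralizer
    exact Subgroup.normal_inf_normal _ _
  have hZY : zIn Q ≤ yOf Q := by
    unfold yOf
    intro z hz
    exact Subgroup.subset_normalClosure hz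
  have hZF : (zIn Q : Set W) ⊆ (yOf Q ⊓ Subgroup.centralizer (B : Set W) : Subgroup W) := by
    intro z hz
    refine ⟨hZY hz, ?_⟩
    show z ∈ Subgroup.centralizer (B : Set W)
    rw [Subgroup.mem_centralizer_iff]
    intro b hb
    have hb' := hBQ hb
    rw [Subgroup.mem_sup_of_normal_right] at hb'
    obtain ⟨q, hq, c, hc, rfl⟩ := hb'
    have h1 : q * z = z * q := (mem_zIn.mp hz).2 q hq
    have h2 : c * z = z * c := (Subgroup.mem_centralizer_iff.mp hc z (hZY hz)).symm
    rw [mul_assoc, h2, ← mul_assoc, h1, mul_assoc]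
  have hYF : yOf Q ≤ yOf Q ⊓ Subgroup.centralizer (B : Set W) := by
    conv_lhs => unfold yOf
    exact Subgroup.normalClosure_le_normal hZF
  intro b hb
  rw [Subgroup.mem_centralizer_iff]
  intro y hy
  have h3 : y ∈ Subgroup.centralizer (B : Set W) := (hYF hy).2
  rw [Subgroup.mem_centralizer_iff] at h3
  exact (h3 b hb).symm

end Cfsg.Agent.Lib.Helper19.SPL
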