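import Mathlib
import Cfsg.Prelude.Def_Solvable
import Cfsg.Prelude.Def_Local
import Cfsg.Prelude.Def_SolvableStructure
import Cfsg.Agent.Lib.Helper41.SchmidtPLDefs

set_option autoImplicit false

/-! Keystone 439405 (K-SPL-SA3c) of helper41's pack for S4394. -/

namespace Cfsg.Agent.Lib.Helper19.SPL

open Cfsg Cfsg.Agent.Lib.Helper41.SchmidtPL
open scoped commutatorElement

/-- powers in the first argument of a commutator that commutes with the first argument -/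
theorem commutatorElement_pow_left {W : Type*} [Group W] (x g : W)
    (h : x * ⁅x, g⁆ = ⁅x, g⁆ * x) (m : ℕ) : ⁅x ^ m, g⁆ = ⁅x, g⁆ ^ m := by
  induction m with
  | zero => simp [commutatorElement_def]
  | succ m ih =>
    have h1 : ⁅x ^ (m + 1), g⁆ = x * ⁅x ^ m, g⁆ * x⁻¹ * ⁅x, g⁆ := by
      simp only [commutatorElement_def, pow_succ']
      group
    have h2 : x * ⁅x, g⁆ ^ m = ⁅x, g⁆ ^ m * x := by
      have : Commute x (⁅x, g⁆ ^ m) := Commute.pow_right h m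
      exact this
    rw [h1, ih, h2, mul_assoc (⁅x, g⁆ ^ m), mul_inv_cancel, mul_one, pow_succ]

theorem expZ_of_camina {W : Type*} [Group W] {p : ℕ} [Fact p.Prime] {Q : Subgroup W}
    (hQ : IsPGroup p Q) (hnab : ∃ x ∈ Q, ∃ y ∈ Q, x * y ≠ y * x)
    (hcl : ∀ x ∈ Q, ∀ y ∈ Q, ⁅x, y⁆ ∈ zIn Q)
    (hcam : ∀ x ∈ Q, x ∉ zIn Q → ∀ z ∈ zIn Q, ∃ g ∈ Q, ⁅x, g⁆ = z) :
    ∀ z ∈ zIn Q, z ^ p = 1 := by
  classical
  obtain ⟨x0, hx0, y0, hy0, hxy⟩ := hnab
  have hx0Z : x0 ∉ zIn Q := by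
    intro h
    exact hxy ((mem_zIn.mp h).2 y0 hy0).symm
  obtain ⟨k, hk⟩ := hQ ⟨x0, hx0⟩
  have hk' : x0 ^ (p ^ k) = 1 := by
    have := congrArg (fun q : ↥Q => (q : W)) hk
    simpa using this
  have hex : ∃ n, x0 ^ (p ^ n) ∈ zIn Q := ⟨k, by rw [hk']; exact Subgroup.one_mem _⟩
  obtain ⟨n, hn⟩ : ∃ n, n = Nat.find hex := ⟨_, rfl⟩
  have hnZ : x0 ^ (p ^ n) ∈ zIn Q := by rw [hn]; exact Nat.find_spec hex
  have hn1 : 1 ≤ n := by
    rcases Nat.eq_zero_or_pos n with h0 | h0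
    · exfalso
      rw [h0, pow_zero, pow_one] at hnZ
      exact hx0Z hnZ
    · exact h0
  obtain ⟨x, hxdef⟩ : ∃ x, x = x0 ^ (p ^ (n - 1)) := ⟨_, rfl⟩
  have hxQ : x ∈ Q := by rw [hxdef]; exact Subgroup.pow_mem _ hx0 _
  have hxZ : x ∉ zIn Q := by
    rw [hxdef]
    have : n - 1 < Nat.find hex := by rw [← hn]; omega
    exact Nat.find_min hex this
  have hxp : x ^ p ∈ zIn Q := by
    rw [hxdef, ← pow_mul, ← pow_succ]
    have : n - 1 + 1 = n := by omega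
    rw [this]
    exact hnZ
  intro z hz
  obtain ⟨g, hg, hgz⟩ := hcam x hxQ hxZ z hz
  have hcomm : x * ⁅x, g⁆ = ⁅x, g⁆ * x := by
    rw [hgz]
    exact (mem_zIn.mp hz).2 x hxQ
  have h1 := commutatorElement_pow_left x g hcomm p
  rw [hgz] at h1
  rw [← h1, commutatorElement_def]
  have h2 : g * x ^ p = x ^ p * g := (mem_zIn.mp hxp).2 g hg
  rw [← h2]
  group

end Cfsg.Agent.Lib.Helper19.SPL
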