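import Mathlib
import Cfsg.Prelude.Def_Solvable
import Cfsg.Prelude.Def_Local
import Cfsg.Prelude.Def_SolvableStructure
import Cfsg.Agent.Lib.Helper41.SchmidtPLDefs

set_option autoImplicit false

/-! Keystone 439409 (K-SPL-SA4d) of helper41's pack for S4394. -/

namespace Cfsg.Agent.Lib.Helper19.SPL

open Cfsg Cfsg.Agent.Lib.Helper41.SchmidtPL
open scoped commutatorElement

/-- `zIn Q` is the image of the centre of `↥Q` -/
theorem zIn_eq_map_center {W : Type*} [Group W] (Q : Subgroup W) :
    zIn Q = (Subgroup.center ↥Q).map Q.subtype := by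
  ext z
  rw [mem_zIn, Subgroup.mem_map]
  constructor
  · rintro ⟨hz, hc⟩
    refine ⟨⟨z, hz⟩, ?_, rfl⟩
    rw [Subgroup.mem_center_iff]
    intro g
    apply Subtype.ext
    exact hc g g.2
  · rintro ⟨q, hq, rfl⟩
    refine ⟨q.2, fun x hx => ?_⟩
    rw [Subgroup.mem_center_iff] at hq
    have := congrArg (fun t : ↥Q => (t : W)) (hq ⟨x, hx⟩)
    exact this

theorem card_zIn_eq_card_center {W : Type*} [Group W] (Q : Subgroup W) :
    Nat.card (zIn Q) = Nat.card (Subgroup.center ↥Q) := by
  rw [zIn_eq_map_center]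
  exact Nat.card_congr
    ((Subgroup.center ↥Q).equivMapOfInjective Q.subtype Q.subtype_injective).symm.toEquiv

theorem card_zIn_of_card_cube {W : Type*} [Group W] {p : ℕ} [Fact p.Prime] {Q : Subgroup W}
    (hnab : ∃ x ∈ Q, ∃ y ∈ Q, x * y ≠ y * x) (hcard : Nat.card Q = p ^ 3) :
    Nat.card (zIn Q) = p := by
  have hp : p.Prime := Fact.out
  rw [card_zIn_eq_card_center]
  have hfin : Finite ↥Q := by
    apply Nat.finite_of_card_ne_zero
    rw [hcard]
    exact pow_ne_zero _ hp.ne_zero
  have hQp : IsPGroup p ↥Q := IsPGroup.of_card hcard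
  have hnt : Nontrivial ↥Q := by
    rw [← Finite.one_lt_card_iff_nontrivial, hcard]
    exact Nat.one_lt_pow (by norm_num) hp.one_lt
  obtain ⟨x, hx, y, hy, hxy⟩ := hnab
  have hnc : ¬ ∀ a b : ↥Q, a * b = b * a := by
    intro h
    apply hxy
    have := congrArg (fun t : ↥Q => (t : W)) (h ⟨x, hx⟩ ⟨y, hy⟩)
    exact this
  have hdvd : Nat.card (Subgroup.center ↥Q) ∣ p ^ 3 := by
    rw [← hcard]; exact Subgroup.card_subgroup_dvd_card _
  obtain ⟨m, hm, hmc⟩ := (Nat.dvd_prime_pow hp).mp hdvd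
  have hmul := Subgroup.card_eq_card_quotient_mul_card_subgroup (Subgroup.center ↥Q)
  rw [hcard, hmc] at hmul
  have hm0 : m ≠ 0 := by
    rintro rfl
    rw [pow_zero] at hmc
    have hnz := hQp.center_nontrivial
    rw [← Finite.one_lt_card_iff_nontrivial] at hnz
    omega
  have hm3 : m ≠ 3 := by
    rintro rfl
    apply hnc
    have htop : Subgroup.center ↥Q = ⊤ := by
      apply Subgroup.eq_top_of_card_eq
      rw [hmc, hcard]
    intro a b
    have : b ∈ Subgroup.center ↥Q := by rw [htop]; exact Subgroup.mem_top _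
    exact Subgroup.mem_center_iff.mp this a
  have hm2 : m ≠ 2 := by
    rintro rfl
    apply hnc
    have hq : Nat.card (↥Q ⧸ Subgroup.center ↥Q) = p := by
      have h1 : p ^ 3 = p * p ^ 2 := by ring
      rw [h1] at hmul
      exact (Nat.eq_of_mul_eq_mul_right (pow_pos hp.pos 2) hmul).symm
    have hcyc : IsCyclic (↥Q ⧸ Subgroup.center ↥Q) := isCyclic_of_prime_card hq
    intro a b
    have hmc' : IsMulCommutative ↥Q :=
      MonoidHom.isMulCommutative_of_isCyclic_of_ker_le_center
        (QuotientGroup.mk' (Subgroup.center ↥Q)) (by rw [QuotientGroup.ker_mk'])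
    exact hmc'.is_comm.comm a b
  have : m = 1 := by omega
  rw [hmc, this, pow_one]

end Cfsg.Agent.Lib.Helper19.SPL
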