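import Mathlib
import Cfsg.Agent.Lib.Helper07.SchurRed
import Cfsg.Agent.Lib.Helper40.SchurTwoB
import Cfsg.Agent.Lib.Helper34.SchurTwoC

/-!
# Keystone K-S2037-G (helper19, for helper95): no stem extension with kernel of order 2 over a
group with an odd-index subgroup `H = N ⋊ A` (`N` elementary abelian of rank ≤ 4, `A` alternating,
an element of order 5 of `A` acting freely on `N`).
-/

set_option autoImplicit false

namespace Cfsg.Agent.Lib.Helper19.SchurTwo

universe u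

open scoped commutatorElement

/-- commutators do not see central factors (left). -/
theorem commutatorElement_mul_central_left {E : Type*} [Group E] (k ε g : E)
    (hε : ∀ x : E, x * ε = ε * x) : ⁅k * ε, g⁆ = ⁅k, g⁆ := by
  rw [commutatorElement_def, commutatorElement_def, mul_inv_rev]
  have h : ε * g * ε⁻¹ = g := by rw [← hε g, mul_inv_cancel_right]
  calc k * ε * g * (ε⁻¹ * k⁻¹) * g⁻¹ = k * (ε * g * ε⁻¹) * k⁻¹ * g⁻¹ := by group
    _ = k * g * k⁻¹ * g⁻¹ := by rw [h]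

/-- commutators do not see central factors (right). -/
theorem commutatorElement_mul_central_right {E : Type*} [Group E] (g k ε : E)
    (hε : ∀ x : E, x * ε = ε * x) : ⁅g, k * ε⁆ = ⁅g, k⁆ := by
  rw [← commutatorElement_inv (k * ε) g, commutatorElement_mul_central_left k ε g hε,
    commutatorElement_inv]

/-- **K-S2037-G (core).** -/
theorem no_stem_two_of_split_data {G Γ : Type u} [Group G] [Group Γ] [Finite Γ]
    (σ : Γ →* G) (hσ : Function.Surjective σ)
    (z : Γ) (hz1 : z ≠ 1) (hz2 : z * z = 1) (hzc : ∀ x : Γ, x * z = z * x)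
    (hker : ∀ x : Γ, σ x = 1 ↔ (x = 1 ∨ x = z))
    (hzcomm : z ∈ commutator Γ)
    (hsq : ∀ x : Γ, σ x * σ x = 1 → x * x = 1)
    (H N A : Subgroup G) (hidx : ¬ 2 ∣ H.index) (hNH : N ≤ H) (hAH : A ≤ H)
    (hnorm : ∀ h ∈ H, ∀ n ∈ N, h * n * h⁻¹ ∈ N)
    (hNA : ∀ h ∈ H, ∃ n ∈ N, ∃ a ∈ A, h = n * a)
    (hdisj : ∀ x ∈ N, x ∈ A → x = 1)
    (hexp : ∀ n ∈ N, n * n = 1)
    (k : ℕ) (hk : 3 ≤ k) (eA : ↥A ≃* alternatingGroup (Fin k))
    (n₁ n₂ n₃ n₄ : G) (hn₁ : n₁ ∈ N) (hn₂ : n₂ ∈ N) (hn₃ : n₃ ∈ N) (hn₄ : n₄ ∈ N)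
    (hgen : N ≤ Subgroup.closure {n₁, n₂, n₃, n₄})
    (c : G) (hcA : c ∈ A) (hc5 : c ^ 5 = 1) (hcfix : ∀ n ∈ N, c * n * c⁻¹ = n → n = 1)
    (hKD : ∀ (E : Type u) [Group E] [Finite E] (π : E →* ↥A), Function.Surjective π →
      ∀ S : Subgroup E, π.ker ≤ S →
        (∀ F : Subgroup E, (∀ x : E, π x = ⟨c, hcA⟩ → x ∈ F) →
          S.relIndex F ≤ 16 ∧ S.relIndex F % 5 = 1) → S = ⊤) : False := by
  classical
  have hσz : σ z = 1 := (hker z).2 (Or.inr rfl)
  let HE : Subgroup Γ := H.comap σ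
  have hzH : z ∈ HE := by
    show σ z ∈ H
    rw [hσz]; exact H.one_mem
  let zE : HE := ⟨z, hzH⟩
  let σE : HE →* G := σ.comp HE.subtype
  have hσE : ∀ e : HE, σE e = σ e.1 := fun _ => rfl
  have hσEH : ∀ e : HE, σE e ∈ H := fun e => e.2
  let M : Subgroup HE := N.comap σE
  have hMn : M.Normal := ⟨fun m hm e => by
    show σE (e * m * e⁻¹) ∈ N
    rw [map_mul, map_mul, map_inv]
    exact hnorm _ (hσEH e) _ hm⟩
  have hzM : zE ∈ M := by
    show σ z ∈ N
    rw [hσz]; exact N.one_mem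
  have hzE1 : zE ≠ 1 := fun h => hz1 (congrArg Subtype.val h)
  have hzEc : ∀ x : HE, x * zE = zE * x := fun x => Subtype.ext (hzc x.1)
  have hMexp : ∀ m ∈ M, m * m = 1 := fun m hm => Subtype.ext (hsq m.1 (hexp _ hm))
  -- lifts of the generators of `N`
  have hlift : ∀ n ∈ N, ∃ m : HE, σE m = n := by
    intro n hn
    obtain ⟨x, hx⟩ := hσ n
    have hxH : x ∈ HE := by
      show σ x ∈ H
      rw [hx]; exact hNH hn
    exact ⟨⟨x, hxH⟩, hx⟩
  obtain ⟨m₁, hm₁σ⟩ := hlift n₁ hn₁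
  obtain ⟨m₂, hm₂σ⟩ := hlift n₂ hn₂
  obtain ⟨m₃, hm₃σ⟩ := hlift n₃ hn₃
  obtain ⟨m₄, hm₄σ⟩ := hlift n₄ hn₄
  have hm₁ : m₁ ∈ M := by show σE m₁ ∈ N; rw [hm₁σ]; exact hn₁
  have hm₂ : m₂ ∈ M := by show σE m₂ ∈ N; rw [hm₂σ]; exact hn₂
  have hm₃ : m₃ ∈ M := by show σE m₃ ∈ N; rw [hm₃σ]; exact hn₃
  have hm₄ : m₄ ∈ M := by show σE m₄ ∈ N; rw [hm₄σ]; exact hn₄
  have hgenM : M ≤ Subgroup.closure {zE, m₁, m₂, m₃, m₄} := by
    intro m hm
    have h1 : σE m ∈ Subgroup.closure {n₁, n₂, n₃, n₄} := hgen hm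
    have h2 : Subgroup.closure {n₁, n₂, n₃, n₄}
        = (Subgroup.closure {m₁, m₂, m₃, m₄}).map σE := by
      rw [MonoidHom.map_closure]
      congr 1
      simp only [Set.image_insert_eq, Set.image_singleton, hm₁σ, hm₂σ, hm₃σ, hm₄σ]
    rw [h2] at h1
    obtain ⟨w, hw, hwm⟩ := h1
    have hsub : Subgroup.closure {m₁, m₂, m₃, m₄} ≤ Subgroup.closure {zE, m₁, m₂, m₃, m₄} :=
      Subgroup.closure_mono (Set.subset_insert _ _)
    have h3 : σ (m * w⁻¹).1 = 1 := by
      have : σE (m * w⁻¹) = 1 := by rw [map_mul, map_inv, hwm, mul_inv_cancel]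
      exact this
    rcases (hker _).1 h3 with h | h
    · have h4 : m * w⁻¹ = 1 := Subtype.ext h
      have h5 : m = w := mul_inv_eq_one.mp h4
      rw [h5]; exact hsub hw
    · have h4 : m * w⁻¹ = zE := Subtype.ext h
      have h5 : m = zE * w := mul_inv_eq_iff_eq_mul.mp h4
      rw [h5]
      exact mul_mem (Subgroup.subset_closure (Set.mem_insert _ _)) (hsub hw)
  -- the splitting over `A`
  let EA : Subgroup Γ := A.comap σ
  let ρ : EA →* A := σ.subgroupComap A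
  have hρ : Function.Surjective ρ := σ.subgroupComap_surjective_of_surjective A hσ
  have hzA : z ∈ EA := by
    show σ z ∈ A
    rw [hσz]; exact A.one_mem
  obtain ⟨s, hs⟩ := Cfsg.Agent.Lib.Helper40.SchurTwo.split_alt k hk ρ hρ eA ⟨z, hzA⟩
    (Subtype.ext hz2) (fun x => Subtype.ext (hzc x.1))
    (fun x hx => by
      have h1 : σ x.1 = 1 := congrArg Subtype.val hx
      rcases (hker _).1 h1 with h | h
      · exact Or.inl (Subtype.ext h)
      · exact Or.inr (Subtype.ext h))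
    (fun x hx => by
      apply Subtype.ext
      apply hsq
      exact congrArg Subtype.val hx)
  let s' : A →* HE := (Subgroup.inclusion (Subgroup.comap_mono hAH)).comp s
  have hs' : ∀ a : A, σE (s' a) = a.1 := by
    intro a
    exact congrArg Subtype.val (hs a)
  -- the projection `π : HE → A` with kernel `M`
  let ψ : A →* HE ⧸ M := (QuotientGroup.mk' M).comp s'
  have hψinj : Function.Injective ψ := by
    rw [injective_iff_map_eq_one]
    intro a ha
    have h1 : s' a ∈ M := (QuotientGroup.eq_one_iff _).1 ha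
    have h2 : a.1 ∈ N := by rw [← hs' a]; exact h1
    exact Subtype.ext (hdisj _ h2 a.2)
  have hψsurj : Function.Surjective ψ := by
    intro q
    obtain ⟨e, rfl⟩ := QuotientGroup.mk_surjective q
    obtain ⟨n, hn, a, ha, hna⟩ := hNA _ (hσEH e)
    refine ⟨⟨a, ha⟩, ?_⟩
    show (QuotientGroup.mk (s' ⟨a, ha⟩) : HE ⧸ M) = QuotientGroup.mk e
    rw [QuotientGroup.eq]
    show σE ((s' ⟨a, ha⟩)⁻¹ * e) ∈ N
    rw [map_mul, map_inv, hs', hna]
    have h1 := hnorm a⁻¹ (H.inv_mem (hAH ha)) n hn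
    simpa [mul_assoc] using h1
  let eψ : A ≃* HE ⧸ M := MulEquiv.ofBijective ψ ⟨hψinj, hψsurj⟩
  let π : HE →* A := eψ.symm.toMonoidHom.comp (QuotientGroup.mk' M)
  have hπs : ∀ a : A, π (s' a) = a := by
    intro a
    show eψ.symm (eψ a) = a
    exact eψ.symm_apply_apply a
  have hπker : π.ker = M := by
    ext e
    rw [MonoidHom.mem_ker]
    show eψ.symm (QuotientGroup.mk e) = 1 ↔ e ∈ M
    rw [MulEquiv.map_eq_one_iff, QuotientGroup.eq_one_iff]
  have hπsurj : Function.Surjective π := fun a => ⟨s' a, hπs a⟩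
  -- the element of order five
  let c' : HE := s' ⟨c, hcA⟩
  have hc'5 : c' ^ 5 = 1 := by
    show s' ⟨c, hcA⟩ ^ 5 = 1
    rw [← map_pow]
    have h1 : (⟨c, hcA⟩ : A) ^ 5 = 1 := Subtype.ext hc5
    rw [h1, map_one]
  have hc'fix : ∀ m ∈ M, c' * m * c'⁻¹ = m → m = 1 ∨ m = zE := by
    intro m hm h
    have h1 : c * σE m * c⁻¹ = σE m := by
      have h0 := congrArg σE h
      rw [map_mul, map_mul, map_inv, hs'] at h0
      exact h0
    have h2 := hcfix _ hm h1
    rcases (hker _).1 h2 with h | h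
    · exact Or.inl (Subtype.ext h)
    · exact Or.inr (Subtype.ext h)
  obtain ⟨C, hCM, hzC, hcov, hcN, hMN, hF⟩ :=
    Cfsg.Agent.Lib.Helper34.SchurTwo.exists_invariant_complement M zE hzM hzE1 hzEc hMexp
      m₁ m₂ m₃ m₄ hm₁ hm₂ hm₃ hm₄ hgenM c' hc'5 hc'fix
  have hStop : Subgroup.normalizer (C : Set HE) = ⊤ :=
    hKD HE π hπsurj _ (by rw [hπker]; exact hMN) (fun F hFc => hF F (hFc c' (hπs _)))
  have hCn : C.Normal := Subgroup.normalizer_eq_top_iff.mp hStop
  -- the complement `K = C · s'(A)` of `⟨zE⟩`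
  let K : Subgroup HE := C ⊔ s'.range
  have hπM : ∀ m ∈ M, π m = 1 := by
    intro m hm
    rw [← MonoidHom.mem_ker, hπker]; exact hm
  have hzK : zE ∉ K := by
    intro h
    have h' : zE ∈ ((C ⊔ s'.range : Subgroup HE) : Set HE) := h
    rw [Subgroup.normal_mul] at h'
    obtain ⟨c₀, hc₀, t, ⟨a, rfl⟩, hct⟩ := Set.mem_mul.mp h'
    have h1 : π zE = 1 := hπM _ hzM
    have h2 : π c₀ = 1 := hπM _ (hCM hc₀)
    have h3 : a = 1 := by
      have h0 := congrArg π hct
      rw [map_mul, h2, one_mul, hπs, h1] at h0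
      exact h0
    rw [h3, map_one, mul_one] at hct
    exact hzC (hct ▸ hc₀)
  have hcovK : ∀ e : HE, e ∈ K ∨ e * zE ∈ K := by
    intro e
    have hm : e * (s' (π e))⁻¹ ∈ M := by
      rw [← hπker, MonoidHom.mem_ker, map_mul, map_inv, hπs, mul_inv_cancel]
    rcases hcov _ hm with h | h
    · left
      have h0 : e = (e * (s' (π e))⁻¹) * s' (π e) := by group
      rw [h0]
      exact mul_mem (Subgroup.mem_sup_left h) (Subgroup.mem_sup_right ⟨_, rfl⟩)
    · right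
      have h0 : e * zE = (e * (s' (π e))⁻¹ * zE) * s' (π e) := by
        rw [mul_assoc (e * (s' (π e))⁻¹), ← hzEc (s' (π e))]
        group
      rw [h0]
      exact mul_mem (Subgroup.mem_sup_left h) (Subgroup.mem_sup_right ⟨_, rfl⟩)
  have hcomm : commutator HE ≤ K := by
    rw [commutator_eq_closure, Subgroup.closure_le]
    rintro g ⟨g₁, g₂, rfl⟩
    have key : ∀ e : HE, ∃ k ∈ K, ∃ ε : HE, (∀ x : HE, x * ε = ε * x) ∧ e = k * ε := by
      intro e
      rcases hcovK e with h | h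
      · exact ⟨e, h, 1, fun x => by simp, by simp⟩
      · refine ⟨e * zE, h, zE, hzEc, ?_⟩
        rw [mul_assoc, show zE * zE = 1 from Subtype.ext hz2, mul_one]
    obtain ⟨k₁, hk₁, ε₁, hε₁, rfl⟩ := key g₁
    obtain ⟨k₂, hk₂, ε₂, hε₂, rfl⟩ := key g₂
    rw [SetLike.mem_coe, commutatorElement_mul_central_left k₁ ε₁ _ hε₁,
      commutatorElement_mul_central_right k₁ k₂ ε₂ hε₂, commutatorElement_def]
    exact K.mul_mem (K.mul_mem (K.mul_mem hk₁ hk₂) (K.inv_mem hk₁)) (K.inv_mem hk₂)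
  -- transfer
  have hord : orderOf z = 2 := orderOf_eq_prime (by rw [pow_two]; exact hz2) hz1
  have hidx' : HE.index = H.index := Subgroup.index_comap_of_surjective H hσ
  have hcop : (HE.index).Coprime (orderOf z) := by
    rw [hidx', hord]
    exact ((Nat.Prime.coprime_iff_not_dvd Nat.prime_two).2 hidx).symm
  have hzcomm' : zE ∈ commutator HE :=
    Cfsg.Agent.Lib.Helper07.mem_commutator_of_center_of_coprime_index HE z
      (Subgroup.mem_center_iff.mpr (fun g => hzc g)) hzcomm hzH hcop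
  exact hzK (hcomm hzcomm')

end Cfsg.Agent.Lib.Helper19.SchurTwo
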