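import Mathlib
import Cfsg.Agent.Lib.Helper98.PSL2MaxEven
import Cfsg.Agent.Lib.Helper19.MinSimple
import Cfsg.Agent.S0803

set_option autoImplicit false
set_option linter.unusedSimpArgs false
set_option linter.unusedSectionVars false
set_option linter.style.haveILetI false

/-!
# Solubilizers: general tools, and the proper subgroups of `PSL₂(2^p)`, `p` prime (helper19)
-/

namespace Cfsg.Agent.Lib.Helper19.Solub

open Subgroup

section general

variable {G : Type*} [Group G]

theorem solvable_of_le {H K : Subgroup G} (h : H ≤ K) (hK : Group.IsSolvable K) :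
    Group.IsSolvable H :=
  Group.isSolvable_of_isSolvable_injective (f := Subgroup.inclusion h)
    (Subgroup.inclusion_injective h)

theorem closure_pair_le {K : Subgroup G} {x y : G} (hx : x ∈ K) (hy : y ∈ K) :
    Subgroup.closure ({x, y} : Set G) ≤ K := by
  rw [Subgroup.closure_le]
  intro z hz
  rcases hz with rfl | rfl
  · exact hx
  · exact hy

theorem mem_closure_left (x y : G) : x ∈ Subgroup.closure ({x, y} : Set G) :=
  Subgroup.subset_closure (Set.mem_insert _ _)

theorem mem_closure_right (x y : G) : y ∈ Subgroup.closure ({x, y} : Set G) :=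
  Subgroup.subset_closure (Set.mem_insert_of_mem _ rfl)

theorem closure_conj (g x y : G) :
    Subgroup.closure ({g * x * g⁻¹, g * y * g⁻¹} : Set G) =
      (Subgroup.closure ({x, y} : Set G)).map (MulAut.conj g).toMonoidHom := by
  rw [MonoidHom.map_closure]
  congr 1
  ext z
  simp only [Set.mem_insert_iff, Set.mem_singleton_iff, Set.mem_image]
  constructor
  · rintro (rfl | rfl)
    · exact ⟨x, Or.inl rfl, by simp [MulAut.conj_apply]⟩
    · exact ⟨y, Or.inr rfl, by simp [MulAut.conj_apply]⟩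
  · rintro ⟨w, rfl | rfl, rfl⟩
    · left; simp [MulAut.conj_apply]
    · right; simp [MulAut.conj_apply]

theorem solvable_closure_conj_iff (g x y : G) :
    Group.IsSolvable (Subgroup.closure ({g * x * g⁻¹, g * y * g⁻¹} : Set G)) ↔
      Group.IsSolvable (Subgroup.closure ({x, y} : Set G)) := by
  rw [closure_conj]
  have e : (Subgroup.closure ({x, y} : Set G)) ≃*
      (Subgroup.closure ({x, y} : Set G)).map (MulAut.conj g).toMonoidHom :=
    (Subgroup.closure ({x, y} : Set G)).equivMapOfInjective _ (MulAut.conj g).injective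
  constructor
  · intro h
    exact Cfsg.Agent.Lib.Helper19.MinSimple.solvable_of_mulEquiv e h
  · intro h
    exact Cfsg.Agent.Lib.Helper19.MinSimple.solvable_of_mulEquiv e.symm h

/-- the size of the solubilizer is invariant under conjugation -/
theorem card_sol_conj (g x : G) :
    Nat.card {y : G // Group.IsSolvable (Subgroup.closure ({g * x * g⁻¹, y} : Set G))} =
      Nat.card {y : G // Group.IsSolvable (Subgroup.closure ({x, y} : Set G))} := by
  symm
  apply Nat.card_congr
  refine Equiv.subtypeEquiv (MulAut.conj g).toEquiv ?_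
  intro y
  show _ ↔ Group.IsSolvable (Subgroup.closure ({g * x * g⁻¹, g * y * g⁻¹} : Set G))
  rw [solvable_closure_conj_iff]

/-- counting a disjoint union of three predicates -/
theorem card_or3 {α : Type*} [Finite α] (P1 P2 P3 : α → Prop)
    (h12 : ∀ a, P1 a → ¬ P2 a) (h13 : ∀ a, P1 a → ¬ P3 a) (h23 : ∀ a, P2 a → ¬ P3 a) :
    Nat.card {a // P1 a ∨ P2 a ∨ P3 a} =
      Nat.card {a // P1 a} + Nat.card {a // P2 a} + Nat.card {a // P3 a} := by
  classical
  have d1 : Disjoint P1 (fun a => P2 a ∨ P3 a) := by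
    rw [Pi.disjoint_iff]
    intro a
    rw [Prop.disjoint_iff]
    rintro ⟨h1, h2 | h3⟩
    · exact h12 a h1 h2
    · exact h13 a h1 h3
  have d2 : Disjoint P2 P3 := by
    rw [Pi.disjoint_iff]
    intro a
    rw [Prop.disjoint_iff]
    rintro ⟨h2, h3⟩
    exact h23 a h2 h3
  rw [Nat.card_congr (subtypeOrEquiv P1 (fun a => P2 a ∨ P3 a) d1), Nat.card_sum,
    Nat.card_congr (subtypeOrEquiv P2 P3 d2), Nat.card_sum, add_assoc]

end general


section even

open Cfsg.Agent.Lib.Helper48.Dickson Cfsg.Agent.Lib.Helper98.PSL2Max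
  Cfsg.Agent.Lib.Helper98.PSL2Max3

variable {F : Type*} [Field F] [Fintype F]

local notation "SL2" => Matrix.SpecialLinearGroup (Fin 2) F
local notation "PSL2" => Matrix.ProjectiveSpecialLinearGroup (Fin 2) F

/-- the Dickson structure of `PSL₂(F)` in characteristic two -/
noncomputable abbrev DD (F : Type*) [Field F] [Fintype F] [Fact (Nat.Prime 2)] [CharP F 2] :
    DStruct (Matrix.ProjectiveSpecialLinearGroup (Fin 2) F) 2 :=
  dstruct (tPack (F := F) 2) (uPack 2)

variable [Fact (Nat.Prime 2)] [CharP F 2]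

/-- normalizers of components are solvable -/
theorem nrm_solvable (heven : Even (Fintype.card F)) (g : PSL2) (hg : g ≠ 1) :
    Group.IsSolvable (nrm ((DD F).comp g)) := by
  rcases (DD F).dich g hg with hp | hc
  · obtain ⟨P, hP⟩ := hp.exists_le_sylow
    have hPne : (P : Subgroup PSL2) ≠ ⊥ := by
      intro h
      have h1 : g ∈ (P : Subgroup PSL2) := hP ((DD F).mem_comp g)
      rw [h, Subgroup.mem_bot] at h1
      exact hg h1
    obtain ⟨g₀, hg₀, hp₀, hle⟩ := (DD F).u_sylow P P.isPGroup' hPne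
    have hgg : g ∈ (DD F).comp g₀ := hle (hP ((DD F).mem_comp g))
    have hcomp : (DD F).comp g = (DD F).comp g₀ := (DD F).comp_eq g₀ hg₀ g hgg hg
    have hPeq : (P : Subgroup PSL2) = (DD F).comp g := by
      apply le_antisymm
      · rw [hcomp]; exact hle
      · exact hP
    apply Cfsg.Agent.Lib.Helper19.MinSimple.solvable_of_le_normalizer_sylow 2 P
    rw [hPeq]
  · obtain ⟨-, -, ⟨e⟩⟩ := torus_facts_even heven g hg hc
    exact Cfsg.Agent.Lib.Helper19.MinSimple.solvable_of_mulEquiv e
      (Cfsg.Agent.Lib.Helper19.MinSimple.dihedral_solvable _)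

/-- an element of odd order normalizing a torus lies in it -/
theorem torus_mem_of_odd (g : PSL2) (hg : g ≠ 1)
    (hc : (Nat.card ((DD F).comp g)).Coprime 2) (n : PSL2) (hn : n ∈ nrm ((DD F).comp g))
    (hodd : Odd (orderOf n)) : n ∈ (DD F).comp g := by
  by_contra hcon
  have h2 := ((DD F).t_inv g hg hc n hn hcon).1
  have hd : orderOf n ∣ 2 := orderOf_dvd_of_pow_eq_one h2
  have h1 : orderOf n = 1 := by
    rcases (Nat.dvd_prime Nat.prime_two).1 hd with h | h
    · exact h
    · rw [h] at hodd; exact absurd hodd (by decide)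
  rw [orderOf_eq_one_iff] at h1
  apply hcon
  rw [h1]
  exact Subgroup.one_mem _

/-- a `2`-element normalizing a unipotent component lies in it -/
theorem unip_mem_of_two (g : PSL2) (hg : g ≠ 1) (hp : IsPGroup 2 ((DD F).comp g)) (n : PSL2)
    (hn : n ∈ nrm ((DD F).comp g)) (h2 : n ^ 2 = 1) : n ∈ (DD F).comp g := by
  by_cases h1 : n = 1
  · rw [h1]; exact Subgroup.one_mem _
  have hz : IsPGroup 2 (Subgroup.zpowers n) := by
    apply IsPGroup.of_card (n := 1)
    rw [Nat.card_zpowers, pow_one]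
    exact orderOf_eq_prime h2 h1
  have hle : Subgroup.zpowers n ≤ nrm ((DD F).comp g) := by
    rw [Subgroup.zpowers_le]; exact hn
  have hS : IsPGroup 2 (Subgroup.zpowers n ⊔ (DD F).comp g : Subgroup PSL2) :=
    IsPGroup.to_sup_of_normal_right' hz hp hle
  have hne : Subgroup.zpowers n ⊔ (DD F).comp g ≠ ⊥ := by
    intro h
    have h1 : g ∈ Subgroup.zpowers n ⊔ (DD F).comp g :=
      (le_sup_right : (DD F).comp g ≤ _) ((DD F).mem_comp g)
    rw [h, Subgroup.mem_bot] at h1
    exact hg h1
  obtain ⟨g₀, hg₀, -, hle₀⟩ := (DD F).u_sylow _ hS hne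
  have hgg : g ∈ (DD F).comp g₀ := hle₀ ((le_sup_right : (DD F).comp g ≤ _) ((DD F).mem_comp g))
  have hcomp : (DD F).comp g = (DD F).comp g₀ := (DD F).comp_eq g₀ hg₀ g hgg hg
  rw [hcomp]
  exact hle₀ ((le_sup_left : Subgroup.zpowers n ≤ _) (Subgroup.mem_zpowers n))


/-- for `q = 2^p`, `p` prime: every proper nontrivial subgroup of `PSL₂(q)` normalizes a
component -/
theorem proper_le_nrm (heven : Even (Fintype.card F)) (p : ℕ) (hp : p.Prime)
    (hF : Fintype.card F = 2 ^ p) (H : Subgroup PSL2) (hbot : H ≠ ⊥) (htop : H ≠ ⊤) :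
    ∃ g, g ≠ 1 ∧ H ≤ nrm ((DD F).comp g) := by
  classical
  set q := Fintype.card F with hq
  set D := DD F with hD
  rcases D.outcome H with h1 | ⟨g, hg, hT, hle⟩ | ⟨g, hgH, hg, hT, hle, hcard⟩ | ⟨g, hg, hU, hle⟩ |
    ⟨h12, g, hgH, hg, hx, hn⟩ | ⟨h24, g, hgH, hg, hT, hx, hn⟩ | ⟨h60, hall, hrel⟩ |
    ⟨g, hgH, hg, hU, k, hk2, hnk, hhk, hk, -⟩
  · exact absurd h1 hbot
  · exact ⟨g, hg, le_trans hle Subgroup.le_normalizer⟩
  · exact ⟨g, hg, hle⟩
  · exact ⟨g, hg, hle⟩
  · -- order 12
    have hXN : D.XH H g = D.NH H g := DStruct.eq_of_card_eq (D.XH_le_NH H g) (by rw [hx, hn])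
    have hA4 : Nonempty (H ≃* alternatingGroup (Fin 4)) := by
      apply Cfsg.Agent.Lib.Helper19.Recog.a4_of_card h12 ((D.XH H g).subgroupOf H)
      · rw [DStruct.card_subgroupOf_of_le H (D.XH_le H g), hx]
      · rw [D.normalizer_subgroupOf H hg hgH, hXN]
    obtain ⟨e⟩ := hA4
    have hc4 : Nat.card (Fin 4) = 4 := by simp
    have hV'n : (alternatingGroup.kleinFour (Fin 4)).Normal :=
      alternatingGroup.normal_kleinFour hc4
    have hV'c : Nat.card (alternatingGroup.kleinFour (Fin 4)) = 4 :=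
      alternatingGroup.kleinFour_card_of_card_eq_four hc4
    set V'' : Subgroup H := (alternatingGroup.kleinFour (Fin 4)).map e.symm.toMonoidHom with hV''
    have hV''n : V''.Normal := hV'n.map _ e.symm.surjective
    have hV''c : Nat.card V'' = 4 := by
      rw [hV'', Subgroup.card_map_of_injective e.symm.injective, hV'c]
    set V : Subgroup PSL2 := V''.map H.subtype with hV
    have hVc : Nat.card V = 4 := by
      rw [hV, Subgroup.card_map_of_injective H.subtype_injective, hV''c]
    have hVp : IsPGroup 2 V := IsPGroup.of_card (n := 2) (by rw [hVc]; norm_num)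
    have hVne : V ≠ ⊥ := by
      intro h
      rw [h, Subgroup.card_bot] at hVc
      omega
    obtain ⟨g₀, hg₀, hp₀, hVle⟩ := D.u_sylow V hVp hVne
    obtain ⟨v, hv1⟩ := (Subgroup.ne_bot_iff_exists_ne_one).mp hVne
    have hv1' : v.1 ≠ 1 := fun h => hv1 (Subtype.ext h)
    have hvc : v.1 ∈ D.comp g₀ := hVle v.2
    have hcv : D.comp v.1 = D.comp g₀ := D.comp_eq g₀ hg₀ v.1 hvc hv1'
    refine ⟨g₀, hg₀, ?_⟩
    intro m hm
    rw [← hcv, D.mem_nrm_comp_iff hv1', hcv]
    apply D.comp_eq g₀ hg₀ _ _ (DStruct.conj_ne_one hv1')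
    apply hVle
    obtain ⟨v'', hv'', hv''v⟩ := v.2
    have := hV''n.conj_mem v'' hv'' ⟨m, hm⟩
    refine ⟨_, this, ?_⟩
    rw [← hv''v]
    simp
  · -- order 24
    exfalso
    have hS4 : Nonempty (H ≃* Equiv.Perm (Fin 4)) := by
      apply Cfsg.Agent.Lib.Helper19.Recog.s4_of_card h24 ((D.XH H g).subgroupOf H)
      · rw [DStruct.card_subgroupOf_of_le H (D.XH_le H g), hx]
      · rw [D.normalizer_subgroupOf H hg hgH, DStruct.card_subgroupOf_of_le H (D.NH_le H g), hn]
      · rw [D.normalizer_subgroupOf H hg hgH]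
        have hne : ¬ D.NH H g ≤ D.XH H g := by
          intro hle
          have := le_antisymm hle (D.XH_le_NH H g)
          rw [this] at hn
          omega
        obtain ⟨n0, hn0, hn0'⟩ := SetLike.not_le_iff_exists.1 hne
        have hn0H := ((D.mem_NH H).1 hn0).1
        have hn0N := ((D.mem_NH H).1 hn0).2
        have hn0C : n0 ∉ D.comp g := fun h => hn0' ((D.mem_XH H).2 ⟨hn0H, h⟩)
        refine ⟨⟨n0, hn0H⟩, by rw [Subgroup.mem_subgroupOf]; exact hn0, ⟨g, hgH⟩,
          by rw [Subgroup.mem_subgroupOf]; exact D.self_mem_XH H hgH, ?_⟩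
        intro h
        have h1 : n0 * g * n0⁻¹ = g := by simpa using congrArg Subtype.val h
        have h2 := (D.t_inv g hg hT n0 hn0N hn0C).2 g (D.mem_comp g)
        rw [h1] at h2
        have h3 : g ^ 2 = 1 := by
          rw [pow_two]
          nth_rewrite 1 [h2]
          simp
        have h4 : g ^ 3 = 1 := by
          have := pow_card_eq_one' (G := D.XH H g) (x := ⟨g, D.self_mem_XH H hgH⟩)
          rw [hx] at this
          simpa using congrArg Subtype.val this
        apply hg
        calc g = g ^ 3 * (g ^ 2)⁻¹ := by group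
          _ = 1 := by rw [h3, h4]; simp
    have h16 := (Cfsg.Agent.S0803.result (F := F) (q := q) hq.symm).1 ⟨H, hS4⟩
    obtain ⟨c, hc⟩ := heven
    have : q ^ 2 = 2 * (2 * c * c) := by rw [hc]; ring
    omega
  · -- order 60
    exfalso
    obtain ⟨S, hS⟩ := Sylow.exists_subgroup_card_pow_prime (G := H) 2 (n := 2)
      (by rw [h60]; norm_num)
    set S' : Subgroup PSL2 := S.map H.subtype with hS'
    have hS'c : Nat.card S' = 4 := by
      rw [hS', Subgroup.card_map_of_injective H.subtype_injective, hS]; norm_num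
    have hS'p : IsPGroup 2 S' := IsPGroup.of_card (n := 2) (by rw [hS'c]; norm_num)
    have hS'ne : S' ≠ ⊥ := by
      intro h
      rw [h, Subgroup.card_bot] at hS'c
      omega
    have hS'M : S' ≤ H := by
      rintro _ ⟨s, -, rfl⟩
      exact s.2
    obtain ⟨g₀, hg₀, hp₀, hle⟩ := D.u_sylow S' hS'p hS'ne
    obtain ⟨z, hz1⟩ := (Subgroup.ne_bot_iff_exists_ne_one).mp hS'ne
    have hz1' : z.1 ≠ 1 := fun h => hz1 (Subtype.ext h)
    have hzc : z.1 ∈ D.comp g₀ := hle z.2
    have hcz : D.comp z.1 = D.comp g₀ := D.comp_eq g₀ hg₀ z.1 hzc hz1'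
    have hSX : S' ≤ D.XH H z.1 := by
      intro s hs
      rw [D.mem_XH, hcz]
      exact ⟨hS'M hs, hle hs⟩
    have hdvd : 4 ∣ Nat.card (D.XH H z.1) := by
      rw [← hS'c]; exact Subgroup.card_dvd_of_le hSX
    rcases hall z.1 (hS'M z.2) hz1' with ⟨h, _⟩ | ⟨h, _⟩ | ⟨h, _⟩ <;> rw [h] at hdvd <;> omega
  · -- two-transitive case
    exfalso
    have hP : 1 < Nat.card (D.XH H g) := by
      have : Nontrivial (D.XH H g) :=
        ⟨⟨⟨g, D.self_mem_XH H hgH⟩, 1, fun h => hg (by simpa using congrArg Subtype.val h)⟩⟩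
      exact Finite.one_lt_card
    obtain ⟨K, _, _, m, hm, hiso⟩ :=
      Cfsg.Agent.Lib.Helper19.TwoTrans.two_transitive_case 2 H (D.XH H g) inf_le_left
        (hU.to_le inf_le_right) (Nat.card (D.XH H g)) k hP rfl
        (by rw [← D.NH_eq H hg hgH, hnk]) (by rw [hhk]; ring) hk
    have hr2 : 2 ≤ Fintype.card K := Fintype.one_lt_card
    rcases Cfsg.Agent.Lib.Helper19.MinSimple.pow_eq_prime_pow Nat.prime_two hp (hm.trans hF) hr2
      with h1 | h2
    · apply htop
      rw [h1, pow_one] at hm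
      exact Cfsg.Agent.Lib.Helper19.MinSimple.eq_top_of_same_card K hm H hiso
    · have hpsl : Nat.card (Matrix.ProjectiveSpecialLinearGroup (Fin 2) K) = 6 := by
        have := Cfsg.Agent.Lib.Helper19.DicksonUse.card_psl_mul_d (F := K)
        rw [h2] at this
        simpa using this
      have hpgl : Nat.card (Matrix.ProjGenLinGroup (Fin 2) K) = 6 := by
        rw [Cfsg.Agent.Lib.Helper19.DicksonUse.card_pgl K, h2]
      have h6 : Nat.card H = 6 := by
        rcases hiso with ⟨⟨e⟩⟩ | ⟨⟨e⟩⟩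
        · rw [Nat.card_congr e.toEquiv, hpsl]
        · rw [Nat.card_congr e.toEquiv, hpgl]
      rw [h6] at hhk
      have h12 : 2 * 2 * 3 ≤ Nat.card (D.XH H g) * k * (1 + Nat.card (D.XH H g)) :=
        Nat.mul_le_mul (Nat.mul_le_mul hP hk2) (by omega)
      omega

/-- for `q = 2^p`, `p` prime, `x ≠ 1`: `⟨x, y⟩` is solvable iff `x` and `y` normalize a common
component -/
theorem solvable_iff (heven : Even (Fintype.card F)) (p : ℕ) (hp : p.Prime)
    (hF : Fintype.card F = 2 ^ p) (x y : PSL2) (hx : x ≠ 1) :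
    Group.IsSolvable (Subgroup.closure ({x, y} : Set PSL2)) ↔
      ∃ g, g ≠ 1 ∧ x ∈ nrm ((DD F).comp g) ∧ y ∈ nrm ((DD F).comp g) := by
  constructor
  · intro hsol
    have hbot : Subgroup.closure ({x, y} : Set PSL2) ≠ ⊥ := by
      intro h
      have h1 := mem_closure_left x y
      rw [h, Subgroup.mem_bot] at h1
      exact hx h1
    have htop : Subgroup.closure ({x, y} : Set PSL2) ≠ ⊤ := by
      intro h
      rw [h] at hsol
      have h4 : 4 ≤ Nat.card F := by
        rw [Nat.card_eq_fintype_card, hF]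
        calc 4 = 2 ^ 2 := by norm_num
          _ ≤ 2 ^ p := Nat.pow_le_pow_right (by norm_num) hp.two_le
      apply Cfsg.Agent.Lib.Helper19.MinSimple.not_solvable_psl2 (F := F) h4
      exact Cfsg.Agent.Lib.Helper19.MinSimple.solvable_of_mulEquiv Subgroup.topEquiv.symm hsol
    obtain ⟨g, hg, hle⟩ := proper_le_nrm heven p hp hF _ hbot htop
    exact ⟨g, hg, hle (mem_closure_left x y), hle (mem_closure_right x y)⟩
  · rintro ⟨g, hg, hxg, hyg⟩
    exact solvable_of_le (closure_pair_le hxg hyg) (nrm_solvable heven g hg)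


/-- an element of odd order `≠ 1` lies in a torus -/
theorem torus_of_odd (x : PSL2) (hx : x ≠ 1) (hodd : Odd (orderOf x)) :
    (Nat.card ((DD F).comp x)).Coprime 2 := by
  rcases (DD F).dich x hx with hp | hc
  · exfalso
    obtain ⟨k, hk⟩ := (IsPGroup.iff_orderOf.1 hp) ⟨x, (DD F).mem_comp x⟩
    rw [Subgroup.orderOf_mk] at hk
    rw [hk] at hodd
    rcases Nat.eq_zero_or_pos k with h0 | h0
    · rw [h0, pow_zero] at hk
      exact hx (orderOf_eq_one_iff.1 hk)
    · have : Even (2 ^ k) := (Nat.even_pow.2 ⟨even_two, h0.ne'⟩)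
      exact (Nat.not_even_iff_odd.2 hodd) this
  · exact hc

theorem odd_dvd_two {d : ℕ} (hodd : Odd d) (h : d ∣ 2) : d = 1 := by
  rcases (Nat.dvd_prime Nat.prime_two).1 h with h | h
  · exact h
  · rw [h] at hodd; exact absurd hodd (by decide)

theorem card_comp_of_odd (heven : Even (Fintype.card F)) (x : PSL2) (hx : x ≠ 1)
    (hodd : Odd (orderOf x)) :
    (orderOf x ∣ Fintype.card F - 1 → Nat.card ((DD F).comp x) = Fintype.card F - 1) ∧
    (orderOf x ∣ Fintype.card F + 1 → Nat.card ((DD F).comp x) = Fintype.card F + 1) := by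
  have hc := torus_of_odd x hx hodd
  obtain ⟨h1, -, -⟩ := torus_facts_even heven x hx hc
  have hdvd : orderOf x ∣ Nat.card ((DD F).comp x) := by
    have := orderOf_dvd_natCard (⟨x, (DD F).mem_comp x⟩ : (DD F).comp x)
    rwa [Subgroup.orderOf_mk] at this
  have hx1 : orderOf x ≠ 1 := fun h => hx (orderOf_eq_one_iff.1 h)
  have hq : 0 < Fintype.card F := Fintype.card_pos
  have key : orderOf x ∣ Fintype.card F - 1 → orderOf x ∣ Fintype.card F + 1 → False := by
    intro ha hb
    have h2 : orderOf x ∣ (Fintype.card F + 1) - (Fintype.card F - 1) := Nat.dvd_sub hb ha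
    have e : (Fintype.card F + 1) - (Fintype.card F - 1) = 2 := by omega
    rw [e] at h2
    exact hx1 (odd_dvd_two hodd h2)
  constructor
  · intro hd
    rcases h1 with h1 | h1
    · exact h1
    · rw [h1] at hdvd; exact absurd (key hd hdvd) id
  · intro hd
    rcases h1 with h1 | h1
    · rw [h1] at hdvd; exact absurd (key hdvd hd) id
    · exact h1

theorem odd_of_dvd_pred (heven : Even (Fintype.card F)) {d : ℕ} (h : d ∣ Fintype.card F - 1) :
    Odd d := by
  have hq : 0 < Fintype.card F := Fintype.card_pos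
  have : Odd (Fintype.card F - 1) := Nat.Even.sub_odd hq heven odd_one
  exact Odd.of_dvd_nat this h

theorem odd_of_dvd_succ (heven : Even (Fintype.card F)) {d : ℕ} (h : d ∣ Fintype.card F + 1) :
    Odd d := by
  have : Odd (Fintype.card F + 1) := heven.add_odd odd_one
  exact Odd.of_dvd_nat this h

/-- the order of the normalizer of a unipotent component -/
theorem card_nrm_unip (heven : Even (Fintype.card F)) (g : PSL2) (hg : g ≠ 1)
    (hp : IsPGroup 2 ((DD F).comp g)) :
    Nat.card (nrm ((DD F).comp g)) = Fintype.card F * (Fintype.card F - 1) := by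
  have hgcd : Nat.gcd 2 (Fintype.card F - 1) = 1 :=
    Cfsg.Agent.Lib.Helper19.DicksonUse.gcd_two_even heven Fintype.card_pos
  have h1 := card_nrm_unipotent (tPack 2) (uPack 2) g hg hp
  rw [hgcd, mul_one] at h1
  exact h1

/-- the solubilizer of an element of a nonsplit torus -/
theorem sol_nonsplit (heven : Even (Fintype.card F)) (p : ℕ) (hp : p.Prime)
    (hF : Fintype.card F = 2 ^ p) (x : PSL2) (hx : x ≠ 1)
    (hord : orderOf x ∣ Fintype.card F + 1) :
    Nat.card {y : PSL2 // Group.IsSolvable (Subgroup.closure ({x, y} : Set PSL2))} =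
      2 * (Fintype.card F + 1) := by
  have hodd := odd_of_dvd_succ heven hord
  have hc := torus_of_odd x hx hodd
  have hcard := (card_comp_of_odd heven x hx hodd).2 hord
  obtain ⟨-, h2, -⟩ := torus_facts_even heven x hx hc
  rw [← hcard, ← h2]
  apply Nat.card_congr
  refine Equiv.subtypeEquivRight ?_
  intro y
  rw [solvable_iff heven p hp hF x y hx]
  constructor
  · rintro ⟨g, hg, hxg, hyg⟩
    rcases (DD F).dich g hg with hpg | hcg
    · exfalso
      have h3 : orderOf x ∣ Fintype.card F * (Fintype.card F - 1) := by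
        rw [← card_nrm_unip heven g hg hpg]
        have := orderOf_dvd_natCard (⟨x, hxg⟩ : nrm ((DD F).comp g))
        rwa [Subgroup.orderOf_mk] at this
      have hcop : Nat.Coprime (orderOf x) (Fintype.card F) := by
        have h4 : Nat.Coprime (Fintype.card F + 1) (Fintype.card F) := by simp
        exact Nat.Coprime.coprime_dvd_left hord h4
      have h5 : orderOf x ∣ Fintype.card F - 1 := hcop.dvd_of_dvd_mul_left h3
      have h6 := (card_comp_of_odd heven x hx hodd).1 h5
      rw [hcard] at h6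
      have hq : 0 < Fintype.card F := Fintype.card_pos
      omega
    · have hxc := torus_mem_of_odd g hg hcg x hxg hodd
      have : (DD F).comp x = (DD F).comp g := (DD F).comp_eq g hg x hxc hx
      rw [this]; exact hyg
  · intro hy
    exact ⟨x, hx, Subgroup.le_normalizer ((DD F).mem_comp x), hy⟩


/-- `x` inverts `w ≠ 1`: both normalize the component of `w` -/
theorem mem_nrm_of_inverts (x w : PSL2) (hw : w ≠ 1) (h : x * w * x⁻¹ = w⁻¹) :
    x ∈ nrm ((DD F).comp w) := by
  rw [(DD F).mem_nrm_comp_iff hw, h]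
  exact (DD F).comp_eq w hw w⁻¹ (Subgroup.inv_mem _ ((DD F).mem_comp w)) (inv_ne_one.2 hw)

/-- two involutions normalize a common component -/
theorem sq_case (x y : PSL2) (hx : x ≠ 1) (hx2 : x ^ 2 = 1) (hy2 : y ^ 2 = 1) :
    ∃ g, g ≠ 1 ∧ x ∈ nrm ((DD F).comp g) ∧ y ∈ nrm ((DD F).comp g) := by
  have hxi : x⁻¹ = x := by
    rw [inv_eq_iff_mul_eq_one, ← pow_two]; exact hx2
  have hyi : y⁻¹ = y := by
    rw [inv_eq_iff_mul_eq_one, ← pow_two]; exact hy2
  by_cases hw : x * y = 1
  · have hyx : y = x := by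
      have : y = x⁻¹ := (eq_inv_of_mul_eq_one_right hw)
      rw [this, hxi]
    refine ⟨x, hx, Subgroup.le_normalizer ((DD F).mem_comp x), ?_⟩
    rw [hyx]; exact Subgroup.le_normalizer ((DD F).mem_comp x)
  · have hinv : x * (x * y) * x⁻¹ = (x * y)⁻¹ := by
      rw [mul_inv_rev, hxi, hyi]
      have : x * x = 1 := by rw [← pow_two]; exact hx2
      calc x * (x * y) * x = (x * x) * y * x := by group
        _ = y * x := by rw [this, one_mul]
    have h1 := mem_nrm_of_inverts x (x * y) hw hinv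
    refine ⟨x * y, hw, h1, ?_⟩
    have h3 : x⁻¹ * (x * y) ∈ nrm ((DD F).comp (x * y)) :=
      Subgroup.mul_mem _ (Subgroup.inv_mem _ h1)
        (Subgroup.le_normalizer ((DD F).mem_comp (x * y)))
    rwa [inv_mul_cancel_left] at h3

/-- an involution inverting `y` -/
theorem inv_case (x y : PSL2) (hx : x ≠ 1) (hx2 : x ^ 2 = 1) (hxy : (x * y) ^ 2 = 1) :
    ∃ g, g ≠ 1 ∧ x ∈ nrm ((DD F).comp g) ∧ y ∈ nrm ((DD F).comp g) := by
  have hxi : x⁻¹ = x := by
    rw [inv_eq_iff_mul_eq_one, ← pow_two]; exact hx2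
  by_cases hy : y = 1
  · refine ⟨x, hx, Subgroup.le_normalizer ((DD F).mem_comp x), ?_⟩
    rw [hy]; exact Subgroup.one_mem _
  · have hinv : x * y * x⁻¹ = y⁻¹ := by
      rw [hxi]
      have : x * y * (x * y) = 1 := by rw [← pow_two]; exact hxy
      calc x * y * x = (x * y * (x * y)) * y⁻¹ := by group
        _ = y⁻¹ := by rw [this, one_mul]
    exact ⟨y, hy, mem_nrm_of_inverts x y hy hinv,
      Subgroup.le_normalizer ((DD F).mem_comp y)⟩

/-- an involution and `y` normalizing a torus: `y² = 1` or `x` inverts `y` -/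
theorem torus_case (x y g : PSL2) (hx : x ≠ 1) (hx2 : x ^ 2 = 1) (hg : g ≠ 1)
    (hc : (Nat.card ((DD F).comp g)).Coprime 2) (hxg : x ∈ nrm ((DD F).comp g))
    (hyg : y ∈ nrm ((DD F).comp g)) : y ^ 2 = 1 ∨ (x * y) ^ 2 = 1 := by
  have hxi : x⁻¹ = x := by
    rw [inv_eq_iff_mul_eq_one, ← pow_two]; exact hx2
  have hxc : x ∉ (DD F).comp g := by
    intro hmem
    have hd : orderOf x ∣ Nat.card ((DD F).comp g) := by
      have := orderOf_dvd_natCard (⟨x, hmem⟩ : (DD F).comp g)
      rwa [Subgroup.orderOf_mk] at this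
    rw [orderOf_eq_prime hx2 hx] at hd
    have := Nat.Coprime.eq_one_of_dvd hc.symm hd
    omega
  by_cases hyc : y ∈ (DD F).comp g
  · right
    have h1 := ((DD F).t_inv g hg hc x hxg hxc).2 y hyc
    rw [hxi] at h1
    rw [pow_two]
    calc x * y * (x * y) = (x * y * x) * y := by group
      _ = 1 := by rw [h1]; group
  · left
    have h1 := (DD F).t_idx g hg hc x hxg y hyg hxc hyc
    have h2 := ((DD F).t_inv g hg hc y hyg hyc).2 (x * y) h1
    have h3 : y * x = y⁻¹ * x := by
      have : y * (x * y) * y⁻¹ = y * x := by group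
      rw [this, mul_inv_rev, hxi] at h2
      exact h2
    have h4 : y = y⁻¹ := mul_right_cancel h3
    rw [pow_two]
    nth_rewrite 1 [h4]
    group

end even

end Cfsg.Agent.Lib.Helper19.Solub
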