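import Mathlib
import Cfsg.Agent.Lib.Helper19.Solub

set_option autoImplicit false
set_option linter.unusedSimpArgs false
set_option linter.unusedSectionVars false
set_option linter.style.haveILetI false

/-!
# Matrix computations in `SL₂(F)` for the solubilizer counts (helper19)
-/

namespace Cfsg.Agent.Lib.Helper19.SolubMat

open Cfsg.Agent.Lib.Helper98.SL2Borel

section field

variable {F : Type*} [Field F]

local notation "SL2" => Matrix.SpecialLinearGroup (Fin 2) F

/-- the element with prescribed entries -/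
def mkSL (a b c d : F) (h : a * d - b * c = 1) : SL2 :=
  ⟨!![a, b; c, d], by rw [Matrix.det_fin_two_of]; exact h⟩

@[simp] lemma mkSL_00 (a b c d : F) (h : a * d - b * c = 1) : (mkSL a b c d h).1 0 0 = a := rfl
@[simp] lemma mkSL_01 (a b c d : F) (h : a * d - b * c = 1) : (mkSL a b c d h).1 0 1 = b := rfl
@[simp] lemma mkSL_10 (a b c d : F) (h : a * d - b * c = 1) : (mkSL a b c d h).1 1 0 = c := rfl
@[simp] lemma mkSL_11 (a b c d : F) (h : a * d - b * c = 1) : (mkSL a b c d h).1 1 1 = d := rfl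

/-- diagonal element -/
def dg (a : F) (ha : a ≠ 0) : SL2 := mkSL a 0 0 a⁻¹ (by rw [mul_inv_cancel₀ ha]; ring)

/-- lower unitriangular element -/
def lw (c : F) : SL2 := mkSL 1 0 c 1 (by ring)

@[simp] lemma dg_00 (a : F) (ha : a ≠ 0) : (dg a ha).1 0 0 = a := rfl
@[simp] lemma dg_01 (a : F) (ha : a ≠ 0) : (dg a ha).1 0 1 = 0 := rfl
@[simp] lemma dg_10 (a : F) (ha : a ≠ 0) : (dg a ha).1 1 0 = 0 := rfl
@[simp] lemma dg_11 (a : F) (ha : a ≠ 0) : (dg a ha).1 1 1 = a⁻¹ := rfl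
@[simp] lemma lw_00 (c : F) : (lw c).1 0 0 = 1 := rfl
@[simp] lemma lw_01 (c : F) : (lw c).1 0 1 = 0 := rfl
@[simp] lemma lw_10 (c : F) : (lw c).1 1 0 = c := rfl
@[simp] lemma lw_11 (c : F) : (lw c).1 1 1 = 1 := rfl

/-- the upper right entry of a conjugate -/
lemma conj_entry_01 (X A : SL2) :
    (X * A * X⁻¹).1 0 1 =
      -((X.1 0 0 * A.1 0 0 + X.1 0 1 * A.1 1 0) * X.1 0 1) +
        (X.1 0 0 * A.1 0 1 + X.1 0 1 * A.1 1 1) * X.1 0 0 := by
  simp only [(mul_entries _ _).1, (mul_entries _ _).2.1, (mul_entries _ _).2.2.1,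
        (mul_entries _ _).2.2.2, coe_inv_apply]
  simp
  try ring

/-- triangularization given an eigenvalue -/
theorem exists_conj_upper (A : SL2) (l : F)
    (hl : l ^ 2 - (A.1 0 0 + A.1 1 1) * l + 1 = 0) (hl1 : l ^ 2 ≠ 1) :
    ∃ (X : SL2) (a : F), a ^ 2 ≠ 1 ∧ (X * A * X⁻¹).1 1 0 = 0 ∧ (X * A * X⁻¹).1 0 0 = a := by
  have hd := det_eq A
  by_cases hc : A.1 1 0 = 0
  · refine ⟨1, A.1 0 0, ?_, by simpa using hc, by simp⟩
    intro h2
    rw [hc, mul_zero, sub_zero] at hd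
    have h3 : (l - A.1 0 0) ^ 2 = 0 := by
      linear_combination hl + (1 - l * A.1 1 1) * h2 + l * A.1 0 0 * hd
    have h4 : l = A.1 0 0 := by
      have := (pow_eq_zero_iff two_ne_zero).mp h3
      linear_combination this
    apply hl1
    rw [h4]; exact h2
  · let X : SL2 := mkSL 0 (A.1 1 0)⁻¹ (-(A.1 1 0)) (l - A.1 1 1) (by
      field_simp
      ring)
    obtain ⟨e10, e00, e11⟩ := conj_entries X A
    refine ⟨X, l, hl1, ?_, ?_⟩
    · rw [e10]
      simp only [X, mkSL_00, mkSL_01, mkSL_10, mkSL_11]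
      linear_combination (A.1 1 0) * hd + (A.1 1 0) * hl
    · rw [e00]
      simp only [X, mkSL_00, mkSL_01, mkSL_10, mkSL_11]
      have : (A.1 1 0)⁻¹ * A.1 1 0 = 1 := inv_mul_cancel₀ hc
      linear_combination (l - A.1 1 1 + A.1 1 1) * this

/-- diagonalization given an eigenvalue -/
theorem exists_conj_diag (A : SL2) (l : F)
    (hl : l ^ 2 - (A.1 0 0 + A.1 1 1) * l + 1 = 0) (hl1 : l ^ 2 ≠ 1) :
    ∃ (X : SL2) (a : F) (ha : a ≠ 0), a ^ 2 ≠ 1 ∧ X * A * X⁻¹ = dg a ha := by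
  obtain ⟨X1, a, ha1, h10, h00⟩ := exists_conj_upper A l hl hl1
  set B := X1 * A * X1⁻¹ with hB
  have hdB := det_eq B
  rw [h10, mul_zero, sub_zero, h00] at hdB
  have ha : a ≠ 0 := by
    intro h
    rw [h, zero_mul] at hdB
    exact zero_ne_one hdB
  have h11 : B.1 1 1 = a⁻¹ := by
    rw [eq_comm, inv_eq_of_mul_eq_one_right hdB]
  have hne : a - a⁻¹ ≠ 0 := by
    intro h
    apply ha1
    have : a = a⁻¹ := sub_eq_zero.mp h
    calc a ^ 2 = a * a := by ring
      _ = a * a⁻¹ := by rw [← this]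
      _ = 1 := mul_inv_cancel₀ ha
  refine ⟨uMat (B.1 0 1 / (a - a⁻¹)) * X1, a, ha, ha1, ?_⟩
  have e : uMat (B.1 0 1 / (a - a⁻¹)) * X1 * A * (uMat (B.1 0 1 / (a - a⁻¹)) * X1)⁻¹ =
      uMat (B.1 0 1 / (a - a⁻¹)) * B * (uMat (B.1 0 1 / (a - a⁻¹)))⁻¹ := by
    rw [hB]; group
  rw [e]
  obtain ⟨e10, e00, e11⟩ := conj_entries (uMat (B.1 0 1 / (a - a⁻¹))) B
  have e01 := conj_entry_01 (uMat (B.1 0 1 / (a - a⁻¹))) B
  apply ext_entries
  · rw [e00]; simp [dg, h10, h00]
  · rw [e01]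
    simp only [dg, mkSL_01, uMat_coe]
    simp only [Matrix.of_apply, Matrix.cons_val', Matrix.cons_val_zero, Matrix.cons_val_one,
      Matrix.empty_val', Matrix.cons_val_fin_one, Matrix.head_cons, Matrix.head_fin_const]
    rw [h10, h00, h11]
    field_simp
    ring
  · rw [e10]; simp [dg, h10]
  · rw [e11]; simp [dg, h10, h11]

section count

variable [Fintype F]

theorem card_ne_zero : Nat.card {c : F // c ≠ 0} = Fintype.card F - 1 := by
  classical
  rw [Nat.card_congr (unitsEquivNeZero (G₀ := F)).symm, Nat.card_eq_fintype_card,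
    Fintype.card_units]

/-- `c ≠ 0` and `d = s c - a` -/
theorem card_T2 (s : F) :
    Nat.card {Y : SL2 // Y.1 1 0 ≠ 0 ∧ Y.1 1 1 = s * Y.1 1 0 - Y.1 0 0} =
      Fintype.card F * (Fintype.card F - 1) := by
  classical
  have e : {Y : SL2 // Y.1 1 0 ≠ 0 ∧ Y.1 1 1 = s * Y.1 1 0 - Y.1 0 0} ≃ F × {c : F // c ≠ 0} :=
    { toFun := fun Y => (Y.1.1 0 0, ⟨Y.1.1 1 0, Y.2.1⟩)
      invFun := fun ac => ⟨mkSL ac.1 ((ac.1 * (s * ac.2.1 - ac.1) - 1) / ac.2.1) ac.2.1
        (s * ac.2.1 - ac.1) (by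
          have := ac.2.2
          field_simp
          ring), by
        refine ⟨by simpa using ac.2.2, by simp⟩⟩
      left_inv := by
        rintro ⟨Y, hc, hd⟩
        apply Subtype.ext
        apply ext_entries
        · simp
        · simp only [mkSL_01]
          have hdet := det_eq Y
          rw [hd] at hdet
          rw [div_eq_iff hc]
          linear_combination hdet
        · simp
        · simp [hd]
      right_inv := by
        rintro ⟨a, c, hc⟩
        simp }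
  rw [Nat.card_congr e, Nat.card_prod, card_ne_zero, Nat.card_eq_fintype_card]

/-- `c ≠ 0` and `b = 0` -/
theorem card_lower_strict :
    Nat.card {Y : SL2 // Y.1 1 0 ≠ 0 ∧ Y.1 0 1 = 0} =
      (Fintype.card F - 1) * (Fintype.card F - 1) := by
  classical
  have e : {Y : SL2 // Y.1 1 0 ≠ 0 ∧ Y.1 0 1 = 0} ≃ {a : F // a ≠ 0} × {c : F // c ≠ 0} :=
    { toFun := fun Y => (⟨Y.1.1 0 0, by
          intro h
          have hdet := det_eq Y.1
          rw [h, Y.2.2] at hdet
          simp at hdet⟩, ⟨Y.1.1 1 0, Y.2.1⟩)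
      invFun := fun ac => ⟨mkSL ac.1.1 0 ac.2.1 (ac.1.1)⁻¹ (by
          rw [mul_inv_cancel₀ ac.1.2]; ring), by
        refine ⟨by simpa using ac.2.2, by simp⟩⟩
      left_inv := by
        rintro ⟨Y, hc, hb⟩
        apply Subtype.ext
        apply ext_entries
        · simp
        · simp [hb]
        · simp
        · simp only [mkSL_11]
          have hdet := det_eq Y
          rw [hb] at hdet
          have ha : Y.1 0 0 ≠ 0 := by
            intro h
            rw [h] at hdet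
            simp at hdet
          rw [inv_eq_iff_eq_inv, eq_comm, inv_eq_of_mul_eq_one_left]
          linear_combination hdet
      right_inv := by
        rintro ⟨⟨a, ha⟩, c, hc⟩
        simp }
  rw [Nat.card_congr e, Nat.card_prod, card_ne_zero]

/-- `a = 0` and `d = 0` -/
theorem card_anti :
    Nat.card {Y : SL2 // Y.1 0 0 = 0 ∧ Y.1 1 1 = 0} = Fintype.card F - 1 := by
  classical
  have e : {Y : SL2 // Y.1 0 0 = 0 ∧ Y.1 1 1 = 0} ≃ {b : F // b ≠ 0} :=
    { toFun := fun Y => ⟨Y.1.1 0 1, by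
          intro h
          have hdet := det_eq Y.1
          rw [h, Y.2.1] at hdet
          simp at hdet⟩
      invFun := fun b => ⟨mkSL 0 b.1 (-(b.1)⁻¹) 0 (by
          have := b.2
          field_simp
          ring), by simp⟩
      left_inv := by
        rintro ⟨Y, ha, hd⟩
        apply Subtype.ext
        apply ext_entries
        · simp [ha]
        · simp
        · simp only [mkSL_10]
          have hdet := det_eq Y
          rw [ha, hd] at hdet
          have hb : Y.1 0 1 ≠ 0 := by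
            intro h
            rw [h] at hdet
            simp at hdet
          rw [neg_eq_iff_eq_neg, inv_eq_iff_eq_inv, eq_comm, inv_eq_of_mul_eq_one_left]
          linear_combination hdet
        · simp [hd]
      right_inv := by
        rintro ⟨b, hb⟩
        simp }
  rw [Nat.card_congr e, card_ne_zero]

end count

end field


section chartwo

open Cfsg.Agent.Lib.Helper48.Dickson hiding uMat uMat_mul uMat_not_center
open Cfsg.Agent.Lib.Helper98.PSL2Max Cfsg.Agent.Lib.Helper19.Solub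

variable {F : Type*} [Field F] [Fintype F] [Fact (Nat.Prime 2)] [CharP F 2]

local notation "SL2" => Matrix.SpecialLinearGroup (Fin 2) F
local notation "PSL2" => Matrix.ProjectiveSpecialLinearGroup (Fin 2) F

omit [Fintype F] [Fact (Nat.Prime 2)] in
theorem two_eq_zero' : (2 : F) = 0 := CharTwo.two_eq_zero

omit [Fintype F] [Fact (Nat.Prime 2)] in
theorem eq_one_of_sq {a : F} (h : a ^ 2 = 1) : a = 1 := by
  have h2 : (a - 1) ^ 2 = 0 := by
    linear_combination h + (1 - a) * (two_eq_zero' (F := F))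
  have := (pow_eq_zero_iff two_ne_zero).mp h2
  linear_combination this

omit [Fintype F] [Fact (Nat.Prime 2)] in
theorem center_eq_bot : Subgroup.center SL2 = ⊥ := by
  rw [eq_bot_iff]
  intro A hA
  obtain ⟨h1, h2, h3⟩ := (mem_center_iff' A).1 hA
  have hd := det_eq A
  rw [h1, zero_mul, sub_zero, ← h3] at hd
  have ha : A.1 0 0 = 1 := eq_one_of_sq (by rw [pow_two]; exact hd)
  rw [Subgroup.mem_bot]
  apply ext_entries
  · rw [ha]; simp
  · rw [h1]; simp
  · rw [h2]; simp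
  · rw [← h3, ha]; simp

omit [Fintype F] [Fact (Nat.Prime 2)] in
theorem mk2_injective : Function.Injective (mk2 (F := F)) := by
  intro A B h
  obtain ⟨z, hz, rfl⟩ := (mk2_eq_iff A B).1 h
  rw [center_eq_bot, Subgroup.mem_bot] at hz
  rw [hz, mul_one]

omit [Fintype F] [Fact (Nat.Prime 2)] in
theorem mk2_eq_one_iff' (A : SL2) : mk2 A = 1 ↔ A = 1 := by
  rw [mk2_eq_one_iff, center_eq_bot, Subgroup.mem_bot]

omit [Fact (Nat.Prime 2)] in
/-- transfer of a count from `PSL₂` to `SL₂` -/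
theorem card_transfer (P : PSL2 → Prop) :
    Nat.card {y : PSL2 // P y} = Nat.card {Y : SL2 // P (mk2 Y)} := by
  symm
  apply Nat.card_congr
  exact Equiv.subtypeEquiv (Equiv.ofBijective (mk2 (F := F)) ⟨mk2_injective, mk2_surjective⟩)
    (fun Y => Iff.rfl)

omit [Fintype F] [Fact (Nat.Prime 2)] in
/-- squares: `(mk2 Y)² = 1 ↔ tr Y = 0` -/
theorem mk2_sq_eq_one_iff (Y : SL2) : (mk2 Y) ^ 2 = 1 ↔ Y.1 0 0 + Y.1 1 1 = 0 := by
  rw [← map_pow, mk2_eq_one_iff', pow_two]
  have hd := det_eq Y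
  have h2 : (2 : F) = 0 := two_eq_zero'
  obtain ⟨e00, e01, e10, e11⟩ := mul_entries Y Y
  constructor
  · intro h
    have h00 : (Y * Y).1 0 0 = 1 := by rw [h]; simp
    have h01 : (Y * Y).1 0 1 = 0 := by rw [h]; simp
    have h10 : (Y * Y).1 1 0 = 0 := by rw [h]; simp
    rw [e00] at h00
    rw [e01] at h01
    rw [e10] at h10
    by_contra hne
    have hb : Y.1 0 1 = 0 := by
      have : Y.1 0 1 * (Y.1 0 0 + Y.1 1 1) = 0 := by linear_combination h01
      exact (mul_eq_zero.mp this).resolve_right hne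
    have hc : Y.1 1 0 = 0 := by
      have : Y.1 1 0 * (Y.1 0 0 + Y.1 1 1) = 0 := by linear_combination h10
      exact (mul_eq_zero.mp this).resolve_right hne
    rw [hb, hc] at h00
    rw [hb, hc] at hd
    have ha : Y.1 0 0 = 1 := eq_one_of_sq (by linear_combination h00)
    have hd' : Y.1 1 1 = 1 := by rw [ha] at hd; linear_combination hd
    apply hne
    rw [ha, hd']
    linear_combination h2
  · intro h
    have hdd : Y.1 1 1 = -Y.1 0 0 := by linear_combination h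
    apply ext_entries
    · rw [e00]; simp only [Matrix.SpecialLinearGroup.coe_one, Matrix.one_apply_eq]
      rw [hdd] at hd
      linear_combination -hd - h2
    · rw [e01]; simp only [Matrix.SpecialLinearGroup.coe_one]
      rw [Matrix.one_apply_ne (by decide)]
      linear_combination Y.1 0 1 * h
    · rw [e10]; simp only [Matrix.SpecialLinearGroup.coe_one]
      rw [Matrix.one_apply_ne (by decide)]
      linear_combination Y.1 1 0 * h
    · rw [e11]; simp only [Matrix.SpecialLinearGroup.coe_one, Matrix.one_apply_eq]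
      rw [hdd] at hd ⊢
      linear_combination -hd - h2

/-- the normalizer of the component of `mk2 (uMat t)` -/
theorem mem_nrm_uMat (t : F) (ht : t ≠ 0) (Y : SL2) :
    mk2 Y ∈ nrm ((DD F).comp (mk2 (uMat t))) ↔ Y.1 1 0 = 0 := by
  have hne1 : mk2 (Cfsg.Agent.Lib.Helper48.Dickson.uMat (1 : F)) ≠ 1 := fun h =>
    Cfsg.Agent.Lib.Helper48.Dickson.uMat_not_center (1 : F) one_ne_zero ((mk2_eq_one_iff _).1 h)
  have hnet : mk2 (uMat t) ≠ 1 := fun h =>
    Cfsg.Agent.Lib.Helper48.Dickson.uMat_not_center t ht ((mk2_eq_one_iff _).1 h)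
  have hmem : mk2 (uMat t) ∈ (Ubar : Subgroup PSL2) :=
    (mem_Ubar_iff (uPack 2) _).2 ⟨by simp, by simp⟩
  have hcomp : comp2 (mk2 (uMat t)) = (Ubar : Subgroup PSL2) :=
    comp2_eq (mk2 (Cfsg.Agent.Lib.Helper48.Dickson.uMat (1 : F))) hne1 _ hmem hnet
  show mk2 Y ∈ nrm (comp2 (mk2 (uMat t))) ↔ _
  rw [hcomp]
  exact mem_nrm_Ubar_iff (uPack 2) Y


omit [Fintype F] [Fact (Nat.Prime 2)] [CharP F 2] in
/-- commuting with a regular diagonal element -/
theorem commute_dg_iff (a : F) (ha : a ≠ 0) (ha1 : a ^ 2 ≠ 1) (M : SL2) :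
    M * dg a ha = dg a ha * M ↔ M.1 0 1 = 0 ∧ M.1 1 0 = 0 := by
  have hne : a⁻¹ - a ≠ 0 := by
    intro h
    apply ha1
    have : a⁻¹ = a := sub_eq_zero.mp h
    calc a ^ 2 = a * a := by ring
      _ = a * a⁻¹ := by rw [this]
      _ = 1 := mul_inv_cancel₀ ha
  obtain ⟨l00, l01, l10, l11⟩ := mul_entries M (dg a ha)
  obtain ⟨r00, r01, r10, r11⟩ := mul_entries (dg a ha) M
  simp only [dg_00, dg_01, dg_10, dg_11] at l00 l01 l10 l11 r00 r01 r10 r11
  constructor
  · intro h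
    have h01 : (M * dg a ha).1 0 1 = (dg a ha * M).1 0 1 := by rw [h]
    have h10 : (M * dg a ha).1 1 0 = (dg a ha * M).1 1 0 := by rw [h]
    rw [l01, r01] at h01
    rw [l10, r10] at h10
    constructor
    · have : M.1 0 1 * (a⁻¹ - a) = 0 := by linear_combination h01
      exact (mul_eq_zero.mp this).resolve_right hne
    · have : M.1 1 0 * (a⁻¹ - a) = 0 := by linear_combination -h10
      exact (mul_eq_zero.mp this).resolve_right hne
  · rintro ⟨h1, h2⟩
    apply ext_entries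
    · rw [l00, r00, h1, h2]; ring
    · rw [l01, r01, h1]; ring
    · rw [l10, r10, h2]; ring
    · rw [l11, r11, h1, h2]; ring

omit [Fintype F] [Fact (Nat.Prime 2)] in
theorem dg_ne_one (a : F) (ha : a ≠ 0) (ha1 : a ^ 2 ≠ 1) : mk2 (dg a ha) ≠ 1 := by
  rw [Ne, mk2_eq_one_iff']
  intro h
  apply ha1
  have : (dg a ha).1 0 0 = 1 := by rw [h]; simp
  rw [dg_00] at this
  rw [this]; ring

/-- the normalizer of the component of a regular diagonal element -/
theorem mem_nrm_dg (a : F) (ha : a ≠ 0) (ha1 : a ^ 2 ≠ 1) (Y : SL2) :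
    mk2 Y ∈ nrm ((DD F).comp (mk2 (dg a ha))) ↔
      (Y.1 0 1 = 0 ∧ Y.1 1 0 = 0) ∨ (Y.1 0 0 = 0 ∧ Y.1 1 1 = 0) := by
  have hA : dg a ha ∉ Subgroup.center SL2 := fun h =>
    dg_ne_one a ha ha1 ((mk2_eq_one_iff _).2 h)
  have hne : a⁻¹ - a ≠ 0 := by
    intro h
    apply ha1
    have : a⁻¹ = a := sub_eq_zero.mp h
    calc a ^ 2 = a * a := by ring
      _ = a * a⁻¹ := by rw [this]
      _ = 1 := mul_inv_cancel₀ ha
  show mk2 Y ∈ nrm (comp2 (mk2 (dg a ha))) ↔ _
  rw [mem_nrm_comp2_iff _ Y hA, commute_dg_iff a ha ha1]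
  obtain ⟨e10, -, -⟩ := conj_entries Y (dg a ha)
  have e01 := conj_entry_01 Y (dg a ha)
  simp only [dg_00, dg_01, dg_10, dg_11] at e10 e01
  rw [e01, e10]
  have hd := det_eq Y
  constructor
  · rintro ⟨h1, h2⟩
    have h1' : Y.1 0 0 * Y.1 0 1 = 0 := by
      have : (Y.1 0 0 * Y.1 0 1) * (a⁻¹ - a) = 0 := by linear_combination h1
      exact (mul_eq_zero.mp this).resolve_right hne
    have h2' : Y.1 1 0 * Y.1 1 1 = 0 := by
      have : (Y.1 1 0 * Y.1 1 1) * (a⁻¹ - a) = 0 := by linear_combination -h2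
      exact (mul_eq_zero.mp this).resolve_right hne
    rcases mul_eq_zero.mp h1' with h | h
    · right
      refine ⟨h, ?_⟩
      rcases mul_eq_zero.mp h2' with h' | h'
      · exfalso
        rw [h, h'] at hd
        simp at hd
      · exact h'
    · left
      refine ⟨h, ?_⟩
      rcases mul_eq_zero.mp h2' with h' | h'
      · exact h'
      · exfalso
        rw [h, h'] at hd
        simp at hd
  · rintro (⟨h1, h2⟩ | ⟨h1, h2⟩)
    · rw [h1, h2]; constructor <;> ring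
    · rw [h1, h2]; constructor <;> ring

omit [Fintype F] [Fact (Nat.Prime 2)] [CharP F 2] in
theorem lw_mul (x y : F) : lw x * lw y = lw (x + y) := by
  obtain ⟨e00, e01, e10, e11⟩ := mul_entries (lw x) (lw y)
  simp only [lw_00, lw_01, lw_10, lw_11] at e00 e01 e10 e11
  apply ext_entries
  · rw [e00]; simp [lw]
  · rw [e01]; simp [lw]
  · rw [e10]; simp [lw]
  · rw [e11]; simp [lw]

omit [Fintype F] [Fact (Nat.Prime 2)] in
theorem lw_ne_one : mk2 (lw (1 : F)) ≠ 1 := by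
  rw [Ne, mk2_eq_one_iff']
  intro h
  have : (lw (1 : F)).1 1 0 = 0 := by rw [h]; simp
  rw [lw_10] at this
  exact one_ne_zero this

/-- lower triangular elements normalize the component of `lw 1` -/
theorem mem_nrm_lw (Y : SL2) (hY : Y.1 0 1 = 0) :
    mk2 Y ∈ nrm ((DD F).comp (mk2 (lw (1 : F)))) := by
  have hA : lw (1 : F) ∉ Subgroup.center SL2 := fun h => lw_ne_one ((mk2_eq_one_iff _).2 h)
  show mk2 Y ∈ nrm (comp2 (mk2 (lw (1 : F))))
  rw [mem_nrm_comp2_iff _ Y hA]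
  obtain ⟨e10, e00, e11⟩ := conj_entries Y (lw (1 : F))
  have e01 := conj_entry_01 Y (lw (1 : F))
  simp only [lw_00, lw_01, lw_10, lw_11] at e10 e00 e11 e01
  have hd := det_eq Y
  rw [hY] at hd
  have hconj : Y * lw 1 * Y⁻¹ = lw ((Y.1 1 1) ^ 2) := by
    apply ext_entries
    · rw [e00, hY, lw_00]; linear_combination hd
    · rw [e01, hY, lw_01]; ring
    · rw [e10, lw_10]; ring
    · rw [e11, hY, lw_11]; linear_combination hd
  rw [hconj, lw_mul, lw_mul, add_comm]

/-- normal form of the normalizer of a unipotent component -/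
theorem nrm_unip_form (g : PSL2) (hg : g ≠ 1) (hp : IsPGroup 2 ((DD F).comp g)) :
    ∃ X : SL2, ∀ Y : SL2, mk2 Y ∈ nrm ((DD F).comp g) ↔ (X * Y * X⁻¹).1 1 0 = 0 := by
  obtain ⟨B, rfl⟩ := mk2_surjective g
  have hB : B ∉ Subgroup.center SL2 := fun h => hg ((mk2_eq_one_iff B).2 h)
  have : Nontrivial ((DD F).comp (mk2 B)) :=
    ⟨⟨⟨mk2 B, mem_comp2_self _⟩, 1, fun h => hg (congrArg Subtype.val h)⟩⟩
  have ht : (Matrix.trace (B : Matrix (Fin 2) (Fin 2) F)) ^ 2 = 4 := by
    by_contra ht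
    exact not_pgroup_and_coprime hp (comp2_coprime (tPack 2) B ht)
  obtain ⟨X, h1, h2⟩ := (uPack (F := F) 2).Uh B hB ht
  have hmem : mk2 (X * B * X⁻¹) ∈ (Ubar : Subgroup PSL2) :=
    (mem_Ubar_iff (uPack 2) _).2 ⟨h1, h2⟩
  have hne : mk2 (X * B * X⁻¹) ≠ 1 := by
    rw [map_mul, map_mul, map_inv]
    exact DStruct.conj_ne_one hg
  have hB' : X * B * X⁻¹ ∉ Subgroup.center SL2 := fun h => hne ((mk2_eq_one_iff _).2 h)
  have hne1 : mk2 (Cfsg.Agent.Lib.Helper48.Dickson.uMat (1 : F)) ≠ 1 := fun h =>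
    Cfsg.Agent.Lib.Helper48.Dickson.uMat_not_center (1 : F) one_ne_zero ((mk2_eq_one_iff _).1 h)
  have hcomp : comp2 (mk2 (X * B * X⁻¹)) = (Ubar : Subgroup PSL2) :=
    comp2_eq (mk2 (Cfsg.Agent.Lib.Helper48.Dickson.uMat (1 : F))) hne1 _ hmem hne
  refine ⟨X, fun Y => ?_⟩
  show mk2 Y ∈ nrm (comp2 (mk2 B)) ↔ _
  rw [← mem_nrm_Ubar_iff (uPack 2) (X * Y * X⁻¹), ← hcomp,
    mem_nrm_comp2_iff _ Y hB, mem_nrm_comp2_iff _ (X * Y * X⁻¹) hB']
  constructor
  · intro h
    have e1 : X * Y * X⁻¹ * (X * B * X⁻¹) * (X * Y * X⁻¹)⁻¹ * (X * B * X⁻¹) =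
        X * (Y * B * Y⁻¹ * B) * X⁻¹ := by group
    have e2 : X * B * X⁻¹ * (X * Y * X⁻¹ * (X * B * X⁻¹) * (X * Y * X⁻¹)⁻¹) =
        X * (B * (Y * B * Y⁻¹)) * X⁻¹ := by group
    rw [e1, e2, h]
  · intro h
    have e1 : Y * B * Y⁻¹ * B =
        X⁻¹ * (X * Y * X⁻¹ * (X * B * X⁻¹) * (X * Y * X⁻¹)⁻¹ * (X * B * X⁻¹)) * X := by group
    have e2 : B * (Y * B * Y⁻¹) =
        X⁻¹ * (X * B * X⁻¹ * (X * Y * X⁻¹ * (X * B * X⁻¹) * (X * Y * X⁻¹)⁻¹)) * X := by group
    rw [e1, e2, h]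

end chartwo

end Cfsg.Agent.Lib.Helper19.SolubMat
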