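import Mathlib
import Cfsg.Agent.Lib.Helper19.SolubMat
import Cfsg.Agent.S0810

set_option autoImplicit false
set_option linter.unusedSimpArgs false
set_option linter.unusedSectionVars false
set_option linter.style.haveILetI false

/-!
# Solubilizers in `PSL₂(3^p)`, `p` an odd prime: group theory (helper19)
-/

namespace Cfsg.Agent.Lib.Helper19.Solub3

open Subgroup

section general

variable {G : Type*} [Group G]

/-- conjugation maps a closure into a subgroup as soon as it does so on generators -/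
theorem conj_closure_le (g : G) (S : Set G) (A : Subgroup G)
    (h : ∀ s ∈ S, g * s * g⁻¹ ∈ A) : ∀ x ∈ Subgroup.closure S, g * x * g⁻¹ ∈ A := by
  intro x hx
  induction hx using Subgroup.closure_induction with
  | mem s hs => exact h s hs
  | one => simp
  | mul a b _ _ iha ihb =>
    have : g * (a * b) * g⁻¹ = (g * a * g⁻¹) * (g * b * g⁻¹) := by group
    rw [this]; exact A.mul_mem iha ihb
  | inv a _ iha =>
    have : g * a⁻¹ * g⁻¹ = (g * a * g⁻¹)⁻¹ := by group
    rw [this]; exact A.inv_mem iha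

/-- membership in the normalizer of a closure, from generators -/
theorem mem_normalizer_closure (g : G) (S : Set G)
    (h1 : ∀ s ∈ S, g * s * g⁻¹ ∈ Subgroup.closure S)
    (h2 : ∀ s ∈ S, g⁻¹ * s * g⁻¹⁻¹ ∈ Subgroup.closure S) :
    g ∈ Subgroup.normalizer (Subgroup.closure S : Set G) := by
  rw [Subgroup.mem_normalizer_iff]
  intro x
  constructor
  · intro hx
    exact conj_closure_le g S _ h1 x hx
  · intro hx
    have := conj_closure_le g⁻¹ S _ h2 _ hx
    have e : g⁻¹ * (g * x * g⁻¹) * g⁻¹⁻¹ = x := by group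
    rwa [e] at this

/-- the closure of two commuting elements is commutative -/
theorem closure_pair_comm (a b : G) (hab : a * b = b * a) :
    ∀ x ∈ Subgroup.closure ({a, b} : Set G), ∀ y ∈ Subgroup.closure ({a, b} : Set G),
      x * y = y * x := by
  have hS : ∀ x ∈ ({a, b} : Set G), ∀ y ∈ ({a, b} : Set G), x * y = y * x := by
    rintro x (rfl | rfl) y (rfl | rfl)
    · rfl
    · exact hab
    · exact hab.symm
    · rfl
  intro x hx y hy
  have hc := Subgroup.isMulCommutative_closure hS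
  have := hc.is_comm.comm (⟨x, hx⟩ : Subgroup.closure ({a, b} : Set G)) ⟨y, hy⟩
  exact congrArg Subtype.val this

/-- the `(2,3,3)` configuration: `⟨u, v⟩` normalizes the abelian group `⟨u, v u v⁻¹⟩` -/
theorem t233 (u v : G) (hu : u ^ 2 = 1) (hv : v ^ 3 = 1) (huv : (u * v) ^ 3 = 1) :
    ∃ A : Subgroup G, (∀ a ∈ A, ∀ b ∈ A, a * b = b * a) ∧ u ∈ A ∧
      u ∈ Subgroup.normalizer (A : Set G) ∧ v ∈ Subgroup.normalizer (A : Set G) := by
  have hui : u⁻¹ = u := by
    rw [inv_eq_iff_mul_eq_one, ← pow_two]; exact hu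
  have h3 : (u * v * u) * (v * u * v) = 1 := by
    rw [← huv, pow_succ, pow_two]; simp only [mul_assoc]
  have e1 : u * v * u = v⁻¹ * u * v⁻¹ := by
    rw [eq_inv_of_mul_eq_one_left h3, mul_inv_rev, mul_inv_rev, hui, mul_assoc]
  have e2 : v⁻¹ * v⁻¹ = v := by
    have : v * v * v = 1 := by rw [← hv, pow_succ, pow_two]
    calc v⁻¹ * v⁻¹ = v⁻¹ * v⁻¹ * (v * v * v) := by rw [this, mul_one]
      _ = v := by group
  have e4 : v * v = v⁻¹ := by
    have : v * v * v = 1 := by rw [← hv, pow_succ, pow_two]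
    calc v * v = (v * v * v) * v⁻¹ := by group
      _ = v⁻¹ := by rw [this, one_mul]
  have e3 : u * v⁻¹ * u = v * u * v := by
    have := congrArg (fun z => z⁻¹) e1
    simp only [mul_inv_rev, inv_inv, hui] at this
    rw [← mul_assoc, ← mul_assoc] at this
    exact this
  have hab : u * (v * u * v⁻¹) = v⁻¹ * u * v := by
    calc u * (v * u * v⁻¹) = (u * v * u) * v⁻¹ := by group
      _ = (v⁻¹ * u * v⁻¹) * v⁻¹ := by rw [e1]
      _ = v⁻¹ * u * (v⁻¹ * v⁻¹) := by group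
      _ = v⁻¹ * u * v := by rw [e2]
  have hba : (v * u * v⁻¹) * u = v⁻¹ * u * v := by
    calc (v * u * v⁻¹) * u = v * (u * v⁻¹ * u) := by group
      _ = v * (v * u * v) := by rw [e3]
      _ = (v * v) * u * v := by group
      _ = v⁻¹ * u * v := by rw [e4]
  set A := Subgroup.closure ({u, v * u * v⁻¹} : Set G) with hA
  have huA : u ∈ A := Subgroup.subset_closure (Set.mem_insert _ _)
  have hbA : v * u * v⁻¹ ∈ A := Subgroup.subset_closure (Set.mem_insert_of_mem _ rfl)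
  have hcA : v⁻¹ * u * v ∈ A := by
    rw [← hab]; exact A.mul_mem huA hbA
  have hcomm := closure_pair_comm u (v * u * v⁻¹) (hab.trans hba.symm)
  refine ⟨A, hcomm, huA, Subgroup.le_normalizer huA, ?_⟩
  apply mem_normalizer_closure
  · rintro s (rfl | rfl)
    · exact hbA
    · have : v * (v * u * v⁻¹) * v⁻¹ = (v * v) * u * (v⁻¹ * v⁻¹) := by group
      rw [this, e4, e2]; exact hcA
  · rintro s (rfl | rfl)
    · rw [inv_inv]; exact hcA
    · have : v⁻¹ * (v * u * v⁻¹) * v⁻¹⁻¹ = u := by group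
      rw [this]; exact huA

end general


section a4

set_option maxRecDepth 100000 in
theorem a4_invol_dec : ∀ u v : alternatingGroup (Fin 4), u ≠ 1 → u ^ 2 = 1 →
    (v ^ 2 = 1 ∨ (v ^ 3 = 1 ∧ (u * v) ^ 3 = 1)) := by decide

set_option maxRecDepth 100000 in
theorem a4_three_dec : ∀ u v : alternatingGroup (Fin 4), u ≠ 1 → u ^ 3 = 1 →
    (v = 1 ∨ v = u ∨ v = u ^ 2) ∨ (v ^ 2 = 1 ∧ (u * v) ^ 3 = 1) ∨
      (v ^ 3 = 1 ∧ (u * v) ^ 2 = 1) ∨ (v ^ 3 = 1 ∧ (u⁻¹ * v) ^ 2 = 1) := by decide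

set_option maxRecDepth 100000 in
theorem a4_order_dec : ∀ u : alternatingGroup (Fin 4), u ^ 2 = 1 ∨ u ^ 3 = 1 := by decide

variable {G : Type*} [Group G]

theorem equiv_pow_eq_one {H : Subgroup G} {A : Type*} [Group A] (e : H ≃* A) (a : H) (n : ℕ) :
    (e a) ^ n = 1 ↔ (a : G) ^ n = 1 := by
  rw [← map_pow, MulEquiv.map_eq_one_iff, ← Subgroup.coe_pow]
  exact ⟨fun h => by rw [h]; rfl, fun h => Subtype.ext h⟩

theorem a4_invol (H : Subgroup G) (e : H ≃* alternatingGroup (Fin 4)) (x y : G) (hx : x ∈ H)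
    (hy : y ∈ H) (hx1 : x ≠ 1) (hx2 : x ^ 2 = 1) :
    y ^ 2 = 1 ∨ (y ^ 3 = 1 ∧ (x * y) ^ 3 = 1) := by
  have h1 : e ⟨x, hx⟩ ≠ 1 := by
    intro h
    rw [MulEquiv.map_eq_one_iff] at h
    exact hx1 (congrArg Subtype.val h)
  have h2 : (e ⟨x, hx⟩) ^ 2 = 1 := (equiv_pow_eq_one e ⟨x, hx⟩ 2).2 hx2
  rcases a4_invol_dec (e ⟨x, hx⟩) (e ⟨y, hy⟩) h1 h2 with h | ⟨h, h'⟩
  · left; exact (equiv_pow_eq_one e ⟨y, hy⟩ 2).1 h
  · right
    refine ⟨(equiv_pow_eq_one e ⟨y, hy⟩ 3).1 h, ?_⟩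
    rw [← map_mul] at h'
    exact (equiv_pow_eq_one e (⟨x, hx⟩ * ⟨y, hy⟩) 3).1 h'

theorem a4_three (H : Subgroup G) (e : H ≃* alternatingGroup (Fin 4)) (x y : G) (hx : x ∈ H)
    (hy : y ∈ H) (hx1 : x ≠ 1) (hx3 : x ^ 3 = 1) :
    (y = 1 ∨ y = x ∨ y = x ^ 2) ∨ (y ^ 2 = 1 ∧ (x * y) ^ 3 = 1) ∨
      (y ^ 3 = 1 ∧ (x * y) ^ 2 = 1) ∨ (y ^ 3 = 1 ∧ (x⁻¹ * y) ^ 2 = 1) := by
  have h1 : e ⟨x, hx⟩ ≠ 1 := by
    intro h
    rw [MulEquiv.map_eq_one_iff] at h
    exact hx1 (congrArg Subtype.val h)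
  have h2 : (e ⟨x, hx⟩) ^ 3 = 1 := (equiv_pow_eq_one e ⟨x, hx⟩ 3).2 hx3
  rcases a4_three_dec (e ⟨x, hx⟩) (e ⟨y, hy⟩) h1 h2 with (h | h | h) | ⟨h, h'⟩ | ⟨h, h'⟩ | ⟨h, h'⟩
  · left; left
    rw [MulEquiv.map_eq_one_iff] at h
    exact congrArg Subtype.val h
  · left; right; left
    exact congrArg Subtype.val (e.injective h)
  · left; right; right
    rw [← map_pow] at h
    exact congrArg Subtype.val (e.injective h)
  · right; left
    refine ⟨(equiv_pow_eq_one e ⟨y, hy⟩ 2).1 h, ?_⟩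
    rw [← map_mul] at h'
    exact (equiv_pow_eq_one e (⟨x, hx⟩ * ⟨y, hy⟩) 3).1 h'
  · right; right; left
    refine ⟨(equiv_pow_eq_one e ⟨y, hy⟩ 3).1 h, ?_⟩
    rw [← map_mul] at h'
    exact (equiv_pow_eq_one e (⟨x, hx⟩ * ⟨y, hy⟩) 2).1 h'
  · right; right; right
    refine ⟨(equiv_pow_eq_one e ⟨y, hy⟩ 3).1 h, ?_⟩
    rw [← map_inv, ← map_mul] at h'
    exact (equiv_pow_eq_one e ((⟨x, hx⟩ : H)⁻¹ * ⟨y, hy⟩) 2).1 h'

theorem a4_order (H : Subgroup G) (e : H ≃* alternatingGroup (Fin 4)) (x : G) (hx : x ∈ H) :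
    x ^ 2 = 1 ∨ x ^ 3 = 1 := by
  rcases a4_order_dec (e ⟨x, hx⟩) with h | h
  · left; exact (equiv_pow_eq_one e ⟨x, hx⟩ 2).1 h
  · right; exact (equiv_pow_eq_one e ⟨x, hx⟩ 3).1 h

end a4

section dgen

open Cfsg.Agent.Lib.Helper48.Dickson

variable {G : Type*} [Group G] {p : ℕ} (D : DStruct G p)

/-- `x` inverts `w ≠ 1`: `x` normalizes the component of `w` -/
theorem mem_nrm_of_inverts (x w : G) (hw : w ≠ 1) (h : x * w * x⁻¹ = w⁻¹) :
    x ∈ nrm (D.comp w) := by
  rw [D.mem_nrm_comp_iff hw, h]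
  exact D.comp_eq w hw w⁻¹ (Subgroup.inv_mem _ (D.mem_comp w)) (inv_ne_one.2 hw)

/-- two involutions normalize a common component -/
theorem sq_case (x y : G) (hx : x ≠ 1) (hx2 : x ^ 2 = 1) (hy2 : y ^ 2 = 1) :
    ∃ g, g ≠ 1 ∧ x ∈ nrm (D.comp g) ∧ y ∈ nrm (D.comp g) := by
  have hxi : x⁻¹ = x := by
    rw [inv_eq_iff_mul_eq_one, ← pow_two]; exact hx2
  have hyi : y⁻¹ = y := by
    rw [inv_eq_iff_mul_eq_one, ← pow_two]; exact hy2
  by_cases hw : x * y = 1
  · have hyx : y = x := by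
      have : y = x⁻¹ := (eq_inv_of_mul_eq_one_right hw)
      rw [this, hxi]
    refine ⟨x, hx, Subgroup.le_normalizer (D.mem_comp x), ?_⟩
    rw [hyx]; exact Subgroup.le_normalizer (D.mem_comp x)
  · have hinv : x * (x * y) * x⁻¹ = (x * y)⁻¹ := by
      rw [mul_inv_rev, hxi, hyi]
      have : x * x = 1 := by rw [← pow_two]; exact hx2
      calc x * (x * y) * x = (x * x) * y * x := by group
        _ = y * x := by rw [this, one_mul]
    have h1 := mem_nrm_of_inverts D x (x * y) hw hinv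
    refine ⟨x * y, hw, h1, ?_⟩
    have h3 : x⁻¹ * (x * y) ∈ nrm (D.comp (x * y)) :=
      Subgroup.mul_mem _ (Subgroup.inv_mem _ h1)
        (Subgroup.le_normalizer (D.mem_comp (x * y)))
    rwa [inv_mul_cancel_left] at h3

/-- an involution inverting `y` -/
theorem inv_case (x y : G) (hx : x ≠ 1) (hx2 : x ^ 2 = 1) (hxy : (x * y) ^ 2 = 1) :
    ∃ g, g ≠ 1 ∧ x ∈ nrm (D.comp g) ∧ y ∈ nrm (D.comp g) := by
  have hxi : x⁻¹ = x := by
    rw [inv_eq_iff_mul_eq_one, ← pow_two]; exact hx2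
  by_cases hy : y = 1
  · refine ⟨x, hx, Subgroup.le_normalizer (D.mem_comp x), ?_⟩
    rw [hy]; exact Subgroup.one_mem _
  · have hinv : x * y * x⁻¹ = y⁻¹ := by
      rw [hxi]
      have : x * y * (x * y) = 1 := by rw [← pow_two]; exact hxy
      calc x * y * x = (x * y * (x * y)) * y⁻¹ := by group
        _ = y⁻¹ := by rw [this, one_mul]
    exact ⟨y, hy, mem_nrm_of_inverts D x y hy hinv,
      Subgroup.le_normalizer (D.mem_comp y)⟩

/-- commuting elements -/
theorem comm_case (x y : G) (hx : x ≠ 1) (h : y * x = x * y) :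
    ∃ g, g ≠ 1 ∧ x ∈ nrm (D.comp g) ∧ y ∈ nrm (D.comp g) := by
  refine ⟨x, hx, Subgroup.le_normalizer (D.mem_comp x), ?_⟩
  rw [D.mem_nrm_comp_iff hx]
  have : y * x * y⁻¹ = x := by rw [h]; group
  rw [this]

/-- an involution and `y` normalizing a torus -/
theorem torus_case (x y g : G) (hx2 : x ^ 2 = 1) (hg : g ≠ 1)
    (hc : (Nat.card (D.comp g)).Coprime p) (hxg : x ∈ nrm (D.comp g))
    (hyg : y ∈ nrm (D.comp g)) : y ^ 2 = 1 ∨ (x * y) ^ 2 = 1 ∨ y * x = x * y := by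
  have hxi : x⁻¹ = x := by
    rw [inv_eq_iff_mul_eq_one, ← pow_two]; exact hx2
  by_cases hxc : x ∈ D.comp g
  · right; right
    by_cases hyc : y ∈ D.comp g
    · exact D.comp_comm g hg y hyc x hxc
    · have h1 := (D.t_inv g hg hc y hyg hyc).2 x hxc
      rw [hxi] at h1
      calc y * x = (y * x * y⁻¹) * y := by group
        _ = x * y := by rw [h1]
  · by_cases hyc : y ∈ D.comp g
    · right; left
      have h1 := (D.t_inv g hg hc x hxg hxc).2 y hyc
      rw [hxi] at h1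
      rw [pow_two]
      calc x * y * (x * y) = (x * y * x) * y := by group
        _ = 1 := by rw [h1]; group
    · left
      exact (D.t_inv g hg hc y hyg hyc).1

/-- an element of order `p` normalizing a unipotent component lies in it -/
theorem unip_mem_of_pow [Fact p.Prime] (g : G) (hg : g ≠ 1) (hp : IsPGroup p (D.comp g)) (n : G)
    (hn : n ∈ nrm (D.comp g)) (hnp : n ^ p = 1) : n ∈ D.comp g := by
  by_cases h1 : n = 1
  · rw [h1]; exact Subgroup.one_mem _
  by_contra hcon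
  apply D.u_not_dvd g hg hp n hn hcon
  rw [orderOf_eq_prime hnp h1]

/-- an element normalizing a torus, whose square is not `1`, lies in it -/
theorem torus_mem_of_sq_ne (g : G) (hg : g ≠ 1) (hc : (Nat.card (D.comp g)).Coprime p) (n : G)
    (hn : n ∈ nrm (D.comp g)) (h2 : n ^ 2 ≠ 1) : n ∈ D.comp g := by
  by_contra hcon
  exact h2 (D.t_inv g hg hc n hn hcon).1

end dgen


section three

open Cfsg.Agent.Lib.Helper48.Dickson Cfsg.Agent.Lib.Helper98.PSL2Max Cfsg.Agent.Lib.Helper19.Solub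

variable {F : Type*} [Field F] [Fintype F]

local notation "SL2" => Matrix.SpecialLinearGroup (Fin 2) F
local notation "PSL2" => Matrix.ProjectiveSpecialLinearGroup (Fin 2) F

theorem charP_three (p : ℕ) (hF : Fintype.card F = 3 ^ p) : CharP F 3 := by
  obtain ⟨c, hc⟩ := CharP.exists F
  have hcp : c.Prime := CharP.char_is_prime F c
  have : Fact c.Prime := ⟨hcp⟩
  obtain ⟨n, -, hn⟩ := FiniteField.card F c
  have h1 : c ∣ 3 ^ p := by rw [← hF, hn]; exact dvd_pow_self c n.ne_zero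
  have h2 : c = 3 :=
    (Nat.prime_dvd_prime_iff_eq hcp Nat.prime_three).1 (hcp.dvd_of_dvd_pow h1)
  rw [← h2]; exact hc

/-- numerical facts on `q = 3^p` -/
theorem q_facts (p : ℕ) (hp : p.Prime) (hodd : Odd p) (hF : Fintype.card F = 3 ^ p) :
    Fintype.card F % 8 = 3 ∧ 27 ≤ Fintype.card F := by
  obtain ⟨c, rfl⟩ := hodd
  have hc : 1 ≤ c := by
    rcases Nat.eq_zero_or_pos c with h | h
    · rw [h] at hp; exact absurd hp (by norm_num)
    · exact h
  constructor
  · rw [hF, pow_succ, pow_mul, Nat.mul_mod, Nat.pow_mod]; norm_num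
  · rw [hF]
    calc 27 = 3 ^ 3 := by norm_num
      _ ≤ 3 ^ (2 * c + 1) := Nat.pow_le_pow_right (by norm_num) (by omega)

theorem card_G (hq : Fintype.card F % 8 = 3) :
    Nat.card PSL2 * 2 = Fintype.card F * (Fintype.card F * Fintype.card F - 1) := by
  have := Cfsg.Agent.Lib.Helper19.DicksonUse.card_psl_mul_d (F := F)
  rwa [Cfsg.Agent.Lib.Helper19.DicksonUse.gcd_two_odd (Nat.odd_iff.2 (by omega))] at this

theorem not_eight_dvd (hq : Fintype.card F % 8 = 3) : ¬ 8 ∣ Nat.card PSL2 := by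
  intro h
  obtain ⟨k, hk⟩ := h
  have hG := card_G hq
  obtain ⟨m, hm⟩ : ∃ m, Fintype.card F = 8 * m + 3 := ⟨Fintype.card F / 8, by omega⟩
  rw [hm, hk] at hG
  have e : (8 * m + 3) * ((8 * m + 3) * (8 * m + 3) - 1) =
      8 * ((8 * m + 3) * (8 * m * m + 6 * m + 1)) := by
    have : (8 * m + 3) * (8 * m + 3) - 1 = 8 * (8 * m * m + 6 * m + 1) := by
      have : (8 * m + 3) * (8 * m + 3) = 8 * (8 * m * m + 6 * m + 1) + 1 := by ring
      omega
    rw [this]; ring
  rw [e] at hG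
  have h2 : 2 * k = (8 * m + 3) * (8 * m * m + 6 * m + 1) := by omega
  have : Odd ((8 * m + 3) * (8 * m * m + 6 * m + 1)) :=
    Odd.mul ⟨4 * m + 1, by ring⟩ ⟨4 * m * m + 3 * m, by ring⟩
  rw [← h2] at this
  exact (Nat.not_even_iff_odd.2 this) (even_two_mul k)

theorem list_hyp (p : ℕ) (hp : p.Prime) (hodd : Odd p) (hF : Fintype.card F = 3 ^ p) :
    (∃ r : ℕ, r.Prime ∧ Fintype.card F = 2 ^ r) ∨
      (∃ r : ℕ, r.Prime ∧ r ≠ 2 ∧ Fintype.card F = 3 ^ r) ∨
      ((Fintype.card F).Prime ∧ 5 < Fintype.card F ∧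
        (Fintype.card F % 5 = 2 ∨ Fintype.card F % 5 = 3)) ∨ Fintype.card F = 5 := by
  right; left
  refine ⟨p, hp, ?_, hF⟩
  rintro rfl
  exact absurd hodd (by decide)

theorem not_five_dvd (p : ℕ) (hp : p.Prime) (hodd : Odd p) (hF : Fintype.card F = 3 ^ p) :
    ¬ 5 ∣ Nat.card PSL2 := by
  intro h
  obtain ⟨hq8, h27⟩ := q_facts p hp hodd hF
  obtain ⟨-, h5, -⟩ := Cfsg.Agent.Lib.Helper19.MinSimple.list_facts (list_hyp p hp hodd hF)
  rcases h5 with h5 | h5 | h5
  · apply h5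
    rw [← card_G hq8]
    exact dvd_mul_of_dvd_left h _
  · omega
  · omega

theorem minimal (p : ℕ) (hp : p.Prime) (hodd : Odd p) (hF : Fintype.card F = 3 ^ p) :
    Cfsg.IsMinimalSimple PSL2 :=
  (Cfsg.Agent.S0810.result (F := F) rfl).2 (list_hyp p hp hodd hF)

/-- a subgroup normalizing a nontrivial abelian subgroup is solvable -/
theorem nrm_comm_solvable (p : ℕ) (hp : p.Prime) (hodd : Odd p) (hF : Fintype.card F = 3 ^ p)
    (A H : Subgroup PSL2) (hA : A ≠ ⊥) (hc : ∀ a ∈ A, ∀ b ∈ A, a * b = b * a)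
    (hH : H ≤ Subgroup.normalizer (A : Set PSL2)) : Group.IsSolvable H := by
  obtain ⟨hs, hnc, hsol⟩ := minimal p hp hodd hF
  have hne : Subgroup.normalizer (A : Set PSL2) ≠ ⊤ := by
    intro h
    have hn : A.Normal := Subgroup.normalizer_eq_top_iff.1 h
    rcases hn.eq_bot_or_eq_top with h1 | h1
    · exact hA h1
    · apply hnc
      refine ⟨⟨fun a b => ?_⟩⟩
      exact hc a (by rw [h1]; exact Subgroup.mem_top _) b (by rw [h1]; exact Subgroup.mem_top _)
  exact solvable_of_le hH (hsol _ hne)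


/-- the Dickson structure of `PSL₂(F)` in characteristic three -/
noncomputable abbrev DD3 (F : Type*) [Field F] [Fintype F] [Fact (Nat.Prime 3)] [CharP F 3] :
    DStruct (Matrix.ProjectiveSpecialLinearGroup (Fin 2) F) 3 :=
  dstruct (tPack (F := F) 3) (uPack 3)

variable [Fact (Nat.Prime 3)] [CharP F 3]

/-- normalizers of components are solvable -/
theorem nrm_solvable (p : ℕ) (hp : p.Prime) (hodd : Odd p) (hF : Fintype.card F = 3 ^ p)
    (g : PSL2) (hg : g ≠ 1) : Group.IsSolvable (nrm ((DD3 F).comp g)) := by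
  apply nrm_comm_solvable p hp hodd hF ((DD3 F).comp g) _ _ ((DD3 F).comp_comm g hg) le_rfl
  intro h
  have h1 := (DD3 F).mem_comp g
  rw [h, Subgroup.mem_bot] at h1
  exact hg h1

/-- for `q = 3^p`, `p` an odd prime: every proper nontrivial subgroup of `PSL₂(q)` normalizes a
component or is isomorphic to `A₄` -/
theorem proper_cases (p : ℕ) (hp : p.Prime) (hodd : Odd p) (hF : Fintype.card F = 3 ^ p)
    (H : Subgroup PSL2) (hbot : H ≠ ⊥) (htop : H ≠ ⊤) :
    (∃ g, g ≠ 1 ∧ H ≤ nrm ((DD3 F).comp g)) ∨ Nonempty (H ≃* alternatingGroup (Fin 4)) := by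
  classical
  obtain ⟨hq8, h27⟩ := q_facts p hp hodd hF
  set q := Fintype.card F with hq
  set D := DD3 F with hD
  rcases D.outcome H with h1 | ⟨g, hg, hT, hle⟩ | ⟨g, hgH, hg, hT, hle, hcard⟩ | ⟨g, hg, hU, hle⟩ |
    ⟨h12, g, hgH, hg, hx, hn⟩ | ⟨h24, g, hgH, hg, hT, hx, hn⟩ | ⟨h60, hall, hrel⟩ |
    ⟨g, hgH, hg, hU, k, hk2, hnk, hhk, hk, -⟩
  · exact absurd h1 hbot
  · left; exact ⟨g, hg, le_trans hle Subgroup.le_normalizer⟩
  · left; exact ⟨g, hg, hle⟩
  · left; exact ⟨g, hg, hle⟩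
  · -- order 12
    right
    have hXN : D.XH H g = D.NH H g := DStruct.eq_of_card_eq (D.XH_le_NH H g) (by rw [hx, hn])
    apply Cfsg.Agent.Lib.Helper19.Recog.a4_of_card h12 ((D.XH H g).subgroupOf H)
    · rw [DStruct.card_subgroupOf_of_le H (D.XH_le H g), hx]
    · rw [D.normalizer_subgroupOf H hg hgH, hXN]
  · -- order 24
    exfalso
    apply not_eight_dvd (F := F) hq8
    have : Nat.card H ∣ Nat.card PSL2 := Subgroup.card_subgroup_dvd_card H
    rw [h24] at this
    exact dvd_trans (by norm_num) this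
  · -- order 60
    exfalso
    apply not_five_dvd (F := F) p hp hodd hF
    have : Nat.card H ∣ Nat.card PSL2 := Subgroup.card_subgroup_dvd_card H
    rw [h60] at this
    exact dvd_trans (by norm_num) this
  · -- two-transitive case
    exfalso
    have hP : 1 < Nat.card (D.XH H g) := by
      have : Nontrivial (D.XH H g) :=
        ⟨⟨⟨g, D.self_mem_XH H hgH⟩, 1, fun h => hg (by simpa using congrArg Subtype.val h)⟩⟩
      exact Finite.one_lt_card
    have hXp : IsPGroup 3 (D.XH H g) := hU.to_le inf_le_right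
    have hP3 : 3 ≤ Nat.card (D.XH H g) := by
      obtain ⟨j, hj⟩ := hXp.exists_card_eq
      rcases Nat.eq_zero_or_pos j with h0 | h0
      · rw [h0, pow_zero] at hj; omega
      · rw [hj]
        calc 3 = 3 ^ 1 := by norm_num
          _ ≤ 3 ^ j := Nat.pow_le_pow_right (by norm_num) h0
    obtain ⟨K, _, _, m, hm, hiso⟩ :=
      Cfsg.Agent.Lib.Helper19.TwoTrans.two_transitive_case 3 H (D.XH H g) inf_le_left
        hXp (Nat.card (D.XH H g)) k hP rfl
        (by rw [← D.NH_eq H hg hgH, hnk]) (by rw [hhk]; ring) hk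
    have hr2 : 2 ≤ Fintype.card K := Fintype.one_lt_card
    rcases Cfsg.Agent.Lib.Helper19.MinSimple.pow_eq_prime_pow Nat.prime_three hp (hm.trans hF) hr2
      with h1 | h2
    · apply htop
      rw [h1, pow_one] at hm
      exact Cfsg.Agent.Lib.Helper19.MinSimple.eq_top_of_same_card K hm H hiso
    · have hpsl : Nat.card (Matrix.ProjectiveSpecialLinearGroup (Fin 2) K) = 12 := by
        have := Cfsg.Agent.Lib.Helper19.DicksonUse.card_psl_mul_d (F := K)
        rw [h2] at this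
        have h' : Nat.card (Matrix.ProjectiveSpecialLinearGroup (Fin 2) K) * 2 = 24 := by
          simpa using this
        omega
      have hpgl : Nat.card (Matrix.ProjGenLinGroup (Fin 2) K) = 24 := by
        rw [Cfsg.Agent.Lib.Helper19.DicksonUse.card_pgl K, h2]
      have h24 : 3 * 2 * 4 ≤ Nat.card (D.XH H g) * k * (1 + Nat.card (D.XH H g)) :=
        Nat.mul_le_mul (Nat.mul_le_mul hP3 hk2) (by omega)
      rcases hiso with ⟨⟨e⟩⟩ | ⟨⟨e⟩⟩
      · have h12 : Nat.card H = 12 := by rw [Nat.card_congr e.toEquiv, hpsl]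
        rw [h12] at hhk
        omega
      · have h24' : Nat.card H = 24 := by rw [Nat.card_congr e.toEquiv, hpgl]
        apply not_eight_dvd (F := F) hq8
        have : Nat.card H ∣ Nat.card PSL2 := Subgroup.card_subgroup_dvd_card H
        rw [h24'] at this
        exact dvd_trans (by norm_num) this

/-- `A₄` is solvable -/
theorem solvable_of_a4 {H : Type*} [Group H] (e : H ≃* alternatingGroup (Fin 4)) :
    Group.IsSolvable H := by
  have : Finite H := Finite.of_equiv _ e.symm.toEquiv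
  apply Cfsg.Agent.Lib.Helper19.MinSimple.solvable_of_card_23 2 1
  rw [Nat.card_congr e.toEquiv, nat_card_alternatingGroup]; simp; decide

/-- the solvability criterion -/
theorem sol_iff (p : ℕ) (hp : p.Prime) (hodd : Odd p) (hF : Fintype.card F = 3 ^ p)
    (x y : PSL2) (hx : x ≠ 1) :
    Group.IsSolvable (Subgroup.closure ({x, y} : Set PSL2)) ↔
      (∃ g, g ≠ 1 ∧ x ∈ nrm ((DD3 F).comp g) ∧ y ∈ nrm ((DD3 F).comp g)) ∨
      (∃ H : Subgroup PSL2, x ∈ H ∧ y ∈ H ∧ Nonempty (H ≃* alternatingGroup (Fin 4))) := by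
  obtain ⟨hq8, h27⟩ := q_facts p hp hodd hF
  constructor
  · intro hsol
    have hbot : Subgroup.closure ({x, y} : Set PSL2) ≠ ⊥ := by
      intro h
      have h1 := mem_closure_left x y
      rw [h, Subgroup.mem_bot] at h1
      exact hx h1
    have htop : Subgroup.closure ({x, y} : Set PSL2) ≠ ⊤ := by
      intro h
      rw [h] at hsol
      have h4 : 4 ≤ Nat.card F := by
        rw [Nat.card_eq_fintype_card]; omega
      apply Cfsg.Agent.Lib.Helper19.MinSimple.not_solvable_psl2 (F := F) h4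
      exact Cfsg.Agent.Lib.Helper19.MinSimple.solvable_of_mulEquiv Subgroup.topEquiv.symm hsol
    rcases proper_cases p hp hodd hF _ hbot htop with ⟨g, hg, hle⟩ | he
    · left; exact ⟨g, hg, hle (mem_closure_left x y), hle (mem_closure_right x y)⟩
    · right; exact ⟨_, mem_closure_left x y, mem_closure_right x y, he⟩
  · rintro (⟨g, hg, hxg, hyg⟩ | ⟨H, hxH, hyH, ⟨e⟩⟩)
    · exact solvable_of_le (closure_pair_le hxg hyg) (nrm_solvable p hp hodd hF g hg)
    · exact solvable_of_le (closure_pair_le hxH hyH) (solvable_of_a4 e)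

end three

end Cfsg.Agent.Lib.Helper19.Solub3
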