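import Mathlib
import Cfsg.Agent.Lib.Helper19.Solub3

set_option autoImplicit false
set_option linter.unusedSimpArgs false
set_option linter.unusedSectionVars false
set_option linter.style.haveILetI false

/-!
# Matrix computations in `SL₂(F)`, odd characteristic, for the solubilizer counts (helper19)
-/

namespace Cfsg.Agent.Lib.Helper19.Solub3Mat

open Cfsg.Agent.Lib.Helper98.SL2Borel
open Cfsg.Agent.Lib.Helper48.Dickson hiding uMat uMat_mul uMat_not_center uMat_zero
open Cfsg.Agent.Lib.Helper19.SolubMat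

section field

variable {F : Type*} [Field F]

local notation "SL2" => Matrix.SpecialLinearGroup (Fin 2) F
local notation "PSL2" => Matrix.ProjectiveSpecialLinearGroup (Fin 2) F

/-- the standard element of order four -/
def wMat : SL2 := mkSL 0 (-1) 1 0 (by ring)

@[simp] lemma wMat_00 : (wMat : SL2).1 0 0 = 0 := rfl
@[simp] lemma wMat_01 : (wMat : SL2).1 0 1 = -1 := rfl
@[simp] lemma wMat_10 : (wMat : SL2).1 1 0 = 1 := rfl
@[simp] lemma wMat_11 : (wMat : SL2).1 1 1 = 0 := rfl

/-- entries of a square -/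
lemma sq_entries (Y : SL2) :
    (Y * Y).1 0 1 = Y.1 0 1 * (Y.1 0 0 + Y.1 1 1) ∧
    (Y * Y).1 1 0 = Y.1 1 0 * (Y.1 0 0 + Y.1 1 1) ∧
    (Y * Y).1 0 0 - (Y * Y).1 1 1 = (Y.1 0 0 - Y.1 1 1) * (Y.1 0 0 + Y.1 1 1) := by
  obtain ⟨e00, e01, e10, e11⟩ := mul_entries Y Y
  refine ⟨?_, ?_, ?_⟩
  · rw [e01]; ring
  · rw [e10]; ring
  · rw [e00, e11]; ring

/-- squares in `PSL₂` -/
theorem mk2_sq_iff (Y : SL2) :
    (mk2 Y) ^ 2 = 1 ↔
      Y.1 0 0 + Y.1 1 1 = 0 ∨ (Y.1 0 1 = 0 ∧ Y.1 1 0 = 0 ∧ Y.1 0 0 = Y.1 1 1) := by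
  rw [← map_pow, mk2_eq_one_iff, pow_two, mem_center_iff']
  obtain ⟨s01, s10, s00⟩ := sq_entries Y
  rw [s01, s10]
  constructor
  · rintro ⟨h1, h2, h3⟩
    by_cases ht : Y.1 0 0 + Y.1 1 1 = 0
    · left; exact ht
    · right
      refine ⟨(mul_eq_zero.mp h1).resolve_right ht, (mul_eq_zero.mp h2).resolve_right ht, ?_⟩
      have : (Y.1 0 0 - Y.1 1 1) * (Y.1 0 0 + Y.1 1 1) = 0 := by rw [← s00, h3, sub_self]
      have := (mul_eq_zero.mp this).resolve_right ht
      linear_combination this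
  · rintro (ht | ⟨h1, h2, h3⟩)
    · refine ⟨by rw [ht, mul_zero], by rw [ht, mul_zero], ?_⟩
      have : (Y * Y).1 0 0 - (Y * Y).1 1 1 = 0 := by rw [s00, ht, mul_zero]
      linear_combination this
    · refine ⟨by rw [h1, zero_mul], by rw [h2, zero_mul], ?_⟩
      have : (Y * Y).1 0 0 - (Y * Y).1 1 1 = 0 := by rw [s00, h3, sub_self, zero_mul]
      linear_combination this

/-- entries of a cube -/
lemma cube_entries (Y : SL2) :
    (Y * Y * Y).1 0 1 = Y.1 0 1 * ((Y.1 0 0 + Y.1 1 1) ^ 2 - 1) ∧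
    (Y * Y * Y).1 1 0 = Y.1 1 0 * ((Y.1 0 0 + Y.1 1 1) ^ 2 - 1) ∧
    (Y * Y * Y).1 0 0 - (Y * Y * Y).1 1 1 =
      (Y.1 0 0 - Y.1 1 1) * ((Y.1 0 0 + Y.1 1 1) ^ 2 - 1) := by
  obtain ⟨e00, e01, e10, e11⟩ := mul_entries Y Y
  obtain ⟨f00, f01, f10, f11⟩ := mul_entries (Y * Y) Y
  have hd := det_eq Y
  refine ⟨?_, ?_, ?_⟩
  · rw [f01, e00, e01]; linear_combination (-Y.1 0 1) * hd
  · rw [f10, e10, e11]; linear_combination (-Y.1 1 0) * hd
  · rw [f00, f11, e00, e01, e10, e11]; linear_combination (Y.1 1 1 - Y.1 0 0) * hd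


/-- equality in `PSL₂`: equal or opposite entries -/
theorem mk2_eq_iff_pm (A B : SL2) :
    mk2 A = mk2 B ↔
      (B.1 0 0 = A.1 0 0 ∧ B.1 0 1 = A.1 0 1 ∧ B.1 1 0 = A.1 1 0 ∧ B.1 1 1 = A.1 1 1) ∨
      (B.1 0 0 = -A.1 0 0 ∧ B.1 0 1 = -A.1 0 1 ∧ B.1 1 0 = -A.1 1 0 ∧ B.1 1 1 = -A.1 1 1) := by
  rw [mk2_eq_iff]
  constructor
  · rintro ⟨z, hz, rfl⟩
    obtain ⟨h1, h2, h3⟩ := (mem_center_iff' z).1 hz
    obtain ⟨e00, e01, e10, e11⟩ := mul_entries A z
    have hd := det_eq z
    rw [h1, zero_mul, sub_zero, ← h3] at hd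
    have h4 : (z.1 0 0 - 1) * (z.1 0 0 + 1) = 0 := by linear_combination hd
    rcases mul_eq_zero.mp h4 with h | h
    · left
      have hz0 : z.1 0 0 = 1 := by linear_combination h
      refine ⟨?_, ?_, ?_, ?_⟩
      · rw [e00, h2, hz0]; ring
      · rw [e01, h1, ← h3, hz0]; ring
      · rw [e10, h2, hz0]; ring
      · rw [e11, h1, ← h3, hz0]; ring
    · right
      have hz0 : z.1 0 0 = -1 := by linear_combination h
      refine ⟨?_, ?_, ?_, ?_⟩
      · rw [e00, h2, hz0]; ring
      · rw [e01, h1, ← h3, hz0]; ring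
      · rw [e10, h2, hz0]; ring
      · rw [e11, h1, ← h3, hz0]; ring
  · rintro (⟨h00, h01, h10, h11⟩ | ⟨h00, h01, h10, h11⟩)
    · refine ⟨1, Subgroup.one_mem _, ?_⟩
      rw [mul_one]
      exact ext_entries h00 h01 h10 h11
    · refine ⟨-1, neg_one_mem_center, ?_⟩
      apply ext_entries
      · rw [h00]; simp
      · rw [h01]; simp
      · rw [h10]; simp
      · rw [h11]; simp

/-- commuting with the image of `wMat` -/
theorem commute_wMat_iff (Y : SL2) :
    mk2 Y * mk2 wMat = mk2 wMat * mk2 Y ↔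
      (Y.1 1 1 = Y.1 0 0 ∧ Y.1 1 0 = -Y.1 0 1) ∨ (Y.1 1 1 = -Y.1 0 0 ∧ Y.1 1 0 = Y.1 0 1) := by
  rw [← map_mul, ← map_mul, mk2_eq_iff_pm]
  obtain ⟨l00, l01, l10, l11⟩ := mul_entries Y wMat
  obtain ⟨r00, r01, r10, r11⟩ := mul_entries wMat Y
  simp only [wMat_00, wMat_01, wMat_10, wMat_11] at l00 l01 l10 l11 r00 r01 r10 r11
  rw [l00, l01, l10, l11, r00, r01, r10, r11]
  constructor
  · rintro (⟨h00, h01, h10, h11⟩ | ⟨h00, h01, h10, h11⟩)
    · left
      exact ⟨by linear_combination -h01, by linear_combination -h00⟩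
    · right
      exact ⟨by linear_combination -h01, by linear_combination -h00⟩
  · rintro (⟨h1, h2⟩ | ⟨h1, h2⟩)
    · left
      refine ⟨?_, ?_, ?_, ?_⟩
      · rw [h2]; ring
      · rw [h1]; ring
      · rw [h1]; ring
      · rw [h2]; ring
    · right
      refine ⟨?_, ?_, ?_, ?_⟩
      · rw [h2]; ring
      · rw [h1]; ring
      · rw [h1]; ring
      · rw [h2]; ring

/-- cubes in `PSL₂`, characteristic three -/
theorem mk2_cube_iff [CharP F 3] (Y : SL2) :
    (mk2 Y) ^ 3 = 1 ↔ (Y.1 0 0 + Y.1 1 1) ^ 2 = 1 := by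
  have h3 : (3 : F) = 0 := by
    have := CharP.cast_eq_zero F 3
    exact_mod_cast this
  have e : Y ^ 3 = Y * Y * Y := by rw [pow_succ, pow_two]
  rw [← map_pow, mk2_eq_one_iff, e, mem_center_iff']
  obtain ⟨c01, c10, c00⟩ := cube_entries Y
  rw [c01, c10]
  constructor
  · rintro ⟨h1, h2, h3'⟩
    by_contra ht
    have ht' : (Y.1 0 0 + Y.1 1 1) ^ 2 - 1 ≠ 0 := fun h => ht (by linear_combination h)
    have hb := (mul_eq_zero.mp h1).resolve_right ht'
    have hc := (mul_eq_zero.mp h2).resolve_right ht'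
    have had : Y.1 0 0 = Y.1 1 1 := by
      have : (Y.1 0 0 - Y.1 1 1) * ((Y.1 0 0 + Y.1 1 1) ^ 2 - 1) = 0 := by
        rw [← c00, h3', sub_self]
      have := (mul_eq_zero.mp this).resolve_right ht'
      linear_combination this
    have hd := det_eq Y
    rw [hb, zero_mul, sub_zero, ← had] at hd
    apply ht
    rw [← had]
    linear_combination 4 * hd + h3
  · intro ht
    refine ⟨by rw [ht, sub_self, mul_zero], by rw [ht, sub_self, mul_zero], ?_⟩
    have : (Y * Y * Y).1 0 0 - (Y * Y * Y).1 1 1 = 0 := by rw [c00, ht, sub_self, mul_zero]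
    linear_combination this


/-- normal form of an involution when `-1` is not a square -/
theorem involution_conj [Fintype F] (h2 : (2 : F) ≠ 0) (hns : ∀ a : F, a ^ 2 ≠ -1) (x : PSL2)
    (hx : x ≠ 1) (hx2 : x ^ 2 = 1) : ∃ z : PSL2, z * x * z⁻¹ = mk2 wMat := by
  classical
  obtain ⟨A, rfl⟩ := mk2_surjective x
  have hA : A ∉ Subgroup.center SL2 := fun h => hx ((mk2_eq_one_iff A).2 h)
  have htr : A.1 0 0 + A.1 1 1 = 0 := by
    rcases (mk2_sq_iff A).1 hx2 with h | h
    · exact h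
    · exact absurd ((mem_center_iff' A).2 h) hA
  have hd := det_eq A
  have hdd : A.1 1 1 = -A.1 0 0 := by linear_combination htr
  rw [hdd] at hd
  have hc : A.1 1 0 ≠ 0 := by
    intro h
    rw [h] at hd
    apply hns (A.1 0 0)
    linear_combination -hd
  have h4 : (0 : F) ^ 2 ≠ 4 := by
    intro h
    apply h2
    have : (2 : F) * 2 = 0 := by linear_combination -h
    exact mul_self_eq_zero.mp this
  obtain ⟨m, hm⟩ := Cfsg.Agent.Lib.Helper98.PSL2Orders.Qf_surjective (0 : F) h4 (A.1 1 0)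
  simp only [Cfsg.Agent.Lib.Helper98.PSL2Orders.Qf] at hm
  obtain ⟨v1, hv1⟩ : ∃ v1 : F, A.1 1 0 * v1 - A.1 0 0 * m.2 = m.1 :=
    ⟨(m.1 + A.1 0 0 * m.2) / A.1 1 0, by field_simp; ring⟩
  have hdet : v1 * (A.1 1 0 * v1 - A.1 0 0 * m.2) - (A.1 0 0 * v1 + A.1 0 1 * m.2) * m.2 = 1 := by
    have key : A.1 1 0 * (v1 * (A.1 1 0 * v1 - A.1 0 0 * m.2) -
        (A.1 0 0 * v1 + A.1 0 1 * m.2) * m.2) = A.1 1 0 * 1 := by
      have e1 : (A.1 1 0 * v1 - A.1 0 0 * m.2) ^ 2 + m.2 ^ 2 = A.1 1 0 := by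
        rw [hv1]; linear_combination hm
      linear_combination e1 + m.2 ^ 2 * hd
    exact mul_left_cancel₀ hc key
  let P : SL2 := mkSL v1 (A.1 0 0 * v1 + A.1 0 1 * m.2) m.2 (A.1 1 0 * v1 - A.1 0 0 * m.2) hdet
  have hAP : A * P = P * wMat := by
    obtain ⟨l00, l01, l10, l11⟩ := mul_entries A P
    obtain ⟨r00, r01, r10, r11⟩ := mul_entries P wMat
    simp only [wMat_00, wMat_01, wMat_10, wMat_11, P, mkSL_00, mkSL_01, mkSL_10, mkSL_11]
      at l00 l01 l10 l11 r00 r01 r10 r11
    apply ext_entries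
    · rw [l00, r00]; ring
    · rw [l01, r01]; linear_combination (-v1) * hd
    · rw [l10, r10, hdd]; ring
    · rw [l11, r11, hdd]; linear_combination (-m.2) * hd
  refine ⟨mk2 P⁻¹, ?_⟩
  rw [← map_inv, ← map_mul, ← map_mul, inv_inv, mul_assoc, hAP, ← mul_assoc, inv_mul_cancel,
    one_mul]

end field


section charp

open Cfsg.Agent.Lib.Helper98.PSL2Max

variable {F : Type*} [Field F] [Fintype F] {p : ℕ} [Fact p.Prime] [CharP F p]

local notation "SL2" => Matrix.SpecialLinearGroup (Fin 2) F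
local notation "PSL2" => Matrix.ProjectiveSpecialLinearGroup (Fin 2) F

/-- the Dickson structure -/
noncomputable abbrev DDp (F : Type*) [Field F] [Fintype F] (p : ℕ) [Fact p.Prime] [CharP F p] :
    DStruct (Matrix.ProjectiveSpecialLinearGroup (Fin 2) F) p :=
  dstruct (tPack (F := F) p) (uPack p)

/-- a nontrivial element in a unipotent component has `tr² = 4` -/
theorem trace_of_unip (A : SL2) (hA : mk2 A ≠ 1) (hp : IsPGroup p ((DDp F p).comp (mk2 A))) :
    (Matrix.trace (A : Matrix (Fin 2) (Fin 2) F)) ^ 2 = 4 := by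
  have : Nontrivial ((DDp F p).comp (mk2 A)) :=
    ⟨⟨⟨mk2 A, mem_comp2_self _⟩, 1, fun h => hA (congrArg Subtype.val h)⟩⟩
  by_contra ht
  exact not_pgroup_and_coprime hp (comp2_coprime (tPack p) A ht)

/-- a nontrivial element in a torus has `tr² ≠ 4` -/
theorem trace_of_torus (A : SL2) (hA : mk2 A ≠ 1)
    (hc : (Nat.card ((DDp F p).comp (mk2 A))).Coprime p) :
    (Matrix.trace (A : Matrix (Fin 2) (Fin 2) F)) ^ 2 ≠ 4 := by
  have : Nontrivial ((DDp F p).comp (mk2 A)) :=
    ⟨⟨⟨mk2 A, mem_comp2_self _⟩, 1, fun h => hA (congrArg Subtype.val h)⟩⟩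
  have hA' : A ∉ Subgroup.center SL2 := fun h => hA ((mk2_eq_one_iff A).2 h)
  intro ht
  exact not_pgroup_and_coprime (X := (DDp F p).comp (mk2 A))
    (uGood_of_trace (uPack p) A hA' ht).1 hc

/-- an element of order `p` lies in a unipotent component -/
theorem unip_of_pow (x : PSL2) (hx : x ≠ 1) (hxp : x ^ p = 1) :
    IsPGroup p ((DDp F p).comp x) := by
  rcases (DDp F p).dich _ hx with hp | hc
  · exact hp
  · exfalso
    have hd : orderOf x ∣ Nat.card ((DDp F p).comp x) := by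
      have := orderOf_dvd_natCard (⟨x, (DDp F p).mem_comp _⟩ : (DDp F p).comp x)
      rwa [Subgroup.orderOf_mk] at this
    rw [orderOf_eq_prime hxp hx] at hd
    have := Nat.Coprime.eq_one_of_dvd hc.symm hd
    exact (Fact.out : p.Prime).one_lt.ne' this

/-- normal form of an element of order `p` -/
theorem unip_conj (x : PSL2) (hx : x ≠ 1) (hxp : x ^ p = 1) :
    ∃ (z : PSL2) (t : F), t ≠ 0 ∧ z * x * z⁻¹ = mk2 (uMat t) := by
  have hp := unip_of_pow x hx hxp
  obtain ⟨A, rfl⟩ := mk2_surjective x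
  have hA : A ∉ Subgroup.center SL2 := fun h => hx ((mk2_eq_one_iff A).2 h)
  have ht := trace_of_unip A hx hp
  obtain ⟨X, h1, h2⟩ := (uPack (F := F) p).Uh A hA ht
  obtain ⟨t, ht'⟩ := mk_eq_mk_uMat_of_upper (X * A * X⁻¹) h1 h2
  have hconj : mk2 X * mk2 A * (mk2 X)⁻¹ = mk2 (uMat t) := by
    rw [← map_inv, ← map_mul, ← map_mul]
    exact ht'
  refine ⟨mk2 X, t, ?_, hconj⟩
  intro h0
  rw [h0, Cfsg.Agent.Lib.Helper98.SL2Borel.uMat_zero, map_one] at hconj
  apply hx
  have : mk2 A = (mk2 X)⁻¹ * (mk2 X * mk2 A * (mk2 X)⁻¹) * mk2 X := by group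
  rw [this, hconj]; group

theorem uMat_ne_one (t : F) (ht : t ≠ 0) : mk2 (uMat t) ≠ 1 := fun h =>
  Cfsg.Agent.Lib.Helper48.Dickson.uMat_not_center t ht ((mk2_eq_one_iff _).1 h)

/-- the normalizer of the component of `mk2 (uMat t)` -/
theorem mem_nrm_uMat (t : F) (ht : t ≠ 0) (Y : SL2) :
    mk2 Y ∈ nrm ((DDp F p).comp (mk2 (uMat t))) ↔ Y.1 1 0 = 0 := by
  have hne1 : mk2 (Cfsg.Agent.Lib.Helper48.Dickson.uMat (1 : F)) ≠ 1 := uMat_ne_one 1 one_ne_zero
  have hnet : mk2 (uMat t) ≠ 1 := uMat_ne_one t ht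
  have hmem : mk2 (uMat t) ∈ (Ubar : Subgroup PSL2) :=
    (mem_Ubar_iff (uPack p) _).2 ⟨by simp, by simp⟩
  have hcomp : comp2 (mk2 (uMat t)) = (Ubar : Subgroup PSL2) :=
    comp2_eq (mk2 (Cfsg.Agent.Lib.Helper48.Dickson.uMat (1 : F))) hne1 _ hmem hnet
  show mk2 Y ∈ nrm (comp2 (mk2 (uMat t))) ↔ _
  rw [hcomp]
  exact mem_nrm_Ubar_iff (uPack p) Y

omit [Fintype F] [Fact p.Prime] [CharP F p] in
theorem dg_not_center (a : F) (ha : a ≠ 0) (ha1 : a ^ 2 ≠ 1) :
    dg a ha ∉ Subgroup.center SL2 := by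
  intro h
  obtain ⟨-, -, h3⟩ := (mem_center_iff' _).1 h
  rw [dg_00, dg_11] at h3
  apply ha1
  calc a ^ 2 = a * a := by ring
    _ = a * a⁻¹ := by rw [← h3]
    _ = 1 := mul_inv_cancel₀ ha

omit [Fintype F] [Fact p.Prime] [CharP F p] in
theorem dg_ne_one (a : F) (ha : a ≠ 0) (ha1 : a ^ 2 ≠ 1) : mk2 (dg a ha) ≠ 1 := fun h =>
  dg_not_center a ha ha1 ((mk2_eq_one_iff _).1 h)

/-- the normalizer of the component of a regular diagonal element -/
theorem mem_nrm_dg (a : F) (ha : a ≠ 0) (ha1 : a ^ 2 ≠ 1) (Y : SL2) :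
    mk2 Y ∈ nrm ((DDp F p).comp (mk2 (dg a ha))) ↔
      (Y.1 0 1 = 0 ∧ Y.1 1 0 = 0) ∨ (Y.1 0 0 = 0 ∧ Y.1 1 1 = 0) := by
  have hA : dg a ha ∉ Subgroup.center SL2 := dg_not_center a ha ha1
  have hne : a⁻¹ - a ≠ 0 := by
    intro h
    apply ha1
    have : a⁻¹ = a := sub_eq_zero.mp h
    calc a ^ 2 = a * a := by ring
      _ = a * a⁻¹ := by rw [this]
      _ = 1 := mul_inv_cancel₀ ha
  show mk2 Y ∈ nrm (comp2 (mk2 (dg a ha))) ↔ _
  rw [mem_nrm_comp2_iff _ Y hA, commute_dg_iff a ha ha1]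
  obtain ⟨e10, -, -⟩ := conj_entries Y (dg a ha)
  have e01 := conj_entry_01 Y (dg a ha)
  simp only [dg_00, dg_01, dg_10, dg_11] at e10 e01
  rw [e01, e10]
  have hd := det_eq Y
  constructor
  · rintro ⟨h1, h2⟩
    have h1' : Y.1 0 0 * Y.1 0 1 = 0 := by
      have : (Y.1 0 0 * Y.1 0 1) * (a⁻¹ - a) = 0 := by linear_combination h1
      exact (mul_eq_zero.mp this).resolve_right hne
    have h2' : Y.1 1 0 * Y.1 1 1 = 0 := by
      have : (Y.1 1 0 * Y.1 1 1) * (a⁻¹ - a) = 0 := by linear_combination -h2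
      exact (mul_eq_zero.mp this).resolve_right hne
    rcases mul_eq_zero.mp h1' with h | h
    · right
      refine ⟨h, ?_⟩
      rcases mul_eq_zero.mp h2' with h' | h'
      · exfalso
        rw [h, h'] at hd
        simp at hd
      · exact h'
    · left
      refine ⟨h, ?_⟩
      rcases mul_eq_zero.mp h2' with h' | h'
      · exact h'
      · exfalso
        rw [h, h'] at hd
        simp at hd
  · rintro (⟨h1, h2⟩ | ⟨h1, h2⟩)
    · rw [h1, h2]; constructor <;> ring
    · rw [h1, h2]; constructor <;> ring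

omit [Fintype F] [Fact p.Prime] [CharP F p] in
theorem lw_not_center : lw (1 : F) ∉ Subgroup.center SL2 := by
  intro h
  obtain ⟨-, h2, -⟩ := (mem_center_iff' _).1 h
  rw [lw_10] at h2
  exact one_ne_zero h2

omit [Fintype F] [Fact p.Prime] [CharP F p] in
theorem lw_ne_one : mk2 (lw (1 : F)) ≠ 1 := fun h => lw_not_center ((mk2_eq_one_iff _).1 h)

/-- lower triangular elements normalize the component of `lw 1` -/
theorem mem_nrm_lw (Y : SL2) (hY : Y.1 0 1 = 0) :
    mk2 Y ∈ nrm ((DDp F p).comp (mk2 (lw (1 : F)))) := by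
  show mk2 Y ∈ nrm (comp2 (mk2 (lw (1 : F))))
  rw [mem_nrm_comp2_iff _ Y lw_not_center]
  obtain ⟨e10, e00, e11⟩ := conj_entries Y (lw (1 : F))
  have e01 := conj_entry_01 Y (lw (1 : F))
  simp only [lw_00, lw_01, lw_10, lw_11] at e10 e00 e11 e01
  have hd := det_eq Y
  rw [hY] at hd
  have hconj : Y * lw 1 * Y⁻¹ = lw ((Y.1 1 1) ^ 2) := by
    apply ext_entries
    · rw [e00, hY, lw_00]; linear_combination hd
    · rw [e01, hY, lw_01]; ring
    · rw [e10, lw_10]; ring
    · rw [e11, hY, lw_11]; linear_combination hd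
  rw [hconj, lw_mul, lw_mul, add_comm]

/-- normal form of the normalizer of a unipotent component -/
theorem nrm_unip_form (g : PSL2) (hg : g ≠ 1) (hp : IsPGroup p ((DDp F p).comp g)) :
    ∃ X : SL2, ∀ Y : SL2, mk2 Y ∈ nrm ((DDp F p).comp g) ↔ (X * Y * X⁻¹).1 1 0 = 0 := by
  obtain ⟨B, rfl⟩ := mk2_surjective g
  have hB : B ∉ Subgroup.center SL2 := fun h => hg ((mk2_eq_one_iff B).2 h)
  have ht := trace_of_unip B hg hp
  obtain ⟨X, h1, h2⟩ := (uPack (F := F) p).Uh B hB ht
  have hmem : mk2 (X * B * X⁻¹) ∈ (Ubar : Subgroup PSL2) :=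
    (mem_Ubar_iff (uPack p) _).2 ⟨h1, h2⟩
  have hne : mk2 (X * B * X⁻¹) ≠ 1 := by
    rw [map_mul, map_mul, map_inv]
    exact DStruct.conj_ne_one hg
  have hB' : X * B * X⁻¹ ∉ Subgroup.center SL2 := fun h => hne ((mk2_eq_one_iff _).2 h)
  have hne1 : mk2 (Cfsg.Agent.Lib.Helper48.Dickson.uMat (1 : F)) ≠ 1 := uMat_ne_one 1 one_ne_zero
  have hcomp : comp2 (mk2 (X * B * X⁻¹)) = (Ubar : Subgroup PSL2) :=
    comp2_eq (mk2 (Cfsg.Agent.Lib.Helper48.Dickson.uMat (1 : F))) hne1 _ hmem hne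
  refine ⟨X, fun Y => ?_⟩
  show mk2 Y ∈ nrm (comp2 (mk2 B)) ↔ _
  rw [← mem_nrm_Ubar_iff (uPack p) (X * Y * X⁻¹), ← hcomp,
    mem_nrm_comp2_iff _ Y hB, mem_nrm_comp2_iff _ (X * Y * X⁻¹) hB']
  constructor
  · intro h
    have e1 : X * Y * X⁻¹ * (X * B * X⁻¹) * (X * Y * X⁻¹)⁻¹ * (X * B * X⁻¹) =
        X * (Y * B * Y⁻¹ * B) * X⁻¹ := by group
    have e2 : X * B * X⁻¹ * (X * Y * X⁻¹ * (X * B * X⁻¹) * (X * Y * X⁻¹)⁻¹) =
        X * (B * (Y * B * Y⁻¹)) * X⁻¹ := by group
    rw [e1, e2, h]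
  · intro h
    have e1 : Y * B * Y⁻¹ * B =
        X⁻¹ * (X * Y * X⁻¹ * (X * B * X⁻¹) * (X * Y * X⁻¹)⁻¹ * (X * B * X⁻¹)) * X := by group
    have e2 : B * (Y * B * Y⁻¹) =
        X⁻¹ * (X * B * X⁻¹ * (X * Y * X⁻¹ * (X * B * X⁻¹) * (X * Y * X⁻¹)⁻¹)) * X := by group
    rw [e1, e2, h]


/-- the order of the centralizer in `SL₂` of a lift -/
theorem card_centralizer_lift (A : SL2) :
    Nat.card (Subgroup.centralizer ({A} : Set SL2)) =
      Nat.gcd 2 (Fintype.card F - 1) * Nat.card (comp2 (mk2 A)) := by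
  have hcomap : (comp2 (mk2 A)).comap (QuotientGroup.mk' (Subgroup.center SL2)) =
      Subgroup.centralizer ({A} : Set SL2) := by
    rw [comp2_mk]
    unfold compS
    rw [Subgroup.comap_map_eq, QuotientGroup.ker_mk']
    apply sup_eq_left.mpr
    intro z hz
    rw [Subgroup.mem_centralizer_singleton_iff]
    exact ((Subgroup.mem_center_iff.1 hz) A).symm
  have h1 := Cfsg.Agent.Lib.Helper19.TwoTrans.card_comap_mk (Subgroup.center SL2) (comp2 (mk2 A))
  rw [hcomap, Cfsg.Agent.Lib.Helper07.card_center_sl 2 (by norm_num)] at h1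
  exact h1

/-- normal form of an element of a split torus, `q` odd -/
theorem split_conj (hodd : Odd (Fintype.card F)) (x : PSL2) (hx : x ≠ 1) (hx2 : x ^ 2 ≠ 1)
    (hc : (Nat.card ((DDp F p).comp x)).Coprime p) (hord : orderOf x ∣ Fintype.card F - 1) :
    ∃ (z : PSL2) (a : F) (ha : a ≠ 0), a ^ 2 ≠ 1 ∧ z * x * z⁻¹ = mk2 (dg a ha) := by
  classical
  obtain ⟨A, rfl⟩ := mk2_surjective x
  have ht := trace_of_torus A hx hc
  have hgcd := Cfsg.Agent.Lib.Helper19.DicksonUse.gcd_two_odd hodd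
  have h1 := card_comp2_torus A ht
  rw [hgcd] at h1
  have hdvd : orderOf (mk2 A) ∣ Nat.card (comp2 (mk2 A)) := by
    have := orderOf_dvd_natCard (⟨mk2 A, mem_comp2_self _⟩ : comp2 (mk2 A))
    rwa [Subgroup.orderOf_mk] at this
  have hq : 0 < Fintype.card F := Fintype.card_pos
  have hcard : Nat.card (comp2 (mk2 A)) * 2 = Fintype.card F - 1 := by
    rcases h1 with h1 | h1
    · exact h1
    · exfalso
      have h3 : orderOf (mk2 A) ∣ Fintype.card F + 1 := dvd_trans hdvd (Dvd.intro _ h1)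
      have h4 : orderOf (mk2 A) ∣ (Fintype.card F + 1) - (Fintype.card F - 1) :=
        Nat.dvd_sub h3 hord
      have e : (Fintype.card F + 1) - (Fintype.card F - 1) = 2 := by omega
      rw [e] at h4
      exact hx2 (orderOf_dvd_iff_pow_eq_one.1 h4)
  have hcent : Nat.card (Subgroup.centralizer ({A} : Set SL2)) = Fintype.card F - 1 := by
    rw [card_centralizer_lift A, hgcd, mul_comm, hcard]
  have hsplit : ∃ l : F, l ^ 2 - (Matrix.trace (A : Matrix (Fin 2) (Fin 2) F)) * l + 1 = 0 := by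
    by_contra hns
    push Not at hns
    have h1 := Cfsg.Agent.Lib.Helper98.PSL2Orders.card_centralizer_eq_fib A ht
    rw [Cfsg.Agent.Lib.Helper98.PSL2Orders.card_fib_one_nonsplit _ ht hns, hcent] at h1
    omega
  obtain ⟨l, hl⟩ := hsplit
  have hl1 : l ^ 2 ≠ 1 := by
    intro h
    apply ht
    have h3 : (Matrix.trace (A : Matrix (Fin 2) (Fin 2) F)) * l = 2 := by
      linear_combination -hl + h
    calc (Matrix.trace (A : Matrix (Fin 2) (Fin 2) F)) ^ 2
        = ((Matrix.trace (A : Matrix (Fin 2) (Fin 2) F)) * l) ^ 2 := by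
          rw [mul_pow, h, mul_one]
      _ = 4 := by rw [h3]; norm_num
  rw [Matrix.trace_fin_two] at hl
  obtain ⟨X, a, ha, ha1, e⟩ := exists_conj_diag A l hl hl1
  refine ⟨mk2 X, a, ha, ha1, ?_⟩
  rw [← map_inv, ← map_mul, ← map_mul, e]

end charp


section count

variable {F : Type*} [Field F] [Fintype F]

local notation "SL2" => Matrix.SpecialLinearGroup (Fin 2) F
local notation "PSL2" => Matrix.ProjectiveSpecialLinearGroup (Fin 2) F

/-- transfer of a count from `PSL₂` to `SL₂`, `q` odd -/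
theorem card_transfer (hodd : Odd (Fintype.card F)) (P : PSL2 → Prop) :
    Nat.card {Y : SL2 // P (mk2 Y)} = 2 * Nat.card {y : PSL2 // P y} := by
  have e := QuotientGroup.preimageMkEquivSubgroupProdSet (Subgroup.center SL2) {y : PSL2 | P y}
  have h1 : Nat.card {Y : SL2 // P (mk2 Y)} =
      Nat.card (Subgroup.center SL2) * Nat.card {y : PSL2 // P y} := by
    rw [← Nat.card_prod]
    exact Nat.card_congr e
  rw [h1, Cfsg.Agent.Lib.Helper07.card_center_sl 2 (by norm_num),
    Cfsg.Agent.Lib.Helper19.DicksonUse.gcd_two_odd hodd]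

/-- the conic `u² + v² = c`, when `-1` is not a square -/
theorem card_conic (h2 : (2 : F) ≠ 0) (hns : ∀ a : F, a ^ 2 ≠ -1) (c : F) (hc : c ≠ 0) :
    Nat.card {v : F × F // v.1 ^ 2 + v.2 ^ 2 = c} = Fintype.card F + 1 := by
  classical
  have h4 : (0 : F) ^ 2 ≠ 4 := by
    intro h
    apply h2
    have : (2 : F) * 2 = 0 := by linear_combination -h
    exact mul_self_eq_zero.mp this
  have hns' : ∀ l : F, l ^ 2 - 0 * l + 1 ≠ 0 := by
    intro l h
    apply hns l
    linear_combination h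
  obtain ⟨m, hm⟩ := Cfsg.Agent.Lib.Helper98.PSL2Orders.Qf_surjective (0 : F) h4 c
  have h1 := Cfsg.Agent.Lib.Helper98.PSL2Orders.card_fib_eq (0 : F) c hc m hm
  rw [Cfsg.Agent.Lib.Helper98.PSL2Orders.card_fib_one_nonsplit 0 h4 hns'] at h1
  rw [← h1, Nat.card_eq_fintype_card, Fintype.card_subtype]
  congr 1
  ext v
  simp [Cfsg.Agent.Lib.Helper98.PSL2Orders.fib, Cfsg.Agent.Lib.Helper98.PSL2Orders.Qf]

/-- the two square roots of one -/
theorem card_sq_one (h2 : (2 : F) ≠ 0) : Nat.card {e : F // e ^ 2 = 1} = 2 := by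
  classical
  have hne : (-1 : F) ≠ 1 := by
    intro h
    apply h2
    linear_combination -h
  have e : {e : F // e ^ 2 = 1} ≃ Bool :=
    { toFun := fun e => decide (e.1 = 1)
      invFun := fun b => if b then ⟨1, by ring⟩ else ⟨-1, by ring⟩
      left_inv := by
        rintro ⟨e, he⟩
        by_cases h : e = 1
        · simp [h]
        · have : (e - 1) * (e + 1) = 0 := by linear_combination he
          have h' : e = -1 := by
            rcases mul_eq_zero.mp this with h1 | h1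
            · exact absurd (by linear_combination h1) h
            · linear_combination h1
          subst h'
          simp [hne]
      right_inv := by
        intro b
        cases b
        · simp [hne]
        · simp }
  rw [Nat.card_congr e]
  simp


/-- trace zero -/
theorem card_tr0 (hns : ∀ a : F, a ^ 2 ≠ -1) :
    Nat.card {Y : SL2 // Y.1 0 0 + Y.1 1 1 = 0} = Fintype.card F * (Fintype.card F - 1) := by
  classical
  have hne : ∀ a : F, 1 + a ^ 2 ≠ 0 := fun a h => hns a (by linear_combination h)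
  have e : {Y : SL2 // Y.1 0 0 + Y.1 1 1 = 0} ≃ F × {b : F // b ≠ 0} :=
    { toFun := fun Y => (Y.1.1 0 0, ⟨Y.1.1 0 1, by
          intro h
          have hd := det_eq Y.1
          have hdd : Y.1.1 1 1 = -Y.1.1 0 0 := by linear_combination Y.2
          rw [h, hdd] at hd
          apply hne (Y.1.1 0 0)
          linear_combination -hd⟩)
      invFun := fun ab => ⟨mkSL ab.1 ab.2.1 (-(1 + ab.1 ^ 2) / ab.2.1) (-ab.1) (by
          have := ab.2.2
          field_simp
          ring), by simp⟩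
      left_inv := by
        rintro ⟨Y, hY⟩
        apply Subtype.ext
        have hd := det_eq Y
        have hdd : Y.1 1 1 = -Y.1 0 0 := by linear_combination hY
        have hb : Y.1 0 1 ≠ 0 := by
          intro h
          rw [h, hdd] at hd
          apply hne (Y.1 0 0)
          linear_combination -hd
        apply ext_entries
        · simp
        · simp
        · simp only [mkSL_10]
          rw [div_eq_iff hb]
          rw [hdd] at hd
          linear_combination hd
        · simp [hdd]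
      right_inv := by
        rintro ⟨a, b, hb⟩
        simp }
  rw [Nat.card_congr e, Nat.card_prod, card_ne_zero, Nat.card_eq_fintype_card]

/-- symmetric matrices -/
theorem card_sym (hns : ∀ a : F, a ^ 2 ≠ -1) :
    Nat.card {Y : SL2 // Y.1 1 0 = Y.1 0 1} = Fintype.card F * (Fintype.card F - 1) := by
  classical
  have hne : ∀ a : F, 1 + a ^ 2 ≠ 0 := fun a h => hns a (by linear_combination h)
  have e : {Y : SL2 // Y.1 1 0 = Y.1 0 1} ≃ F × {a : F // a ≠ 0} :=
    { toFun := fun Y => (Y.1.1 0 1, ⟨Y.1.1 0 0, by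
          intro h
          have hd := det_eq Y.1
          rw [h, Y.2] at hd
          apply hne (Y.1.1 0 1)
          linear_combination -hd⟩)
      invFun := fun ba => ⟨mkSL ba.2.1 ba.1 ba.1 ((1 + ba.1 ^ 2) / ba.2.1) (by
          have := ba.2.2
          field_simp
          ring), by simp⟩
      left_inv := by
        rintro ⟨Y, hY⟩
        apply Subtype.ext
        have hd := det_eq Y
        have ha : Y.1 0 0 ≠ 0 := by
          intro h
          rw [h, hY] at hd
          apply hne (Y.1 0 1)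
          linear_combination -hd
        apply ext_entries
        · simp
        · simp
        · simp [hY]
        · simp only [mkSL_11]
          rw [div_eq_iff ha]
          rw [hY] at hd
          linear_combination -hd
      right_inv := by
        rintro ⟨b, a, ha⟩
        simp }
  rw [Nat.card_congr e, Nat.card_prod, card_ne_zero, Nat.card_eq_fintype_card]

/-- trace zero and symmetric -/
theorem card_tr0_sym (h2 : (2 : F) ≠ 0) (hns : ∀ a : F, a ^ 2 ≠ -1) :
    Nat.card {Y : SL2 // Y.1 0 0 + Y.1 1 1 = 0 ∧ Y.1 1 0 = Y.1 0 1} = Fintype.card F + 1 := by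
  classical
  have e : {Y : SL2 // Y.1 0 0 + Y.1 1 1 = 0 ∧ Y.1 1 0 = Y.1 0 1} ≃
      {v : F × F // v.1 ^ 2 + v.2 ^ 2 = -1} :=
    { toFun := fun Y => ⟨(Y.1.1 0 0, Y.1.1 0 1), by
          have hd := det_eq Y.1
          have hdd : Y.1.1 1 1 = -Y.1.1 0 0 := by linear_combination Y.2.1
          rw [hdd, Y.2.2] at hd
          show Y.1.1 0 0 ^ 2 + Y.1.1 0 1 ^ 2 = -1
          linear_combination -hd⟩
      invFun := fun v => ⟨mkSL v.1.1 v.1.2 v.1.2 (-v.1.1) (by
          have := v.2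
          linear_combination -this), by simp⟩
      left_inv := by
        rintro ⟨Y, hY1, hY2⟩
        apply Subtype.ext
        have hdd : Y.1 1 1 = -Y.1 0 0 := by linear_combination hY1
        apply ext_entries
        · simp
        · simp
        · simp [hY2]
        · simp [hdd]
      right_inv := by
        rintro ⟨⟨a, b⟩, hv⟩
        simp }
  rw [Nat.card_congr e, card_conic h2 hns (-1) (by simp)]

/-- the centralizer of `wMat` -/
theorem card_rot (h2 : (2 : F) ≠ 0) (hns : ∀ a : F, a ^ 2 ≠ -1) :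
    Nat.card {Y : SL2 // Y.1 1 1 = Y.1 0 0 ∧ Y.1 1 0 = -Y.1 0 1} = Fintype.card F + 1 := by
  classical
  have e : {Y : SL2 // Y.1 1 1 = Y.1 0 0 ∧ Y.1 1 0 = -Y.1 0 1} ≃
      {v : F × F // v.1 ^ 2 + v.2 ^ 2 = 1} :=
    { toFun := fun Y => ⟨(Y.1.1 0 0, Y.1.1 0 1), by
          have hd := det_eq Y.1
          rw [Y.2.1, Y.2.2] at hd
          show Y.1.1 0 0 ^ 2 + Y.1.1 0 1 ^ 2 = 1
          linear_combination hd⟩
      invFun := fun v => ⟨mkSL v.1.1 v.1.2 (-v.1.2) v.1.1 (by
          have := v.2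
          linear_combination this), by simp⟩
      left_inv := by
        rintro ⟨Y, hY1, hY2⟩
        apply Subtype.ext
        apply ext_entries
        · simp
        · simp
        · simp [hY2]
        · simp [hY1]
      right_inv := by
        rintro ⟨⟨a, b⟩, hv⟩
        simp }
  rw [Nat.card_congr e, card_conic h2 hns 1 one_ne_zero]

/-- the `A₄` pieces, characteristic three -/
theorem card_a4 [CharP F 3] (hns : ∀ a : F, a ^ 2 ≠ -1) (ε δ : F) (hε : ε ^ 2 = 1)
    (hδ : δ ^ 2 = 1) :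
    Nat.card {Y : SL2 // Y.1 0 0 + Y.1 1 1 = ε ∧ Y.1 0 1 - Y.1 1 0 = δ} =
      Fintype.card F + 1 := by
  classical
  have h3 : (3 : F) = 0 := by
    have := CharP.cast_eq_zero F 3
    exact_mod_cast this
  have h2 : (2 : F) ≠ 0 := by
    intro h
    have : (1 : F) = 0 := by linear_combination h3 - h
    exact one_ne_zero this
  have e : {Y : SL2 // Y.1 0 0 + Y.1 1 1 = ε ∧ Y.1 0 1 - Y.1 1 0 = δ} ≃
      {v : F × F // v.1 ^ 2 + v.2 ^ 2 = 1} :=
    { toFun := fun Y => ⟨(Y.1.1 0 0 + ε, Y.1.1 0 1 + δ), by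
          have hd := det_eq Y.1
          have hdd : Y.1.1 1 1 = ε - Y.1.1 0 0 := by linear_combination Y.2.1
          have hcc : Y.1.1 1 0 = Y.1.1 0 1 - δ := by linear_combination -Y.2.2
          rw [hdd, hcc] at hd
          show (Y.1.1 0 0 + ε) ^ 2 + (Y.1.1 0 1 + δ) ^ 2 = 1
          linear_combination -hd + hε + hδ +
            (Y.1.1 0 0 * ε + Y.1.1 0 1 * δ) * h3⟩
      invFun := fun v => ⟨mkSL (v.1.1 - ε) (v.1.2 - δ) (v.1.2 - 2 * δ) (2 * ε - v.1.1) (by
          have := v.2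
          linear_combination -this - 2 * hε - 2 * hδ +
            (v.1.1 * ε + v.1.2 * δ - 2) * h3), by
        constructor
        · simp only [mkSL_00, mkSL_11]; ring
        · simp only [mkSL_01, mkSL_10]; ring⟩
      left_inv := by
        rintro ⟨Y, hY1, hY2⟩
        apply Subtype.ext
        apply ext_entries
        · simp
        · simp
        · simp only [mkSL_10]; linear_combination hY2
        · simp only [mkSL_11]; linear_combination -hY1
      right_inv := by
        rintro ⟨⟨a, b⟩, hv⟩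
        simp }
  rw [Nat.card_congr e, card_conic h2 hns 1 one_ne_zero]

/-- fixed lower-left entry and trace -/
theorem card_fix (c₀ s₀ : F) (hc : c₀ ≠ 0) :
    Nat.card {Y : SL2 // Y.1 1 0 = c₀ ∧ Y.1 0 0 + Y.1 1 1 = s₀} = Fintype.card F := by
  classical
  have e : {Y : SL2 // Y.1 1 0 = c₀ ∧ Y.1 0 0 + Y.1 1 1 = s₀} ≃ F :=
    { toFun := fun Y => Y.1.1 0 0
      invFun := fun a => ⟨mkSL a ((a * (s₀ - a) - 1) / c₀) c₀ (s₀ - a) (by
          field_simp
          ring), by simp⟩
      left_inv := by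
        rintro ⟨Y, hY1, hY2⟩
        apply Subtype.ext
        have hd := det_eq Y
        have hdd : Y.1 1 1 = s₀ - Y.1 0 0 := by linear_combination hY2
        apply ext_entries
        · simp
        · simp only [mkSL_01]
          rw [div_eq_iff hc]
          rw [hdd, hY1] at hd
          linear_combination hd
        · simp [hY1]
        · simp [hdd]
      right_inv := by
        intro a
        simp }
  rw [Nat.card_congr e, Nat.card_eq_fintype_card]

/-- the centralizer of `wMat` meets the trace zero matrices in two elements -/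
theorem card_rot_tr0 (h2 : (2 : F) ≠ 0) :
    Nat.card {Y : SL2 // (Y.1 1 1 = Y.1 0 0 ∧ Y.1 1 0 = -Y.1 0 1) ∧ Y.1 0 0 + Y.1 1 1 = 0} =
      2 := by
  classical
  have e : {Y : SL2 // (Y.1 1 1 = Y.1 0 0 ∧ Y.1 1 0 = -Y.1 0 1) ∧ Y.1 0 0 + Y.1 1 1 = 0} ≃
      {e : F // e ^ 2 = 1} :=
    { toFun := fun Y => ⟨Y.1.1 0 1, by
          have hd := det_eq Y.1
          have ha : Y.1.1 0 0 = 0 := by
            have h := Y.2.2
            rw [Y.2.1.1] at h
            have : (2 : F) * Y.1.1 0 0 = 0 := by linear_combination h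
            exact (mul_eq_zero.mp this).resolve_left h2
          rw [Y.2.1.1, Y.2.1.2, ha] at hd
          linear_combination hd⟩
      invFun := fun e => ⟨mkSL 0 e.1 (-e.1) 0 (by
          have := e.2
          linear_combination this), by simp⟩
      left_inv := by
        rintro ⟨Y, ⟨hY1, hY2⟩, hY3⟩
        apply Subtype.ext
        have ha : Y.1 0 0 = 0 := by
          rw [hY1] at hY3
          have : (2 : F) * Y.1 0 0 = 0 := by linear_combination hY3
          exact (mul_eq_zero.mp this).resolve_left h2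
        apply ext_entries
        · simp [ha]
        · simp
        · simp [hY2]
        · simp [hY1, ha]
      right_inv := by
        rintro ⟨e, he⟩
        simp }
  rw [Nat.card_congr e, card_sq_one h2]

/-- the centralizer of `wMat` meets the symmetric matrices in two elements -/
theorem card_rot_sym (h2 : (2 : F) ≠ 0) :
    Nat.card {Y : SL2 // (Y.1 1 1 = Y.1 0 0 ∧ Y.1 1 0 = -Y.1 0 1) ∧ Y.1 1 0 = Y.1 0 1} =
      2 := by
  classical
  have e : {Y : SL2 // (Y.1 1 1 = Y.1 0 0 ∧ Y.1 1 0 = -Y.1 0 1) ∧ Y.1 1 0 = Y.1 0 1} ≃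
      {e : F // e ^ 2 = 1} :=
    { toFun := fun Y => ⟨Y.1.1 0 0, by
          have hd := det_eq Y.1
          have hb : Y.1.1 0 1 = 0 := by
            have h := Y.2.2
            rw [Y.2.1.2] at h
            have : (2 : F) * Y.1.1 0 1 = 0 := by linear_combination -h
            exact (mul_eq_zero.mp this).resolve_left h2
          rw [Y.2.1.1, Y.2.1.2, hb] at hd
          linear_combination hd⟩
      invFun := fun e => ⟨mkSL e.1 0 0 e.1 (by
          have := e.2
          linear_combination this), by simp⟩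
      left_inv := by
        rintro ⟨Y, ⟨hY1, hY2⟩, hY3⟩
        apply Subtype.ext
        have hb : Y.1 0 1 = 0 := by
          rw [hY2] at hY3
          have : (2 : F) * Y.1 0 1 = 0 := by linear_combination -hY3
          exact (mul_eq_zero.mp this).resolve_left h2
        apply ext_entries
        · simp
        · simp [hb]
        · simp [hY2, hb]
        · simp [hY1]
      right_inv := by
        rintro ⟨e, he⟩
        simp }
  rw [Nat.card_congr e, card_sq_one h2]


/-- all `A₄` pieces together, characteristic three -/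
theorem card_a4_all [CharP F 3] (hns : ∀ a : F, a ^ 2 ≠ -1) :
    Nat.card {Y : SL2 // (Y.1 0 0 + Y.1 1 1) ^ 2 = 1 ∧ (Y.1 0 1 - Y.1 1 0) ^ 2 = 1} =
      4 * (Fintype.card F + 1) := by
  classical
  have h3 : (3 : F) = 0 := by
    have := CharP.cast_eq_zero F 3
    exact_mod_cast this
  have h2 : (2 : F) ≠ 0 := by
    intro h
    have : (1 : F) = 0 := by linear_combination h3 - h
    exact one_ne_zero this
  have e : {Y : SL2 // (Y.1 0 0 + Y.1 1 1) ^ 2 = 1 ∧ (Y.1 0 1 - Y.1 1 0) ^ 2 = 1} ≃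
      ({e : F // e ^ 2 = 1} × {e : F // e ^ 2 = 1}) × {v : F × F // v.1 ^ 2 + v.2 ^ 2 = 1} :=
    { toFun := fun Y => ((⟨Y.1.1 0 0 + Y.1.1 1 1, Y.2.1⟩, ⟨Y.1.1 0 1 - Y.1.1 1 0, Y.2.2⟩),
        ⟨(Y.1.1 0 0 + (Y.1.1 0 0 + Y.1.1 1 1), Y.1.1 0 1 + (Y.1.1 0 1 - Y.1.1 1 0)), by
          have hd := det_eq Y.1
          have h1 := Y.2.1
          have h2' := Y.2.2
          show (Y.1.1 0 0 + (Y.1.1 0 0 + Y.1.1 1 1)) ^ 2 +
            (Y.1.1 0 1 + (Y.1.1 0 1 - Y.1.1 1 0)) ^ 2 = 1
          linear_combination 2 * hd + h1 + h2' +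
            (Y.1.1 0 0 ^ 2 + Y.1.1 0 1 ^ 2 + 1) * h3⟩)
      invFun := fun w => ⟨mkSL (w.2.1.1 - w.1.1.1) (w.2.1.2 - w.1.2.1) (w.2.1.2 - 2 * w.1.2.1)
          (2 * w.1.1.1 - w.2.1.1) (by
          have := w.2.2
          have hε := w.1.1.2
          have hδ := w.1.2.2
          linear_combination -this - 2 * hε - 2 * hδ +
            (w.2.1.1 * w.1.1.1 + w.2.1.2 * w.1.2.1 - 2) * h3), by
        constructor
        · simp only [mkSL_00, mkSL_11]
          have hε := w.1.1.2
          linear_combination hε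
        · simp only [mkSL_01, mkSL_10]
          have hδ := w.1.2.2
          linear_combination hδ⟩
      left_inv := by
        rintro ⟨Y, hY1, hY2⟩
        apply Subtype.ext
        apply ext_entries
        · simp
        · simp
        · simp only [mkSL_10]; ring
        · simp only [mkSL_11]; ring
      right_inv := by
        rintro ⟨⟨⟨ε, hε⟩, ⟨δ, hδ⟩⟩, ⟨⟨a, b⟩, hv⟩⟩
        simp only [mkSL_00, mkSL_01, mkSL_10, mkSL_11]
        refine Prod.ext (Prod.ext (Subtype.ext ?_) (Subtype.ext ?_)) (Subtype.ext (Prod.ext ?_ ?_))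
        · simp only; ring
        · simp only; ring
        · simp only; ring
        · simp only; ring }
  rw [Nat.card_congr e, Nat.card_prod, Nat.card_prod, card_sq_one h2,
    card_conic h2 hns 1 one_ne_zero]


/-- the prime field of characteristic three -/
theorem card_cube_self [CharP F 3] : Nat.card {s : F // s ^ 3 = s} = 3 := by
  classical
  have h3 : (3 : F) = 0 := by
    have := CharP.cast_eq_zero F 3
    exact_mod_cast this
  have h2 : (2 : F) ≠ 0 := by
    intro h
    have : (1 : F) = 0 := by linear_combination h3 - h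
    exact one_ne_zero this
  have e : {s : F // s ^ 3 = s} ≃ Option {e : F // e ^ 2 = 1} :=
    { toFun := fun s => if h : s.1 = 0 then none else some ⟨s.1, by
          have h1 : s.1 * (s.1 ^ 2 - 1) = 0 := by linear_combination s.2
          have := (mul_eq_zero.mp h1).resolve_left h
          linear_combination this⟩
      invFun := fun o => match o with
        | none => ⟨0, by ring⟩
        | some e => ⟨e.1, by
            have := e.2
            linear_combination e.1 * this⟩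
      left_inv := by
        rintro ⟨s, hs⟩
        by_cases h : s = 0
        · simp [h]
        · simp [h]
      right_inv := by
        rintro (_ | ⟨e, he⟩)
        · simp
        · have h0 : e ≠ 0 := by
            intro h
            rw [h] at he
            simp at he
          simp [h0] }
  rw [Nat.card_congr e, Finite.card_option, card_sq_one h2]

/-- the `A₄` pieces for an element of order three -/
theorem card_three_piece [CharP F 3] (t : F) (ht : t ≠ 0) :
    Nat.card {Y : SL2 // (t * Y.1 1 0) ^ 2 = 1 ∧ (Y.1 0 0 + Y.1 1 1) ^ 3 = Y.1 0 0 + Y.1 1 1} =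
      6 * Fintype.card F := by
  classical
  have h3 : (3 : F) = 0 := by
    have := CharP.cast_eq_zero F 3
    exact_mod_cast this
  have h2 : (2 : F) ≠ 0 := by
    intro h
    have : (1 : F) = 0 := by linear_combination h3 - h
    exact one_ne_zero this
  have hne : ∀ e : {e : F // e ^ 2 = 1}, e.1 / t ≠ 0 := by
    intro e h
    have h0 : e.1 = 0 := by
      rcases div_eq_zero_iff.mp h with h | h
      · exact h
      · exact absurd h ht
    have := e.2
    rw [h0] at this
    simp at this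
  have e : {Y : SL2 // (t * Y.1 1 0) ^ 2 = 1 ∧ (Y.1 0 0 + Y.1 1 1) ^ 3 = Y.1 0 0 + Y.1 1 1} ≃
      ({e : F // e ^ 2 = 1} × {s : F // s ^ 3 = s}) × F :=
    { toFun := fun Y => ((⟨t * Y.1.1 1 0, Y.2.1⟩, ⟨Y.1.1 0 0 + Y.1.1 1 1, Y.2.2⟩), Y.1.1 0 0)
      invFun := fun w => ⟨mkSL w.2 ((w.2 * (w.1.2.1 - w.2) - 1) / (w.1.1.1 / t)) (w.1.1.1 / t)
          (w.1.2.1 - w.2) (by
          have := hne w.1.1
          rw [div_mul_cancel₀ _ this]
          ring), by
        constructor
        · simp only [mkSL_10]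
          have := w.1.1.2
          rw [mul_div_cancel₀ _ ht]
          exact this
        · simp only [mkSL_00, mkSL_11]
          have := w.1.2.2
          rw [add_sub_cancel]
          exact this⟩
      left_inv := by
        rintro ⟨Y, hY1, hY2⟩
        apply Subtype.ext
        have hd := det_eq Y
        have hc : Y.1 1 0 ≠ 0 := by
          intro h
          rw [h] at hY1
          simp at hY1
        apply ext_entries
        · simp
        · simp only [mkSL_01]
          rw [mul_div_cancel_left₀ _ ht, div_eq_iff hc]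
          linear_combination hd
        · simp only [mkSL_10]
          rw [mul_div_cancel_left₀ _ ht]
        · simp
      right_inv := by
        rintro ⟨⟨⟨e, he⟩, ⟨s, hs⟩⟩, a⟩
        simp only [mkSL_00, mkSL_01, mkSL_10, mkSL_11]
        refine Prod.ext (Prod.ext (Subtype.ext ?_) (Subtype.ext ?_)) rfl
        · simp only
          rw [mul_div_cancel₀ _ ht]
        · simp }
  rw [Nat.card_congr e, Nat.card_prod, Nat.card_prod, card_sq_one h2, card_cube_self,
    Nat.card_eq_fintype_card]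

end count

end Cfsg.Agent.Lib.Helper19.Solub3Mat
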