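import Mathlib
import Cfsg.Agent.Lib.Helper19.Solub3Mat

set_option autoImplicit false
set_option linter.unusedSimpArgs false
set_option linter.unusedSectionVars false
set_option linter.style.haveILetI false

/-!
# Solubilizer sizes in `PSL₂(3^p)`, `p` an odd prime (helper19)
-/

namespace Cfsg.Agent.Lib.Helper19.Solub3Main

open Cfsg.Agent.Lib.Helper98.SL2Borel
open Cfsg.Agent.Lib.Helper48.Dickson hiding uMat uMat_mul uMat_not_center uMat_zero
open Cfsg.Agent.Lib.Helper98.PSL2Max Cfsg.Agent.Lib.Helper19.Solub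
  Cfsg.Agent.Lib.Helper19.SolubMat Cfsg.Agent.Lib.Helper19.Solub3
  Cfsg.Agent.Lib.Helper19.Solub3Mat

variable {F : Type*} [Field F] [Fintype F] [Fact (Nat.Prime 3)] [CharP F 3]

local notation "SL2" => Matrix.SpecialLinearGroup (Fin 2) F
local notation "PSL2" => Matrix.ProjectiveSpecialLinearGroup (Fin 2) F

omit [Fintype F] [Fact (Nat.Prime 3)] in
theorem three_eq_zero : (3 : F) = 0 := by
  have := CharP.cast_eq_zero F 3
  exact_mod_cast this

omit [Fintype F] [Fact (Nat.Prime 3)] in
theorem two_ne_zero' : (2 : F) ≠ 0 := by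
  intro h
  have : (1 : F) = 0 := by linear_combination three_eq_zero (F := F) - h
  exact one_ne_zero this

omit [Fact (Nat.Prime 3)] [CharP F 3] in
theorem hns_of (hq8 : Fintype.card F % 8 = 3) : ∀ a : F, a ^ 2 ≠ -1 := by
  intro a h
  have : IsSquare (-1 : F) := ⟨a, by rw [← h]; ring⟩
  rw [FiniteField.isSquare_neg_one_iff] at this
  omega

theorem sol_of_nrm (p : ℕ) (hp : p.Prime) (hodd : Odd p) (hF : Fintype.card F = 3 ^ p)
    (x y g : PSL2) (hg : g ≠ 1) (hx : x ∈ nrm ((DD3 F).comp g))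
    (hy : y ∈ nrm ((DD3 F).comp g)) :
    Group.IsSolvable (Subgroup.closure ({x, y} : Set PSL2)) :=
  solvable_of_le (closure_pair_le hx hy) (nrm_solvable p hp hodd hF g hg)

theorem sol_of_ex (p : ℕ) (hp : p.Prime) (hodd : Odd p) (hF : Fintype.card F = 3 ^ p)
    (x y : PSL2) (h : ∃ g, g ≠ 1 ∧ x ∈ nrm ((DD3 F).comp g) ∧ y ∈ nrm ((DD3 F).comp g)) :
    Group.IsSolvable (Subgroup.closure ({x, y} : Set PSL2)) := by
  obtain ⟨g, hg, hx, hy⟩ := h
  exact sol_of_nrm p hp hodd hF x y g hg hx hy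

theorem sol_of_t233 (p : ℕ) (hp : p.Prime) (hodd : Odd p) (hF : Fintype.card F = 3 ^ p)
    (u v x y : PSL2) (hu1 : u ≠ 1) (hu : u ^ 2 = 1) (hv : v ^ 3 = 1) (huv : (u * v) ^ 3 = 1)
    (hx : x ∈ Subgroup.closure ({u, v} : Set PSL2))
    (hy : y ∈ Subgroup.closure ({u, v} : Set PSL2)) :
    Group.IsSolvable (Subgroup.closure ({x, y} : Set PSL2)) := by
  obtain ⟨A, hc, huA, hun, hvn⟩ := t233 u v hu hv huv
  have hA : A ≠ ⊥ := by
    intro h
    rw [h, Subgroup.mem_bot] at huA
    exact hu1 huA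
  apply nrm_comm_solvable p hp hodd hF A _ hA hc
  exact le_trans (closure_pair_le hx hy) (closure_pair_le hun hvn)


/-- the count for the solubilizer of an involution, in `SL₂` -/
theorem card_invol_set (hq8 : Fintype.card F % 8 = 3) :
    Nat.card {Y : SL2 // ((Y.1 0 0 + Y.1 1 1 = 0 ∨ Y.1 1 0 = Y.1 0 1) ∨
        (Y.1 1 1 = Y.1 0 0 ∧ Y.1 1 0 = -Y.1 0 1)) ∨
        ((Y.1 0 0 + Y.1 1 1) ^ 2 = 1 ∧ (Y.1 0 1 - Y.1 1 0) ^ 2 = 1)} =
      2 * (Fintype.card F * (Fintype.card F + 1)) := by
  classical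
  have hns := hns_of hq8
  have h2 : (2 : F) ≠ 0 := two_ne_zero'
  have h3 : (3 : F) = 0 := three_eq_zero
  set S1 : Set SL2 := {Y | Y.1 0 0 + Y.1 1 1 = 0} with hS1
  set S2 : Set SL2 := {Y | Y.1 1 0 = Y.1 0 1} with hS2
  set S3 : Set SL2 := {Y | Y.1 1 1 = Y.1 0 0 ∧ Y.1 1 0 = -Y.1 0 1} with hS3
  set S4 : Set SL2 := {Y | (Y.1 0 0 + Y.1 1 1) ^ 2 = 1 ∧ (Y.1 0 1 - Y.1 1 0) ^ 2 = 1} with hS4
  have c1 : S1.ncard = Fintype.card F * (Fintype.card F - 1) := by
    rw [← Nat.card_coe_set_eq]; exact card_tr0 hns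
  have c2 : S2.ncard = Fintype.card F * (Fintype.card F - 1) := by
    rw [← Nat.card_coe_set_eq]; exact card_sym hns
  have c12 : (S1 ∩ S2).ncard = Fintype.card F + 1 := by
    rw [← Nat.card_coe_set_eq]; exact card_tr0_sym h2 hns
  have c3 : S3.ncard = Fintype.card F + 1 := by
    rw [← Nat.card_coe_set_eq]; exact card_rot h2 hns
  have c31 : (S3 ∩ S1).ncard = 2 := by
    rw [← Nat.card_coe_set_eq]; exact card_rot_tr0 h2
  have c32 : (S3 ∩ S2).ncard = 2 := by
    rw [← Nat.card_coe_set_eq]; exact card_rot_sym h2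
  have c4 : S4.ncard = 4 * (Fintype.card F + 1) := by
    rw [← Nat.card_coe_set_eq]; exact card_a4_all hns
  have d312 : Disjoint (S3 ∩ S1) (S3 ∩ S2) := by
    rw [Set.disjoint_left]
    rintro Y ⟨⟨h31, h32⟩, h1⟩ ⟨-, h2'⟩
    simp only [hS1, hS2, Set.mem_ofPred_eq] at h1 h2'
    have hd := det_eq Y
    have ha : Y.1 0 0 = 0 := by
      rw [h31] at h1
      have : (2 : F) * Y.1 0 0 = 0 := by linear_combination h1
      exact (mul_eq_zero.mp this).resolve_left h2
    have hb : Y.1 0 1 = 0 := by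
      rw [h32] at h2'
      have : (2 : F) * Y.1 0 1 = 0 := by linear_combination -h2'
      exact (mul_eq_zero.mp this).resolve_left h2
    rw [ha, hb] at hd
    simp at hd
  have d4 : Disjoint ((S1 ∪ S2) ∪ S3) S4 := by
    rw [Set.disjoint_left]
    rintro Y ((h1 | h2') | ⟨h31, h32⟩) ⟨h41, h42⟩
    · simp only [hS1, Set.mem_ofPred_eq] at h1
      rw [h1] at h41
      simp at h41
    · simp only [hS2, Set.mem_ofPred_eq] at h2'
      rw [h2', sub_self] at h42
      simp at h42
    · have hd := det_eq Y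
      rw [h31, h32] at hd
      rw [h31] at h41
      rw [h32] at h42
      have : (1 : F) = 0 := by
        linear_combination (4 : F) * hd - h41 - h42 + h3
      exact one_ne_zero this
  have u12 := Set.ncard_union_add_ncard_inter S1 S2
  have u3 := Set.ncard_union_add_ncard_inter (S1 ∪ S2) S3
  have e3 : (S1 ∪ S2) ∩ S3 = (S3 ∩ S1) ∪ (S3 ∩ S2) := by
    rw [Set.inter_comm, Set.inter_union_distrib_left]
  have u312 := Set.ncard_union_eq d312
  have u4 := Set.ncard_union_eq d4
  rw [e3, u312, c31, c32, c3] at u3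
  rw [c12, c1, c2] at u12
  rw [c4] at u4
  have hfin : Nat.card {Y : SL2 // ((Y.1 0 0 + Y.1 1 1 = 0 ∨ Y.1 1 0 = Y.1 0 1) ∨
        (Y.1 1 1 = Y.1 0 0 ∧ Y.1 1 0 = -Y.1 0 1)) ∨
        ((Y.1 0 0 + Y.1 1 1) ^ 2 = 1 ∧ (Y.1 0 1 - Y.1 1 0) ^ 2 = 1)} =
      (((S1 ∪ S2) ∪ S3) ∪ S4).ncard := by
    rw [← Nat.card_coe_set_eq]
    rfl
  rw [hfin, u4]
  have hq : 0 < Fintype.card F := Fintype.card_pos
  obtain ⟨n, hn⟩ : ∃ n, Fintype.card F = n + 1 := ⟨Fintype.card F - 1, by omega⟩
  rw [hn] at u12 u3 ⊢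
  simp only [Nat.add_sub_cancel] at u12 u3 ⊢
  have e1 : (n + 1) * (n + 1 + 1) = (n + 1) * n + 2 * (n + 1) := by ring
  rw [e1]
  omega


/-- the solubilizer of an involution -/
theorem sol_involution (p : ℕ) (hp : p.Prime) (hodd : Odd p) (hF : Fintype.card F = 3 ^ p)
    (x : PSL2) (hx : x ≠ 1) (hx2 : x ^ 2 = 1) :
    Nat.card {y : PSL2 // Group.IsSolvable (Subgroup.closure ({x, y} : Set PSL2))} =
      Fintype.card F * (Fintype.card F + 1) := by
  obtain ⟨hq8, h27⟩ := q_facts p hp hodd hF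
  have hns := hns_of hq8
  have h2 : (2 : F) ≠ 0 := two_ne_zero'
  have hoddq : Odd (Fintype.card F) := Nat.odd_iff.2 (by omega)
  obtain ⟨z, hz⟩ := involution_conj h2 hns x hx hx2
  rw [← card_sol_conj z x, hz]
  have hx' : mk2 (wMat : SL2) ≠ 1 := by
    rw [← hz]; exact DStruct.conj_ne_one hx
  have hx'2 : (mk2 (wMat : SL2)) ^ 2 = 1 := by
    rw [mk2_sq_iff]; left; simp
  have key : ∀ Y : SL2,
      Group.IsSolvable (Subgroup.closure ({mk2 wMat, mk2 Y} : Set PSL2)) ↔
        (((Y.1 0 0 + Y.1 1 1 = 0 ∨ Y.1 1 0 = Y.1 0 1) ∨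
        (Y.1 1 1 = Y.1 0 0 ∧ Y.1 1 0 = -Y.1 0 1)) ∨
        ((Y.1 0 0 + Y.1 1 1) ^ 2 = 1 ∧ (Y.1 0 1 - Y.1 1 0) ^ 2 = 1)) := by
    intro Y
    obtain ⟨w00, w01, w10, w11⟩ := mul_entries wMat Y
    simp only [wMat_00, wMat_01, wMat_10, wMat_11] at w00 w01 w10 w11
    have hsq : (mk2 Y) ^ 2 = 1 → (((Y.1 0 0 + Y.1 1 1 = 0 ∨ Y.1 1 0 = Y.1 0 1) ∨
        (Y.1 1 1 = Y.1 0 0 ∧ Y.1 1 0 = -Y.1 0 1)) ∨
        ((Y.1 0 0 + Y.1 1 1) ^ 2 = 1 ∧ (Y.1 0 1 - Y.1 1 0) ^ 2 = 1)) := by
      intro h
      rcases (mk2_sq_iff Y).1 h with h | ⟨hb, hc, had⟩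
      · left; left; left; exact h
      · left; right; exact ⟨had.symm, by rw [hc, hb]; simp⟩
    constructor
    · intro hsol
      rcases (sol_iff p hp hodd hF _ (mk2 Y) hx').1 hsol with ⟨g, hg, hxg, hyg⟩ |
        ⟨H, hxH, hyH, ⟨e⟩⟩
      · rcases (DD3 F).dich g hg with hpg | hcg
        · exfalso
          have hcard := card_nrm_unipotent (tPack 3) (uPack 3) g hg hpg
          rw [Cfsg.Agent.Lib.Helper19.DicksonUse.gcd_two_odd hoddq] at hcard
          have hd : orderOf (mk2 (wMat : SL2)) ∣ Nat.card (nrm ((DD3 F).comp g)) := by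
            have := orderOf_dvd_natCard (⟨mk2 wMat, hxg⟩ : nrm ((DD3 F).comp g))
            rwa [Subgroup.orderOf_mk] at this
          rw [orderOf_eq_prime hx'2 hx'] at hd
          obtain ⟨k, hk⟩ := hd
          have hmod : (Fintype.card F * (Fintype.card F - 1)) % 4 = 2 := by
            have a : Fintype.card F % 4 = 3 := by omega
            have b : (Fintype.card F - 1) % 4 = 2 := by omega
            rw [Nat.mul_mod, a, b]
          have hk' : Nat.card (nrm (comp2 g)) = 2 * k := hk
          rw [hk'] at hcard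
          omega
        · rcases torus_case (DD3 F) _ (mk2 Y) g hx'2 hg hcg hxg hyg with h | h | h
          · exact hsq h
          · rw [← map_mul, mk2_sq_iff, w00, w01, w10, w11] at h
            rcases h with h | ⟨h1, h2', h3'⟩
            · left; left; right; linear_combination -h
            · left; left; left; linear_combination h2' - h1
          · rcases (commute_wMat_iff Y).1 h with ⟨h1, h2'⟩ | ⟨h1, h2'⟩
            · left; right; exact ⟨h1, h2'⟩
            · left; left; right; exact h2'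
      · rcases a4_invol H e _ _ hxH hyH hx' hx'2 with h | ⟨h, h'⟩
        · exact hsq h
        · right
          rw [mk2_cube_iff] at h
          rw [← map_mul, mk2_cube_iff, w00, w11] at h'
          exact ⟨h, by linear_combination h'⟩
    · rintro (((h | h) | ⟨h1, h2'⟩) | ⟨h1, h2'⟩)
      · apply sol_of_ex p hp hodd hF
        apply sq_case (DD3 F) _ _ hx' hx'2
        rw [mk2_sq_iff]; left; exact h
      · apply sol_of_ex p hp hodd hF
        apply inv_case (DD3 F) _ _ hx' hx'2
        rw [← map_mul, mk2_sq_iff, w00, w11]; left; rw [h]; ring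
      · apply sol_of_ex p hp hodd hF
        apply comm_case (DD3 F) _ _ hx'
        rw [commute_wMat_iff]; left; exact ⟨h1, h2'⟩
      · apply sol_of_t233 p hp hodd hF (mk2 wMat) (mk2 Y) _ _ hx' hx'2 _ _
          (mem_closure_left _ _) (mem_closure_right _ _)
        · rw [mk2_cube_iff]; exact h1
        · rw [← map_mul, mk2_cube_iff, w00, w11]; linear_combination h2'
  have h1 := card_transfer hoddq
    (fun y => Group.IsSolvable (Subgroup.closure ({mk2 (wMat : SL2), y} : Set PSL2)))
  rw [Nat.card_congr (Equiv.subtypeEquivRight key), card_invol_set hq8] at h1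
  omega


/-- counting a disjoint union of two predicates -/
theorem card_or2 {α : Type*} [Finite α] (P1 P2 : α → Prop) (h12 : ∀ a, P1 a → ¬ P2 a) :
    Nat.card {a // P1 a ∨ P2 a} = Nat.card {a // P1 a} + Nat.card {a // P2 a} := by
  classical
  have d1 : Disjoint P1 P2 := by
    rw [Pi.disjoint_iff]
    intro a
    rw [Prop.disjoint_iff]
    rintro ⟨h1, h2⟩
    exact h12 a h1 h2
  rw [Nat.card_congr (subtypeOrEquiv P1 P2 d1), Nat.card_sum]

omit [Fintype F] [Fact (Nat.Prime 3)] in
theorem uMat_entries (t : F) :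
    (uMat t).1 0 0 = 1 ∧ (uMat t).1 0 1 = t ∧ (uMat t).1 1 0 = 0 ∧ (uMat t).1 1 1 = 1 := by
  simp

/-- the solubilizer of an element of order three -/
theorem sol_three (p : ℕ) (hp : p.Prime) (hodd : Odd p) (hF : Fintype.card F = 3 ^ p)
    (x : PSL2) (hx : x ≠ 1) (hx3 : x ^ 3 = 1) :
    2 * Nat.card {y : PSL2 // Group.IsSolvable (Subgroup.closure ({x, y} : Set PSL2))} =
      Fintype.card F * (Fintype.card F + 5) := by
  obtain ⟨hq8, h27⟩ := q_facts p hp hodd hF
  have h2 : (2 : F) ≠ 0 := two_ne_zero'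
  have h3 : (3 : F) = 0 := three_eq_zero
  have hoddq : Odd (Fintype.card F) := Nat.odd_iff.2 (by omega)
  obtain ⟨z, t, ht, hz⟩ := unip_conj (p := 3) x hx hx3
  rw [← card_sol_conj z x, hz]
  have hx' : mk2 (uMat t) ≠ 1 := uMat_ne_one t ht
  have hx'3 : (mk2 (uMat t)) ^ 3 = 1 := by
    rw [← hz, ← MulAut.conj_apply, ← map_pow, hx3, map_one]
  obtain ⟨u00, u01, u10, u11⟩ := uMat_entries t
  obtain ⟨v00, v01, v10, v11⟩ := uMat_entries (-t)
  have key : ∀ Y : SL2,
      Group.IsSolvable (Subgroup.closure ({mk2 (uMat t), mk2 Y} : Set PSL2)) ↔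
        (Y.1 1 0 = 0 ∨ ((t * Y.1 1 0) ^ 2 = 1 ∧
          (Y.1 0 0 + Y.1 1 1) ^ 3 = Y.1 0 0 + Y.1 1 1)) := by
    intro Y
    obtain ⟨e00, e01, e10, e11⟩ := mul_entries (uMat t) Y
    obtain ⟨f00, f01, f10, f11⟩ := mul_entries (uMat (-t)) Y
    obtain ⟨g00, g01, g10, g11⟩ := mul_entries Y (uMat t)
    simp only [u00, u01, u10, u11] at e00 e01 e10 e11 g00 g01 g10 g11
    simp only [v00, v01, v10, v11] at f00 f01 f10 f11
    have hcne : ∀ Z : SL2, Z.1 1 0 ≠ 0 → mk2 Z ≠ 1 := by
      intro Z hc h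
      exact hc ((mem_center_iff' Z).1 ((mk2_eq_one_iff Z).1 h)).2.1
    constructor
    · intro hsol
      rcases (sol_iff p hp hodd hF _ (mk2 Y) hx').1 hsol with ⟨g, hg, hxg, hyg⟩ |
        ⟨H, hxH, hyH, ⟨e⟩⟩
      · left
        have hxc : mk2 (uMat t) ∈ (DD3 F).comp g := by
          rcases (DD3 F).dich g hg with hpg | hcg
          · exact unip_mem_of_pow (DD3 F) g hg hpg _ hxg hx'3
          · apply torus_mem_of_sq_ne (DD3 F) g hg hcg _ hxg
            intro hsq
            apply hx'
            calc mk2 (uMat t) = (mk2 (uMat t)) ^ 3 * ((mk2 (uMat t)) ^ 2)⁻¹ := by group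
              _ = 1 := by rw [hsq, hx'3]; simp
        have hcomp : (DD3 F).comp (mk2 (uMat t)) = (DD3 F).comp g :=
          (DD3 F).comp_eq g hg _ hxc hx'
        rw [← hcomp] at hyg
        exact (mem_nrm_uMat (p := 3) t ht Y).1 hyg
      · rcases a4_three H e _ _ hxH hyH hx' hx'3 with (h | h | h) | ⟨h, h'⟩ | ⟨h, h'⟩ | ⟨h, h'⟩
        · left
          exact ((mem_center_iff' Y).1 ((mk2_eq_one_iff Y).1 h)).2.1
        · left
          apply (mem_nrm_uMat (p := 3) t ht Y).1
          rw [h]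
          exact Subgroup.le_normalizer ((DD3 F).mem_comp _)
        · left
          apply (mem_nrm_uMat (p := 3) t ht Y).1
          rw [h]
          exact Subgroup.le_normalizer (Subgroup.pow_mem _ ((DD3 F).mem_comp _) 2)
        · rcases (mk2_sq_iff Y).1 h with htr | ⟨-, hc, -⟩
          · right
            rw [← map_mul, mk2_cube_iff, e00, e11] at h'
            refine ⟨?_, by rw [htr]; ring⟩
            linear_combination h' - (2 * t * Y.1 1 0 + (Y.1 0 0 + Y.1 1 1)) * htr
          · left; exact hc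
        · rw [mk2_cube_iff] at h
          rw [← map_mul, mk2_sq_iff, e00, e01, e10, e11] at h'
          rcases h' with h' | ⟨-, hc, -⟩
          · right
            refine ⟨?_, by linear_combination (Y.1 0 0 + Y.1 1 1) * h⟩
            have : t * Y.1 1 0 = -(Y.1 0 0 + Y.1 1 1) := by linear_combination h'
            rw [this]
            linear_combination h
          · left; linear_combination hc
        · rw [mk2_cube_iff] at h
          rw [← map_inv, uMat_inv, ← map_mul, mk2_sq_iff, f00, f01, f10, f11] at h'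
          rcases h' with h' | ⟨-, hc, -⟩
          · right
            refine ⟨?_, by linear_combination (Y.1 0 0 + Y.1 1 1) * h⟩
            have : t * Y.1 1 0 = Y.1 0 0 + Y.1 1 1 := by linear_combination -h'
            rw [this]
            exact h
          · left; linear_combination hc
    · rintro (hc | ⟨htc, htr⟩)
      · exact sol_of_nrm p hp hodd hF _ _ _ hx' (Subgroup.le_normalizer ((DD3 F).mem_comp _))
          ((mem_nrm_uMat (p := 3) t ht Y).2 hc)
      · have hc : Y.1 1 0 ≠ 0 := by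
          intro h
          rw [h] at htc
          simp at htc
        have hcases : Y.1 0 0 + Y.1 1 1 = 0 ∨ (Y.1 0 0 + Y.1 1 1) ^ 2 = 1 := by
          have : (Y.1 0 0 + Y.1 1 1) * ((Y.1 0 0 + Y.1 1 1) ^ 2 - 1) = 0 := by
            linear_combination htr
          rcases mul_eq_zero.mp this with h | h
          · left; exact h
          · right; linear_combination h
        rcases hcases with htr0 | htr1
        · -- `y` is an involution
          apply sol_of_t233 p hp hodd hF (mk2 Y) (mk2 (uMat t)) _ _ (hcne Y hc) _ hx'3 _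
            (mem_closure_right _ _) (mem_closure_left _ _)
          · rw [mk2_sq_iff]; left; exact htr0
          · rw [← map_mul, mk2_cube_iff, g00, g11]
            linear_combination htc + (2 * t * Y.1 1 0 + (Y.1 0 0 + Y.1 1 1)) * htr0
        · have hy3 : (mk2 Y) ^ 3 = 1 := by rw [mk2_cube_iff]; exact htr1
          have hyi3 : ((mk2 Y)⁻¹) ^ 3 = 1 := by rw [inv_pow, hy3, inv_one]
          have hprod : (t * Y.1 1 0 - (Y.1 0 0 + Y.1 1 1)) *
              (t * Y.1 1 0 + (Y.1 0 0 + Y.1 1 1)) = 0 := by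
            linear_combination htc - htr1
          rcases mul_eq_zero.mp hprod with h | h
          · -- `x⁻¹ y` is an involution
            have hne : mk2 ((uMat t)⁻¹ * Y) ≠ 1 := by
              apply hcne
              rw [uMat_inv, f10]
              intro h0
              apply hc
              linear_combination h0
            apply sol_of_t233 p hp hodd hF (mk2 ((uMat t)⁻¹ * Y)) (mk2 Y)⁻¹ _ _ hne _ hyi3
            · rw [map_mul, mul_inv_cancel_right, map_inv, inv_pow, hx'3, inv_one]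
            · have e : mk2 (uMat t) = (mk2 ((uMat t)⁻¹ * Y) * (mk2 Y)⁻¹)⁻¹ := by
                rw [map_mul, map_inv]; group
              rw [e]
              exact Subgroup.inv_mem _ (Subgroup.mul_mem _ (mem_closure_left _ _)
                (mem_closure_right _ _))
            · have := Subgroup.inv_mem _ (mem_closure_right (mk2 ((uMat t)⁻¹ * Y)) (mk2 Y)⁻¹)
              rwa [inv_inv] at this
            · rw [mk2_sq_iff, uMat_inv, f00, f11]; left
              linear_combination -h
          · -- `x y` is an involution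
            have hne : mk2 (uMat t * Y) ≠ 1 := by
              apply hcne
              rw [e10]
              intro h0
              apply hc
              linear_combination h0
            apply sol_of_t233 p hp hodd hF (mk2 (uMat t * Y)) (mk2 Y)⁻¹ _ _ hne _ hyi3
            · rw [map_mul, mul_inv_cancel_right, hx'3]
            · have e : mk2 (uMat t) = mk2 (uMat t * Y) * (mk2 Y)⁻¹ := by
                rw [map_mul]; group
              rw [e]
              exact Subgroup.mul_mem _ (mem_closure_left _ _) (mem_closure_right _ _)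
            · have := Subgroup.inv_mem _ (mem_closure_right (mk2 (uMat t * Y)) (mk2 Y)⁻¹)
              rwa [inv_inv] at this
            · rw [mk2_sq_iff, e00, e11]; left
              linear_combination h
  have h1 := card_transfer hoddq
    (fun y => Group.IsSolvable (Subgroup.closure ({mk2 (uMat t), y} : Set PSL2)))
  rw [Nat.card_congr (Equiv.subtypeEquivRight key), card_or2] at h1
  · rw [Cfsg.Agent.Lib.Helper19.DicksonUse.card_upper, card_three_piece t ht] at h1
    rw [← h1]
    have hq : 0 < Fintype.card F := Fintype.card_pos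
    obtain ⟨n, hn⟩ : ∃ n, Fintype.card F = n + 1 := ⟨Fintype.card F - 1, by omega⟩
    rw [hn]
    simp only [Nat.add_sub_cancel]
    ring
  · rintro Y hc ⟨htc, -⟩
    rw [hc] at htc
    simp at htc


omit [Fact (Nat.Prime 3)] [CharP F 3] in
theorem q_mod_three (p : ℕ) (hp : p.Prime) (hF : Fintype.card F = 3 ^ p) :
    Fintype.card F % 3 = 0 := by
  rw [hF]
  exact Nat.mod_eq_zero_of_dvd (dvd_pow_self 3 hp.ne_zero)

theorem conj_pow_ne {G : Type*} [Group G] (z x : G) (n : ℕ) (h : x ^ n ≠ 1) :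
    (z * x * z⁻¹) ^ n ≠ 1 := by
  rw [conj_pow]
  exact DStruct.conj_ne_one h

/-- an element whose order is prime to three lies in a torus -/
theorem torus_of_coprime (x : PSL2) (hx : x ≠ 1) (hcop : Nat.Coprime (orderOf x) 3) :
    (Nat.card ((DD3 F).comp x)).Coprime 3 := by
  rcases (DD3 F).dich x hx with hp | hc
  · exfalso
    obtain ⟨k, hk⟩ := (IsPGroup.iff_orderOf.1 hp) ⟨x, (DD3 F).mem_comp x⟩
    rw [Subgroup.orderOf_mk] at hk
    rcases Nat.eq_zero_or_pos k with h0 | h0
    · rw [h0, pow_zero] at hk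
      exact hx (orderOf_eq_one_iff.1 hk)
    · rw [hk] at hcop
      have h3 : 3 ∣ Nat.gcd (3 ^ k) 3 := Nat.dvd_gcd (dvd_pow_self 3 h0.ne') dvd_rfl
      rw [hcop] at h3
      omega
  · exact hc

/-- elements of `A₄`-subgroups have order dividing two or three -/
theorem not_mem_a4 (x : PSL2) (hx : x ≠ 1) (hx2 : x ^ 2 ≠ 1) (hcop : Nat.Coprime (orderOf x) 3)
    (H : Subgroup PSL2) (e : H ≃* alternatingGroup (Fin 4)) : x ∉ H := by
  intro hxH
  rcases a4_order H e x hxH with h | h
  · exact hx2 h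
  · have hd : orderOf x ∣ 3 := orderOf_dvd_of_pow_eq_one h
    have := Nat.Coprime.eq_one_of_dvd hcop hd
    exact hx (orderOf_eq_one_iff.1 this)

theorem pow_three_ne (x : PSL2) (hx : x ≠ 1) (hcop : Nat.Coprime (orderOf x) 3) :
    x ^ 3 ≠ 1 := by
  intro h
  have hd : orderOf x ∣ 3 := orderOf_dvd_of_pow_eq_one h
  have := Nat.Coprime.eq_one_of_dvd hcop hd
  exact hx (orderOf_eq_one_iff.1 this)

/-- the solubilizer of an element of a split torus -/
theorem sol_split (p : ℕ) (hp : p.Prime) (hodd : Odd p) (hF : Fintype.card F = 3 ^ p)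
    (x : PSL2) (hx : x ≠ 1) (hx2 : x ^ 2 ≠ 1) (hord : orderOf x ∣ Fintype.card F - 1) :
    Nat.card {y : PSL2 // Group.IsSolvable (Subgroup.closure ({x, y} : Set PSL2))} =
      Fintype.card F * (Fintype.card F - 1) := by
  obtain ⟨hq8, h27⟩ := q_facts p hp hodd hF
  have hq3 := q_mod_three p hp hF
  have hoddq : Odd (Fintype.card F) := Nat.odd_iff.2 (by omega)
  have hcop : Nat.Coprime (orderOf x) 3 := by
    apply Nat.Coprime.coprime_dvd_left hord
    apply Nat.Coprime.symm
    rw [Nat.Prime.coprime_iff_not_dvd Nat.prime_three]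
    omega
  have hc := torus_of_coprime x hx hcop
  have hx3 := pow_three_ne x hx hcop
  obtain ⟨z, a, ha, ha1, hz⟩ := split_conj (p := 3) hoddq x hx hx2 hc hord
  rw [← card_sol_conj z x, hz]
  have hx' : mk2 (dg a ha) ≠ 1 := dg_ne_one a ha ha1
  have hx'2 : (mk2 (dg a ha)) ^ 2 ≠ 1 := by rw [← hz]; exact conj_pow_ne z x 2 hx2
  have hx'3 : (mk2 (dg a ha)) ^ 3 ≠ 1 := by rw [← hz]; exact conj_pow_ne z x 3 hx3
  have hne : a - a⁻¹ ≠ 0 := by
    intro h
    apply ha1
    have : a = a⁻¹ := sub_eq_zero.mp h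
    calc a ^ 2 = a * a := by ring
      _ = a * a⁻¹ := by rw [← this]
      _ = 1 := mul_inv_cancel₀ ha
  have key : ∀ Y : SL2,
      Group.IsSolvable (Subgroup.closure ({mk2 (dg a ha), mk2 Y} : Set PSL2)) ↔
        (Y.1 1 0 = 0 ∨ (Y.1 1 0 ≠ 0 ∧ Y.1 0 1 = 0) ∨ (Y.1 0 0 = 0 ∧ Y.1 1 1 = 0)) := by
    intro Y
    constructor
    · intro hsol
      rcases (sol_iff p hp hodd hF _ (mk2 Y) hx').1 hsol with ⟨g, hg, hxg, hyg⟩ |
        ⟨H, hxH, hyH, ⟨e⟩⟩
      · rcases (DD3 F).dich g hg with hpg | hcg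
        · obtain ⟨X, hX⟩ := nrm_unip_form (p := 3) g hg hpg
          have h1 := (hX (dg a ha)).1 hxg
          have h2 := (hX Y).1 hyg
          rw [(conj_entries X (dg a ha)).1] at h1
          rw [(conj_entries X Y).1] at h2
          simp only [dg_00, dg_01, dg_10, dg_11] at h1
          have hdX := det_eq X
          have h3 : X.1 1 0 * X.1 1 1 = 0 := by
            have : (X.1 1 0 * X.1 1 1) * (a - a⁻¹) = 0 := by linear_combination h1
            exact (mul_eq_zero.mp this).resolve_right hne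
          rcases mul_eq_zero.mp h3 with h | h
          · left
            rw [h] at h2 hdX
            have hd0 : X.1 1 1 ≠ 0 := by
              intro h0
              rw [h0] at hdX
              simp at hdX
            have : X.1 1 1 * X.1 1 1 * Y.1 1 0 = 0 := by linear_combination h2
            exact (mul_eq_zero.mp this).resolve_left (mul_ne_zero hd0 hd0)
          · rw [h] at h2 hdX
            have hc0 : X.1 1 0 ≠ 0 := by
              intro h0
              rw [h0] at hdX
              simp at hdX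
            have hb : Y.1 0 1 = 0 := by
              have : X.1 1 0 * X.1 1 0 * Y.1 0 1 = 0 := by linear_combination -h2
              exact (mul_eq_zero.mp this).resolve_left (mul_ne_zero hc0 hc0)
            by_cases hc' : Y.1 1 0 = 0
            · left; exact hc'
            · right; left; exact ⟨hc', hb⟩
        · have hxc := torus_mem_of_sq_ne (DD3 F) g hg hcg _ hxg hx'2
          have hcomp : (DD3 F).comp (mk2 (dg a ha)) = (DD3 F).comp g :=
            (DD3 F).comp_eq g hg _ hxc hx'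
          rw [← hcomp] at hyg
          rcases (mem_nrm_dg (p := 3) a ha ha1 Y).1 hyg with ⟨-, h⟩ | h
          · left; exact h
          · right; right; exact h
      · exfalso
        rcases a4_order H e _ hxH with h | h
        · exact hx'2 h
        · exact hx'3 h
    · rintro (hc' | ⟨hc', hb⟩ | had)
      · exact sol_of_nrm p hp hodd hF _ _ _ (uMat_ne_one (1 : F) one_ne_zero)
          ((mem_nrm_uMat (p := 3) 1 one_ne_zero _).2 (dg_10 a ha))
          ((mem_nrm_uMat (p := 3) 1 one_ne_zero Y).2 hc')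
      · exact sol_of_nrm p hp hodd hF _ _ _ Cfsg.Agent.Lib.Helper19.Solub3Mat.lw_ne_one
          (Cfsg.Agent.Lib.Helper19.Solub3Mat.mem_nrm_lw (p := 3) _ (dg_01 a ha))
          (Cfsg.Agent.Lib.Helper19.Solub3Mat.mem_nrm_lw (p := 3) Y hb)
      · exact sol_of_nrm p hp hodd hF _ _ _ hx' (Subgroup.le_normalizer ((DD3 F).mem_comp _))
          ((mem_nrm_dg (p := 3) a ha ha1 Y).2 (Or.inr had))
  have h1 := card_transfer hoddq
    (fun y => Group.IsSolvable (Subgroup.closure ({mk2 (dg a ha), y} : Set PSL2)))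
  rw [Nat.card_congr (Equiv.subtypeEquivRight key), card_or3] at h1
  · rw [Cfsg.Agent.Lib.Helper19.DicksonUse.card_upper, card_lower_strict, card_anti] at h1
    have hq : 0 < Fintype.card F := Fintype.card_pos
    obtain ⟨n, hn⟩ : ∃ n, Fintype.card F = n + 1 := ⟨Fintype.card F - 1, by omega⟩
    rw [hn] at h1 ⊢
    simp only [Nat.add_sub_cancel] at h1 ⊢
    have e1 : (n + 1) * n + n * n + n = 2 * ((n + 1) * n) := by ring
    omega
  · rintro Y h1 ⟨h2', -⟩; exact h2' h1
  · rintro Y h1 ⟨h2', h3⟩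
    have hd := det_eq Y
    rw [h1, h2', h3] at hd
    simp at hd
  · rintro Y ⟨-, hb⟩ ⟨h2', h3⟩
    have hd := det_eq Y
    rw [hb, h2', h3] at hd
    simp at hd


/-- the solubilizer of an element of a nonsplit torus -/
theorem sol_nonsplit (p : ℕ) (hp : p.Prime) (hodd : Odd p) (hF : Fintype.card F = 3 ^ p)
    (x : PSL2) (hx : x ≠ 1) (hx2 : x ^ 2 ≠ 1) (hord : orderOf x ∣ Fintype.card F + 1) :
    Nat.card {y : PSL2 // Group.IsSolvable (Subgroup.closure ({x, y} : Set PSL2))} =
      Fintype.card F + 1 := by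
  obtain ⟨hq8, h27⟩ := q_facts p hp hodd hF
  have hq3 := q_mod_three p hp hF
  have hoddq : Odd (Fintype.card F) := Nat.odd_iff.2 (by omega)
  have hgcd := Cfsg.Agent.Lib.Helper19.DicksonUse.gcd_two_odd hoddq
  have hq : 0 < Fintype.card F := Fintype.card_pos
  have hcop : Nat.Coprime (orderOf x) 3 := by
    apply Nat.Coprime.coprime_dvd_left hord
    apply Nat.Coprime.symm
    rw [Nat.Prime.coprime_iff_not_dvd Nat.prime_three]
    omega
  have hc := torus_of_coprime x hx hcop
  have hx3 := pow_three_ne x hx hcop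
  -- no element of order dividing both `q + 1` and `q - 1`
  have hboth : ¬ orderOf x ∣ Fintype.card F - 1 := by
    intro h
    have h4 : orderOf x ∣ (Fintype.card F + 1) - (Fintype.card F - 1) := Nat.dvd_sub hord h
    have e : (Fintype.card F + 1) - (Fintype.card F - 1) = 2 := by omega
    rw [e] at h4
    exact hx2 (orderOf_dvd_iff_pow_eq_one.1 h4)
  have hcard : Nat.card (nrm ((DD3 F).comp x)) = Fintype.card F + 1 := by
    obtain ⟨A, rfl⟩ := mk2_surjective x
    have ht := trace_of_torus (p := 3) A hx hc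
    have h1 := card_comp2_torus A ht
    rw [hgcd] at h1
    have hdvd : orderOf (mk2 A) ∣ Nat.card (comp2 (mk2 A)) := by
      have := orderOf_dvd_natCard (⟨mk2 A, mem_comp2_self _⟩ : comp2 (mk2 A))
      rwa [Subgroup.orderOf_mk] at this
    have h2 := (card_nrm_comp2 (tPack 3) A ht).1
    show Nat.card (nrm (comp2 (mk2 A))) = _
    rw [h2]
    rcases h1 with h1 | h1
    · exfalso
      exact hboth (dvd_trans hdvd (Dvd.intro _ h1))
    · omega
  rw [← hcard]
  apply Nat.card_congr
  refine Equiv.subtypeEquivRight ?_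
  intro y
  constructor
  · intro hsol
    rcases (sol_iff p hp hodd hF _ y hx).1 hsol with ⟨g, hg, hxg, hyg⟩ | ⟨H, hxH, hyH, ⟨e⟩⟩
    · rcases (DD3 F).dich g hg with hpg | hcg
      · exfalso
        have hcn := card_nrm_unipotent (tPack 3) (uPack 3) g hg hpg
        rw [hgcd] at hcn
        have hd : orderOf x ∣ Nat.card (nrm ((DD3 F).comp g)) := by
          have := orderOf_dvd_natCard (⟨x, hxg⟩ : nrm ((DD3 F).comp g))
          rwa [Subgroup.orderOf_mk] at this
        have h3 : orderOf x ∣ Fintype.card F * (Fintype.card F - 1) := by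
          rw [← hcn]; exact dvd_mul_of_dvd_left hd 2
        have hcq : Nat.Coprime (orderOf x) (Fintype.card F) := by
          have h4 : Nat.Coprime (Fintype.card F + 1) (Fintype.card F) := by simp
          exact Nat.Coprime.coprime_dvd_left hord h4
        exact hboth (hcq.dvd_of_dvd_mul_left h3)
      · have hxc := torus_mem_of_sq_ne (DD3 F) g hg hcg _ hxg hx2
        have hcomp : (DD3 F).comp x = (DD3 F).comp g := (DD3 F).comp_eq g hg _ hxc hx
        rw [hcomp]; exact hyg
    · exfalso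
      exact not_mem_a4 x hx hx2 hcop H e hxH
  · intro hy
    exact sol_of_nrm p hp hodd hF _ _ _ hx (Subgroup.le_normalizer ((DD3 F).mem_comp _)) hy

end Cfsg.Agent.Lib.Helper19.Solub3Main
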