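import Mathlib
import Cfsg.Agent.Lib.Helper19.SolubMat

set_option autoImplicit false
set_option linter.unusedSimpArgs false
set_option linter.unusedSectionVars false
set_option linter.style.haveILetI false

/-!
# Solubilizer sizes in `PSL₂(2^p)`, `p` prime (helper19)
-/

namespace Cfsg.Agent.Lib.Helper19.SolubEven

open Cfsg.Agent.Lib.Helper98.SL2Borel
open Cfsg.Agent.Lib.Helper48.Dickson hiding uMat uMat_mul uMat_not_center
open Cfsg.Agent.Lib.Helper98.PSL2Max Cfsg.Agent.Lib.Helper19.Solub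
  Cfsg.Agent.Lib.Helper19.SolubMat

variable {F : Type*} [Field F] [Fintype F] [Fact (Nat.Prime 2)] [CharP F 2]

local notation "SL2" => Matrix.SpecialLinearGroup (Fin 2) F
local notation "PSL2" => Matrix.ProjectiveSpecialLinearGroup (Fin 2) F

/-- normal form of an involution -/
theorem involution_conj (x : PSL2) (hx : x ≠ 1) (hx2 : x ^ 2 = 1) :
    ∃ (z : PSL2) (t : F), t ≠ 0 ∧ z * x * z⁻¹ = mk2 (uMat t) := by
  obtain ⟨A, rfl⟩ := mk2_surjective x
  have hA : A ∉ Subgroup.center SL2 := fun h => hx ((mk2_eq_one_iff A).2 h)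
  have hp : IsPGroup 2 ((DD F).comp (mk2 A)) := by
    rcases (DD F).dich _ hx with hp | hc
    · exact hp
    · exfalso
      have hd : orderOf (mk2 A) ∣ Nat.card ((DD F).comp (mk2 A)) := by
        have := orderOf_dvd_natCard (⟨mk2 A, (DD F).mem_comp _⟩ : (DD F).comp (mk2 A))
        rwa [Subgroup.orderOf_mk] at this
      rw [orderOf_eq_prime hx2 hx] at hd
      have := Nat.Coprime.eq_one_of_dvd hc.symm hd
      omega
  have : Nontrivial ((DD F).comp (mk2 A)) :=
    ⟨⟨⟨mk2 A, mem_comp2_self _⟩, 1, fun h => hx (congrArg Subtype.val h)⟩⟩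
  have ht : (Matrix.trace (A : Matrix (Fin 2) (Fin 2) F)) ^ 2 = 4 := by
    by_contra ht
    exact not_pgroup_and_coprime hp (comp2_coprime (tPack 2) A ht)
  obtain ⟨X, h1, h2⟩ := (uPack (F := F) 2).Uh A hA ht
  obtain ⟨t, ht'⟩ := mk_eq_mk_uMat_of_upper (X * A * X⁻¹) h1 h2
  have hconj : mk2 X * mk2 A * (mk2 X)⁻¹ = mk2 (uMat t) := by
    rw [← map_inv, ← map_mul, ← map_mul]
    exact ht'
  refine ⟨mk2 X, t, ?_, hconj⟩
  intro h0
  rw [h0, Cfsg.Agent.Lib.Helper98.SL2Borel.uMat_zero, map_one] at hconj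
  apply hx
  have : mk2 A = (mk2 X)⁻¹ * (mk2 X * mk2 A * (mk2 X)⁻¹) * mk2 X := by group
  rw [this, hconj]; group

/-- normal form of an element of a split torus -/
theorem split_conj (heven : Even (Fintype.card F)) (x : PSL2) (hx : x ≠ 1)
    (hord : orderOf x ∣ Fintype.card F - 1) :
    ∃ (z : PSL2) (a : F) (ha : a ≠ 0), a ^ 2 ≠ 1 ∧ z * x * z⁻¹ = mk2 (dg a ha) := by
  classical
  have hodd := odd_of_dvd_pred heven hord
  have hc := torus_of_odd x hx hodd
  have hcard := (card_comp_of_odd heven x hx hodd).1 hord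
  obtain ⟨A, rfl⟩ := mk2_surjective x
  have hA : A ∉ Subgroup.center SL2 := fun h => hx ((mk2_eq_one_iff A).2 h)
  have : Nontrivial ((DD F).comp (mk2 A)) :=
    ⟨⟨⟨mk2 A, mem_comp2_self _⟩, 1, fun h => hx (congrArg Subtype.val h)⟩⟩
  have ht : (Matrix.trace (A : Matrix (Fin 2) (Fin 2) F)) ^ 2 ≠ 4 := by
    intro ht
    exact not_pgroup_and_coprime (X := (DD F).comp (mk2 A))
      (uGood_of_trace (uPack 2) A hA ht).1 hc
  -- the centralizer has order `q - 1`
  have hcent : Nat.card (Subgroup.centralizer ({A} : Set SL2)) = Fintype.card F - 1 := by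
    rw [← hcard]
    show _ = Nat.card (comp2 (mk2 A))
    rw [comp2_mk]
    unfold compS
    rw [Subgroup.card_map_of_injective mk2_injective]
  have hsplit : ∃ l : F, l ^ 2 - (Matrix.trace (A : Matrix (Fin 2) (Fin 2) F)) * l + 1 = 0 := by
    by_contra hns
    push Not at hns
    have h1 := Cfsg.Agent.Lib.Helper98.PSL2Orders.card_centralizer_eq_fib A ht
    rw [Cfsg.Agent.Lib.Helper98.PSL2Orders.card_fib_one_nonsplit _ ht hns, hcent] at h1
    have hq : 0 < Fintype.card F := Fintype.card_pos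
    omega
  obtain ⟨l, hl⟩ := hsplit
  rw [Matrix.trace_fin_two] at hl ht
  have hl1 : l ^ 2 ≠ 1 := by
    intro h
    have h2 : (2 : F) = 0 := two_eq_zero'
    have h3 : (A.1 0 0 + A.1 1 1) * l = 0 := by linear_combination -hl + h + h2
    have hl0 : l ≠ 0 := by
      intro h0
      rw [h0] at h
      simp at h
    have h4 : A.1 0 0 + A.1 1 1 = 0 := (mul_eq_zero.mp h3).resolve_right hl0
    apply ht
    rw [h4]
    linear_combination (-2 : F) * h2
  obtain ⟨X, a, ha, ha1, e⟩ := exists_conj_diag A l hl hl1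
  refine ⟨mk2 X, a, ha, ha1, ?_⟩
  rw [← map_inv, ← map_mul, ← map_mul, e]


theorem orderOf_conj' {G : Type*} [Group G] (z x : G) : orderOf (z * x * z⁻¹) = orderOf x := by
  have := orderOf_injective (MulAut.conj z).toMonoidHom (MulAut.conj z).injective x
  simpa [MulAut.conj_apply] using this

/-- the solubilizer of an involution -/
theorem sol_involution (heven : Even (Fintype.card F)) (p : ℕ) (hp : p.Prime)
    (hF : Fintype.card F = 2 ^ p) (x : PSL2) (hx : x ≠ 1) (hx2 : x ^ 2 = 1) :
    Nat.card {y : PSL2 // Group.IsSolvable (Subgroup.closure ({x, y} : Set PSL2))} =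
      3 * (Fintype.card F * (Fintype.card F - 1)) := by
  obtain ⟨z, t, ht, hz⟩ := involution_conj x hx hx2
  rw [← card_sol_conj z x, hz]
  have h2 : (2 : F) = 0 := two_eq_zero'
  have hx' : mk2 (uMat t) ≠ 1 := by
    rw [← hz]; exact DStruct.conj_ne_one hx
  have hx'2 : (mk2 (uMat t)) ^ 2 = 1 := by
    rw [mk2_sq_eq_one_iff]
    simp only [uMat_coe, Matrix.of_apply, Matrix.cons_val', Matrix.cons_val_zero,
      Matrix.cons_val_one, Matrix.empty_val', Matrix.cons_val_fin_one, Matrix.head_cons,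
      Matrix.head_fin_const]
    linear_combination h2
  rw [card_transfer]
  have key : ∀ Y : SL2,
      Group.IsSolvable (Subgroup.closure ({mk2 (uMat t), mk2 Y} : Set PSL2)) ↔
        (Y.1 1 0 = 0 ∨ (Y.1 1 0 ≠ 0 ∧ Y.1 1 1 = 0 * Y.1 1 0 - Y.1 0 0) ∨
          (Y.1 1 0 ≠ 0 ∧ Y.1 1 1 = t * Y.1 1 0 - Y.1 0 0)) := by
    intro Y
    rw [solvable_iff heven p hp hF _ (mk2 Y) hx']
    obtain ⟨e00, e01, e10, e11⟩ := mul_entries (uMat t) Y
    simp only [uMat_coe, Matrix.of_apply, Matrix.cons_val', Matrix.cons_val_zero,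
      Matrix.cons_val_one, Matrix.empty_val', Matrix.cons_val_fin_one, Matrix.head_cons,
      Matrix.head_fin_const] at e00 e01 e10 e11
    constructor
    · rintro ⟨g, hg, hxg, hyg⟩
      rcases (DD F).dich g hg with hpg | hcg
      · left
        have hxc := unip_mem_of_two g hg hpg _ hxg hx'2
        have hcomp : (DD F).comp (mk2 (uMat t)) = (DD F).comp g :=
          (DD F).comp_eq g hg _ hxc hx'
        rw [← hcomp] at hyg
        exact (mem_nrm_uMat t ht Y).1 hyg
      · rcases torus_case _ (mk2 Y) g hx' hx'2 hg hcg hxg hyg with h | h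
        · rw [mk2_sq_eq_one_iff] at h
          by_cases hc : Y.1 1 0 = 0
          · left; exact hc
          · right; left
            exact ⟨hc, by linear_combination h⟩
        · rw [← map_mul, mk2_sq_eq_one_iff, e00, e11] at h
          by_cases hc : Y.1 1 0 = 0
          · left; exact hc
          · right; right
            exact ⟨hc, by linear_combination h - t * Y.1 1 0 * h2⟩
    · rintro (hc | ⟨hc, hd⟩ | ⟨hc, hd⟩)
      · exact ⟨_, hx', Subgroup.le_normalizer ((DD F).mem_comp _), (mem_nrm_uMat t ht Y).2 hc⟩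
      · apply sq_case _ _ hx' hx'2
        rw [mk2_sq_eq_one_iff, hd]; ring
      · apply inv_case _ _ hx' hx'2
        rw [← map_mul, mk2_sq_eq_one_iff, e00, e11, hd]
        linear_combination t * Y.1 1 0 * h2
  rw [Nat.card_congr (Equiv.subtypeEquivRight key), card_or3]
  · rw [Cfsg.Agent.Lib.Helper19.DicksonUse.card_upper, card_T2, card_T2]
    ring
  · rintro Y h1 ⟨h2', -⟩; exact h2' h1
  · rintro Y h1 ⟨h2', -⟩; exact h2' h1
  · rintro Y ⟨hc, hd⟩ ⟨-, hd'⟩
    apply hc
    have : t * Y.1 1 0 = 0 := by linear_combination hd - hd'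
    exact (mul_eq_zero.mp this).resolve_left ht

/-- the solubilizer of a nontrivial element of a split torus -/
theorem sol_split (heven : Even (Fintype.card F)) (p : ℕ) (hp : p.Prime)
    (hF : Fintype.card F = 2 ^ p) (x : PSL2) (hx : x ≠ 1)
    (hord : orderOf x ∣ Fintype.card F - 1) :
    Nat.card {y : PSL2 // Group.IsSolvable (Subgroup.closure ({x, y} : Set PSL2))} =
      2 * (Fintype.card F * (Fintype.card F - 1)) := by
  obtain ⟨z, a, ha, ha1, hz⟩ := split_conj heven x hx hord
  have hodd : Odd (orderOf (mk2 (dg a ha))) := by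
    rw [← hz, orderOf_conj']
    exact odd_of_dvd_pred heven hord
  rw [← card_sol_conj z x, hz]
  have hx' : mk2 (dg a ha) ≠ 1 := dg_ne_one a ha ha1
  have hne : a - a⁻¹ ≠ 0 := by
    intro h
    apply ha1
    have : a = a⁻¹ := sub_eq_zero.mp h
    calc a ^ 2 = a * a := by ring
      _ = a * a⁻¹ := by rw [← this]
      _ = 1 := mul_inv_cancel₀ ha
  rw [card_transfer]
  have key : ∀ Y : SL2,
      Group.IsSolvable (Subgroup.closure ({mk2 (dg a ha), mk2 Y} : Set PSL2)) ↔
        (Y.1 1 0 = 0 ∨ (Y.1 1 0 ≠ 0 ∧ Y.1 0 1 = 0) ∨ (Y.1 0 0 = 0 ∧ Y.1 1 1 = 0)) := by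
    intro Y
    rw [solvable_iff heven p hp hF _ (mk2 Y) hx']
    constructor
    · rintro ⟨g, hg, hxg, hyg⟩
      rcases (DD F).dich g hg with hpg | hcg
      · obtain ⟨X, hX⟩ := nrm_unip_form g hg hpg
        have h1 := (hX (dg a ha)).1 hxg
        have h2 := (hX Y).1 hyg
        rw [(conj_entries X (dg a ha)).1] at h1
        rw [(conj_entries X Y).1] at h2
        simp only [dg_00, dg_01, dg_10, dg_11] at h1
        have hdX := det_eq X
        have h3 : X.1 1 0 * X.1 1 1 = 0 := by
          have : (X.1 1 0 * X.1 1 1) * (a - a⁻¹) = 0 := by linear_combination h1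
          exact (mul_eq_zero.mp this).resolve_right hne
        rcases mul_eq_zero.mp h3 with h | h
        · left
          rw [h] at h2 hdX
          have hd0 : X.1 1 1 ≠ 0 := by
            intro h0
            rw [h0] at hdX
            simp at hdX
          have : X.1 1 1 * X.1 1 1 * Y.1 1 0 = 0 := by linear_combination h2
          exact (mul_eq_zero.mp this).resolve_left (mul_ne_zero hd0 hd0)
        · rw [h] at h2 hdX
          have hc0 : X.1 1 0 ≠ 0 := by
            intro h0
            rw [h0] at hdX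
            simp at hdX
          have hb : Y.1 0 1 = 0 := by
            have : X.1 1 0 * X.1 1 0 * Y.1 0 1 = 0 := by linear_combination -h2
            exact (mul_eq_zero.mp this).resolve_left (mul_ne_zero hc0 hc0)
          by_cases hc : Y.1 1 0 = 0
          · left; exact hc
          · right; left; exact ⟨hc, hb⟩
      · have hxc := torus_mem_of_odd g hg hcg _ hxg hodd
        have hcomp : (DD F).comp (mk2 (dg a ha)) = (DD F).comp g :=
          (DD F).comp_eq g hg _ hxc hx'
        rw [← hcomp] at hyg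
        rcases (mem_nrm_dg a ha ha1 Y).1 hyg with ⟨-, h⟩ | h
        · left; exact h
        · right; right; exact h
    · rintro (hc | ⟨hc, hb⟩ | had)
      · have hne1 : mk2 (uMat (1 : F)) ≠ 1 := fun h =>
          Cfsg.Agent.Lib.Helper48.Dickson.uMat_not_center (1 : F) one_ne_zero
            ((mk2_eq_one_iff _).1 h)
        exact ⟨_, hne1, (mem_nrm_uMat 1 one_ne_zero _).2 (dg_10 a ha),
          (mem_nrm_uMat 1 one_ne_zero Y).2 hc⟩
      · exact ⟨_, lw_ne_one, mem_nrm_lw _ (dg_01 a ha), mem_nrm_lw Y hb⟩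
      · exact ⟨_, hx', Subgroup.le_normalizer ((DD F).mem_comp _),
          (mem_nrm_dg a ha ha1 Y).2 (Or.inr had)⟩
  rw [Nat.card_congr (Equiv.subtypeEquivRight key), card_or3]
  · rw [Cfsg.Agent.Lib.Helper19.DicksonUse.card_upper, card_lower_strict, card_anti]
    have hq : 0 < Fintype.card F := Fintype.card_pos
    obtain ⟨n, hn⟩ : ∃ n, Fintype.card F = n + 1 := ⟨Fintype.card F - 1, by omega⟩
    rw [hn]
    simp only [Nat.add_sub_cancel]
    ring
  · rintro Y h1 ⟨h2', -⟩; exact h2' h1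
  · rintro Y h1 ⟨h2', h3⟩
    have hd := det_eq Y
    rw [h1, h2', h3] at hd
    simp at hd
  · rintro Y ⟨-, hb⟩ ⟨h2', h3⟩
    have hd := det_eq Y
    rw [hb, h2', h3] at hd
    simp at hd

end Cfsg.Agent.Lib.Helper19.SolubEven
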