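import Cfsg.Agent.Lib.Helper49.StSUDefs

/-!
# K-StSU-M5 (keystone 254614, S2546, architect helper49): monomial matrices normalise `T`
-/

set_option autoImplicit false
set_option linter.unusedSectionVars false
set_option linter.unusedVariables false

namespace Cfsg.Agent.Lib.Helper19.StSU

open Cfsg Cfsg.Agent.Lib.Helper49.StSU

variable {n : ℕ} {F : Type*} [Field F] {q : ℕ}

/-- **LEAF M5 (254614).** -/
theorem conj_mem_T (g : GJ n F q) (σ : Equiv.Perm (Fin n)) (h : MonWith n F q g σ)
    (t : GJ n F q) (ht : t ∈ Tsub n F q) : g * t * g⁻¹ ∈ Tsub n F q := by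
  rw [mem_Tsub_iff] at ht ⊢
  intro a b hab
  have key : mat (g * t * g⁻¹) * mat g = mat g * mat t := by
    rw [← mat_mul, ← mat_mul]
    congr 1
    group
  have hc := congrFun (congrFun key a) (σ.symm b)
  rw [Matrix.mul_apply, Matrix.mul_apply] at hc
  have e1 : ∑ c, mat (g * t * g⁻¹) a c * mat g c (σ.symm b) =
      mat (g * t * g⁻¹) a b * mat g b (σ.symm b) := by
    refine Finset.sum_eq_single b (fun c _ hc' => ?_) (fun hb => absurd (Finset.mem_univ _) hb)
    have h0 : mat g c (σ.symm b) = 0 := by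
      by_contra h0
      exact hc' (by rw [(h.1 c (σ.symm b)).1 h0]; simp)
    rw [h0, mul_zero]
  have e2 : ∑ c, mat g a c * mat t c (σ.symm b) =
      mat g a (σ.symm b) * mat t (σ.symm b) (σ.symm b) := by
    refine Finset.sum_eq_single (σ.symm b) (fun c _ hc' => ?_)
      (fun hb => absurd (Finset.mem_univ _) hb)
    rw [ht c (σ.symm b) hc', mul_zero]
  rw [e1, e2] at hc
  have hn0 : mat g a (σ.symm b) = 0 := by
    by_contra h0
    exact hab (by rw [(h.1 a (σ.symm b)).1 h0]; simp)
  have hn1 : mat g b (σ.symm b) ≠ 0 := (h.1 b (σ.symm b)).2 (by simp)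
  rw [hn0, zero_mul] at hc
  exact (mul_eq_zero.1 hc).resolve_right hn1

end Cfsg.Agent.Lib.Helper19.StSU
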