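import Mathlib

/-!
A Hua-type lemma over finite fields of characteristic two: an additive bijection `g` with
`g 1 = 1` mapping every multiple `w K` of an index-two additive subgroup `K` into `g(w) K`
is multiplicative.
-/

set_option autoImplicit false

namespace Cfsg.Agent.Lib.Helper19.SzAut

variable {F : Type*} [Field F]

theorem add_self_of_two (h2 : (2 : F) = 0) (x : F) : x + x = 0 := by
  linear_combination x * h2

theorem eq_of_add_eq_zero_two (h2 : (2 : F) = 0) {x y : F} (h : x + y = 0) : x = y := by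
  linear_combination h - y * h2

/-- Hua's identity in characteristic two -/
theorem hua_identity (h2 : (2 : F) = 0) {A B : F} (hA : A ≠ 0) (hB : B ≠ 0)
    (hD : B⁻¹ + A ≠ 0) : A + (A⁻¹ + (B⁻¹ + A)⁻¹)⁻¹ = A ^ 2 * B := by
  have key : A⁻¹ + (B⁻¹ + A)⁻¹ = (A * (B⁻¹ + A) * B)⁻¹ := by
    apply eq_inv_of_mul_eq_one_left
    have e1 : (A⁻¹ + (B⁻¹ + A)⁻¹) * (A * (B⁻¹ + A) * B) =
        A⁻¹ * A * (B⁻¹ + A) * B + (B⁻¹ + A)⁻¹ * (B⁻¹ + A) * A * B := by ring
    rw [e1, inv_mul_cancel₀ hA, inv_mul_cancel₀ hD, one_mul, one_mul, add_mul,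
      inv_mul_cancel₀ hB]
    linear_combination (A * B) * h2
  rw [key, inv_inv]
  have : A * (B⁻¹ + A) * B = A + A ^ 2 * B := by
    field_simp
  rw [this]
  linear_combination A * h2

theorem sq_surjective [Finite F] (h2 : (2 : F) = 0) (c : F) : ∃ a : F, a ^ 2 = c := by
  have hinj : Function.Injective (fun a : F => a ^ 2) := by
    intro x y h
    have h' : x ^ 2 = y ^ 2 := h
    have : (x + y) ^ 2 = 0 := by linear_combination h' + (x * y + y ^ 2) * h2
    have h0 : x + y = 0 := by simpa using this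
    exact eq_of_add_eq_zero_two h2 h0
  exact Finite.surjective_of_injective hinj c

/-- the main lemma -/
theorem mul_of_hyperplane [Finite F] (h2 : (2 : F) = 0) (K : AddSubgroup F) (hK : K.index = 2)
    (g : F →+ F) (hg : Function.Bijective g) (hg1 : g 1 = 1)
    (hgK : ∀ w k, k ∈ K → ∃ k' ∈ K, g (w * k) = g w * k') :
    ∀ a b, g (a * b) = g a * g b := by
  have hg0 : ∀ {x : F}, x ≠ 0 → g x ≠ 0 := by
    intro x hx h
    apply hx
    apply hg.1
    rw [h, map_zero]
  have hKtop : ∃ y : F, y ∉ K := by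
    by_contra hno
    push Not at hno
    have : K = ⊤ := by
      ext y
      simp [hno y]
    rw [this, AddSubgroup.index_top] at hK
    omega
  -- Claim 1
  have claim1 : ∀ w : F, w ≠ 0 → ∀ x : F, (w⁻¹ * x ∈ K ↔ (g w)⁻¹ * g x ∈ K) := by
    intro w hw
    have hgw := hg0 hw
    have hfwd : ∀ x : F, w⁻¹ * x ∈ K → (g w)⁻¹ * g x ∈ K := by
      intro x hx
      obtain ⟨k', hk', hgk⟩ := hgK w _ hx
      rw [mul_inv_cancel_left₀ hw] at hgk
      rw [hgk, inv_mul_cancel_left₀ hgw]
      exact hk'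
    intro x
    refine ⟨hfwd x, ?_⟩
    intro hx
    by_contra hnx
    -- then `g` maps everything into `g w * K`
    have hall : ∀ y : F, (g w)⁻¹ * g y ∈ K := by
      intro y
      by_cases hy : w⁻¹ * y ∈ K
      · exact hfwd y hy
      · have hsum : w⁻¹ * (y + x) ∈ K := by
          rw [mul_add, AddSubgroup.add_mem_iff_of_index_two hK]
          exact ⟨fun h => absurd h hy, fun h => absurd h hnx⟩
        have := hfwd _ hsum
        rw [map_add, mul_add] at this
        exact (AddSubgroup.add_mem_cancel_right K hx).mp this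
    obtain ⟨y0, hy0⟩ := hKtop
    obtain ⟨z, hz⟩ := hg.2 (g w * y0)
    have := hall z
    rw [hz, inv_mul_cancel_left₀ hgw] at this
    exact hy0 this
  -- the dual map
  obtain ⟨γ, hγ⟩ : ∃ γ : F → F, ∀ w, γ w = (g w⁻¹)⁻¹ := ⟨fun w => (g w⁻¹)⁻¹, fun _ => rfl⟩
  have hγ0 : γ 0 = 0 := by rw [hγ, inv_zero, map_zero, inv_zero]
  have hγinv : ∀ u : F, g u⁻¹ = (γ u)⁻¹ := by
    intro u; rw [hγ, inv_inv]
  have hγinv' : ∀ v : F, γ v⁻¹ = (g v)⁻¹ := by
    intro v; rw [hγ, inv_inv]
  have claim1' : ∀ w : F, w ≠ 0 → ∀ x : F, (w * x ∈ K ↔ γ w * g x ∈ K) := by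
    intro w hw x
    have := claim1 w⁻¹ (inv_ne_zero hw) x
    rw [inv_inv] at this
    rw [this, hγ]
  -- Claim 2
  have claim2 : ∀ u v : F, (∀ y, u * y ∈ K ↔ v * y ∈ K) → u = v := by
    intro u v h
    apply eq_of_add_eq_zero_two h2
    by_contra hne
    obtain ⟨y0, hy0⟩ := hKtop
    have hmem : (u + v) * ((u + v)⁻¹ * y0) ∈ K := by
      rw [add_mul, AddSubgroup.add_mem_iff_of_index_two hK]
      exact h _
    rw [mul_inv_cancel_left₀ hne] at hmem
    exact hy0 hmem
  -- Claim 3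
  have claim3 : ∀ w w' : F, γ (w + w') = γ w + γ w' := by
    intro w w'
    by_cases hw : w = 0
    · rw [hw, zero_add, hγ0, zero_add]
    by_cases hw' : w' = 0
    · rw [hw', add_zero, hγ0, add_zero]
    by_cases hs : w + w' = 0
    · have : w = w' := eq_of_add_eq_zero_two h2 hs
      rw [hs, hγ0, this, add_self_of_two h2]
    apply claim2
    intro y
    obtain ⟨x, rfl⟩ := hg.2 y
    rw [← claim1' _ hs, add_mul, add_mul, AddSubgroup.add_mem_iff_of_index_two hK,
      AddSubgroup.add_mem_iff_of_index_two hK, claim1' _ hw, claim1' _ hw']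
  -- Hua
  have hua : ∀ a b : F, a ≠ 0 → b ≠ 0 → a * b ≠ 1 → g (a ^ 2 * b) = g a ^ 2 * γ b := by
    intro a b ha hb hab
    have hD : b⁻¹ + a ≠ 0 := by
      intro h
      apply hab
      have : a = b⁻¹ := (eq_of_add_eq_zero_two h2 h).symm
      rw [this, inv_mul_cancel₀ hb]
    have hγb : γ b ≠ 0 := by
      rw [hγ]
      exact inv_ne_zero (hg0 (inv_ne_zero hb))
    have hD' : (γ b)⁻¹ + g a ≠ 0 := by
      rw [← hγinv, ← map_add]
      exact hg0 hD
    rw [← hua_identity h2 ha hb hD, map_add, hγinv, claim3, hγinv', hγinv', map_add, hγinv,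
      hua_identity h2 (hg0 ha) hγb hD']
  have hγg : ∀ b : F, γ b = g b := by
    intro b
    by_cases hb : b = 0
    · rw [hb, hγ0, map_zero]
    by_cases hb1 : b = 1
    · rw [hb1, hγ, inv_one, hg1, inv_one]
    have := hua 1 b one_ne_zero hb (by rwa [one_mul])
    rw [one_pow, one_mul, hg1, one_pow, one_mul] at this
    exact this.symm
  have hmul2 : ∀ a b : F, g (a ^ 2 * b) = g a ^ 2 * g b := by
    intro a b
    by_cases ha : a = 0
    · rw [ha]; simp
    by_cases hb : b = 0
    · rw [hb]; simp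
    by_cases hab : a * b = 1
    · have hb' : b = a⁻¹ := eq_inv_of_mul_eq_one_right hab
      have e1 : a ^ 2 * b = a := by
        rw [hb', pow_two, mul_assoc, mul_inv_cancel₀ ha, mul_one]
      rw [e1, hb', hγinv, hγg, pow_two, mul_assoc, mul_inv_cancel₀ (hg0 ha), mul_one]
    · rw [hua a b ha hb hab, hγg]
  have hsq : ∀ a : F, g (a ^ 2) = g a ^ 2 := by
    intro a
    have := hmul2 a 1
    rwa [mul_one, hg1, mul_one] at this
  intro c b
  obtain ⟨a, rfl⟩ := sq_surjective h2 c
  rw [hmul2, hsq]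

end Cfsg.Agent.Lib.Helper19.SzAut
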