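import Mathlib
import Cfsg.Agent.Lib.Helper19.SzAutHua
import Cfsg.Agent.Lib.Helper09.SuzukiAut

/-!
Additive bijections `f, g` of the field with `2^(2m+1)` elements with
`g (a^σ a) = (f a)^σ (f a)` are of the form `f = c ψ`, `g = c^σ c ψ` for a field
endomorphism `ψ`.
-/

set_option autoImplicit false

namespace Cfsg.Agent.Lib.Helper19.SzAut

open Cfsg.Agent.Lib.Helper09

variable {F : Type*} [Field F] [Fintype F] {m : ℕ}

/-- the additive map `t ↦ t + t^σ` -/
noncomputable def trMap (hF : Fintype.card F = 2 ^ (2 * m + 1)) : F →+ F :=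
  AddMonoidHom.mk' (fun t => t + sg m t) (by
    intro a b
    show a + b + sg m (a + b) = a + sg m a + (b + sg m b)
    rw [sg_add hF]; ring)

theorem trMap_apply (hF : Fintype.card F = 2 ^ (2 * m + 1)) (t : F) :
    trMap hF t = t + sg m t := rfl

theorem sg_fixed (hF : Fintype.card F = 2 ^ (2 * m + 1)) {t : F} (h : sg m t = t) :
    t = 0 ∨ t = 1 := by
  have h1 : t ^ 2 = t := by
    rw [← sg_sg hF, h, h]
  have : t * (t - 1) = 0 := by linear_combination h1
  rcases mul_eq_zero.1 this with h0 | h0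
  · exact Or.inl h0
  · exact Or.inr (by linear_combination h0)

theorem card_ker_trMap (hF : Fintype.card F = 2 ^ (2 * m + 1)) :
    Nat.card (trMap (m := m) hF).ker = 2 := by
  have h2 := two_eq_zero' hF
  rw [Nat.card_eq_two_iff]
  have h0 : (0 : F) ∈ (trMap (m := m) hF).ker := zero_mem _
  have h1 : (1 : F) ∈ (trMap (m := m) hF).ker := by
    rw [AddMonoidHom.mem_ker, trMap_apply, sg_one]
    linear_combination h2
  refine ⟨⟨0, h0⟩, ⟨1, h1⟩, ?_, ?_⟩
  · intro h
    have := congrArg Subtype.val h
    exact zero_ne_one this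
  · ext x
    simp only [Set.mem_insert_iff, Set.mem_singleton_iff, Set.mem_univ, iff_true]
    have hx := x.2
    rw [AddMonoidHom.mem_ker, trMap_apply] at hx
    have hx' : sg m (x : F) = x := by linear_combination hx - (x : F) * h2
    rcases sg_fixed hF hx' with h | h
    · left; exact Subtype.ext h
    · right; exact Subtype.ext h

theorem index_range_trMap (hF : Fintype.card F = 2 ^ (2 * m + 1)) :
    (trMap (m := m) hF).range.index = 2 := by
  have h1 := AddSubgroup.card_mul_index (trMap (m := m) hF).ker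
  have h2 := AddSubgroup.card_mul_index (trMap (m := m) hF).range
  rw [AddSubgroup.index_ker, card_ker_trMap] at h1
  have hpos : 0 < Nat.card (trMap (m := m) hF).range := Nat.card_pos
  have : Nat.card (trMap (m := m) hF).range * (trMap (m := m) hF).range.index =
      Nat.card (trMap (m := m) hF).range * 2 := by
    rw [h2, ← h1, mul_comm]
  exact Nat.eq_of_mul_eq_mul_left hpos this

theorem qmap_injective (hF : Fintype.card F = 2 ^ (2 * m + 1)) :
    Function.Injective (fun a : F => sg m a * a) :=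
  Finite.injective_iff_surjective.2 (sgmul_surjective hF)

/-- the normalised statement -/
theorem field_main_one (hF : Fintype.card F = 2 ^ (2 * m + 1)) (f g : F →+ F)
    (hf : Function.Bijective f) (hg : Function.Bijective g)
    (hfg : ∀ a, g (sg m a * a) = sg m (f a) * f a) (hf1 : f 1 = 1) :
    ∃ ψ : F →+* F, ∀ a, f a = ψ a := by
  have h2 := two_eq_zero' hF
  have hg1 : g 1 = 1 := by
    have := hfg 1
    rwa [sg_one, one_mul, hf1, sg_one, one_mul] at this
  have hf0 : ∀ {x : F}, x ≠ 0 → f x ≠ 0 := by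
    intro x hx h
    apply hx
    apply hf.1
    rw [h, map_zero]
  -- polarisation
  have hpol : ∀ a c : F, g (sg m a * c + sg m c * a) = sg m (f a) * f c + sg m (f c) * f a := by
    intro a c
    have h1 := hfg (a + c)
    have e1 : sg m (a + c) * (a + c) = sg m a * a + sg m c * c + (sg m a * c + sg m c * a) := by
      rw [sg_add hF]; ring
    rw [e1, map_add, map_add, hfg, hfg, map_add f, sg_add hF] at h1
    linear_combination h1
  have hgK : ∀ w k, k ∈ (trMap (m := m) hF).range →
      ∃ k' ∈ (trMap (m := m) hF).range, g (w * k) = g w * k' := by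
    intro w k hk
    by_cases hw : w = 0
    · refine ⟨0, zero_mem _, ?_⟩
      rw [hw, zero_mul, map_zero, zero_mul]
    obtain ⟨a, ha⟩ := sgmul_surjective hF w
    have ha0 : a ≠ 0 := by
      intro h
      apply hw
      rw [← ha, h, mul_zero]
    obtain ⟨t, rfl⟩ := hk
    have hfa := hf0 ha0
    have hsfa : sg m (f a) ≠ 0 := fun h => hfa (sg_eq_zero.1 h)
    refine ⟨trMap hF (f (a * t) / f a), ⟨_, rfl⟩, ?_⟩
    have e1 : w * trMap hF t = sg m a * (a * t) + sg m (a * t) * a := by
      rw [trMap_apply, ← ha, sg_mul]; ring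
    rw [e1, hpol, ← ha, hfg, trMap_apply, sg_div]
    field_simp
  have hmul := mul_of_hyperplane h2 (trMap (m := m) hF).range (index_range_trMap hF) g hg hg1 hgK
  let ψ : F →+* F :=
    { toFun := g
      map_one' := hg1
      map_mul' := hmul
      map_zero' := map_zero g
      map_add' := map_add g }
  refine ⟨ψ, ?_⟩
  intro a
  apply qmap_injective hF
  show sg m (f a) * f a = sg m (ψ a) * ψ a
  rw [← hfg, ← map_sg ψ m a, ← map_mul]
  rfl

/-- the general statement -/
theorem field_main (hF : Fintype.card F = 2 ^ (2 * m + 1)) (f g : F →+ F)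
    (hf : Function.Bijective f) (hg : Function.Bijective g)
    (hfg : ∀ a, g (sg m a * a) = sg m (f a) * f a) :
    ∃ ψ : F →+* F, ∀ a, f a = f 1 * ψ a := by
  have hc : f 1 ≠ 0 := by
    intro h
    apply one_ne_zero (α := F)
    apply hf.1
    rw [h, map_zero]
  have hQc : sg m (f 1) * f 1 ≠ 0 := mul_ne_zero (fun h => hc (sg_eq_zero.1 h)) hc
  obtain ⟨f', hf'⟩ : ∃ f' : F →+ F, ∀ a, f' a = (f 1)⁻¹ * f a :=
    ⟨(AddMonoidHom.mulLeft (f 1)⁻¹).comp f, fun _ => rfl⟩
  obtain ⟨g', hg'⟩ : ∃ g' : F →+ F, ∀ a, g' a = (sg m (f 1) * f 1)⁻¹ * g a :=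
    ⟨(AddMonoidHom.mulLeft (sg m (f 1) * f 1)⁻¹).comp g, fun _ => rfl⟩
  have hf'b : Function.Bijective f' := by
    have hinj : Function.Injective f' := by
      intro x y h
      rw [hf', hf'] at h
      exact hf.1 (mul_left_cancel₀ (inv_ne_zero hc) h)
    exact ⟨hinj, Finite.surjective_of_injective hinj⟩
  have hg'b : Function.Bijective g' := by
    have hinj : Function.Injective g' := by
      intro x y h
      rw [hg', hg'] at h
      exact hg.1 (mul_left_cancel₀ (inv_ne_zero hQc) h)
    exact ⟨hinj, Finite.surjective_of_injective hinj⟩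
  obtain ⟨ψ, hψ⟩ := field_main_one hF f' g' hf'b hg'b (by
    intro a
    rw [hg', hf', hfg, sg_mul, sg_inv]
    field_simp) (by rw [hf', inv_mul_cancel₀ hc])
  refine ⟨ψ, ?_⟩
  intro a
  rw [← hψ, hf', mul_inv_cancel_left₀ hc]

end Cfsg.Agent.Lib.Helper19.SzAut
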