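import Mathlib
import Cfsg.Agent.Lib.Helper19.SzAutField

/-!
Automorphisms of the model `SuzU` of the Sylow 2-subgroup of `Sz(q)`: the induced maps on first
coordinates (the Frattini quotient) and on the centre.
-/

set_option autoImplicit false

namespace Cfsg.Agent.Lib.Helper19.SzAut

open Cfsg.Agent.Lib.Helper09

variable {F : Type*} [Field F] [Fintype F] {m : ℕ} {hF : Fintype.card F = 2 ^ (2 * m + 1)}

instance instFiniteSuzU : Finite (SuzU hF) := by
  unfold SuzU
  infer_instance

variable (hF) in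
/-- the element `(a, 0)` -/
def lft (a : F) : SuzU hF := SuzU.mk hF a 0

variable (hF) in
/-- the central element `(0, b)` -/
def cen (b : F) : SuzU hF := SuzU.mk hF 0 b

theorem lft_fst (a : F) : (lft hF a).1 = a := rfl
theorem lft_snd (a : F) : (lft hF a).2 = 0 := rfl
theorem cen_fst (b : F) : (cen hF b).1 = 0 := rfl
theorem cen_snd (b : F) : (cen hF b).2 = b := rfl

theorem sq_eq_cen (x : SuzU hF) : x * x = cen hF (sg m x.1 * x.1) := SuzU.sq_eq hF x

theorem fst_eq_zero_of_sq {x : SuzU hF} (hx : x * x = 1) : x.1 = 0 := by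
  rw [sq_eq_cen] at hx
  have h := congrArg Prod.snd hx
  have h' : sg m x.1 * x.1 = 0 := h
  rcases mul_eq_zero.1 h' with h0 | h0
  · exact sg_eq_zero.1 h0
  · exact h0

theorem sq_eq_one_of_fst {x : SuzU hF} (hx : x.1 = 0) : x * x = 1 := by
  rw [sq_eq_cen, hx, mul_zero]
  rfl

theorem map_fst_zero (α : SuzU hF ≃* SuzU hF) {x : SuzU hF} (hx : x.1 = 0) : (α x).1 = 0 := by
  apply fst_eq_zero_of_sq
  rw [← map_mul, sq_eq_one_of_fst hx, map_one]

theorem decomp (x : SuzU hF) : x = lft hF x.1 * cen hF x.2 := by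
  apply SuzU.ext
  · rw [SuzU.mul_fst, lft_fst, cen_fst, add_zero]
  · rw [SuzU.mul_snd, lft_snd, cen_snd, cen_fst, mul_zero, add_zero, zero_add]

theorem fst_map_eq (α : SuzU hF ≃* SuzU hF) (x : SuzU hF) : (α x).1 = (α (lft hF x.1)).1 := by
  conv_lhs => rw [decomp x]
  rw [map_mul, SuzU.mul_fst, map_fst_zero α (cen_fst x.2), add_zero]

/-- the additive map induced on first coordinates -/
noncomputable def fstMap (α : SuzU hF ≃* SuzU hF) : F →+ F :=
  AddMonoidHom.mk' (fun a => (α (lft hF a)).1) (by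
    intro a c
    show (α (lft hF (a + c))).1 = (α (lft hF a)).1 + (α (lft hF c)).1
    have h1 : (lft hF a * lft hF c).1 = a + c := by
      rw [SuzU.mul_fst, lft_fst, lft_fst]
    rw [← SuzU.mul_fst, ← map_mul, fst_map_eq α (lft hF a * lft hF c), h1])

theorem fstMap_apply (α : SuzU hF ≃* SuzU hF) (a : F) : fstMap α a = (α (lft hF a)).1 := rfl

theorem fst_map (α : SuzU hF ≃* SuzU hF) (x : SuzU hF) : (α x).1 = fstMap α x.1 := by
  rw [fstMap_apply]
  exact fst_map_eq α x

theorem fstMap_comp (α β : SuzU hF ≃* SuzU hF) (a : F) :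
    fstMap (β.trans α) a = fstMap α (fstMap β a) := by
  rw [fstMap_apply, MulEquiv.trans_apply, fst_map, ← fstMap_apply]

theorem fstMap_refl (a : F) : fstMap (MulEquiv.refl (SuzU hF)) a = a := by
  rw [fstMap_apply, MulEquiv.refl_apply, lft_fst]

theorem fstMap_symm_left (α : SuzU hF ≃* SuzU hF) (a : F) : fstMap α.symm (fstMap α a) = a := by
  rw [← fstMap_comp, MulEquiv.self_trans_symm, fstMap_refl]

theorem fstMap_symm_right (α : SuzU hF ≃* SuzU hF) (a : F) : fstMap α (fstMap α.symm a) = a := by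
  rw [← fstMap_comp, MulEquiv.symm_trans_self, fstMap_refl]

theorem fstMap_bijective (α : SuzU hF ≃* SuzU hF) : Function.Bijective (fstMap α) :=
  ⟨Function.LeftInverse.injective (fstMap_symm_left α),
    Function.RightInverse.surjective (fstMap_symm_right α)⟩

/-- the additive map induced on the centre -/
noncomputable def sndMap (α : SuzU hF ≃* SuzU hF) : F →+ F :=
  AddMonoidHom.mk' (fun b => (α (cen hF b)).2) (by
    intro b d
    show (α (cen hF (b + d))).2 = (α (cen hF b)).2 + (α (cen hF d)).2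
    have h1 : cen hF (b + d) = cen hF b * cen hF d := by
      apply SuzU.ext
      · rw [SuzU.mul_fst, cen_fst, cen_fst, cen_fst, add_zero]
      · rw [SuzU.mul_snd, cen_snd, cen_snd, cen_snd, cen_fst, cen_fst, mul_zero, add_zero]
    rw [h1, map_mul, SuzU.mul_snd, map_fst_zero α (cen_fst d), mul_zero, add_zero])

theorem sndMap_apply (α : SuzU hF ≃* SuzU hF) (b : F) : sndMap α b = (α (cen hF b)).2 := rfl

theorem map_cen (α : SuzU hF ≃* SuzU hF) (b : F) : α (cen hF b) = cen hF (sndMap α b) := by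
  apply SuzU.ext
  · rw [cen_fst, map_fst_zero α (cen_fst b)]
  · rw [cen_snd, sndMap_apply]

theorem sndMap_comp (α β : SuzU hF ≃* SuzU hF) (b : F) :
    sndMap (β.trans α) b = sndMap α (sndMap β b) := by
  rw [sndMap_apply, MulEquiv.trans_apply, map_cen β, ← sndMap_apply]

theorem sndMap_refl (b : F) : sndMap (MulEquiv.refl (SuzU hF)) b = b := by
  rw [sndMap_apply, MulEquiv.refl_apply, cen_snd]

theorem sndMap_symm_left (α : SuzU hF ≃* SuzU hF) (b : F) : sndMap α.symm (sndMap α b) = b := by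
  rw [← sndMap_comp, MulEquiv.self_trans_symm, sndMap_refl]

theorem sndMap_symm_right (α : SuzU hF ≃* SuzU hF) (b : F) : sndMap α (sndMap α.symm b) = b := by
  rw [← sndMap_comp, MulEquiv.symm_trans_self, sndMap_refl]

theorem sndMap_bijective (α : SuzU hF ≃* SuzU hF) : Function.Bijective (sndMap α) :=
  ⟨Function.LeftInverse.injective (sndMap_symm_left α),
    Function.RightInverse.surjective (sndMap_symm_right α)⟩

theorem sndMap_norm (α : SuzU hF ≃* SuzU hF) (a : F) :
    sndMap α (sg m a * a) = sg m (fstMap α a) * fstMap α a := by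
  have h1 : cen hF (sg m a * a) = lft hF a * lft hF a := by
    rw [sq_eq_cen, lft_fst]
  rw [sndMap_apply, h1, map_mul, sq_eq_cen, cen_snd, fstMap_apply]

/-- the first-coordinate map of an automorphism is a ring endomorphism up to a scalar -/
theorem exists_ringHom_fstMap (α : SuzU hF ≃* SuzU hF) :
    ∃ ψ : F →+* F, ∀ a, fstMap α a = fstMap α 1 * ψ a :=
  field_main hF (fstMap α) (sndMap α) (fstMap_bijective α) (sndMap_bijective α) (sndMap_norm α)

theorem fstMap_one_ne_zero (α : SuzU hF ≃* SuzU hF) : fstMap α 1 ≠ 0 := by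
  intro h
  apply one_ne_zero (α := F)
  apply (fstMap_bijective α).1
  rw [h, map_zero]

/-! ### The automorphisms `(a, b) ↦ (c ψ a, c^σ c ψ b)` -/

variable (hF) in
/-- the underlying function -/
def autFun (c : F) (ψ : F →+* F) (x : SuzU hF) : SuzU hF :=
  SuzU.mk hF (c * ψ x.1) (sg m c * c * ψ x.2)

theorem autFun_fst (c : F) (ψ : F →+* F) (x : SuzU hF) : (autFun hF c ψ x).1 = c * ψ x.1 := rfl
theorem autFun_snd (c : F) (ψ : F →+* F) (x : SuzU hF) :
    (autFun hF c ψ x).2 = sg m c * c * ψ x.2 := rfl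

theorem autFun_mul (c : F) (ψ : F →+* F) (x y : SuzU hF) :
    autFun hF c ψ (x * y) = autFun hF c ψ x * autFun hF c ψ y := by
  apply SuzU.ext
  · rw [SuzU.mul_fst, autFun_fst, autFun_fst, autFun_fst, SuzU.mul_fst, map_add]; ring
  · rw [SuzU.mul_snd, autFun_snd, autFun_snd, autFun_snd, autFun_fst, autFun_fst, SuzU.mul_snd,
      map_add, map_add, map_mul, map_sg, sg_mul]
    ring

theorem autFun_injective (c : F) (hc : c ≠ 0) (ψ : F →+* F) :
    Function.Injective (autFun hF c ψ) := by
  intro x y h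
  have hsc : sg m c ≠ 0 := fun h0 => hc (sg_eq_zero.1 h0)
  have h1 := congrArg Prod.fst h
  have h2 := congrArg Prod.snd h
  have h1' : c * ψ x.1 = c * ψ y.1 := h1
  have h2' : sg m c * c * ψ x.2 = sg m c * c * ψ y.2 := h2
  apply SuzU.ext
  · exact ψ.injective (mul_left_cancel₀ hc h1')
  · exact ψ.injective (mul_left_cancel₀ (mul_ne_zero hsc hc) h2')

variable (hF) in
/-- the automorphism attached to a unit and a ring endomorphism -/
noncomputable def autOf (c : Fˣ) (ψ : F →+* F) : SuzU hF ≃* SuzU hF :=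
  MulEquiv.ofBijective (MonoidHom.mk' (autFun hF (c : F) ψ) (autFun_mul (c : F) ψ))
    ⟨autFun_injective (c : F) c.ne_zero ψ,
      Finite.surjective_of_injective (autFun_injective (c : F) c.ne_zero ψ)⟩

theorem autOf_apply (c : Fˣ) (ψ : F →+* F) (x : SuzU hF) :
    autOf hF c ψ x = autFun hF (c : F) ψ x := rfl

theorem fstMap_autOf (c : Fˣ) (ψ : F →+* F) (a : F) :
    fstMap (autOf hF c ψ) a = (c : F) * ψ a := by
  rw [fstMap_apply, autOf_apply, autFun_fst, lft_fst]

end Cfsg.Agent.Lib.Helper19.SzAut
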