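import Mathlib
import Cfsg.Agent.Lib.Helper19.SzAutBasic
import Cfsg.Agent.Lib.Helper72.U3qAutKer
import Cfsg.Prelude.Def_Transfer

/-!
The automorphisms of the model `SuzU` acting trivially on first coordinates: an elementary
abelian 2-group of order `2 ^ ((2m+1)^2)`.
-/

set_option autoImplicit false

namespace Cfsg.Agent.Lib.Helper19.SzAut

open Cfsg.Agent.Lib.Helper09

variable {F : Type*} [Field F] [Fintype F] {m : ℕ} {hF : Fintype.card F = 2 ^ (2 * m + 1)}

variable (hF) in
/-- shear by an additive map -/
def shearFun (d : F →+ F) (x : SuzU hF) : SuzU hF := SuzU.mk hF x.1 (x.2 + d x.1)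

theorem shearFun_fst (d : F →+ F) (x : SuzU hF) : (shearFun hF d x).1 = x.1 := rfl
theorem shearFun_snd (d : F →+ F) (x : SuzU hF) : (shearFun hF d x).2 = x.2 + d x.1 := rfl

theorem shearFun_mul (d : F →+ F) (x y : SuzU hF) :
    shearFun hF d (x * y) = shearFun hF d x * shearFun hF d y := by
  apply SuzU.ext
  · rw [SuzU.mul_fst, shearFun_fst, shearFun_fst, shearFun_fst, SuzU.mul_fst]
  · rw [SuzU.mul_snd, shearFun_snd, shearFun_snd, shearFun_snd, shearFun_fst, shearFun_fst,
      SuzU.mul_snd, SuzU.mul_fst, map_add]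
    ring

theorem shearFun_shearFun (d e : F →+ F) (x : SuzU hF) :
    shearFun hF d (shearFun hF e x) = shearFun hF (d + e) x := by
  apply SuzU.ext
  · rfl
  · rw [shearFun_snd, shearFun_snd, shearFun_fst, shearFun_snd, AddMonoidHom.add_apply]
    ring

theorem shearFun_zero (x : SuzU hF) : shearFun hF (0 : F →+ F) x = x := by
  apply SuzU.ext
  · rfl
  · rw [shearFun_snd, AddMonoidHom.zero_apply, add_zero]

include hF in
theorem add_self_hom (d : F →+ F) : d + d = 0 := by
  ext a
  rw [AddMonoidHom.add_apply, AddMonoidHom.zero_apply]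
  exact add_self_of_two (two_eq_zero' hF) _

variable (hF) in
/-- the shear automorphism -/
def shear (d : F →+ F) : SuzU hF ≃* SuzU hF where
  toFun := shearFun hF d
  invFun := shearFun hF d
  left_inv x := by rw [shearFun_shearFun, add_self_hom (hF := hF), shearFun_zero]
  right_inv x := by rw [shearFun_shearFun, add_self_hom (hF := hF), shearFun_zero]
  map_mul' := shearFun_mul d

theorem shear_apply (d : F →+ F) (x : SuzU hF) : shear hF d x = shearFun hF d x := rfl

variable (hF) in
/-- shears form a homomorphic image of the additive group of maps -/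
def shearHom : Multiplicative (F →+ F) →* MulAut (SuzU hF) where
  toFun d := shear hF (Multiplicative.toAdd d)
  map_one' := by
    apply MulEquiv.ext
    intro x
    rw [shear_apply]
    exact shearFun_zero x
  map_mul' d e := by
    apply MulEquiv.ext
    intro x
    rw [MulAut.mul_apply, shear_apply, shear_apply, shear_apply, shearFun_shearFun]
    rfl

theorem shearHom_apply (d : Multiplicative (F →+ F)) (x : SuzU hF) :
    shearHom hF d x = shearFun hF (Multiplicative.toAdd d) x := rfl

theorem shearHom_injective : Function.Injective (shearHom hF) := by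
  intro d e h
  apply Multiplicative.toAdd.injective
  ext a
  have h1 := congrArg (fun α : MulAut (SuzU hF) => (α (lft hF a)).2) h
  simp only [shearHom_apply, shearFun_snd, lft_fst, lft_snd, zero_add] at h1
  exact h1

variable (hF) in
/-- the automorphisms inducing the identity on first coordinates -/
def Kc : Subgroup (MulAut (SuzU hF)) where
  carrier := {α | ∀ a, fstMap α a = a}
  one_mem' := fun a => fstMap_refl a
  mul_mem' := by
    intro α β hα hβ a
    have : α * β = β.trans α := rfl
    rw [this, fstMap_comp, hβ, hα]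
  inv_mem' := by
    intro α hα a
    have h1 : α⁻¹ = α.symm := rfl
    have h2 := fstMap_symm_left α a
    rw [hα a] at h2
    rw [h1, h2]

theorem mem_Kc {α : MulAut (SuzU hF)} : α ∈ Kc hF ↔ ∀ a, fstMap α a = a := Iff.rfl

theorem fstMap_mul (α β : MulAut (SuzU hF)) (a : F) :
    fstMap (α * β) a = fstMap α (fstMap β a) := by
  have : α * β = β.trans α := rfl
  rw [this, fstMap_comp]

theorem fstMap_one (a : F) : fstMap (1 : MulAut (SuzU hF)) a = a := fstMap_refl a

theorem fstMap_inv_left (α : MulAut (SuzU hF)) (a : F) : fstMap α⁻¹ (fstMap α a) = a :=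
  fstMap_symm_left α a

theorem fstMap_inv_right (α : MulAut (SuzU hF)) (a : F) : fstMap α (fstMap α⁻¹ a) = a :=
  fstMap_symm_right α a

theorem Kc_normal : (Kc hF).Normal := by
  constructor
  intro α hα β a
  rw [fstMap_mul, fstMap_mul, hα, fstMap_inv_right]

/-- members of `Kc` fix the centre pointwise -/
theorem Kc_fix_cen {α : MulAut (SuzU hF)} (hα : α ∈ Kc hF) (b : F) :
    α (cen hF b) = cen hF b := by
  obtain ⟨a, ha⟩ := sgmul_surjective hF b
  rw [map_cen]
  congr 1
  rw [← ha, sndMap_norm, hα a]

/-- the additive map attached to a member of `Kc` -/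
noncomputable def dMap (α : MulAut (SuzU hF)) (hα : α ∈ Kc hF) : F →+ F :=
  AddMonoidHom.mk' (fun a => (α (lft hF a)).2) (by
    intro a c
    show (α (lft hF (a + c))).2 = (α (lft hF a)).2 + (α (lft hF c)).2
    have h1 : lft hF a * lft hF c = lft hF (a + c) * cen hF (sg m a * c) := by
      apply SuzU.ext
      · rw [SuzU.mul_fst, SuzU.mul_fst, lft_fst, lft_fst, lft_fst, cen_fst, add_zero]
      · rw [SuzU.mul_snd, SuzU.mul_snd, lft_snd, lft_snd, lft_snd, lft_fst, lft_fst, cen_snd,
          cen_fst, mul_zero]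
        ring
    have h2 := congrArg (fun x : SuzU hF => (α x).2) h1
    simp only [map_mul, Kc_fix_cen hα, SuzU.mul_snd, cen_snd, cen_fst, mul_zero, add_zero] at h2
    rw [fst_map, fst_map, hα, hα, lft_fst, lft_fst] at h2
    exact (add_right_cancel h2).symm)

theorem dMap_apply (α : MulAut (SuzU hF)) (hα : α ∈ Kc hF) (a : F) :
    dMap α hα a = (α (lft hF a)).2 := rfl

theorem shearHom_dMap (α : MulAut (SuzU hF)) (hα : α ∈ Kc hF) :
    shearHom hF (Multiplicative.ofAdd (dMap α hα)) = α := by
  apply MulEquiv.ext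
  intro x
  rw [shearHom_apply, toAdd_ofAdd]
  apply SuzU.ext
  · rw [shearFun_fst, fst_map, hα]
  · rw [shearFun_snd, dMap_apply]
    conv_rhs => rw [decomp x]
    rw [map_mul, Kc_fix_cen hα, SuzU.mul_snd, cen_snd, cen_fst, mul_zero, add_zero, add_comm]

theorem shearHom_mem_Kc (d : Multiplicative (F →+ F)) : shearHom hF d ∈ Kc hF := by
  intro a
  rw [fstMap_apply, shearHom_apply, shearFun_fst, lft_fst]

theorem range_shearHom : (shearHom hF).range = Kc hF := by
  apply le_antisymm
  · rintro _ ⟨d, rfl⟩
    exact shearHom_mem_Kc d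
  · intro α hα
    exact ⟨_, shearHom_dMap α hα⟩

theorem card_Kc : Nat.card (Kc hF) = 2 ^ ((2 * m + 1) ^ 2) := by
  rw [← range_shearHom]
  have h1 : Nat.card (shearHom hF).range = Nat.card (Multiplicative (F →+ F)) :=
    (Nat.card_congr (MonoidHom.ofInjective (shearHom_injective (hF := hF))).toEquiv).symm
  rw [h1]
  have h2 : Nat.card (Multiplicative (F →+ F)) = Nat.card (F →+ F) :=
    Nat.card_congr Multiplicative.toAdd
  rw [h2]
  have hFc : Nat.card F = 2 ^ (2 * m + 1) := by
    rw [Nat.card_eq_fintype_card, hF]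
  have h3 := Cfsg.Agent.Lib.Helper72.U3q.card_addMonoidHom_two (M := F) (N := F)
    (fun x => by rw [two_nsmul]; exact add_self_of_two (two_eq_zero' hF) x)
    (fun x => by rw [two_nsmul]; exact add_self_of_two (two_eq_zero' hF) x) hFc hFc
  rw [h3, sq]

theorem Kc_elementary : Cfsg.IsElementaryAbelian 2 (Kc hF) := by
  constructor
  · constructor
    constructor
    rintro ⟨α, hα⟩ ⟨β, hβ⟩
    apply Subtype.ext
    show α * β = β * α
    have hc : (Multiplicative.ofAdd (dMap α hα)) * (Multiplicative.ofAdd (dMap β hβ)) =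
        (Multiplicative.ofAdd (dMap β hβ)) * (Multiplicative.ofAdd (dMap α hα)) := mul_comm _ _
    have := congrArg (shearHom hF) hc
    rw [map_mul, map_mul, shearHom_dMap, shearHom_dMap] at this
    exact this
  · intro α hα
    rw [← shearHom_dMap α hα, ← map_pow]
    have : (Multiplicative.ofAdd (dMap α hα)) ^ 2 = 1 := by
      rw [← ofAdd_nsmul, two_nsmul, add_self_hom (hF := hF)]
      rfl
    rw [this, map_one]

end Cfsg.Agent.Lib.Helper19.SzAut
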