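import Mathlib
import Cfsg.Agent.Lib.Helper19.SzAutKer
import Cfsg.Agent.Lib.Helper72.U3qAutMain
import Cfsg.Agent.Lib.Helper09.SuzukiLie
import Cfsg.Agent.Lib.Helper01.PCore

/-!
The automorphism group of the model `SuzU` (a Sylow 2-subgroup of `Sz(q)`): its order and its
largest normal 2-subgroup; every Sylow 2-subgroup of the matrix Suzuki group is isomorphic to
the model.
-/

set_option autoImplicit false

namespace Cfsg.Agent.Lib.Helper19.SzAut

open Cfsg.Agent.Lib.Helper09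

variable {F : Type*} [Field F] [Fintype F] {m : ℕ} {hF : Fintype.card F = 2 ^ (2 * m + 1)}

variable (hF) in
/-- the permutation of `F` induced on first coordinates -/
noncomputable def fstPerm : MulAut (SuzU hF) →* Equiv.Perm F where
  toFun α := ⟨fstMap α, fstMap α⁻¹, fstMap_inv_left α, fstMap_inv_right α⟩
  map_one' := Equiv.ext (fun a => fstMap_one (hF := hF) a)
  map_mul' α β := Equiv.ext (fun a => fstMap_mul α β a)

theorem fstPerm_apply (α : MulAut (SuzU hF)) (a : F) : fstPerm hF α a = fstMap α a := rfl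

theorem ker_fstPerm : (fstPerm hF).ker = Kc hF := by
  ext α
  rw [MonoidHom.mem_ker, mem_Kc]
  constructor
  · intro h a
    have := congrArg (fun e : Equiv.Perm F => e a) h
    simpa [fstPerm_apply] using this
  · intro h
    apply Equiv.ext
    intro a
    exact h a

theorem exists_autOf (α : MulAut (SuzU hF)) :
    ∃ (c : Fˣ) (ψ : F →+* F), fstPerm hF (autOf hF c ψ) = fstPerm hF α := by
  obtain ⟨ψ, hψ⟩ := exists_ringHom_fstMap α
  refine ⟨Units.mk0 (fstMap α 1) (fstMap_one_ne_zero α), ψ, ?_⟩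
  apply Equiv.ext
  intro a
  rw [fstPerm_apply, fstPerm_apply, fstMap_autOf, Units.val_mk0, ← hψ]

variable (hF) in
/-- parametrization of the image -/
noncomputable def rangeEquiv : Fˣ × (F →+* F) ≃ (fstPerm hF).range :=
  Equiv.ofBijective (fun p => ⟨fstPerm hF (autOf hF p.1 p.2), ⟨_, rfl⟩⟩) (by
    constructor
    · rintro ⟨c, σ⟩ ⟨c', σ'⟩ h
      have h1 : fstPerm hF (autOf hF c σ) = fstPerm hF (autOf hF c' σ') := congrArg Subtype.val h
      have h2 : ∀ a, (c : F) * σ a = (c' : F) * σ' a := by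
        intro a
        have := congrArg (fun e : Equiv.Perm F => e a) h1
        simpa [fstPerm_apply, fstMap_autOf] using this
      have hc : c = c' := by
        apply Units.ext
        have := h2 1
        rwa [map_one, map_one, mul_one, mul_one] at this
      subst hc
      have hσ : σ = σ' := by
        apply RingHom.ext
        intro a
        exact mul_left_cancel₀ c.ne_zero (h2 a)
      rw [hσ]
    · rintro ⟨_, α, rfl⟩
      obtain ⟨c, σ, h⟩ := exists_autOf α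
      exact ⟨(c, σ), Subtype.ext h⟩)

theorem card_range : Nat.card (fstPerm hF).range = (2 ^ (2 * m + 1) - 1) * (2 * m + 1) := by
  rw [← Nat.card_congr (rangeEquiv hF), Nat.card_prod, Nat.card_units,
    Nat.card_eq_fintype_card, hF]
  congr 1
  exact Cfsg.Agent.Lib.Helper72.U3q.card_ringHom_of_card (2 * m + 1) hF (by omega)

theorem card_aut : Nat.card (MulAut (SuzU hF)) =
    2 ^ ((2 * m + 1) ^ 2) * ((2 * m + 1) * (2 ^ (2 * m + 1) - 1)) := by
  have h1 := Subgroup.card_eq_card_quotient_mul_card_subgroup (fstPerm hF).ker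
  have h2 : Nat.card (MulAut (SuzU hF) ⧸ (fstPerm hF).ker) = Nat.card (fstPerm hF).range :=
    Nat.card_congr (QuotientGroup.quotientKerEquivRange (fstPerm hF)).toEquiv
  rw [h2, card_range, ker_fstPerm, card_Kc] at h1
  rw [h1]
  ring

theorem pCore_eq_Kc : Cfsg.pCore 2 (MulAut (SuzU hF)) = Kc hF := by
  have hle : Kc hF ≤ Cfsg.pCore 2 (MulAut (SuzU hF)) :=
    Cfsg.Agent.Lib.Helper01.le_pCore Kc_normal (IsPGroup.of_card card_Kc)
  have hfin : Finite (MulAut (SuzU hF)) := by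
    apply Nat.finite_of_card_ne_zero
    rw [card_aut]
    have h0 : 1 < 2 ^ (2 * m + 1) := Nat.one_lt_two_pow (by omega)
    have h1 : 0 < 2 ^ (2 * m + 1) - 1 := by
      generalize 2 ^ (2 * m + 1) = q at h0
      omega
    positivity
  have hP : IsPGroup 2 (Cfsg.pCore 2 (MulAut (SuzU hF))) :=
    Cfsg.Agent.Lib.Helper01.pCore_isPGroup 2
  have : Fact (Nat.Prime 2) := ⟨Nat.prime_two⟩
  obtain ⟨k, hk⟩ := IsPGroup.iff_card.mp hP
  have hdvd : 2 ^ k ∣ 2 ^ ((2 * m + 1) ^ 2) * ((2 * m + 1) * (2 ^ (2 * m + 1) - 1)) := by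
    rw [← hk, ← card_aut (hF := hF)]
    exact Subgroup.card_subgroup_dvd_card _
  have hodd : Nat.Coprime (2 ^ k) ((2 * m + 1) * (2 ^ (2 * m + 1) - 1)) := by
    apply Nat.Coprime.pow_left
    rw [Nat.coprime_two_left]
    apply Odd.mul (by exact ⟨m, rfl⟩)
    have hpos : 1 ≤ 2 ^ (2 * m + 1) := Nat.one_le_two_pow
    have he : Even (2 ^ (2 * m + 1)) := (Nat.even_pow' (by omega)).mpr even_two
    exact Nat.Even.sub_odd hpos he odd_one
  have hdvd' : 2 ^ k ∣ 2 ^ ((2 * m + 1) ^ 2) := hodd.dvd_of_dvd_mul_right hdvd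
  have hcard : Nat.card (Cfsg.pCore 2 (MulAut (SuzU hF))) ≤ Nat.card (Kc hF) := by
    rw [hk, card_Kc]
    exact Nat.le_of_dvd (by positivity) hdvd'
  symm
  apply Subgroup.eq_of_le_of_card_ge hle hcard

/-- the automorphism group of the model -/
theorem aut_main :
    Cfsg.IsElementaryAbelian 2 (Cfsg.pCore 2 (MulAut (SuzU hF))) ∧
      Nat.card ↥(Cfsg.pCore 2 (MulAut (SuzU hF))) = 2 ^ ((2 * m + 1) ^ 2) ∧
      Nat.card (MulAut (SuzU hF)) =
        2 ^ ((2 * m + 1) ^ 2) * ((2 * m + 1) * (2 ^ (2 * m + 1) - 1)) := by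
  rw [pCore_eq_Kc]
  exact ⟨Kc_elementary, card_Kc, card_aut⟩

/-- every Sylow 2-subgroup of the matrix Suzuki group is isomorphic to the model -/
theorem sylow_lie_equiv_model (hm : 1 ≤ m) (hF : Fintype.card F = 2 ^ (2 * m + 1))
    (P : Sylow 2 ↥(Cfsg.Lie.Sz F (2 ^ (m + 1)))) :
    Nonempty (SuzU hF ≃* ↥(P : Subgroup ↥(Cfsg.Lie.Sz F (2 ^ (m + 1))))) := by
  have : Fact (Nat.Prime 2) := ⟨Nat.prime_two⟩
  have e := lieEquiv hm hF
  have : Finite ↥(Cfsg.Sz F m) := inferInstance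
  have : Finite ↥(Cfsg.Lie.Sz F (2 ^ (m + 1))) := Finite.of_equiv _ e.toEquiv
  -- the image of the unipotent subgroup
  let Q : Subgroup ↥(Cfsg.Lie.Sz F (2 ^ (m + 1))) :=
    (tauHom (m := m) hF).range.map (e : ↥(Cfsg.Sz F m) →* ↥(Cfsg.Lie.Sz F (2 ^ (m + 1))))
  have e1 : SuzU hF ≃* ↥(tauHom (m := m) hF).range := MonoidHom.ofInjective (tauHom_injective hF)
  have e2 : ↥(tauHom (m := m) hF).range ≃* ↥Q := e.subgroupMap _
  have hcard : Nat.card Q = 2 ^ (Nat.card ↥(Cfsg.Lie.Sz F (2 ^ (m + 1)))).factorization 2 := by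
    rw [← Nat.card_congr (e1.trans e2).toEquiv, SuzU.card hF, ← Nat.card_congr e.toEquiv,
      factorization_card_sz hm hF, ← pow_mul]
    ring_nf
  let Q' : Sylow 2 ↥(Cfsg.Lie.Sz F (2 ^ (m + 1))) := Sylow.ofCard Q hcard
  have e3 : ↥Q ≃* ↥(Q' : Subgroup ↥(Cfsg.Lie.Sz F (2 ^ (m + 1)))) := MulEquiv.refl _
  have e4 : ↥(Q' : Subgroup ↥(Cfsg.Lie.Sz F (2 ^ (m + 1)))) ≃*
      ↥(P : Subgroup ↥(Cfsg.Lie.Sz F (2 ^ (m + 1)))) := Sylow.equiv Q' P
  exact ⟨((e1.trans e2).trans e3).trans e4⟩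

end Cfsg.Agent.Lib.Helper19.SzAut
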