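import Cfsg.Agent.Lib.Helper09.SuzukiSubgroupThm
import Cfsg.Agent.Lib.Helper09.SuzukiLie
import Cfsg.Agent.S2241
import Cfsg.Agent.Lib.Helper19.Solub

/-!
# Solubilizers in the Suzuki groups, part A

Characterisation of the solvable two-generated subgroups of `Sz(q)` (`2m+1` prime) and the
solubilizers of the elements of odd order.
-/

set_option autoImplicit false

namespace Cfsg.Agent.Lib.Helper19.SzSol

open Cfsg.Agent.Lib.Helper09
open Cfsg.Agent.Lib.Helper19.Solub (solvable_of_le closure_pair_le mem_closure_left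
  mem_closure_right card_sol_conj)

section general

variable {G : Type*} [Group G]

theorem solvable_map_conj (H : Subgroup G) (g : G) (h : Group.IsSolvable ↥H) :
    Group.IsSolvable ↥(H.map (MulAut.conj g).toMonoidHom) :=
  Group.isSolvable_of_surjective (f := ((MulAut.conj g).subgroupMap H).toMonoidHom)
    ((MulAut.conj g).subgroupMap H).surjective

theorem solvable_normalizer [Finite G] {A : Subgroup G} (hA : TorusLike A) :
    Group.IsSolvable ↥(Subgroup.normalizer (A : Set G)) := by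
  have : Fact (Nat.Prime 2) := ⟨Nat.prime_two⟩
  set N := Subgroup.normalizer (A : Set G) with hN
  have hn : (A.subgroupOf N).Normal := Subgroup.normal_in_normalizer
  have hcomm : ∀ a b : ↥(A.subgroupOf N), a * b = b * a := by
    intro a b
    apply Subtype.ext
    apply Subtype.ext
    have ha : ((a : ↥N) : G) ∈ A := Subgroup.mem_subgroupOf.1 a.2
    have hb : ((b : ↥N) : G) ∈ A := Subgroup.mem_subgroupOf.1 b.2
    exact hA.comm _ ha _ hb
  have hs1 : Group.IsSolvable ↥(A.subgroupOf N) := Group.isSolvable_of_comm hcomm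
  have hp : IsPGroup 2 (↥N ⧸ A.subgroupOf N) := by
    intro q
    refine ⟨2, ?_⟩
    induction q using QuotientGroup.induction_on with
    | H y =>
      rw [← QuotientGroup.mk_pow, QuotientGroup.eq_one_iff, Subgroup.mem_subgroupOf]
      have := hA.pow4 _ y.2
      simpa using this
  have hnil : Group.IsNilpotent (↥N ⧸ A.subgroupOf N) := hp.isNilpotent
  have hs2 : Group.IsSolvable (↥N ⧸ A.subgroupOf N) := inferInstance
  refine Group.isSolvable_of_ker_le_range (A.subgroupOf N).subtype (QuotientGroup.mk' (A.subgroupOf N)) ?_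
  rw [QuotientGroup.ker_mk']
  intro y hy
  exact ⟨⟨y, hy⟩, rfl⟩

theorem torus_unique {A A' : Subgroup G} (hA : TorusLike A) (hA' : TorusLike A') {x : G}
    (hx1 : x ≠ 1) (hx : x ∈ A) (hx' : x ∈ A') : A = A' :=
  le_antisymm (fun c hc => hA'.cent x hx' hx1 c (hA.comm c hc x hx))
    (fun c hc => hA.cent x hx hx1 c (hA'.comm c hc x hx'))

/-- an element of odd order normalising a torus lies in it -/
theorem mem_of_odd_normalizer {A : Subgroup G} (hA : TorusLike A) {x : G}
    (hodd : ¬ 2 ∣ orderOf x) (hx : x ∈ Subgroup.normalizer (A : Set G)) : x ∈ A :=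
  mem_of_pow_four_mem hodd (hA.pow4 _ hx)

/-- an element of the normaliser of a torus lies in the torus or has order dividing four -/
theorem mem_or_pow_four {A : Subgroup G} (hA : TorusLike A) {y : G}
    (hy : y ∈ Subgroup.normalizer (A : Set G)) : y ∈ A ∨ y ^ 4 = 1 := by
  by_cases h : y ^ 4 = 1
  · exact Or.inr h
  · left
    apply hA.cent _ (hA.pow4 _ hy) h
    rw [← pow_succ, ← pow_succ']

end general

section Sz

variable {F : Type*} [Field F] [Fintype F] {m : ℕ}

theorem not_solvable_sz (hm : 1 ≤ m) (hF : Fintype.card F = 2 ^ (2 * m + 1)) :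
    ¬ Group.IsSolvable ↥(Cfsg.Sz F m) := by
  intro h
  have hperf := sz_perfect hm hF
  have hnt := sz_nontrivial (m := m) hF
  obtain ⟨n, hn⟩ := h.solvable
  have key : ∀ k, derivedSeries ↥(Cfsg.Sz F m) k = ⊤ := by
    intro k
    induction k with
    | zero => rfl
    | succ k ih =>
      rw [derivedSeries_succ, ih]
      exact hperf
  rw [key n] at hn
  exact top_ne_bot hn

/-- the proper subgroups, for `2m+1` prime -/
theorem proper_cases (hm : 1 ≤ m) (hp : (2 * m + 1).Prime)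
    (hF : Fintype.card F = 2 ^ (2 * m + 1))
    (M : Subgroup ↥(Cfsg.Sz F m)) (hM : M ≠ ⊤) :
    (∃ p : ↥(Cfsg.suzukiOvoid F m), ∀ g ∈ M, g • p = p) ∨
    (∃ A : Subgroup ↥(Cfsg.Sz F m), IsMaxTorus hF A ∧
      M ≤ Subgroup.normalizer ((A : Subgroup ↥(Cfsg.Sz F m)) : Set ↥(Cfsg.Sz F m))) := by
  have : Fact (Nat.Prime 2) := ⟨Nat.prime_two⟩
  by_cases hfixall : ∃ p : ↥(Cfsg.suzukiOvoid F m), ∀ g ∈ M, g • p = p
  · exact Or.inl hfixall
  push Not at hfixall
  right
  by_cases heven : 2 ∣ Nat.card M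
  · obtain ⟨u₀', hu₀'⟩ := exists_prime_orderOf_dvd_card' 2 heven
    have hu₀1 : (u₀' : ↥(Cfsg.Sz F m)) ≠ 1 := by
      intro h0
      have : u₀' = 1 := Subtype.ext h0
      rw [this, orderOf_one] at hu₀'
      omega
    have hu₀2 : (u₀' : ↥(Cfsg.Sz F m)) ^ 2 = 1 := by
      have := pow_orderOf_eq_one u₀'
      rw [hu₀'] at this
      exact coe_sq_eq_one this
    obtain ⟨p₀, hp₀⟩ := two_elt_fix_exists hm hF hu₀1 (pow_four_of_sq hu₀2)
    obtain ⟨g₀, hg₀M, hg₀p⟩ := hfixall p₀
    by_cases h2grp : ∀ g ∈ M, g • p₀ = p₀ → g ^ 4 = 1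
    · exact frobenius_case hm hF M p₀ u₀' u₀'.2 hu₀1 hu₀2 hp₀ h2grp ⟨g₀, hg₀M, hg₀p⟩
    · exfalso
      push Not at h2grp
      obtain ⟨x, hxM, hxp, hx4⟩ := h2grp
      obtain ⟨z, k₂, hcore⟩ := exists_coreHyp hm hF M p₀ u₀'.2 hu₀1 hu₀2 hp₀ hxM hxp hx4
        hg₀M hg₀p
      have hM' : M.map (MulAut.conj z).toMonoidHom ≠ ⊤ := by
        intro htop
        apply hM
        rw [eq_top_iff]
        intro y _
        have : z * y * z⁻¹ ∈ M.map (MulAut.conj z).toMonoidHom := by
          rw [htop]; exact Subgroup.mem_top _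
        rw [mem_map_conj] at this
        have e : z⁻¹ * (z * y * z⁻¹) * z = y := by group
        rwa [e] at this
      obtain ⟨K, instK, instKf, k, hk1, hkm, hKcard, hdiv, -⟩ :=
        core_conclusion hm hF _ k₂ hcore hM'
      rcases (Nat.dvd_prime hp).1 hdiv with h | h <;> omega
  · have hne : M ≠ ⊥ := by
      rintro rfl
      obtain ⟨g, hg, hgp⟩ := hfixall (oInf F m)
      rw [Subgroup.mem_bot] at hg
      rw [hg, one_smul] at hgp
      exact hgp rfl
    obtain ⟨A, hA, hMA⟩ := odd_subgroup_le hm hF M heven hne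
    exact ⟨A, hA, hMA.trans Subgroup.le_normalizer⟩

theorem stab_solvable (hm : 1 ≤ m) (hF : Fintype.card F = 2 ^ (2 * m + 1))
    (ω : ↥(Cfsg.suzukiOvoid F m)) :
    Group.IsSolvable ↥(MulAction.stabilizer ↥(Cfsg.Sz F m) ω) := by
  obtain ⟨y, rfl⟩ := exists_smul_oInf hF ω
  rw [MulAction.stabilizer_smul_eq_stabilizer_map_conj]
  exact solvable_map_conj _ _ (stab_inf_solvable hm hF)

/-- the solvable two-generated subgroups -/
theorem sol_iff (hm : 1 ≤ m) (hp : (2 * m + 1).Prime) (hF : Fintype.card F = 2 ^ (2 * m + 1))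
    (x y : ↥(Cfsg.Sz F m)) :
    Group.IsSolvable ↥(Subgroup.closure ({x, y} : Set ↥(Cfsg.Sz F m))) ↔
      (∃ ω : ↥(Cfsg.suzukiOvoid F m), x • ω = ω ∧ y • ω = ω) ∨
      (∃ A : Subgroup ↥(Cfsg.Sz F m), IsMaxTorus hF A ∧
        x ∈ Subgroup.normalizer ((A : Subgroup ↥(Cfsg.Sz F m)) : Set ↥(Cfsg.Sz F m)) ∧
        y ∈ Subgroup.normalizer ((A : Subgroup ↥(Cfsg.Sz F m)) : Set ↥(Cfsg.Sz F m))) := by
  constructor
  · intro hs
    have hM : Subgroup.closure ({x, y} : Set ↥(Cfsg.Sz F m)) ≠ ⊤ := by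
      intro htop
      apply not_solvable_sz hm hF
      rw [htop] at hs
      exact Group.isSolvable_of_surjective (f := (⊤ : Subgroup ↥(Cfsg.Sz F m)).subtype)
        (fun g => ⟨⟨g, Subgroup.mem_top g⟩, rfl⟩)
    rcases proper_cases hm hp hF _ hM with ⟨ω, hω⟩ | ⟨A, hA, hle⟩
    · exact Or.inl ⟨ω, hω _ (mem_closure_left x y), hω _ (mem_closure_right x y)⟩
    · exact Or.inr ⟨A, hA, hle (mem_closure_left x y), hle (mem_closure_right x y)⟩
  · rintro (⟨ω, hx, hy⟩ | ⟨A, hA, hx, hy⟩)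
    · exact solvable_of_le (closure_pair_le (K := MulAction.stabilizer ↥(Cfsg.Sz F m) ω)
        (MulAction.mem_stabilizer_iff.2 hx) (MulAction.mem_stabilizer_iff.2 hy))
        (stab_solvable hm hF ω)
    · have := sz_finite (F := F) (m := m)
      exact solvable_of_le (closure_pair_le hx hy) (solvable_normalizer (hA.torusLike hm))

end Sz

end Cfsg.Agent.Lib.Helper19.SzSol
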