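import Cfsg.Agent.Lib.Helper19.SzSolA

/-!
# Solubilizers in the Suzuki groups, part B: elements of odd order
-/

set_option autoImplicit false

namespace Cfsg.Agent.Lib.Helper19.SzSol

open Cfsg.Agent.Lib.Helper09
open Cfsg.Agent.Lib.Helper19.Solub (solvable_of_le closure_pair_le mem_closure_left
  mem_closure_right card_sol_conj)

section arith

theorem r_sq (m : ℕ) : (2 ^ (m + 1)) ^ 2 = 2 * 2 ^ (2 * m + 1) := by
  rw [← pow_mul, ← pow_succ']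
  congr 1
  ring

theorem r_le_q {m : ℕ} (hm : 1 ≤ m) : 2 ^ (m + 1) ≤ 2 ^ (2 * m + 1) :=
  Nat.pow_le_pow_right (by norm_num) (by omega)

theorem q_ge_eight {m : ℕ} (hm : 1 ≤ m) : 8 ≤ 2 ^ (2 * m + 1) := by
  have : 2 ^ 3 ≤ 2 ^ (2 * m + 1) := Nat.pow_le_pow_right (by norm_num) (by omega)
  simpa using this

theorem two_dvd_q (m : ℕ) : 2 ∣ 2 ^ (2 * m + 1) := dvd_pow_self 2 (by omega)

theorem two_dvd_r (m : ℕ) : 2 ∣ 2 ^ (m + 1) := dvd_pow_self 2 (by omega)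

theorem prod_eq {m : ℕ} (hm : 1 ≤ m) :
    (2 ^ (2 * m + 1) + 2 ^ (m + 1) + 1) * (2 ^ (2 * m + 1) - 2 ^ (m + 1) + 1) =
      (2 ^ (2 * m + 1)) ^ 2 + 1 := by
  have h1 := r_sq m
  have h2 := r_le_q hm
  obtain ⟨d, hd⟩ : ∃ d, 2 ^ (2 * m + 1) = 2 ^ (m + 1) + d := ⟨_, (Nat.add_sub_cancel' h2).symm⟩
  rw [hd] at h1 ⊢
  rw [Nat.add_sub_cancel_left]
  nlinarith [h1]

theorem odd_plus (m : ℕ) : ¬ 2 ∣ 2 ^ (2 * m + 1) + 2 ^ (m + 1) + 1 := by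
  have h1 := two_dvd_q m
  have h2 := two_dvd_r m
  omega

theorem odd_minus {m : ℕ} (hm : 1 ≤ m) : ¬ 2 ∣ 2 ^ (2 * m + 1) - 2 ^ (m + 1) + 1 := by
  have h1 := two_dvd_q m
  have h2 := two_dvd_r m
  have h3 := r_le_q hm
  omega

theorem coprime_split (m : ℕ) :
    Nat.Coprime (2 ^ (2 * m + 1) - 1) ((2 ^ (2 * m + 1)) ^ 2 + 1) := by
  apply Nat.coprime_of_dvd
  intro p hp h1 h2
  have hp2 : p ≠ 2 := by
    rintro rfl
    exact odd_q_sub_one m h1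
  exact coprime_aux (Nat.one_le_two_pow) hp hp2 h1 h2

theorem coprime_pm {m : ℕ} (hm : 1 ≤ m) :
    Nat.Coprime (2 ^ (2 * m + 1) + 2 ^ (m + 1) + 1) (2 ^ (2 * m + 1) - 2 ^ (m + 1) + 1) := by
  apply Nat.coprime_of_dvd
  intro p hp h1 h2
  have h3 := r_le_q hm
  have h4 : p ∣ 2 ^ (m + 2) := by
    have h5 := Nat.dvd_sub h1 h2
    have h6 : 2 ^ (2 * m + 1) + 2 ^ (m + 1) + 1 - (2 ^ (2 * m + 1) - 2 ^ (m + 1) + 1) =
        2 ^ (m + 2) := by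
      rw [pow_succ 2 (m + 1)]
      omega
    rwa [h6] at h5
  have hp2 : p = 2 := (Nat.prime_dvd_prime_iff_eq hp Nat.prime_two).1 (hp.dvd_of_dvd_pow h4)
  subst hp2
  exact odd_plus m h1

theorem plus_dvd {m : ℕ} (hm : 1 ≤ m) :
    2 ^ (2 * m + 1) + 2 ^ (m + 1) + 1 ∣ (2 ^ (2 * m + 1)) ^ 2 + 1 :=
  ⟨_, (prod_eq hm).symm⟩

theorem minus_dvd {m : ℕ} (hm : 1 ≤ m) :
    2 ^ (2 * m + 1) - 2 ^ (m + 1) + 1 ∣ (2 ^ (2 * m + 1)) ^ 2 + 1 :=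
  Dvd.intro_left _ (prod_eq hm)

end arith

section tori

variable {F : Type*} [Field F] [Fintype F] {m : ℕ}

theorem isMaxTorus_Hz (hF : Fintype.card F = 2 ^ (2 * m + 1)) : IsMaxTorus hF (Hz (m := m) hF) :=
  Or.inl ⟨1, by ext g; rw [mem_map_conj]; simp⟩

theorem card_normalizer_map_conj {G : Type*} [Group G] (T : Subgroup G) (x : G) :
    Nat.card ↥(Subgroup.normalizer ((T.map (MulAut.conj x).toMonoidHom : Subgroup G) : Set G)) =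
      Nat.card ↥(Subgroup.normalizer (T : Set G)) := by
  rw [← Subgroup.map_equiv_normalizer_eq, card_map_conj]

/-- fixed representatives of the two classes of non-split tori -/
structure ToriData (hF : Fintype.card F = 2 ^ (2 * m + 1)) (T₁ T₂ : Subgroup ↥(Cfsg.Sz F m)) :
    Prop where
  t1 : IsTorus F m T₁
  t2 : IsTorus F m T₂
  cov : Dset F m ⊆ conjSet T₁ ∪ conjSet T₂
  n1 : Nat.card (Subgroup.normalizer ((T₁ : Subgroup ↥(Cfsg.Sz F m)) : Set ↥(Cfsg.Sz F m)))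
        = 4 * Nat.card T₁
  n2 : Nat.card (Subgroup.normalizer ((T₂ : Subgroup ↥(Cfsg.Sz F m)) : Set ↥(Cfsg.Sz F m)))
        = 4 * Nat.card T₂
  c1 : Nat.card T₁ = 2 ^ (2 * m + 1) + 2 ^ (m + 1) + 1
  c2 : Nat.card T₂ = 2 ^ (2 * m + 1) - 2 ^ (m + 1) + 1

theorem exists_toriData (hm : 1 ≤ m) (hF : Fintype.card F = 2 ^ (2 * m + 1)) :
    ∃ T₁ T₂ : Subgroup ↥(Cfsg.Sz F m), ToriData hF T₁ T₂ := by
  obtain ⟨T₁, T₂, hT₁, hT₂, hcov, hN₁, hN₂, hc₁, hc₂⟩ := tori_orders hm hF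
  exact ⟨T₁, T₂, ⟨hT₁, hT₂, hcov, hN₁, hN₂, hc₁, hc₂⟩⟩

theorem ToriData.conj_cases (hm : 1 ≤ m) {hF : Fintype.card F = 2 ^ (2 * m + 1)}
    {T₁ T₂ : Subgroup ↥(Cfsg.Sz F m)} (h : ToriData hF T₁ T₂) {A : Subgroup ↥(Cfsg.Sz F m)}
    (hA : IsTorus F m A) :
    (∃ y : ↥(Cfsg.Sz F m), A = T₁.map (MulAut.conj y).toMonoidHom) ∨
    (∃ y : ↥(Cfsg.Sz F m), A = T₂.map (MulAut.conj y).toMonoidHom) := by
  obtain ⟨g, hg, hAg⟩ := hA
  have hgA : g ∈ conjSet A := by rw [hAg]; exact mem_conjSet_centralizer hg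
  have hT' : IsTorus F m A := ⟨g, hg, hAg⟩
  rcases h.cov hg with h1 | h1
  · exact Or.inl (h.t1.conj_of_conjSet_inter hm hF hT' h1 hgA)
  · exact Or.inr (h.t2.conj_of_conjSet_inter hm hF hT' h1 hgA)

theorem torus_cases (hm : 1 ≤ m) (hF : Fintype.card F = 2 ^ (2 * m + 1))
    {A : Subgroup ↥(Cfsg.Sz F m)} (hA : IsTorus F m A) :
    (Nat.card A = 2 ^ (2 * m + 1) + 2 ^ (m + 1) + 1 ∧
      Nat.card (Subgroup.normalizer ((A : Subgroup ↥(Cfsg.Sz F m)) : Set ↥(Cfsg.Sz F m))) =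
        4 * (2 ^ (2 * m + 1) + 2 ^ (m + 1) + 1)) ∨
    (Nat.card A = 2 ^ (2 * m + 1) - 2 ^ (m + 1) + 1 ∧
      Nat.card (Subgroup.normalizer ((A : Subgroup ↥(Cfsg.Sz F m)) : Set ↥(Cfsg.Sz F m))) =
        4 * (2 ^ (2 * m + 1) - 2 ^ (m + 1) + 1)) := by
  obtain ⟨T₁, T₂, h⟩ := exists_toriData hm hF
  rcases h.conj_cases hm hA with ⟨y, rfl⟩ | ⟨y, rfl⟩
  · left
    rw [card_normalizer_map_conj, card_map_conj, h.n1, h.c1]
    exact ⟨rfl, rfl⟩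
  · right
    rw [card_normalizer_map_conj, card_map_conj, h.n2, h.c2]
    exact ⟨rfl, rfl⟩

end tori

section nonsplit

variable {F : Type*} [Field F] [Fintype F] {m : ℕ}

theorem sol_iff_nonsplit (hm : 1 ≤ m) (hp : (2 * m + 1).Prime)
    (hF : Fintype.card F = 2 ^ (2 * m + 1)) {A : Subgroup ↥(Cfsg.Sz F m)} (hA : IsTorus F m A)
    {x : ↥(Cfsg.Sz F m)} (hx : x ∈ A) (hx1 : x ≠ 1) (y : ↥(Cfsg.Sz F m)) :
    Group.IsSolvable ↥(Subgroup.closure ({x, y} : Set ↥(Cfsg.Sz F m))) ↔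
      y ∈ Subgroup.normalizer ((A : Subgroup ↥(Cfsg.Sz F m)) : Set ↥(Cfsg.Sz F m)) := by
  have tl := hA.torusLike hm hF
  rw [sol_iff hm hp hF]
  constructor
  · rintro (⟨ω, hxω, -⟩ | ⟨A', hA', hxA', hyA'⟩)
    · exact absurd hxω ((mem_Dset x).1 (hA.derangement hm hF hx hx1) ω)
    · have tl' := hA'.torusLike hm
      have hx' : x ∈ A' := mem_of_odd_normalizer tl' (tl.odd x hx) hxA'
      have : A = A' := torus_unique tl tl' hx1 hx hx'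
      rw [this]
      exact hyA'
  · intro hy
    exact Or.inr ⟨A, Or.inr hA, Subgroup.le_normalizer hx, hy⟩

theorem card_sol_of_torus (hm : 1 ≤ m) (hp : (2 * m + 1).Prime)
    (hF : Fintype.card F = 2 ^ (2 * m + 1)) {A : Subgroup ↥(Cfsg.Sz F m)} (hA : IsTorus F m A)
    {x : ↥(Cfsg.Sz F m)} (hx : x ∈ A) (hx1 : x ≠ 1) :
    Nat.card {y : ↥(Cfsg.Sz F m) //
        Group.IsSolvable ↥(Subgroup.closure ({x, y} : Set ↥(Cfsg.Sz F m)))} =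
      Nat.card (Subgroup.normalizer ((A : Subgroup ↥(Cfsg.Sz F m)) : Set ↥(Cfsg.Sz F m))) :=
  Nat.card_congr (Equiv.subtypeEquivRight (sol_iff_nonsplit hm hp hF hA hx hx1))

end nonsplit

end Cfsg.Agent.Lib.Helper19.SzSol
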