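import Cfsg.Agent.Lib.Helper19.SzSolB

/-!
# Solubilizers in the Suzuki groups, part C: the split torus, and the odd order clauses
-/

set_option autoImplicit false

namespace Cfsg.Agent.Lib.Helper19.SzSol

open Cfsg.Agent.Lib.Helper09
open Cfsg.Agent.Lib.Helper19.Solub (solvable_of_le closure_pair_le mem_closure_left
  mem_closure_right card_sol_conj)

section split

variable {F : Type*} [Field F] [Fintype F] {m : ℕ}

theorem stab_inter (hm : 1 ≤ m) (hF : Fintype.card F = 2 ^ (2 * m + 1)) (y : ↥(Cfsg.Sz F m)) :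
    (y • oInf F m = oInf F m ∧ y • oAff m (0 : F) 0 = oAff m 0 0) ↔ y ∈ Hz hF := by
  constructor
  · rintro ⟨h1, h2⟩
    obtain ⟨a, b, k, rfl⟩ := (mem_stab_inf_iff hm hF y).1 (MulAction.mem_stabilizer_iff.2 h1)
    rw [mul_smul, hG_smul_zero, tauG_smul_oAff_zero] at h2
    obtain ⟨ha, hb⟩ := pAff_injective (congrArg Subtype.val h2)
    subst ha hb
    rw [tauG_zero, one_mul]
    exact (mem_Hz hF _).2 ⟨k, rfl⟩
  · intro h
    obtain ⟨k, rfl⟩ := (mem_Hz hF _).1 h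
    exact ⟨hG_smul_oInf hF k, hG_smul_zero hF k⟩

theorem sol_iff_split (hm : 1 ≤ m) (hp : (2 * m + 1).Prime)
    (hF : Fintype.card F = 2 ^ (2 * m + 1)) {k : Fˣ} (hk : k ≠ 1) (y : ↥(Cfsg.Sz F m)) :
    Group.IsSolvable ↥(Subgroup.closure ({hG hF k, y} : Set ↥(Cfsg.Sz F m))) ↔
      (y • oInf F m = oInf F m ∨ y • oAff m (0 : F) 0 = oAff m 0 0 ∨
        ∃ l : Fˣ, y = wG hF * hG hF l) := by
  have tlH := torusLike_Hz hm hF
  have hkH : hG hF k ∈ Hz hF := (mem_Hz hF _).2 ⟨k, rfl⟩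
  have hk1 : hG hF k ≠ 1 := fun h => hk (hG_eq_one hF h)
  rw [sol_iff hm hp hF]
  constructor
  · rintro (⟨ω, hxω, hyω⟩ | ⟨A', hA', hxA', hyA'⟩)
    · rcases hG_fix hF hk hxω with rfl | rfl
      · exact Or.inl hyω
      · exact Or.inr (Or.inl hyω)
    · have tl' := hA'.torusLike hm
      have hx' : hG hF k ∈ A' := mem_of_odd_normalizer tl' (tlH.odd _ hkH) hxA'
      have : Hz hF = A' := torus_unique tlH tl' hk1 hkH hx'
      rw [← this] at hyA'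
      rcases (mem_normalizer_Hz hm hF y).1 hyA' with ⟨l, rfl⟩ | ⟨l, rfl⟩
      · exact Or.inl (hG_smul_oInf hF l)
      · exact Or.inr (Or.inr ⟨l, rfl⟩)
  · rintro (h | h | ⟨l, rfl⟩)
    · exact Or.inl ⟨_, hG_smul_oInf hF k, h⟩
    · exact Or.inl ⟨_, hG_smul_zero hF k, h⟩
    · exact Or.inr ⟨Hz hF, isMaxTorus_Hz hF, Subgroup.le_normalizer hkH,
        wG_mul_hG_mem_normalizer hF l⟩

theorem ncard_fix_inf (hm : 1 ≤ m) (hF : Fintype.card F = 2 ^ (2 * m + 1)) :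
    {y : ↥(Cfsg.Sz F m) | y • oInf F m = oInf F m}.ncard =
      (2 ^ (2 * m + 1)) ^ 2 * (2 ^ (2 * m + 1) - 1) := by
  rw [← card_stab_oInf hm hF, ← Nat.card_coe_set_eq]
  rfl

theorem ncard_fix_zero (hm : 1 ≤ m) (hF : Fintype.card F = 2 ^ (2 * m + 1)) :
    {y : ↥(Cfsg.Sz F m) | y • oAff m (0 : F) 0 = oAff m 0 0}.ncard =
      (2 ^ (2 * m + 1)) ^ 2 * (2 ^ (2 * m + 1) - 1) := by
  have h1 : MulAction.stabilizer ↥(Cfsg.Sz F m) (oAff m (0 : F) 0) =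
      (MulAction.stabilizer ↥(Cfsg.Sz F m) (oInf F m)).map (MulAut.conj (wG hF)).toMonoidHom := by
    rw [← MulAction.stabilizer_smul_eq_stabilizer_map_conj, wG_smul_oInf]
  have h2 : Nat.card ↥(MulAction.stabilizer ↥(Cfsg.Sz F m) (oAff m (0 : F) 0)) =
      (2 ^ (2 * m + 1)) ^ 2 * (2 ^ (2 * m + 1) - 1) := by
    rw [h1, card_map_conj, card_stab_oInf hm hF]
  rw [← h2, ← Nat.card_coe_set_eq]
  rfl

theorem card_sol_hG (hm : 1 ≤ m) (hp : (2 * m + 1).Prime)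
    (hF : Fintype.card F = 2 ^ (2 * m + 1)) {k : Fˣ} (hk : k ≠ 1) :
    Nat.card {y : ↥(Cfsg.Sz F m) //
        Group.IsSolvable ↥(Subgroup.closure ({hG hF k, y} : Set ↥(Cfsg.Sz F m)))} =
      2 * (2 ^ (2 * m + 1)) ^ 2 * (2 ^ (2 * m + 1) - 1) := by
  have hfin := sz_finite (F := F) (m := m)
  rw [Nat.card_congr (Equiv.subtypeEquivRight (sol_iff_split hm hp hF hk))]
  set Sinf : Set ↥(Cfsg.Sz F m) := {y | y • oInf F m = oInf F m} with hSinf
  set S0 : Set ↥(Cfsg.Sz F m) := {y | y • oAff m (0 : F) 0 = oAff m 0 0} with hS0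
  set W : Set ↥(Cfsg.Sz F m) := (fun g => wG hF * g) '' (Hz hF : Set ↥(Cfsg.Sz F m)) with hW
  have hset : {y : ↥(Cfsg.Sz F m) | y • oInf F m = oInf F m ∨
      y • oAff m (0 : F) 0 = oAff m 0 0 ∨ ∃ l : Fˣ, y = wG hF * hG hF l} = (Sinf ∪ S0) ∪ W := by
    ext y
    constructor
    · rintro (h | h | ⟨l, rfl⟩)
      · exact Or.inl (Or.inl h)
      · exact Or.inl (Or.inr h)
      · exact Or.inr ⟨hG hF l, (mem_Hz hF _).2 ⟨l, rfl⟩, rfl⟩
    · rintro ((h | h) | ⟨g, hg, rfl⟩)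
      · exact Or.inl h
      · exact Or.inr (Or.inl h)
      · obtain ⟨l, rfl⟩ := (mem_Hz hF _).1 hg
        exact Or.inr (Or.inr ⟨l, rfl⟩)
  have hcard : Nat.card {y : ↥(Cfsg.Sz F m) // y • oInf F m = oInf F m ∨
      y • oAff m (0 : F) 0 = oAff m 0 0 ∨ ∃ l : Fˣ, y = wG hF * hG hF l} =
      ((Sinf ∪ S0) ∪ W).ncard := by
    rw [← hset, ← Nat.card_coe_set_eq]
    rfl
  rw [hcard]
  have hinter : Sinf ∩ S0 = (Hz hF : Set ↥(Cfsg.Sz F m)) := by
    ext y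
    exact stab_inter hm hF y
  have hdisj : Disjoint (Sinf ∪ S0) W := by
    rw [Set.disjoint_left]
    rintro y hy ⟨g, hg, rfl⟩
    obtain ⟨l, rfl⟩ := (mem_Hz hF _).1 hg
    rcases hy with h | h
    · have h' : (wG hF * hG hF l) • oInf F m = oInf F m := h
      rw [mul_smul, hG_smul_oInf, wG_smul_oInf] at h'
      exact zero_ne_inf h'
    · have h' : (wG hF * hG hF l) • oAff m (0 : F) 0 = oAff m 0 0 := h
      rw [mul_smul, hG_smul_zero, wG_smul_oAff_zero] at h'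
      exact zero_ne_inf h'.symm
  rw [Set.ncard_union_eq hdisj (Set.toFinite _) (Set.toFinite _)]
  have hW' : W.ncard = 2 ^ (2 * m + 1) - 1 := by
    rw [hW, Set.ncard_image_of_injective _ (mul_right_injective _), ← card_Hz (m := m) hF,
      ← Nat.card_coe_set_eq]
    rfl
  have hH : (Hz hF : Set ↥(Cfsg.Sz F m)).ncard = 2 ^ (2 * m + 1) - 1 := by
    rw [← card_Hz (m := m) hF, ← Nat.card_coe_set_eq]
    rfl
  have hui := Set.ncard_union_add_ncard_inter Sinf S0 (Set.toFinite _) (Set.toFinite _)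
  have h1 : Sinf.ncard = (2 ^ (2 * m + 1)) ^ 2 * (2 ^ (2 * m + 1) - 1) := ncard_fix_inf hm hF
  have h2 : S0.ncard = (2 ^ (2 * m + 1)) ^ 2 * (2 ^ (2 * m + 1) - 1) := ncard_fix_zero hm hF
  rw [hinter, hH, h1, h2] at hui
  rw [hW', hui]
  ring

end split

section clauses

variable {F : Type*} [Field F] [Fintype F] {m : ℕ}

theorem odd_of_dvd {d n : ℕ} (hn : ¬ 2 ∣ n) (h : d ∣ n) : ¬ 2 ∣ d :=
  fun h2 => hn (dvd_trans h2 h)

theorem orderOf_dvd_card_of_mem {G : Type*} [Group G] {A : Subgroup G} {x : G} (hx : x ∈ A) :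
    orderOf x ∣ Nat.card A := by
  have := orderOf_dvd_natCard (⟨x, hx⟩ : A)
  rwa [Subgroup.orderOf_mk] at this

theorem card_sol_order_split (hm : 1 ≤ m) (hp : (2 * m + 1).Prime)
    (hF : Fintype.card F = 2 ^ (2 * m + 1)) (x : ↥(Cfsg.Sz F m)) (hx1 : x ≠ 1)
    (hord : orderOf x ∣ 2 ^ (2 * m + 1) - 1) :
    Nat.card {y : ↥(Cfsg.Sz F m) //
        Group.IsSolvable ↥(Subgroup.closure ({x, y} : Set ↥(Cfsg.Sz F m)))} =
      2 * (2 ^ (2 * m + 1)) ^ 2 * (2 ^ (2 * m + 1) - 1) := by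
  have hodd : ¬ 2 ∣ orderOf x := odd_of_dvd (odd_q_sub_one m) hord
  obtain ⟨A, hA, hxA⟩ := exists_maxTorus hm hF hx1 hodd
  rcases hA with ⟨g, rfl⟩ | hT
  · rw [mem_map_conj] at hxA
    obtain ⟨k, hk⟩ := (mem_Hz hF _).1 hxA
    have hx : x = g * hG hF k * g⁻¹ := by rw [← hk]; group
    have hk1 : k ≠ 1 := by
      rintro rfl
      rw [hG_one] at hx
      apply hx1
      rw [hx]; group
    rw [hx, card_sol_conj]
    exact card_sol_hG hm hp hF hk1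
  · exfalso
    have h2 := dvd_trans (orderOf_dvd_card_of_mem hxA) (hT.card_dvd hm hF)
    have := Nat.eq_one_of_dvd_coprimes (coprime_split m) hord h2
    exact hx1 (orderOf_eq_one_iff.1 this)

theorem card_sol_order_plus (hm : 1 ≤ m) (hp : (2 * m + 1).Prime)
    (hF : Fintype.card F = 2 ^ (2 * m + 1)) (x : ↥(Cfsg.Sz F m)) (hx1 : x ≠ 1)
    (hord : orderOf x ∣ 2 ^ (2 * m + 1) + 2 ^ (m + 1) + 1) :
    Nat.card {y : ↥(Cfsg.Sz F m) //
        Group.IsSolvable ↥(Subgroup.closure ({x, y} : Set ↥(Cfsg.Sz F m)))} =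
      4 * (2 ^ (2 * m + 1) + 2 ^ (m + 1) + 1) := by
  have hodd : ¬ 2 ∣ orderOf x := odd_of_dvd (odd_plus m) hord
  obtain ⟨A, hA, hxA⟩ := exists_maxTorus hm hF hx1 hodd
  have hoA := orderOf_dvd_card_of_mem hxA
  rcases hA with ⟨g, rfl⟩ | hT
  · exfalso
    rw [card_map_conj, card_Hz] at hoA
    have := Nat.eq_one_of_dvd_coprimes (coprime_split m) hoA (dvd_trans hord (plus_dvd hm))
    exact hx1 (orderOf_eq_one_iff.1 this)
  · rw [card_sol_of_torus hm hp hF hT hxA hx1]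
    rcases torus_cases hm hF hT with ⟨hc, hn⟩ | ⟨hc, hn⟩
    · exact hn
    · exfalso
      rw [hc] at hoA
      have := Nat.eq_one_of_dvd_coprimes (coprime_pm hm) hord hoA
      exact hx1 (orderOf_eq_one_iff.1 this)

theorem card_sol_order_minus (hm : 1 ≤ m) (hp : (2 * m + 1).Prime)
    (hF : Fintype.card F = 2 ^ (2 * m + 1)) (x : ↥(Cfsg.Sz F m)) (hx1 : x ≠ 1)
    (hord : orderOf x ∣ 2 ^ (2 * m + 1) - 2 ^ (m + 1) + 1) :
    Nat.card {y : ↥(Cfsg.Sz F m) //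
        Group.IsSolvable ↥(Subgroup.closure ({x, y} : Set ↥(Cfsg.Sz F m)))} =
      4 * (2 ^ (2 * m + 1) - 2 ^ (m + 1) + 1) := by
  have hodd : ¬ 2 ∣ orderOf x := odd_of_dvd (odd_minus hm) hord
  obtain ⟨A, hA, hxA⟩ := exists_maxTorus hm hF hx1 hodd
  have hoA := orderOf_dvd_card_of_mem hxA
  rcases hA with ⟨g, rfl⟩ | hT
  · exfalso
    rw [card_map_conj, card_Hz] at hoA
    have := Nat.eq_one_of_dvd_coprimes (coprime_split m) hoA (dvd_trans hord (minus_dvd hm))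
    exact hx1 (orderOf_eq_one_iff.1 this)
  · rw [card_sol_of_torus hm hp hF hT hxA hx1]
    rcases torus_cases hm hF hT with ⟨hc, hn⟩ | ⟨hc, hn⟩
    · exfalso
      rw [hc] at hoA
      have := Nat.eq_one_of_dvd_coprimes (coprime_pm hm) hoA hord
      exact hx1 (orderOf_eq_one_iff.1 this)
    · exact hn

end clauses

end Cfsg.Agent.Lib.Helper19.SzSol
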