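import Cfsg.Agent.Lib.Helper19.SzSolA

/-!
# Solubilizers in the Suzuki groups, part D: general counting lemmas
-/

set_option autoImplicit false

namespace Cfsg.Agent.Lib.Helper19.SzSol

open Cfsg.Agent.Lib.Helper09

section pairs

/-- counting pairs with fibres of constant size -/
theorem card_pairs {β γ : Type*} [Finite γ] (S : Set β) (hS : S.Finite) (Fib : β → Set γ) (c : ℕ)
    (hc : ∀ b ∈ S, (Fib b).ncard = c) :
    Nat.card {p : β × γ // p.1 ∈ S ∧ p.2 ∈ Fib p.1} = S.ncard * c := by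
  classical
  have := hS.fintype
  let e : {p : β × γ // p.1 ∈ S ∧ p.2 ∈ Fib p.1} ≃ (Σ b : ↥S, ↥(Fib b.1)) :=
    { toFun := fun p => ⟨⟨p.1.1, p.2.1⟩, ⟨p.1.2, p.2.2⟩⟩
      invFun := fun s => ⟨(s.1.1, s.2.1), s.1.2, s.2.2⟩
      left_inv := fun p => rfl
      right_inv := fun s => rfl }
  rw [Nat.card_congr e, Nat.card_sigma]
  have h1 : ∀ b : ↥S, Nat.card ↥(Fib b.1) = c := by
    intro b
    rw [Nat.card_coe_set_eq]
    exact hc b.1 b.2
  simp only [h1, Finset.sum_const, Finset.card_univ, smul_eq_mul]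
  rw [← Nat.card_coe_set_eq, Nat.card_eq_fintype_card]

end pairs

section conj

variable {G : Type*} [Group G]

theorem map_conj_eq_iff (T : Subgroup G) (g g₀ : G) :
    T.map (MulAut.conj g).toMonoidHom = T.map (MulAut.conj g₀).toMonoidHom ↔
      g₀⁻¹ * g ∈ Subgroup.normalizer (T : Set G) := by
  constructor
  · intro h
    rw [Subgroup.mem_normalizer_iff]
    intro t
    have h1 : t ∈ T ↔ g * t * g⁻¹ ∈ T.map (MulAut.conj g).toMonoidHom := by
      rw [mem_map_conj]
      have : g⁻¹ * (g * t * g⁻¹) * g = t := by group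
      rw [this]
    rw [h1, h, mem_map_conj]
    have : g₀⁻¹ * (g * t * g⁻¹) * g₀ = g₀⁻¹ * g * t * (g₀⁻¹ * g)⁻¹ := by group
    rw [this]
  · intro h
    ext t
    rw [mem_map_conj, mem_map_conj, (Subgroup.mem_normalizer_iff.1 h) (g⁻¹ * t * g)]
    have : g₀⁻¹ * g * (g⁻¹ * t * g) * (g₀⁻¹ * g)⁻¹ = g₀⁻¹ * t * g₀ := by group
    rw [this]

/-- the conjugates of `T` normalised by `x` -/
def conjNormSet (T : Subgroup G) (x : G) : Set (Subgroup G) :=
  {A | (∃ g : G, A = T.map (MulAut.conj g).toMonoidHom) ∧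
    x ∈ Subgroup.normalizer (A : Set G)}

/-- the elements of the normaliser of `T` conjugate to `x` -/
def conjInNorm (T : Subgroup G) (x : G) : Set G :=
  {z | z ∈ Subgroup.normalizer (T : Set G) ∧ ∃ g : G, g⁻¹ * x * g = z}

variable [Finite G]

theorem card_conj_pairs_left (T : Subgroup G) (x : G) :
    Nat.card {g : G // g⁻¹ * x * g ∈ Subgroup.normalizer (T : Set G)} =
      (conjNormSet T x).ncard * Nat.card ↥(Subgroup.normalizer (T : Set G)) := by
  classical
  rw [← card_pairs (conjNormSet T x) (Set.toFinite _)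
    (fun A => {g : G | T.map (MulAut.conj g).toMonoidHom = A})]
  · refine Nat.card_congr ?_
    refine
      { toFun := fun g => ⟨(T.map (MulAut.conj g.1).toMonoidHom, g.1), ⟨⟨g.1, rfl⟩, ?_⟩, rfl⟩
        invFun := fun p => ⟨p.1.2, ?_⟩
        left_inv := fun g => rfl
        right_inv := ?_ }
    · rw [mem_normalizer_map_conj]
      exact g.2
    · have h1 := p.2.1.2
      have h2 : T.map (MulAut.conj p.1.2).toMonoidHom = p.1.1 := p.2.2
      rw [← h2, mem_normalizer_map_conj] at h1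
      exact h1
    · rintro ⟨⟨A, g⟩, h1, h2⟩
      have h2' : T.map (MulAut.conj g).toMonoidHom = A := h2
      subst h2'
      rfl
  · rintro A ⟨⟨g₀, rfl⟩, -⟩
    have : {g : G | T.map (MulAut.conj g).toMonoidHom = T.map (MulAut.conj g₀).toMonoidHom} =
        (fun n => g₀ * n) '' (Subgroup.normalizer (T : Set G) : Set G) := by
      ext g
      constructor
      · intro hg
        have hg' : T.map (MulAut.conj g).toMonoidHom = T.map (MulAut.conj g₀).toMonoidHom := hg
        exact ⟨g₀⁻¹ * g, (map_conj_eq_iff T g g₀).1 hg', by group⟩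
      · rintro ⟨n, hn, rfl⟩
        show T.map (MulAut.conj (g₀ * n)).toMonoidHom = T.map (MulAut.conj g₀).toMonoidHom
        rw [map_conj_eq_iff]
        have : g₀⁻¹ * (g₀ * n) = n := by group
        rw [this]
        exact hn
    rw [this, Set.ncard_image_of_injective _ (mul_right_injective _), ← Nat.card_coe_set_eq]
    rfl

theorem card_conj_pairs_right (T : Subgroup G) (x : G) :
    Nat.card {g : G // g⁻¹ * x * g ∈ Subgroup.normalizer (T : Set G)} =
      (conjInNorm T x).ncard * Nat.card ↥(Subgroup.centralizer ({x} : Set G)) := by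
  classical
  rw [← card_pairs (conjInNorm T x) (Set.toFinite _) (fun z => {g : G | g⁻¹ * x * g = z})]
  · refine Nat.card_congr ?_
    refine
      { toFun := fun g => ⟨(g.1⁻¹ * x * g.1, g.1), ⟨g.2, g.1, rfl⟩, rfl⟩
        invFun := fun p => ⟨p.1.2, ?_⟩
        left_inv := fun g => rfl
        right_inv := ?_ }
    · have h1 := p.2.1.1
      have h2 : p.1.2⁻¹ * x * p.1.2 = p.1.1 := p.2.2
      rw [h2]
      exact h1
    · rintro ⟨⟨z, g⟩, h1, h2⟩
      have h2' : g⁻¹ * x * g = z := h2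
      subst h2'
      rfl
  · rintro z ⟨-, g₀, rfl⟩
    have : {g : G | g⁻¹ * x * g = g₀⁻¹ * x * g₀} =
        (fun c => c * g₀) '' (Subgroup.centralizer ({x} : Set G) : Set G) := by
      ext g
      constructor
      · intro hg
        have hg' : g⁻¹ * x * g = g₀⁻¹ * x * g₀ := hg
        refine ⟨g * g₀⁻¹, ?_, by group⟩
        rw [SetLike.mem_coe, mem_centralizer_singleton]
        have : x = g * (g⁻¹ * x * g) * g⁻¹ := by group
        calc g * g₀⁻¹ * x = g * (g₀⁻¹ * x * g₀) * g₀⁻¹ := by group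
          _ = g * (g⁻¹ * x * g) * g₀⁻¹ := by rw [hg']
          _ = x * (g * g₀⁻¹) := by group
      · rintro ⟨c, hc, rfl⟩
        rw [SetLike.mem_coe, mem_centralizer_singleton] at hc
        show (c * g₀)⁻¹ * x * (c * g₀) = g₀⁻¹ * x * g₀
        calc (c * g₀)⁻¹ * x * (c * g₀) = g₀⁻¹ * c⁻¹ * (x * c) * g₀ := by group
          _ = g₀⁻¹ * c⁻¹ * (c * x) * g₀ := by rw [hc]
          _ = g₀⁻¹ * x * g₀ := by group
    rw [this, Set.ncard_image_of_injective _ (mul_left_injective _), ← Nat.card_coe_set_eq]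
    rfl

/-- the number of conjugates of `T` normalised by `x` -/
theorem card_conjNormSet (T : Subgroup G) (x : G) :
    (conjNormSet T x).ncard * Nat.card ↥(Subgroup.normalizer (T : Set G)) =
      (conjInNorm T x).ncard * Nat.card ↥(Subgroup.centralizer ({x} : Set G)) := by
  rw [← card_conj_pairs_left, card_conj_pairs_right]

end conj

section torusNorm

variable {G : Type*} [Group G]

/-- an involution normalising a torus inverts it -/
theorem inverts_of_involution {T : Subgroup G} (hT : TorusLike T) {s : G}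
    (hsN : s ∈ Subgroup.normalizer (T : Set G)) (hs1 : s ≠ 1) (hs2 : s ^ 2 = 1) {t : G}
    (ht : t ∈ T) : s * t * s⁻¹ = t⁻¹ := by
  have hsT : s ∉ T := by
    intro h
    exact hs1 (eq_one_of_pow_four_of_odd (pow_four_of_sq hs2) (hT.odd s h))
  have hst : s * t * s⁻¹ ∈ T := (Subgroup.mem_normalizer_iff.1 hsN t).1 ht
  have hss : s * s = 1 := by rw [← sq]; exact hs2
  have hsi : s⁻¹ = s := inv_eq_of_mul_eq_one_left hss
  by_contra hne
  have ht' : t * (s * t * s⁻¹) ∈ T := T.mul_mem ht hst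
  have ht'1 : t * (s * t * s⁻¹) ≠ 1 := by
    intro h0
    apply hne
    exact (inv_eq_of_mul_eq_one_right h0).symm
  apply hsT
  apply hT.cent _ ht' ht'1
  have hc := hT.comm _ ht _ hst
  calc s * (t * (s * t * s⁻¹)) = (s * t * s⁻¹) * (s * s * t * s⁻¹) := by group
    _ = (s * t * s⁻¹) * (t * s) := by rw [hss, one_mul, hsi]
    _ = (t * (s * t * s⁻¹)) * s := by rw [← mul_assoc, ← hc]

theorem involutions_eq_coset {T : Subgroup G} (hT : TorusLike T) (hne : ∃ t ∈ T, t ≠ 1)
    {x₀ : G} (hx₀N : x₀ ∈ Subgroup.normalizer (T : Set G)) (hx₀1 : x₀ ≠ 1) (hx₀2 : x₀ ^ 2 = 1) :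
    {y : G | y ∈ Subgroup.normalizer (T : Set G) ∧ y ≠ 1 ∧ y ^ 2 = 1} =
      (fun t => x₀ * t) '' (T : Set G) := by
  obtain ⟨t₁, ht₁, ht₁1⟩ := hne
  have hss : x₀ * x₀ = 1 := by rw [← sq]; exact hx₀2
  have hsi : x₀⁻¹ = x₀ := inv_eq_of_mul_eq_one_left hss
  have hx₀T : x₀ ∉ T := by
    intro h
    exact hx₀1 (eq_one_of_pow_four_of_odd (pow_four_of_sq hx₀2) (hT.odd x₀ h))
  ext y
  constructor
  · rintro ⟨hyN, hy1, hy2⟩
    have h1 := inverts_of_involution hT hyN hy1 hy2 ht₁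
    have h2 := inverts_of_involution hT hx₀N hx₀1 hx₀2 (T.inv_mem ht₁)
    have h3 : x₀ * y ∈ T := by
      apply hT.cent _ ht₁ ht₁1
      have e1 : y * t₁ = t₁⁻¹ * y := by
        calc y * t₁ = (y * t₁ * y⁻¹) * y := by group
          _ = t₁⁻¹ * y := by rw [h1]
      have e2 : x₀ * t₁⁻¹ = t₁ * x₀ := by
        calc x₀ * t₁⁻¹ = (x₀ * t₁⁻¹ * x₀⁻¹) * x₀ := by group
          _ = t₁ * x₀ := by rw [h2, inv_inv]
      calc x₀ * y * t₁ = x₀ * (y * t₁) := by group
        _ = x₀ * (t₁⁻¹ * y) := by rw [e1]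
        _ = (x₀ * t₁⁻¹) * y := by group
        _ = t₁ * x₀ * y := by rw [e2]
        _ = t₁ * (x₀ * y) := by group
    refine ⟨x₀ * y, h3, ?_⟩
    show x₀ * (x₀ * y) = y
    rw [← mul_assoc, hss, one_mul]
  · rintro ⟨t, ht, rfl⟩
    have ht' : t ∈ T := ht
    have hinv := inverts_of_involution hT hx₀N hx₀1 hx₀2 ht'
    refine ⟨Subgroup.mul_mem _ hx₀N (Subgroup.le_normalizer ht'), ?_, ?_⟩
    · intro h0
      apply hx₀T
      have : x₀ = t⁻¹ := eq_inv_of_mul_eq_one_left h0
      rw [this]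
      exact T.inv_mem ht'
    · show (x₀ * t) ^ 2 = 1
      calc (x₀ * t) ^ 2 = (x₀ * t * x₀⁻¹) * (x₀ * x₀) * t := by rw [sq]; group
        _ = 1 := by rw [hinv, hss, mul_one, inv_mul_cancel]

variable [Finite G]

theorem ncard_involutions {T : Subgroup G} (hT : TorusLike T) (hne : ∃ t ∈ T, t ≠ 1)
    (h2 : 2 ∣ Nat.card ↥(Subgroup.normalizer (T : Set G))) :
    {y : G | y ∈ Subgroup.normalizer (T : Set G) ∧ y ≠ 1 ∧ y ^ 2 = 1}.ncard = Nat.card T := by
  have : Fact (Nat.Prime 2) := ⟨Nat.prime_two⟩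
  obtain ⟨u, hu⟩ := exists_prime_orderOf_dvd_card' 2 h2
  have hu1 : (u : G) ≠ 1 := by
    intro h0
    have : u = 1 := Subtype.ext h0
    rw [this, orderOf_one] at hu
    omega
  have hu2 : (u : G) ^ 2 = 1 := by
    have := pow_orderOf_eq_one u
    rw [hu] at this
    exact_mod_cast congrArg Subtype.val this
  rw [involutions_eq_coset hT hne u.2 hu1 hu2,
    Set.ncard_image_of_injective _ (mul_right_injective _), ← Nat.card_coe_set_eq]
  rfl

theorem ncard_order_four {T : Subgroup G} (hT : TorusLike T) (hne : ∃ t ∈ T, t ≠ 1)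
    (h4 : Nat.card ↥(Subgroup.normalizer (T : Set G)) = 4 * Nat.card T) :
    {y : G | y ∈ Subgroup.normalizer (T : Set G) ∧ y ^ 2 ≠ 1 ∧ y ^ 4 = 1}.ncard =
      2 * Nat.card T := by
  have hI := ncard_involutions hT hne (by rw [h4]; exact Dvd.intro _ (by ring : 2 * (2 * Nat.card T) = 4 * Nat.card T))
  set I : Set G := {y : G | y ∈ Subgroup.normalizer (T : Set G) ∧ y ≠ 1 ∧ y ^ 2 = 1} with hIdef
  set J : Set G := {y : G | y ∈ Subgroup.normalizer (T : Set G) ∧ y ^ 2 ≠ 1 ∧ y ^ 4 = 1}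
    with hJdef
  have hN : (Subgroup.normalizer (T : Set G) : Set G) = ((T : Set G) ∪ I) ∪ J := by
    ext y
    constructor
    · intro hy
      rcases mem_or_pow_four hT hy with h | h
      · exact Or.inl (Or.inl h)
      · by_cases h2 : y ^ 2 = 1
        · by_cases h1 : y = 1
          · left; left
            rw [h1]
            exact T.one_mem
          · exact Or.inl (Or.inr ⟨hy, h1, h2⟩)
        · exact Or.inr ⟨hy, h2, h⟩
    · rintro ((h | h) | h)
      · exact Subgroup.le_normalizer h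
      · exact h.1
      · exact h.1
  have hd1 : Disjoint (T : Set G) I := by
    rw [Set.disjoint_left]
    rintro y hy ⟨-, hy1, hy2⟩
    exact hy1 (eq_one_of_pow_four_of_odd (pow_four_of_sq hy2) (hT.odd y hy))
  have hd2 : Disjoint ((T : Set G) ∪ I) J := by
    rw [Set.disjoint_left]
    rintro y (hy | hy) ⟨-, hy2, hy4⟩
    · apply hy2
      rw [eq_one_of_pow_four_of_odd hy4 (hT.odd y hy), one_pow]
    · exact hy2 hy.2.2
  have hc : (Subgroup.normalizer (T : Set G) : Set G).ncard = 4 * Nat.card T := by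
    rw [← h4, ← Nat.card_coe_set_eq]
    rfl
  have hcT : (T : Set G).ncard = Nat.card T := by
    rw [← Nat.card_coe_set_eq]
    rfl
  rw [hN, Set.ncard_union_eq hd2 (Set.toFinite _) (Set.toFinite _),
    Set.ncard_union_eq hd1 (Set.toFinite _) (Set.toFinite _), hI, hcT] at hc
  omega

theorem card_mul_le_of_disjoint (E A N : Subgroup G) (hE : E ≤ N) (hA : A ≤ N)
    (hd : ∀ g, g ∈ E → g ∈ A → g = 1) : Nat.card E * Nat.card A ≤ Nat.card N := by
  rw [← Nat.card_prod]
  refine Nat.card_le_card_of_injective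
    (fun p : ↥E × ↥A => (⟨(p.1 : G) * (p.2 : G), N.mul_mem (hE p.1.2) (hA p.2.2)⟩ : ↥N)) ?_
  rintro ⟨e, a⟩ ⟨e', a'⟩ h
  have h' : (e : G) * (a : G) = (e' : G) * (a' : G) := congrArg Subtype.val h
  have h1 : (e' : G)⁻¹ * (e : G) = (a' : G) * (a : G)⁻¹ := by
    calc (e' : G)⁻¹ * (e : G) = (e' : G)⁻¹ * ((e : G) * (a : G)) * (a : G)⁻¹ := by group
      _ = (e' : G)⁻¹ * ((e' : G) * (a' : G)) * (a : G)⁻¹ := by rw [h']
      _ = (a' : G) * (a : G)⁻¹ := by group
  have h2 : (e' : G)⁻¹ * (e : G) = 1 := by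
    apply hd
    · exact E.mul_mem (E.inv_mem e'.2) e.2
    · rw [h1]
      exact A.mul_mem a'.2 (A.inv_mem a.2)
  have h3 : (e : G) = e' := by
    have := inv_mul_eq_one.1 h2
    exact this.symm
  have h4 : (a : G) = a' := by
    rw [h3] at h'
    exact mul_left_cancel h'
  exact Prod.ext (Subtype.ext h3) (Subtype.ext h4)

end torusNorm

end Cfsg.Agent.Lib.Helper19.SzSol
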