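import Cfsg.Agent.Lib.Helper19.SzSolC
import Cfsg.Agent.Lib.Helper19.SzSolD

/-!
# Solubilizers in the Suzuki groups, part E: facts on 2-elements
-/

set_option autoImplicit false

namespace Cfsg.Agent.Lib.Helper19.SzSol

open Cfsg.Agent.Lib.Helper09

section twoGroups

variable {F : Type*} [Field F] [Fintype F] {m : ℕ}

/-- a 2-subgroup fixes a point of the ovoid -/
theorem two_group_fix (hm : 1 ≤ m) (hF : Fintype.card F = 2 ^ (2 * m + 1))
    (D : Subgroup ↥(Cfsg.Sz F m)) (hD : IsPGroup 2 ↥D) :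
    ∃ ω : ↥(Cfsg.suzukiOvoid F m), ∀ d ∈ D, d • ω = ω := by
  have : Fact (Nat.Prime 2) := ⟨Nat.prime_two⟩
  have := sz_finite (F := F) (m := m)
  obtain ⟨P, hP⟩ := hD.exists_le_sylow
  obtain ⟨g, rfl⟩ := sylow_eq_smul hm hF P
  refine ⟨g • oInf F m, fun d hd => ?_⟩
  have h1 := hP hd
  rw [Sylow.coe_subgroup_smul, Subgroup.mem_pointwise_smul_iff_inv_smul_mem, coe_Usyl] at h1
  have h2 : g⁻¹ * d * g ∈ Uz hF := by
    have : (MulAut.conj g)⁻¹ • d = g⁻¹ * d * g := by simp [MulAut.smul_def]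
    rwa [this] at h1
  have h3 : g⁻¹ * d * (g⁻¹)⁻¹ ∈ Uz hF := by rwa [inv_inv]
  have := fix_of_conj_Uz hF h3
  rwa [inv_inv] at this

theorem isPGroup_of_pow_four {G : Type*} [Group G] (D : Subgroup G) (h : ∀ d ∈ D, d ^ 4 = 1) :
    IsPGroup 2 ↥D := by
  intro d
  refine ⟨2, ?_⟩
  apply Subtype.ext
  have := h d d.2
  simpa using this

/-- two maximal tori normalised by a 2-element `x`, whose normalisers share an element not
fixing the fixed point of `x`, coincide -/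
theorem torus_eq_of_common (hm : 1 ≤ m) (hF : Fintype.card F = 2 ^ (2 * m + 1))
    {x y : ↥(Cfsg.Sz F m)} (hx1 : x ≠ 1) (hx4 : x ^ 4 = 1) {ω : ↥(Cfsg.suzukiOvoid F m)}
    (hxω : x • ω = ω) (hyω : y • ω ≠ ω) {A A' : Subgroup ↥(Cfsg.Sz F m)}
    (hA : IsMaxTorus hF A) (hA' : IsMaxTorus hF A')
    (hxA : x ∈ Subgroup.normalizer ((A : Subgroup ↥(Cfsg.Sz F m)) : Set ↥(Cfsg.Sz F m)))
    (hxA' : x ∈ Subgroup.normalizer ((A' : Subgroup ↥(Cfsg.Sz F m)) : Set ↥(Cfsg.Sz F m)))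
    (hyA : y ∈ Subgroup.normalizer ((A : Subgroup ↥(Cfsg.Sz F m)) : Set ↥(Cfsg.Sz F m)))
    (hyA' : y ∈ Subgroup.normalizer ((A' : Subgroup ↥(Cfsg.Sz F m)) : Set ↥(Cfsg.Sz F m))) :
    A = A' := by
  by_contra hne
  have tl := hA.torusLike hm
  have tl' := hA'.torusLike hm
  set D := Subgroup.normalizer ((A : Subgroup ↥(Cfsg.Sz F m)) : Set ↥(Cfsg.Sz F m)) ⊓
    Subgroup.normalizer ((A' : Subgroup ↥(Cfsg.Sz F m)) : Set ↥(Cfsg.Sz F m)) with hD
  have h4 : ∀ d ∈ D, d ^ 4 = 1 := by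
    rintro d ⟨hdA, hdA'⟩
    rcases mem_or_pow_four tl hdA with h | h
    · by_cases hd1 : d = 1
      · rw [hd1, one_pow]
      · exfalso
        have hd' : d ∈ A' := mem_of_odd_normalizer tl' (tl.odd d h) hdA'
        exact hne (torus_unique tl tl' hd1 h hd')
    · exact h
  obtain ⟨ω', hω'⟩ := two_group_fix hm hF D (isPGroup_of_pow_four D h4)
  have hxD : x ∈ D := ⟨hxA, hxA'⟩
  have hyD : y ∈ D := ⟨hyA, hyA'⟩
  have : ω' = ω := two_elt_fix_unique hm hF hx1 hx4 (hω' x hxD) hxω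
  rw [this] at hω'
  exact hyω (hω' y hyD)

/-- the normaliser of a torus meets the stabiliser of the fixed point of a 2-element normalising
the torus trivially in the torus -/
theorem inter_torus_stab (hm : 1 ≤ m) (hF : Fintype.card F = 2 ^ (2 * m + 1))
    {x : ↥(Cfsg.Sz F m)} (hxU : x ∈ Uz hF) (hx1 : x ≠ 1) {A : Subgroup ↥(Cfsg.Sz F m)}
    (tl : TorusLike A)
    (hxA : x ∈ Subgroup.normalizer ((A : Subgroup ↥(Cfsg.Sz F m)) : Set ↥(Cfsg.Sz F m)))
    {a : ↥(Cfsg.Sz F m)} (ha : a ∈ A) (hainf : a • oInf F m = oInf F m) : a = 1 := by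
  by_contra ha1
  have haN : a ∈ Subgroup.normalizer ((Uz hF : Subgroup ↥(Cfsg.Sz F m)) : Set ↥(Cfsg.Sz F m)) := by
    rw [normalizer_Uz hm hF]
    exact MulAction.mem_stabilizer_iff.2 hainf
  have h1 : a * x⁻¹ * a⁻¹ ∈ Uz hF :=
    (Subgroup.mem_normalizer_iff.1 haN x⁻¹).1 ((Uz hF).inv_mem hxU)
  have hu : x * (a * x⁻¹ * a⁻¹) ∈ Uz hF := (Uz hF).mul_mem hxU h1
  have h2 : x * a * x⁻¹ ∈ A := (Subgroup.mem_normalizer_iff.1 hxA a).1 ha
  have hu' : x * (a * x⁻¹ * a⁻¹) ∈ A := by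
    have : x * (a * x⁻¹ * a⁻¹) = (x * a * x⁻¹) * a⁻¹ := by group
    rw [this]
    exact A.mul_mem h2 (A.inv_mem ha)
  obtain ⟨c, d, hcd⟩ := (mem_Uz hF _).1 hu
  have hu4 : (x * (a * x⁻¹ * a⁻¹)) ^ 4 = 1 := by rw [hcd, tauG_pow_four]
  have hu1 := eq_one_of_pow_four_of_odd hu4 (tl.odd _ hu')
  have hcomm : x * a = a * x := by
    have : x * a = (x * (a * x⁻¹ * a⁻¹)) * (a * x) := by group
    rw [this, hu1, one_mul]
  have hxA' : x ∈ A := tl.cent a ha ha1 x hcomm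
  obtain ⟨c', d', hx⟩ := (mem_Uz hF _).1 hxU
  have hx4 : x ^ 4 = 1 := by rw [hx, tauG_pow_four]
  exact hx1 (eq_one_of_pow_four_of_odd hx4 (tl.odd x hxA'))

theorem odd_card_of_torusLike {G : Type*} [Group G] [Finite G] {A : Subgroup G}
    (tl : TorusLike A) : ¬ 2 ∣ Nat.card A := by
  have : Fact (Nat.Prime 2) := ⟨Nat.prime_two⟩
  intro h2
  obtain ⟨u, hu⟩ := exists_prime_orderOf_dvd_card' 2 h2
  have := tl.odd (u : G) u.2
  rw [Subgroup.orderOf_coe, hu] at this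
  exact this (dvd_refl 2)

theorem factorization_two_pow_mul (n a : ℕ) (ha : ¬ 2 ∣ a) :
    (2 ^ n * a).factorization 2 = n := by
  have ha0 : a ≠ 0 := by
    rintro rfl
    exact ha (dvd_zero 2)
  rw [Nat.factorization_mul (pow_ne_zero n (by norm_num)) ha0, Nat.Prime.factorization_pow
    Nat.prime_two, Finsupp.add_apply, Finsupp.single_eq_same,
    Nat.factorization_eq_zero_of_not_dvd ha, add_zero]

/-- the stabiliser of the fixed point in the normaliser of a torus is a Sylow 2-subgroup of the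
normaliser -/
theorem ncard_norm_fix (hm : 1 ≤ m) (hF : Fintype.card F = 2 ^ (2 * m + 1))
    {x : ↥(Cfsg.Sz F m)} (hxU : x ∈ Uz hF) (hx1 : x ≠ 1) {A : Subgroup ↥(Cfsg.Sz F m)}
    (hA : IsMaxTorus hF A)
    (hxA : x ∈ Subgroup.normalizer ((A : Subgroup ↥(Cfsg.Sz F m)) : Set ↥(Cfsg.Sz F m)))
    (n : ℕ)
    (hn : Nat.card ↥(Subgroup.normalizer ((A : Subgroup ↥(Cfsg.Sz F m)) : Set ↥(Cfsg.Sz F m))) =
      2 ^ n * Nat.card A) :
    {y : ↥(Cfsg.Sz F m) |
      y ∈ Subgroup.normalizer ((A : Subgroup ↥(Cfsg.Sz F m)) : Set ↥(Cfsg.Sz F m)) ∧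
        y • oInf F m = oInf F m}.ncard = 2 ^ n := by
  have : Fact (Nat.Prime 2) := ⟨Nat.prime_two⟩
  have hfin := sz_finite (F := F) (m := m)
  have tl := hA.torusLike hm
  set N := Subgroup.normalizer ((A : Subgroup ↥(Cfsg.Sz F m)) : Set ↥(Cfsg.Sz F m)) with hN
  set E : Subgroup ↥(Cfsg.Sz F m) := N ⊓ MulAction.stabilizer ↥(Cfsg.Sz F m) (oInf F m) with hE
  have hset : {y : ↥(Cfsg.Sz F m) | y ∈ N ∧ y • oInf F m = oInf F m} =
      (E : Set ↥(Cfsg.Sz F m)) := by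
    ext y
    simp only [hE, Subgroup.coe_inf, Set.mem_inter_iff, SetLike.mem_coe,
      MulAction.mem_stabilizer_iff]
    rfl
  have hcE : (E : Set ↥(Cfsg.Sz F m)).ncard = Nat.card E := by
    rw [← Nat.card_coe_set_eq]
    rfl
  rw [hset, hcE]
  have hApos : 0 < Nat.card A := Nat.card_pos
  obtain ⟨a₀, b₀, hx⟩ := (mem_Uz hF _).1 hxU
  have hx4 : x ^ 4 = 1 := by rw [hx, tauG_pow_four]
  apply le_antisymm
  · have h1 := card_mul_le_of_disjoint E A N inf_le_left Subgroup.le_normalizer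
      (fun g hgE hgA => inter_torus_stab hm hF hxU hx1 tl hxA hgA
        (MulAction.mem_stabilizer_iff.1 hgE.2))
    rw [hn] at h1
    exact Nat.le_of_mul_le_mul_right h1 hApos
  · -- a Sylow 2-subgroup of the normaliser containing `x`
    let x' : ↥N := ⟨x, hxA⟩
    have hx'4 : x' ^ 4 = 1 := Subtype.ext (by simpa using hx4)
    have hp : IsPGroup 2 ↥(Subgroup.zpowers x') := by
      have hdvd : orderOf x' ∣ 2 ^ 2 := orderOf_dvd_of_pow_eq_one hx'4
      obtain ⟨j, -, hj⟩ := (Nat.dvd_prime_pow Nat.prime_two).1 hdvd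
      exact IsPGroup.of_card (n := j) (by rw [Nat.card_zpowers, hj])
    obtain ⟨S, hS⟩ := hp.exists_le_sylow
    have hcS : Nat.card S = 2 ^ n := by
      rw [Sylow.card_eq_multiplicity, hn, factorization_two_pow_mul n _ (odd_card_of_torusLike tl)]
    set S' : Subgroup ↥(Cfsg.Sz F m) := (S : Subgroup ↥N).map N.subtype with hS'
    have hcS' : Nat.card S' = 2 ^ n := by
      rw [hS', Subgroup.card_map_of_injective N.subtype_injective]
      exact hcS
    have hpS' : IsPGroup 2 ↥S' := S.isPGroup'.map _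
    obtain ⟨ω, hω⟩ := two_group_fix hm hF S' hpS'
    have hxS' : x ∈ S' := ⟨x', hS (Subgroup.mem_zpowers x'), rfl⟩
    have hωinf : ω = oInf F m := by
      have h1 := hω x hxS'
      rw [hx] at h1
      apply tauG_fix hF _ h1
      rw [← hx]
      exact hx1
    have hle : S' ≤ E := by
      intro d hd
      refine ⟨?_, ?_⟩
      · obtain ⟨d', -, rfl⟩ := hd
        exact d'.2
      · have h0 := hω d hd
        rw [hωinf] at h0
        exact MulAction.mem_stabilizer_iff.2 h0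
    rw [← hcS']
    exact Subgroup.card_le_of_le hle

end twoGroups

end Cfsg.Agent.Lib.Helper19.SzSol
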