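import Cfsg.Agent.Lib.Helper19.SzSolE

/-!
# Solubilizers in the Suzuki groups, part F: classes and centralisers of 2-elements
-/

set_option autoImplicit false

namespace Cfsg.Agent.Lib.Helper19.SzSol

open Cfsg.Agent.Lib.Helper09

section field

variable {F : Type*} [Field F] [Fintype F] {m : ℕ}

theorem add_self' (hF : Fintype.card F = 2 ^ (2 * m + 1)) (a : F) : a + a = 0 := by
  linear_combination a * two_eq_zero' hF

theorem sg_fixed (hF : Fintype.card F = 2 ^ (2 * m + 1)) {c : F} (h : sg m c = c) :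
    c = 0 ∨ c = 1 := by
  have h1 : sg m (sg m c) = c := by rw [h, h]
  rw [sg_sg hF] at h1
  have h2 : c * (c - 1) = 0 := by linear_combination h1
  rcases mul_eq_zero.1 h2 with h0 | h0
  · exact Or.inl h0
  · exact Or.inr (by linear_combination h0)

/-- the additive map `c ↦ c^σ + c` -/
noncomputable def phiHom (hF : Fintype.card F = 2 ^ (2 * m + 1)) : F →+ F where
  toFun c := sg m c + c
  map_zero' := by rw [sg_zero, zero_add]
  map_add' a b := by rw [sg_add hF]; ring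

theorem phiHom_apply (hF : Fintype.card F = 2 ^ (2 * m + 1)) (c : F) :
    phiHom (m := m) hF c = sg m c + c := rfl

theorem card_ker_phi (hF : Fintype.card F = 2 ^ (2 * m + 1)) :
    Nat.card ↥(phiHom (m := m) hF).ker = 2 := by
  rw [Nat.card_eq_two_iff]
  have h0 : (0 : F) ∈ (phiHom (m := m) hF).ker := (phiHom hF).ker.zero_mem
  have h1 : (1 : F) ∈ (phiHom (m := m) hF).ker := by
    rw [AddMonoidHom.mem_ker, phiHom_apply, sg_one]
    exact add_self' hF 1
  refine ⟨⟨0, h0⟩, ⟨1, h1⟩, ?_, ?_⟩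
  · intro h
    exact zero_ne_one (congrArg Subtype.val h)
  · rw [Set.eq_univ_iff_forall]
    rintro ⟨c, hc⟩
    rw [AddMonoidHom.mem_ker, phiHom_apply] at hc
    have hc' : sg m c = c := by linear_combination hc - add_self' hF c
    rcases sg_fixed hF hc' with rfl | rfl
    · exact Or.inl rfl
    · exact Or.inr rfl

theorem index_range_phi (hF : Fintype.card F = 2 ^ (2 * m + 1)) :
    (phiHom (m := m) hF).range.index = 2 := by
  have h1 := AddSubgroup.card_eq_card_quotient_mul_card_addSubgroup (phiHom (m := m) hF).ker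
  have h2 : Nat.card (F ⧸ (phiHom (m := m) hF).ker) = Nat.card ↥(phiHom (m := m) hF).range :=
    Nat.card_congr (QuotientAddGroup.quotientKerEquivRange (phiHom (m := m) hF)).toEquiv
  rw [card_ker_phi hF, h2] at h1
  have h3 := AddSubgroup.index_mul_card (phiHom (m := m) hF).range
  rw [h1] at h3
  have hpos : 0 < Nat.card ↥(phiHom (m := m) hF).range := Nat.card_pos
  have h4 : (phiHom (m := m) hF).range.index * Nat.card ↥(phiHom (m := m) hF).range =
      2 * Nat.card ↥(phiHom (m := m) hF).range := by rw [h3, mul_comm]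
  exact Nat.eq_of_mul_eq_mul_right hpos h4

/-- every element is of the form `c^σ + c` or `c^σ + c + 1` -/
theorem exists_phi (hF : Fintype.card F = 2 ^ (2 * m + 1)) (b : F) :
    ∃ c : F, sg m c + c = b ∨ sg m c + c = b + 1 := by
  have hidx := index_range_phi (m := m) hF
  have h1 : (1 : F) ∉ (phiHom (m := m) hF).range := by
    rintro ⟨c, hc⟩
    rw [phiHom_apply] at hc
    exact Cfsg.Agent.S2241.no_sg_add_eq_one hF c hc
  by_cases hb : b ∈ (phiHom (m := m) hF).range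
  · obtain ⟨c, hc⟩ := hb
    exact ⟨c, Or.inl hc⟩
  · have h2 := AddSubgroup.add_mem_iff_of_index_two hidx (a := b) (b := 1)
    have h3 : b + 1 ∈ (phiHom (m := m) hF).range := by
      rw [h2]
      exact ⟨fun h => absurd h hb, fun h => absurd h h1⟩
    obtain ⟨c, hc⟩ := h3
    exact ⟨c, Or.inr hc⟩

end field

section classes

variable {F : Type*} [Field F] [Fintype F] {m : ℕ}

/-- all involutions are conjugate -/
theorem involution_conj (hm : 1 ≤ m) (hF : Fintype.card F = 2 ^ (2 * m + 1))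
    {y : ↥(Cfsg.Sz F m)} (hy1 : y ≠ 1) (hy2 : y ^ 2 = 1) :
    ∃ g : ↥(Cfsg.Sz F m), g⁻¹ * tauG hF 0 1 * g = y := by
  obtain ⟨z, hz⟩ := two_elt_conj hm hF hy1 (pow_four_of_sq hy2)
  obtain ⟨a, b, hab⟩ := (mem_Uz hF _).1 hz
  have hsq : tauG hF a b ^ 2 = 1 := by
    rw [← hab, conj_pow, hy2]
    group
  rw [Cfsg.Agent.S2241.tauG_sq, ← tauG_zero hF] at hsq
  have ha : a = 0 := by
    have := (tauG_injective hF hsq).2
    rcases mul_eq_zero.1 this with h0 | h0
    · exact sg_eq_zero.1 h0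
    · exact h0
  subst ha
  have hb : b ≠ 0 := by
    rintro rfl
    rw [tauG_zero] at hab
    apply hy1
    have : y = z⁻¹ * (z * y * z⁻¹) * z := by group
    rw [this, hab]
    group
  obtain ⟨l, hl⟩ := sgmul_surjective hF b
  have hl0 : l ≠ 0 := by
    rintro rfl
    rw [sg_zero, zero_mul] at hl
    exact hb hl.symm
  set L : Fˣ := Units.mk0 l hl0 with hL
  have hc : hG hF L * tauG hF 0 1 * (hG hF L)⁻¹ = tauG hF 0 b := by
    rw [hG_conj_tauG, hL, Units.val_mk0, mul_zero, mul_one, hl]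
  refine ⟨(hG hF L)⁻¹ * z, ?_⟩
  calc ((hG hF L)⁻¹ * z)⁻¹ * tauG hF 0 1 * ((hG hF L)⁻¹ * z)
      = z⁻¹ * (hG hF L * tauG hF 0 1 * (hG hF L)⁻¹) * z := by group
    _ = z⁻¹ * (z * y * z⁻¹) * z := by rw [hc, hab]
    _ = y := by group

/-- the elements of order four fall into two mutually inverse classes -/
theorem order_four_conj (hm : 1 ≤ m) (hF : Fintype.card F = 2 ^ (2 * m + 1))
    {y : ↥(Cfsg.Sz F m)} (hy2 : y ^ 2 ≠ 1) (hy4 : y ^ 4 = 1) :
    (∃ g : ↥(Cfsg.Sz F m), g⁻¹ * tauG hF 1 0 * g = y) ∨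
    (∃ g : ↥(Cfsg.Sz F m), g⁻¹ * tauG hF 1 0 * g = y⁻¹) := by
  have hy1 : y ≠ 1 := by
    rintro rfl
    exact hy2 (one_pow 2)
  obtain ⟨z, hz⟩ := two_elt_conj hm hF hy1 hy4
  obtain ⟨a, b, hab⟩ := (mem_Uz hF _).1 hz
  have ha : a ≠ 0 := by
    rintro rfl
    apply hy2
    have h1 : tauG hF 0 b ^ 2 = 1 := by
      rw [Cfsg.Agent.S2241.tauG_sq, sg_zero, zero_mul, tauG_zero]
    rw [← hab, conj_pow] at h1
    have : y ^ 2 = z⁻¹ * (z * y ^ 2 * z⁻¹) * z := by group
    rw [this, h1]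
    group
  -- normalise the first coordinate
  set K : Fˣ := (Units.mk0 a ha)⁻¹ with hK
  have hKa : (K : F) * a = 1 := by
    rw [hK, Units.val_inv_eq_inv_val, Units.val_mk0, inv_mul_cancel₀ ha]
  set b' : F := sg m (K : F) * K * b with hb'
  have hc1 : hG hF K * tauG hF a b * (hG hF K)⁻¹ = tauG hF 1 b' := by
    rw [hG_conj_tauG, hKa]
  obtain ⟨c, hc | hc⟩ := exists_phi (m := m) hF b'
  · left
    have hc2 : tauG hF c 0 * tauG hF 1 0 * (tauG hF c 0)⁻¹ = tauG hF 1 b' := by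
      rw [tauG_conj_tauG, sg_one, zero_add, mul_one, one_mul, hc]
    refine ⟨(tauG hF c 0)⁻¹ * hG hF K * z, ?_⟩
    calc ((tauG hF c 0)⁻¹ * hG hF K * z)⁻¹ * tauG hF 1 0 * ((tauG hF c 0)⁻¹ * hG hF K * z)
        = z⁻¹ * (hG hF K)⁻¹ * (tauG hF c 0 * tauG hF 1 0 * (tauG hF c 0)⁻¹) * hG hF K * z := by
          group
      _ = z⁻¹ * (hG hF K)⁻¹ * (hG hF K * (z * y * z⁻¹) * (hG hF K)⁻¹) * hG hF K * z := by
          rw [hc2, ← hc1, hab]
      _ = y := by group
  · right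
    have hc2 : tauG hF c 0 * tauG hF 1 0 * (tauG hF c 0)⁻¹ = (tauG hF 1 b')⁻¹ := by
      rw [tauG_conj_tauG, tauG_inv, sg_one, zero_add, mul_one, one_mul, hc, mul_one]
    refine ⟨(tauG hF c 0)⁻¹ * hG hF K * z, ?_⟩
    calc ((tauG hF c 0)⁻¹ * hG hF K * z)⁻¹ * tauG hF 1 0 * ((tauG hF c 0)⁻¹ * hG hF K * z)
        = z⁻¹ * (hG hF K)⁻¹ * (tauG hF c 0 * tauG hF 1 0 * (tauG hF c 0)⁻¹) * hG hF K * z := by
          group
      _ = z⁻¹ * (hG hF K)⁻¹ * (hG hF K * (z * y * z⁻¹) * (hG hF K)⁻¹)⁻¹ * hG hF K * z := by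
          rw [hc2, ← hc1, hab]
      _ = y⁻¹ := by group

theorem tauG_one_zero_sq (hF : Fintype.card F = 2 ^ (2 * m + 1)) :
    tauG (m := m) hF (1 : F) 0 ^ 2 ≠ 1 := by
  rw [Cfsg.Agent.S2241.tauG_sq, sg_one, mul_one, ← tauG_zero hF]
  intro h
  exact one_ne_zero (tauG_injective hF h).2

/-- an element of order four is not conjugate to its inverse -/
theorem order_four_not_real (hm : 1 ≤ m) (hF : Fintype.card F = 2 ^ (2 * m + 1))
    {y : ↥(Cfsg.Sz F m)}
    (h1 : ∃ g : ↥(Cfsg.Sz F m), g⁻¹ * tauG hF 1 0 * g = y)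
    (h2 : ∃ g : ↥(Cfsg.Sz F m), g⁻¹ * tauG hF 1 0 * g = y⁻¹) : False := by
  obtain ⟨g₁, hg₁⟩ := h1
  obtain ⟨g₂, hg₂⟩ := h2
  have hne : tauG (m := m) hF (1 : F) 0 ≠ 1 := tauG_one_ne_one hF
  have hreal : IsConj (tauG (m := m) hF (1 : F) 0) (tauG hF (1 : F) 0)⁻¹ := by
    rw [isConj_iff]
    refine ⟨g₁ * g₂⁻¹, ?_⟩
    have e1 : tauG hF (1 : F) 0 = g₁ * y * g₁⁻¹ := by rw [← hg₁]; group
    have e2 : (tauG hF (1 : F) 0)⁻¹ = g₂ * y * g₂⁻¹ := by
      have : (tauG hF (1 : F) 0) = g₂ * y⁻¹ * g₂⁻¹ := by rw [← hg₂]; group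
      rw [this]; group
    calc g₁ * g₂⁻¹ * tauG hF (1 : F) 0 * (g₁ * g₂⁻¹)⁻¹
        = g₁ * (g₂⁻¹ * tauG hF (1 : F) 0 * g₂) * g₁⁻¹ := by group
      _ = g₁ * y⁻¹ * g₁⁻¹ := by rw [hg₂]
      _ = (g₁ * y * g₁⁻¹)⁻¹ := by group
      _ = (tauG hF (1 : F) 0)⁻¹ := by rw [← e1]
  have h2' := (Cfsg.Agent.S2241.real_iff_tauG hm hF hne).1 hreal
  have h3 : tauG (m := m) hF (1 : F) 0 ^ 2 = 1 := by
    rw [← h2']
    exact pow_orderOf_eq_one _
  exact tauG_one_zero_sq hF h3

end classes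

section centralizers

variable {F : Type*} [Field F] [Fintype F] {m : ℕ}

theorem card_centralizer_invol (hm : 1 ≤ m) (hF : Fintype.card F = 2 ^ (2 * m + 1)) :
    Nat.card ↥(Subgroup.centralizer ({tauG hF (0 : F) 1} : Set ↥(Cfsg.Sz F m))) =
      (2 ^ (2 * m + 1)) ^ 2 := by
  have h : Subgroup.centralizer ({tauG hF (0 : F) 1} : Set ↥(Cfsg.Sz F m)) = Uz hF := by
    ext c
    rw [mem_centralizer_singleton]
    constructor
    · intro hc
      exact commute_central hm hF one_ne_zero hc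
    · intro hc
      obtain ⟨a, b, rfl⟩ := (mem_Uz hF _).1 hc
      rw [tauG_mul, tauG_mul, sg_zero]
      congr 1 <;> ring
  rw [h, card_Uz]

theorem mem_centralizer_z0 (hm : 1 ≤ m) (hF : Fintype.card F = 2 ^ (2 * m + 1))
    (c : ↥(Cfsg.Sz F m)) :
    c ∈ Subgroup.centralizer ({tauG hF (1 : F) 0} : Set ↥(Cfsg.Sz F m)) ↔
      ∃ d : F, c = tauG hF 0 d ∨ c = tauG hF 1 d := by
  rw [mem_centralizer_singleton]
  constructor
  · intro hc
    have hfix : tauG hF (1 : F) 0 • (c • oInf F m) = c • oInf F m := by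
      rw [← mul_smul, ← hc, mul_smul, tauG_smul_oInf]
    have hcinf : c • oInf F m = oInf F m := tauG_fix hF (tauG_one_ne_one hF) hfix
    obtain ⟨c', d', k, rfl⟩ :=
      (mem_stab_inf_iff hm hF c).1 (MulAction.mem_stabilizer_iff.2 hcinf)
    have hconj : (tauG hF c' d' * hG hF k) * tauG hF (1 : F) 0 * (tauG hF c' d' * hG hF k)⁻¹ =
        tauG hF (1 : F) 0 := by
      rw [hc]
      group
    rw [borel_conj_tauG] at hconj
    obtain ⟨e1, e2⟩ := tauG_injective hF hconj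
    have hk : k = 1 := by
      apply Units.ext
      rw [Units.val_one]
      linear_combination e1
    subst hk
    rw [hG_one, mul_one]
    simp only [Units.val_one, mul_one, sg_one, mul_zero, zero_add, one_mul] at e2
    have hc' : sg m c' = c' := by linear_combination e2 - add_self' hF c'
    rcases sg_fixed hF hc' with rfl | rfl
    · exact ⟨d', Or.inl rfl⟩
    · exact ⟨d', Or.inr rfl⟩
  · rintro ⟨d, rfl | rfl⟩
    · rw [tauG_mul, tauG_mul, sg_zero, sg_one]
      congr 1 <;> ring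
    · rw [tauG_mul, tauG_mul, sg_one]
      congr 1 <;> ring

theorem card_centralizer_z0 (hm : 1 ≤ m) (hF : Fintype.card F = 2 ^ (2 * m + 1)) :
    Nat.card ↥(Subgroup.centralizer ({tauG hF (1 : F) 0} : Set ↥(Cfsg.Sz F m))) =
      2 * 2 ^ (2 * m + 1) := by
  have hfin := sz_finite (F := F) (m := m)
  have hset : (Subgroup.centralizer ({tauG hF (1 : F) 0} : Set ↥(Cfsg.Sz F m)) :
      Set ↥(Cfsg.Sz F m)) =
      Set.range (fun d : F => tauG (m := m) hF 0 d) ∪ Set.range (fun d : F => tauG (m := m) hF 1 d) := by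
    ext c
    rw [SetLike.mem_coe, mem_centralizer_z0 hm hF]
    constructor
    · rintro ⟨d, rfl | rfl⟩
      · exact Or.inl ⟨d, rfl⟩
      · exact Or.inr ⟨d, rfl⟩
    · rintro (⟨d, rfl⟩ | ⟨d, rfl⟩)
      · exact ⟨d, Or.inl rfl⟩
      · exact ⟨d, Or.inr rfl⟩
  have hdisj : Disjoint (Set.range (fun d : F => tauG (m := m) hF 0 d))
      (Set.range (fun d : F => tauG (m := m) hF 1 d)) := by
    rw [Set.disjoint_left]
    rintro _ ⟨d, rfl⟩ ⟨d', hd'⟩
    exact one_ne_zero (tauG_injective hF hd').1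
  have hc0 : (Set.range (fun d : F => tauG (m := m) hF 0 d)).ncard = 2 ^ (2 * m + 1) := by
    rw [← Set.image_univ, Set.ncard_image_of_injective _
      (fun d d' h => (tauG_injective hF h).2), Set.ncard_univ, Nat.card_eq_fintype_card, hF]
  have hc1 : (Set.range (fun d : F => tauG (m := m) hF 1 d)).ncard = 2 ^ (2 * m + 1) := by
    rw [← Set.image_univ, Set.ncard_image_of_injective _
      (fun d d' h => (tauG_injective hF h).2), Set.ncard_univ, Nat.card_eq_fintype_card, hF]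
  have : Nat.card ↥(Subgroup.centralizer ({tauG hF (1 : F) 0} : Set ↥(Cfsg.Sz F m))) =
      (Subgroup.centralizer ({tauG hF (1 : F) 0} : Set ↥(Cfsg.Sz F m)) :
        Set ↥(Cfsg.Sz F m)).ncard := by
    rw [← Nat.card_coe_set_eq]
    rfl
  rw [this, hset, Set.ncard_union_eq hdisj (Set.toFinite _) (Set.toFinite _), hc0, hc1]
  ring

/-- the normaliser of the split torus contains no element of order four -/
theorem conjInNorm_Hz_z0 (hm : 1 ≤ m) (hF : Fintype.card F = 2 ^ (2 * m + 1)) :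
    conjInNorm (Hz hF) (tauG (m := m) hF (1 : F) 0) = ∅ := by
  rw [Set.eq_empty_iff_forall_notMem]
  rintro z ⟨hzN, g, rfl⟩
  have hsq : (g⁻¹ * tauG hF (1 : F) 0 * g) ^ 2 ≠ 1 := by
    intro h
    apply tauG_one_zero_sq (m := m) hF
    have e := conj_inv_pow g (tauG hF (1 : F) 0) 2
    rw [e] at h
    have : tauG hF (1 : F) 0 ^ 2 = g * (g⁻¹ * tauG hF (1 : F) 0 ^ 2 * g) * g⁻¹ := by group
    rw [this, h]
    group
  have h4 : (g⁻¹ * tauG hF (1 : F) 0 * g) ^ 4 = 1 := by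
    rw [conj_inv_pow, tauG_pow_four]
    group
  rcases (mem_normalizer_Hz hm hF _).1 hzN with ⟨l, hl⟩ | ⟨l, hl⟩
  · rw [hl, hG_pow] at h4
    have hl4 : l ^ 4 = 1 := hG_eq_one hF h4
    have hl1 : (l : F) = 1 := by
      apply fourth_root_one hF
      have := congrArg Units.val hl4
      simpa using this
    have : l = 1 := Units.ext (by rw [hl1, Units.val_one])
    rw [hl, this, hG_one, one_pow] at hsq
    exact hsq rfl
  · apply hsq
    rw [hl, sq]
    calc wG hF * hG hF l * (wG hF * hG hF l)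
        = hG hF l⁻¹ * wG hF * (wG hF * hG hF l) := by rw [wG_mul_hG]
      _ = hG hF l⁻¹ * (wG hF * wG hF) * hG hF l := by group
      _ = 1 := by rw [wG_mul_wG, mul_one, ← hG_mul, inv_mul_cancel, hG_one]

end centralizers

end Cfsg.Agent.Lib.Helper19.SzSol
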