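import Cfsg.Agent.Lib.Helper19.SzSolF

/-!
# Solubilizers in the Suzuki groups, part G: the solubilizer of a 2-element as a disjoint union
-/

set_option autoImplicit false

namespace Cfsg.Agent.Lib.Helper19.SzSol

open Cfsg.Agent.Lib.Helper09

section tails

variable {F : Type*} [Field F] [Fintype F] {m : ℕ}

/-- the elements outside the point stabiliser lying in the normaliser of a conjugate of `T`
normalised by `x` -/
def tail (T : Subgroup ↥(Cfsg.Sz F m)) (x : ↥(Cfsg.Sz F m)) : Set ↥(Cfsg.Sz F m) :=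
  {y | y • oInf F m ≠ oInf F m ∧ ∃ A ∈ conjNormSet T x,
    y ∈ Subgroup.normalizer ((A : Subgroup ↥(Cfsg.Sz F m)) : Set ↥(Cfsg.Sz F m))}

theorem Uz_facts (hF : Fintype.card F = 2 ^ (2 * m + 1)) {x : ↥(Cfsg.Sz F m)}
    (hxU : x ∈ Uz hF) : x ^ 4 = 1 ∧ x • oInf F m = oInf F m := by
  obtain ⟨a, b, rfl⟩ := (mem_Uz hF _).1 hxU
  exact ⟨tauG_pow_four hF a b, tauG_smul_oInf hF a b⟩

theorem Uz_fix_eq (hF : Fintype.card F = 2 ^ (2 * m + 1)) {x : ↥(Cfsg.Sz F m)}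
    (hxU : x ∈ Uz hF) (hx1 : x ≠ 1) {ω : ↥(Cfsg.suzukiOvoid F m)} (h : x • ω = ω) :
    ω = oInf F m := by
  obtain ⟨a, b, rfl⟩ := (mem_Uz hF _).1 hxU
  exact tauG_fix hF hx1 h

theorem ncard_tail (hm : 1 ≤ m) (hF : Fintype.card F = 2 ^ (2 * m + 1))
    {x : ↥(Cfsg.Sz F m)} (hxU : x ∈ Uz hF) (hx1 : x ≠ 1) (T : Subgroup ↥(Cfsg.Sz F m))
    (hconj : ∀ g : ↥(Cfsg.Sz F m), IsMaxTorus hF (T.map (MulAut.conj g).toMonoidHom)) (n : ℕ)
    (hn : Nat.card ↥(Subgroup.normalizer ((T : Subgroup ↥(Cfsg.Sz F m)) : Set ↥(Cfsg.Sz F m))) =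
      2 ^ n * Nat.card T) :
    (tail T x).ncard = (conjNormSet T x).ncard *
      (Nat.card ↥(Subgroup.normalizer ((T : Subgroup ↥(Cfsg.Sz F m)) : Set ↥(Cfsg.Sz F m))) -
        2 ^ n) := by
  classical
  have hfin := sz_finite (F := F) (m := m)
  obtain ⟨hx4, hxinf⟩ := Uz_facts hF hxU
  set Fib : Subgroup ↥(Cfsg.Sz F m) → Set ↥(Cfsg.Sz F m) := fun A =>
    {y | y ∈ Subgroup.normalizer ((A : Subgroup ↥(Cfsg.Sz F m)) : Set ↥(Cfsg.Sz F m)) ∧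
      y • oInf F m ≠ oInf F m} with hFib
  have hc : ∀ A ∈ conjNormSet T x, (Fib A).ncard =
      Nat.card ↥(Subgroup.normalizer ((T : Subgroup ↥(Cfsg.Sz F m)) : Set ↥(Cfsg.Sz F m))) -
        2 ^ n := by
    rintro A ⟨⟨g, rfl⟩, hxA⟩
    have hn' : Nat.card ↥(Subgroup.normalizer
        ((T.map (MulAut.conj g).toMonoidHom : Subgroup ↥(Cfsg.Sz F m)) : Set ↥(Cfsg.Sz F m))) =
        2 ^ n * Nat.card ↥(T.map (MulAut.conj g).toMonoidHom) := by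
      rw [card_normalizer_map_conj, card_map_conj, hn]
    have h1 := ncard_norm_fix hm hF hxU hx1 (hconj g) hxA n hn'
    set N := Subgroup.normalizer
      ((T.map (MulAut.conj g).toMonoidHom : Subgroup ↥(Cfsg.Sz F m)) : Set ↥(Cfsg.Sz F m)) with hN
    have hsplit : (N : Set ↥(Cfsg.Sz F m)) =
        Fib (T.map (MulAut.conj g).toMonoidHom) ∪
          {y | y ∈ N ∧ y • oInf F m = oInf F m} := by
      ext y
      constructor
      · intro hy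
        by_cases h : y • oInf F m = oInf F m
        · exact Or.inr ⟨hy, h⟩
        · exact Or.inl ⟨hy, h⟩
      · rintro (h | h)
        · exact h.1
        · exact h.1
    have hdisj : Disjoint (Fib (T.map (MulAut.conj g).toMonoidHom))
        {y | y ∈ N ∧ y • oInf F m = oInf F m} := by
      rw [Set.disjoint_left]
      rintro y ⟨-, h1⟩ ⟨-, h2⟩
      exact h1 h2
    have hcN : (N : Set ↥(Cfsg.Sz F m)).ncard = Nat.card ↥N := by
      rw [← Nat.card_coe_set_eq]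
      rfl
    have h2 := Set.ncard_union_eq hdisj (Set.toFinite _) (Set.toFinite _)
    rw [← hsplit, hcN, h1, hN, card_normalizer_map_conj] at h2
    omega
  have hpairs := card_pairs (conjNormSet T x) (Set.toFinite _) Fib _ hc
  rw [← hpairs, ← Nat.card_coe_set_eq]
  symm
  refine Nat.card_congr (Equiv.ofBijective
    (fun p : {p : Subgroup ↥(Cfsg.Sz F m) × ↥(Cfsg.Sz F m) //
        p.1 ∈ conjNormSet T x ∧ p.2 ∈ Fib p.1} =>
      (⟨p.1.2, p.2.2.2, p.1.1, p.2.1, p.2.2.1⟩ : ↥(tail T x))) ⟨?_, ?_⟩)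
  · rintro ⟨⟨A, y⟩, ⟨⟨g, hg⟩, hxA⟩, hyA, hyinf⟩ ⟨⟨A', y'⟩, ⟨⟨g', hg'⟩, hxA'⟩, hyA', hyinf'⟩ h
    have hyy : y = y' := congrArg Subtype.val h
    subst hyy
    have hAA : A = A' := by
      refine torus_eq_of_common hm hF hx1 hx4 hxinf hyinf ?_ ?_ hxA hxA' hyA hyA'
      · have hg0 : A = T.map (MulAut.conj g).toMonoidHom := hg
        rw [hg0]; exact hconj g
      · have hg0 : A' = T.map (MulAut.conj g').toMonoidHom := hg'
        rw [hg0]; exact hconj g'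
    subst hAA
    rfl
  · rintro ⟨y, hyinf, A, hA, hyA⟩
    exact ⟨⟨(A, y), hA, hyA, hyinf⟩, rfl⟩

/-- the decomposition of the solubilizer of a 2-element -/
theorem sol_set_eq (hm : 1 ≤ m) (hp : (2 * m + 1).Prime) (hF : Fintype.card F = 2 ^ (2 * m + 1))
    {x : ↥(Cfsg.Sz F m)} (hxU : x ∈ Uz hF) (hx1 : x ≠ 1) {T₁ T₂ : Subgroup ↥(Cfsg.Sz F m)}
    (hT : ToriData hF T₁ T₂) :
    {y : ↥(Cfsg.Sz F m) | Group.IsSolvable ↥(Subgroup.closure ({x, y} : Set ↥(Cfsg.Sz F m)))} =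
      (({y | y • oInf F m = oInf F m} ∪ tail (Hz hF) x) ∪ tail T₁ x) ∪ tail T₂ x := by
  obtain ⟨hx4, hxinf⟩ := Uz_facts hF hxU
  ext y
  show Group.IsSolvable ↥(Subgroup.closure ({x, y} : Set ↥(Cfsg.Sz F m))) ↔ _
  rw [sol_iff hm hp hF]
  constructor
  · rintro (⟨ω, hxω, hyω⟩ | ⟨A, hA, hxA, hyA⟩)
    · rw [Uz_fix_eq hF hxU hx1 hxω] at hyω
      exact Or.inl (Or.inl (Or.inl hyω))
    · by_cases hy : y • oInf F m = oInf F m
      · exact Or.inl (Or.inl (Or.inl hy))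
      · rcases hA with ⟨g, rfl⟩ | hA
        · exact Or.inl (Or.inl (Or.inr ⟨hy, _, ⟨⟨g, rfl⟩, hxA⟩, hyA⟩))
        · rcases hT.conj_cases hm hA with ⟨g, rfl⟩ | ⟨g, rfl⟩
          · exact Or.inl (Or.inr ⟨hy, _, ⟨⟨g, rfl⟩, hxA⟩, hyA⟩)
          · exact Or.inr ⟨hy, _, ⟨⟨g, rfl⟩, hxA⟩, hyA⟩
  · rintro (((h | ⟨-, A, ⟨⟨g, rfl⟩, hxA⟩, hyA⟩) | ⟨-, A, ⟨⟨g, rfl⟩, hxA⟩, hyA⟩) |
      ⟨-, A, ⟨⟨g, rfl⟩, hxA⟩, hyA⟩)
    · exact Or.inl ⟨_, hxinf, h⟩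
    · exact Or.inr ⟨_, Or.inl ⟨g, rfl⟩, hxA, hyA⟩
    · exact Or.inr ⟨_, Or.inr (hT.t1.conj g), hxA, hyA⟩
    · exact Or.inr ⟨_, Or.inr (hT.t2.conj g), hxA, hyA⟩

theorem tail_disjoint (hm : 1 ≤ m) (hF : Fintype.card F = 2 ^ (2 * m + 1))
    {x : ↥(Cfsg.Sz F m)} (hxU : x ∈ Uz hF) (hx1 : x ≠ 1) (T T' : Subgroup ↥(Cfsg.Sz F m))
    (hconj : ∀ g : ↥(Cfsg.Sz F m), IsMaxTorus hF (T.map (MulAut.conj g).toMonoidHom))
    (hconj' : ∀ g : ↥(Cfsg.Sz F m), IsMaxTorus hF (T'.map (MulAut.conj g).toMonoidHom))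
    (hne : Nat.card T ≠ Nat.card T') : Disjoint (tail T x) (tail T' x) := by
  obtain ⟨hx4, hxinf⟩ := Uz_facts hF hxU
  rw [Set.disjoint_left]
  rintro y ⟨hyinf, A, ⟨⟨g, rfl⟩, hxA⟩, hyA⟩ ⟨-, A', ⟨⟨g', rfl⟩, hxA'⟩, hyA'⟩
  have := torus_eq_of_common hm hF hx1 hx4 hxinf hyinf (hconj g) (hconj' g') hxA hxA' hyA hyA'
  apply hne
  have h2 := congrArg (fun B : Subgroup ↥(Cfsg.Sz F m) => Nat.card B) this
  simp only [card_map_conj] at h2
  exact h2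

/-- the solubilizer of a 2-element, as a sum -/
theorem card_sol_two (hm : 1 ≤ m) (hp : (2 * m + 1).Prime) (hF : Fintype.card F = 2 ^ (2 * m + 1))
    {x : ↥(Cfsg.Sz F m)} (hxU : x ∈ Uz hF) (hx1 : x ≠ 1) {T₁ T₂ : Subgroup ↥(Cfsg.Sz F m)}
    (hT : ToriData hF T₁ T₂) :
    Nat.card {y : ↥(Cfsg.Sz F m) //
        Group.IsSolvable ↥(Subgroup.closure ({x, y} : Set ↥(Cfsg.Sz F m)))} =
      (2 ^ (2 * m + 1)) ^ 2 * (2 ^ (2 * m + 1) - 1) + (tail (Hz hF) x).ncard +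
        (tail T₁ x).ncard + (tail T₂ x).ncard := by
  have hfin := sz_finite (F := F) (m := m)
  have h0 : Nat.card {y : ↥(Cfsg.Sz F m) //
      Group.IsSolvable ↥(Subgroup.closure ({x, y} : Set ↥(Cfsg.Sz F m)))} =
      {y : ↥(Cfsg.Sz F m) |
        Group.IsSolvable ↥(Subgroup.closure ({x, y} : Set ↥(Cfsg.Sz F m)))}.ncard := by
    rw [← Nat.card_coe_set_eq]
    rfl
  rw [h0, sol_set_eq hm hp hF hxU hx1 hT]
  have hcH : ∀ g : ↥(Cfsg.Sz F m), IsMaxTorus hF ((Hz hF).map (MulAut.conj g).toMonoidHom) :=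
    fun g => Or.inl ⟨g, rfl⟩
  have hc1 : ∀ g : ↥(Cfsg.Sz F m), IsMaxTorus hF (T₁.map (MulAut.conj g).toMonoidHom) :=
    fun g => Or.inr (hT.t1.conj g)
  have hc2 : ∀ g : ↥(Cfsg.Sz F m), IsMaxTorus hF (T₂.map (MulAut.conj g).toMonoidHom) :=
    fun g => Or.inr (hT.t2.conj g)
  have hr := r_le_q hm
  have hq8 := q_ge_eight hm
  have hr2 : 4 ≤ 2 ^ (m + 1) := by
    have : 2 ^ 2 ≤ 2 ^ (m + 1) := Nat.pow_le_pow_right (by norm_num) (by omega)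
    simpa using this
  have hne1 : Nat.card ↥(Hz (m := m) hF) ≠ Nat.card T₁ := by
    rw [card_Hz, hT.c1]; omega
  have hne2 : Nat.card ↥(Hz (m := m) hF) ≠ Nat.card T₂ := by
    rw [card_Hz, hT.c2]; omega
  have hne3 : Nat.card T₁ ≠ Nat.card T₂ := by
    rw [hT.c1, hT.c2]; omega
  have hd1 : Disjoint {y : ↥(Cfsg.Sz F m) | y • oInf F m = oInf F m} (tail (Hz hF) x) := by
    rw [Set.disjoint_left]
    rintro y hy ⟨hy', -⟩
    exact hy' hy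
  have hd2 : Disjoint ({y : ↥(Cfsg.Sz F m) | y • oInf F m = oInf F m} ∪ tail (Hz hF) x)
      (tail T₁ x) := by
    rw [Set.disjoint_union_left]
    refine ⟨?_, tail_disjoint hm hF hxU hx1 _ _ hcH hc1 hne1⟩
    rw [Set.disjoint_left]
    rintro y hy ⟨hy', -⟩
    exact hy' hy
  have hd3 : Disjoint (({y : ↥(Cfsg.Sz F m) | y • oInf F m = oInf F m} ∪ tail (Hz hF) x) ∪
      tail T₁ x) (tail T₂ x) := by
    rw [Set.disjoint_union_left, Set.disjoint_union_left]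
    refine ⟨⟨?_, tail_disjoint hm hF hxU hx1 _ _ hcH hc2 hne2⟩,
      tail_disjoint hm hF hxU hx1 _ _ hc1 hc2 hne3⟩
    rw [Set.disjoint_left]
    rintro y hy ⟨hy', -⟩
    exact hy' hy
  rw [Set.ncard_union_eq hd3 (Set.toFinite _) (Set.toFinite _),
    Set.ncard_union_eq hd2 (Set.toFinite _) (Set.toFinite _),
    Set.ncard_union_eq hd1 (Set.toFinite _) (Set.toFinite _), ncard_fix_inf hm hF]

end tails

end Cfsg.Agent.Lib.Helper19.SzSol
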