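import Cfsg.Agent.Lib.Helper19.SzSolG

/-!
# Solubilizers in the Suzuki groups, part H: the counts for 2-elements
-/

set_option autoImplicit false

namespace Cfsg.Agent.Lib.Helper19.SzSol

open Cfsg.Agent.Lib.Helper09
open Cfsg.Agent.Lib.Helper19.Solub (card_sol_conj)

section classCounts

variable {F : Type*} [Field F] [Fintype F] {m : ℕ}

theorem u0_ne_one (hF : Fintype.card F = 2 ^ (2 * m + 1)) : tauG (m := m) hF (0 : F) 1 ≠ 1 := by
  rw [← tauG_zero hF]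
  intro h
  exact one_ne_zero (tauG_injective hF h).2

theorem u0_sq (hF : Fintype.card F = 2 ^ (2 * m + 1)) : tauG (m := m) hF (0 : F) 1 ^ 2 = 1 := by
  rw [Cfsg.Agent.S2241.tauG_sq, sg_zero, zero_mul, tauG_zero]

theorem conj_ne_one_iff {G : Type*} [Group G] (g x : G) : g⁻¹ * x * g = 1 ↔ x = 1 := by
  constructor
  · intro h
    have : x = g * (g⁻¹ * x * g) * g⁻¹ := by group
    rw [this, h]; group
  · rintro rfl
    group

theorem conj_pow_eq_one_iff {G : Type*} [Group G] (g x : G) (n : ℕ) :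
    (g⁻¹ * x * g) ^ n = 1 ↔ x ^ n = 1 := by
  rw [conj_inv_pow, conj_ne_one_iff]

theorem conjInNorm_invol (hm : 1 ≤ m) (hF : Fintype.card F = 2 ^ (2 * m + 1))
    (T : Subgroup ↥(Cfsg.Sz F m)) :
    conjInNorm T (tauG hF (0 : F) 1) =
      {y | y ∈ Subgroup.normalizer ((T : Subgroup ↥(Cfsg.Sz F m)) : Set ↥(Cfsg.Sz F m)) ∧
        y ≠ 1 ∧ y ^ 2 = 1} := by
  ext z
  constructor
  · rintro ⟨hzN, g, rfl⟩
    refine ⟨hzN, ?_, ?_⟩
    · rw [Ne, conj_ne_one_iff]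
      exact u0_ne_one hF
    · rw [conj_pow_eq_one_iff]
      exact u0_sq hF
  · rintro ⟨hzN, hz1, hz2⟩
    exact ⟨hzN, involution_conj hm hF hz1 hz2⟩

theorem ncard_conjInNorm_invol (hm : 1 ≤ m) (hF : Fintype.card F = 2 ^ (2 * m + 1))
    {T : Subgroup ↥(Cfsg.Sz F m)} (tl : TorusLike T) (hne : ∃ t ∈ T, t ≠ 1)
    (h2 : 2 ∣ Nat.card ↥(Subgroup.normalizer
      ((T : Subgroup ↥(Cfsg.Sz F m)) : Set ↥(Cfsg.Sz F m)))) :
    (conjInNorm T (tauG hF (0 : F) 1)).ncard = Nat.card T := by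
  have hfin := sz_finite (F := F) (m := m)
  rw [conjInNorm_invol hm hF]
  exact ncard_involutions tl hne h2

theorem ncard_conjInNorm_z0 (hm : 1 ≤ m) (hF : Fintype.card F = 2 ^ (2 * m + 1))
    {T : Subgroup ↥(Cfsg.Sz F m)} (tl : TorusLike T) (hne : ∃ t ∈ T, t ≠ 1)
    (h4 : Nat.card ↥(Subgroup.normalizer
      ((T : Subgroup ↥(Cfsg.Sz F m)) : Set ↥(Cfsg.Sz F m))) = 4 * Nat.card T) :
    (conjInNorm T (tauG hF (1 : F) 0)).ncard = Nat.card T := by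
  have hfin := sz_finite (F := F) (m := m)
  have hJ := ncard_order_four tl hne h4
  set S₁ := conjInNorm T (tauG hF (1 : F) 0) with hS₁
  set S₂ : Set ↥(Cfsg.Sz F m) := (fun z => z⁻¹) '' S₁ with hS₂
  have hz2 := tauG_one_zero_sq (m := m) hF
  have hz4 := tauG_pow_four (m := m) hF (1 : F) 0
  have hunion : S₁ ∪ S₂ =
      {y | y ∈ Subgroup.normalizer ((T : Subgroup ↥(Cfsg.Sz F m)) : Set ↥(Cfsg.Sz F m)) ∧
        y ^ 2 ≠ 1 ∧ y ^ 4 = 1} := by
    ext y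
    constructor
    · rintro (⟨hyN, g, rfl⟩ | ⟨w, ⟨hwN, g, rfl⟩, rfl⟩)
      · refine ⟨hyN, ?_, ?_⟩
        · rw [Ne, conj_pow_eq_one_iff]; exact hz2
        · rw [conj_pow_eq_one_iff]; exact hz4
      · refine ⟨Subgroup.inv_mem _ hwN, ?_, ?_⟩
        · show (g⁻¹ * tauG hF (1 : F) 0 * g)⁻¹ ^ 2 ≠ 1
          rw [inv_pow, Ne, inv_eq_one, conj_pow_eq_one_iff]; exact hz2
        · show (g⁻¹ * tauG hF (1 : F) 0 * g)⁻¹ ^ 4 = 1
          rw [inv_pow, inv_eq_one, conj_pow_eq_one_iff]; exact hz4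
    · rintro ⟨hyN, hy2, hy4⟩
      rcases order_four_conj hm hF hy2 hy4 with h | h
      · exact Or.inl ⟨hyN, h⟩
      · exact Or.inr ⟨y⁻¹, ⟨Subgroup.inv_mem _ hyN, h⟩, inv_inv y⟩
  have hdisj : Disjoint S₁ S₂ := by
    rw [Set.disjoint_left]
    rintro y ⟨-, h1⟩ ⟨w, ⟨-, h2⟩, hwy⟩
    have hwy' : w⁻¹ = y := hwy
    have : w = y⁻¹ := by rw [← hwy', inv_inv]
    rw [this] at h2
    exact order_four_not_real hm hF h1 h2
  have hc2 : S₂.ncard = S₁.ncard := Set.ncard_image_of_injective _ inv_injective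
  have := Set.ncard_union_eq hdisj (Set.toFinite _) (Set.toFinite _)
  rw [hunion, hJ, hc2] at this
  omega

end classCounts

section arith

theorem arith_invol (q r nH n1 n2 tH t1 t2 : ℕ) (hq : 8 ≤ q) (hr : r ≤ q)
    (h1 : nH * (2 * (q - 1)) = (q - 1) * q ^ 2) (h2 : tH = nH * (2 * (q - 1) - 2 ^ 1))
    (h3 : n1 * (4 * (q + r + 1)) = (q + r + 1) * q ^ 2)
    (h4 : t1 = n1 * (4 * (q + r + 1) - 2 ^ 2))
    (h5 : n2 * (4 * (q - r + 1)) = (q - r + 1) * q ^ 2)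
    (h6 : t2 = n2 * (4 * (q - r + 1) - 2 ^ 2)) :
    q ^ 2 * (q - 1) + tH + t1 + t2 = q ^ 2 * (4 * q - 3) := by
  have e1 : 2 * nH = q ^ 2 := by
    apply Nat.eq_of_mul_eq_mul_right (show 0 < q - 1 by omega)
    calc 2 * nH * (q - 1) = nH * (2 * (q - 1)) := by ring
      _ = (q - 1) * q ^ 2 := h1
      _ = q ^ 2 * (q - 1) := by ring
  have e2 : 2 * (q - 1) - 2 ^ 1 = 2 * (q - 2) := by omega
  have e3 : 4 * n1 = q ^ 2 := by
    apply Nat.eq_of_mul_eq_mul_right (show 0 < q + r + 1 by omega)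
    calc 4 * n1 * (q + r + 1) = n1 * (4 * (q + r + 1)) := by ring
      _ = (q + r + 1) * q ^ 2 := h3
      _ = q ^ 2 * (q + r + 1) := by ring
  have e4 : 4 * (q + r + 1) - 2 ^ 2 = 4 * (q + r) := by omega
  have e5 : 4 * n2 = q ^ 2 := by
    apply Nat.eq_of_mul_eq_mul_right (show 0 < q - r + 1 by omega)
    calc 4 * n2 * (q - r + 1) = n2 * (4 * (q - r + 1)) := by ring
      _ = (q - r + 1) * q ^ 2 := h5
      _ = q ^ 2 * (q - r + 1) := by ring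
  have e6 : 4 * (q - r + 1) - 2 ^ 2 = 4 * (q - r) := by omega
  have f1 : tH = q ^ 2 * (q - 2) := by rw [h2, e2, ← e1]; ring
  have f2 : t1 = q ^ 2 * (q + r) := by rw [h4, e4, ← e3]; ring
  have f3 : t2 = q ^ 2 * (q - r) := by rw [h6, e6, ← e5]; ring
  rw [f1, f2, f3, ← mul_add, ← mul_add, ← mul_add]
  congr 1
  omega

theorem arith_four (q r nH n1 n2 tH t1 t2 : ℕ) (hq : 8 ≤ q) (hr : r ≤ q)
    (h1 : nH * (2 * (q - 1)) = 0) (h2 : tH = nH * (2 * (q - 1) - 2 ^ 1))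
    (h3 : n1 * (4 * (q + r + 1)) = (q + r + 1) * (2 * q))
    (h4 : t1 = n1 * (4 * (q + r + 1) - 2 ^ 2))
    (h5 : n2 * (4 * (q - r + 1)) = (q - r + 1) * (2 * q))
    (h6 : t2 = n2 * (4 * (q - r + 1) - 2 ^ 2)) :
    q ^ 2 * (q - 1) + tH + t1 + t2 = q ^ 2 * (q + 3) := by
  have e1 : nH = 0 := by
    rcases Nat.mul_eq_zero.1 h1 with h | h
    · exact h
    · omega
  have e3 : 2 * n1 = q := by
    apply Nat.eq_of_mul_eq_mul_right (show 0 < 2 * (q + r + 1) by omega)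
    calc 2 * n1 * (2 * (q + r + 1)) = n1 * (4 * (q + r + 1)) := by ring
      _ = (q + r + 1) * (2 * q) := h3
      _ = q * (2 * (q + r + 1)) := by ring
  have e4 : 4 * (q + r + 1) - 2 ^ 2 = 4 * (q + r) := by omega
  have e5 : 2 * n2 = q := by
    apply Nat.eq_of_mul_eq_mul_right (show 0 < 2 * (q - r + 1) by omega)
    calc 2 * n2 * (2 * (q - r + 1)) = n2 * (4 * (q - r + 1)) := by ring
      _ = (q - r + 1) * (2 * q) := h5
      _ = q * (2 * (q - r + 1)) := by ring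
  have e6 : 4 * (q - r + 1) - 2 ^ 2 = 4 * (q - r) := by omega
  have f1 : tH = 0 := by rw [h2, e1, zero_mul]
  have f2 : t1 = 2 * q * (q + r) := by rw [h4, e4, ← e3]; ring
  have f3 : t2 = 2 * q * (q - r) := by rw [h6, e6, ← e5]; ring
  rw [f1, f2, f3]
  obtain ⟨d, rfl⟩ : ∃ d, q = r + d := ⟨q - r, by omega⟩
  obtain ⟨s, hs⟩ : ∃ s, r + d = s + 1 := ⟨r + d - 1, by omega⟩
  rw [Nat.add_sub_cancel_left, hs, Nat.add_sub_cancel]
  have : d = s + 1 - r := by omega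
  have hd : d + r = s + 1 := by omega
  nlinarith [hd]

end arith

end Cfsg.Agent.Lib.Helper19.SzSol
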