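import Cfsg.Agent.Lib.Helper19.SzSolH

/-!
# Solubilizers in the Suzuki groups, part I: the final counts
-/

set_option autoImplicit false

namespace Cfsg.Agent.Lib.Helper19.SzSol

open Cfsg.Agent.Lib.Helper09
open Cfsg.Agent.Lib.Helper19.Solub (card_sol_conj)

section general

variable {G : Type*} [Group G]

theorem closure_inv_pair (x y : G) :
    Subgroup.closure ({x⁻¹, y} : Set G) = Subgroup.closure ({x, y} : Set G) := by
  apply le_antisymm
  · rw [Subgroup.closure_le]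
    rintro z (rfl | rfl)
    · exact Subgroup.inv_mem _ (Subgroup.subset_closure (Set.mem_insert _ _))
    · exact Subgroup.subset_closure (Set.mem_insert_of_mem _ rfl)
  · rw [Subgroup.closure_le]
    rintro z (rfl | rfl)
    · have : z⁻¹ ∈ Subgroup.closure ({z⁻¹, y} : Set G) :=
        Subgroup.subset_closure (Set.mem_insert _ _)
      simpa using Subgroup.inv_mem _ this
    · exact Subgroup.subset_closure (Set.mem_insert_of_mem _ rfl)

theorem card_sol_inv (x : G) :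
    Nat.card {y : G // Group.IsSolvable ↥(Subgroup.closure ({x⁻¹, y} : Set G))} =
      Nat.card {y : G // Group.IsSolvable ↥(Subgroup.closure ({x, y} : Set G))} := by
  refine Nat.card_congr (Equiv.subtypeEquivRight (fun y => ?_))
  rw [closure_inv_pair]

theorem solvable_closure_equiv {L : Type*} [Group L] (e : G ≃* L) (x y : G) :
    Group.IsSolvable ↥(Subgroup.closure ({e x, e y} : Set L)) ↔
      Group.IsSolvable ↥(Subgroup.closure ({x, y} : Set G)) := by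
  have h : Subgroup.closure ({e x, e y} : Set L) =
      (Subgroup.closure ({x, y} : Set G)).map (e : G →* L) := by
    rw [MonoidHom.map_closure, Set.image_pair]
    rfl
  rw [h]
  constructor
  · intro hs
    exact Group.isSolvable_of_surjective
      (f := (e.subgroupMap (Subgroup.closure ({x, y} : Set G))).symm.toMonoidHom)
      (e.subgroupMap _).symm.surjective
  · intro hs
    exact Group.isSolvable_of_surjective
      (f := (e.subgroupMap (Subgroup.closure ({x, y} : Set G))).toMonoidHom)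
      (e.subgroupMap _).surjective

theorem card_sol_equiv {L : Type*} [Group L] (e : G ≃* L) (x : G) :
    Nat.card {y : L // Group.IsSolvable ↥(Subgroup.closure ({e x, y} : Set L))} =
      Nat.card {y : G // Group.IsSolvable ↥(Subgroup.closure ({x, y} : Set G))} := by
  symm
  refine Nat.card_congr (e.toEquiv.subtypeEquiv (fun y => ?_))
  exact (solvable_closure_equiv e x y).symm

end general

section final

variable {F : Type*} [Field F] [Fintype F] {m : ℕ}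

theorem Hz_ne (hm : 1 ≤ m) (hF : Fintype.card F = 2 ^ (2 * m + 1)) :
    ∃ t ∈ Hz (m := m) hF, t ≠ 1 := by
  obtain ⟨k, hk⟩ := exists_unit_ne_one hm hF
  exact ⟨hG hF k, (mem_Hz hF _).2 ⟨k, rfl⟩, fun h => hk (hG_eq_one hF h)⟩

theorem card_sol_u0 (hm : 1 ≤ m) (hp : (2 * m + 1).Prime) (hF : Fintype.card F = 2 ^ (2 * m + 1)) :
    Nat.card {y : ↥(Cfsg.Sz F m) //
        Group.IsSolvable ↥(Subgroup.closure ({tauG hF (0 : F) 1, y} : Set ↥(Cfsg.Sz F m)))} =
      (2 ^ (2 * m + 1)) ^ 2 * (4 * 2 ^ (2 * m + 1) - 3) := by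
  have hfin := sz_finite (F := F) (m := m)
  obtain ⟨T₁, T₂, hT⟩ := exists_toriData hm hF
  have hxU : tauG hF (0 : F) 1 ∈ Uz hF := tauG_mem_Uz hF 0 1
  have hx1 := u0_ne_one (m := m) hF
  rw [card_sol_two hm hp hF hxU hx1 hT]
  have hcH : ∀ g : ↥(Cfsg.Sz F m), IsMaxTorus hF ((Hz hF).map (MulAut.conj g).toMonoidHom) :=
    fun g => Or.inl ⟨g, rfl⟩
  have hc1 : ∀ g : ↥(Cfsg.Sz F m), IsMaxTorus hF (T₁.map (MulAut.conj g).toMonoidHom) :=
    fun g => Or.inr (hT.t1.conj g)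
  have hc2 : ∀ g : ↥(Cfsg.Sz F m), IsMaxTorus hF (T₂.map (MulAut.conj g).toMonoidHom) :=
    fun g => Or.inr (hT.t2.conj g)
  have hNH := card_normalizer_Hz hm hF
  have hcardH := card_Hz (m := m) hF
  have hnH : Nat.card ↥(Subgroup.normalizer
      ((Hz hF : Subgroup ↥(Cfsg.Sz F m)) : Set ↥(Cfsg.Sz F m))) = 2 ^ 1 * Nat.card ↥(Hz hF) := by
    rw [hNH, hcardH, pow_one]
  have hn1 : Nat.card ↥(Subgroup.normalizer
      ((T₁ : Subgroup ↥(Cfsg.Sz F m)) : Set ↥(Cfsg.Sz F m))) = 2 ^ 2 * Nat.card ↥T₁ := by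
    rw [hT.n1]; norm_num
  have hn2 : Nat.card ↥(Subgroup.normalizer
      ((T₂ : Subgroup ↥(Cfsg.Sz F m)) : Set ↥(Cfsg.Sz F m))) = 2 ^ 2 * Nat.card ↥T₂ := by
    rw [hT.n2]; norm_num
  have tH := ncard_tail hm hF hxU hx1 (Hz hF) hcH 1 hnH
  have t1 := ncard_tail hm hF hxU hx1 T₁ hc1 2 hn1
  have t2 := ncard_tail hm hF hxU hx1 T₂ hc2 2 hn2
  have cH := card_conjNormSet (Hz hF) (tauG hF (0 : F) 1)
  have c1 := card_conjNormSet T₁ (tauG hF (0 : F) 1)
  have c2 := card_conjNormSet T₂ (tauG hF (0 : F) 1)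
  rw [ncard_conjInNorm_invol hm hF (torusLike_Hz hm hF) (Hz_ne hm hF)
    (by rw [hNH]; exact dvd_mul_right 2 _), card_centralizer_invol hm hF, hNH, hcardH] at cH
  rw [ncard_conjInNorm_invol hm hF (hT.t1.torusLike hm hF) (hT.t1.ne_bot hm hF)
    (by rw [hT.n1]; exact Dvd.intro _ (by ring : 2 * (2 * Nat.card ↥T₁) = 4 * Nat.card ↥T₁)),
    card_centralizer_invol hm hF, hT.n1, hT.c1] at c1
  rw [ncard_conjInNorm_invol hm hF (hT.t2.torusLike hm hF) (hT.t2.ne_bot hm hF)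
    (by rw [hT.n2]; exact Dvd.intro _ (by ring : 2 * (2 * Nat.card ↥T₂) = 4 * Nat.card ↥T₂)),
    card_centralizer_invol hm hF, hT.n2, hT.c2] at c2
  rw [hNH] at tH
  rw [hT.n1, hT.c1] at t1
  rw [hT.n2, hT.c2] at t2
  exact arith_invol _ _ _ _ _ _ _ _ (q_ge_eight hm) (r_le_q hm) cH tH c1 t1 c2 t2

theorem card_sol_z0 (hm : 1 ≤ m) (hp : (2 * m + 1).Prime) (hF : Fintype.card F = 2 ^ (2 * m + 1)) :
    Nat.card {y : ↥(Cfsg.Sz F m) //
        Group.IsSolvable ↥(Subgroup.closure ({tauG hF (1 : F) 0, y} : Set ↥(Cfsg.Sz F m)))} =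
      (2 ^ (2 * m + 1)) ^ 2 * (2 ^ (2 * m + 1) + 3) := by
  have hfin := sz_finite (F := F) (m := m)
  obtain ⟨T₁, T₂, hT⟩ := exists_toriData hm hF
  have hxU : tauG hF (1 : F) 0 ∈ Uz hF := tauG_mem_Uz hF 1 0
  have hx1 := tauG_one_ne_one (m := m) hF
  rw [card_sol_two hm hp hF hxU hx1 hT]
  have hcH : ∀ g : ↥(Cfsg.Sz F m), IsMaxTorus hF ((Hz hF).map (MulAut.conj g).toMonoidHom) :=
    fun g => Or.inl ⟨g, rfl⟩
  have hc1 : ∀ g : ↥(Cfsg.Sz F m), IsMaxTorus hF (T₁.map (MulAut.conj g).toMonoidHom) :=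
    fun g => Or.inr (hT.t1.conj g)
  have hc2 : ∀ g : ↥(Cfsg.Sz F m), IsMaxTorus hF (T₂.map (MulAut.conj g).toMonoidHom) :=
    fun g => Or.inr (hT.t2.conj g)
  have hNH := card_normalizer_Hz hm hF
  have hcardH := card_Hz (m := m) hF
  have hnH : Nat.card ↥(Subgroup.normalizer
      ((Hz hF : Subgroup ↥(Cfsg.Sz F m)) : Set ↥(Cfsg.Sz F m))) = 2 ^ 1 * Nat.card ↥(Hz hF) := by
    rw [hNH, hcardH, pow_one]
  have hn1 : Nat.card ↥(Subgroup.normalizer
      ((T₁ : Subgroup ↥(Cfsg.Sz F m)) : Set ↥(Cfsg.Sz F m))) = 2 ^ 2 * Nat.card ↥T₁ := by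
    rw [hT.n1]; norm_num
  have hn2 : Nat.card ↥(Subgroup.normalizer
      ((T₂ : Subgroup ↥(Cfsg.Sz F m)) : Set ↥(Cfsg.Sz F m))) = 2 ^ 2 * Nat.card ↥T₂ := by
    rw [hT.n2]; norm_num
  have tH := ncard_tail hm hF hxU hx1 (Hz hF) hcH 1 hnH
  have t1 := ncard_tail hm hF hxU hx1 T₁ hc1 2 hn1
  have t2 := ncard_tail hm hF hxU hx1 T₂ hc2 2 hn2
  have cH := card_conjNormSet (Hz hF) (tauG hF (1 : F) 0)
  have c1 := card_conjNormSet T₁ (tauG hF (1 : F) 0)
  have c2 := card_conjNormSet T₂ (tauG hF (1 : F) 0)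
  rw [conjInNorm_Hz_z0 hm hF, Set.ncard_empty, zero_mul, hNH] at cH
  rw [ncard_conjInNorm_z0 hm hF (hT.t1.torusLike hm hF) (hT.t1.ne_bot hm hF) hT.n1,
    card_centralizer_z0 hm hF, hT.n1, hT.c1] at c1
  rw [ncard_conjInNorm_z0 hm hF (hT.t2.torusLike hm hF) (hT.t2.ne_bot hm hF) hT.n2,
    card_centralizer_z0 hm hF, hT.n2, hT.c2] at c2
  rw [hNH] at tH
  rw [hT.n1, hT.c1] at t1
  rw [hT.n2, hT.c2] at t2
  exact arith_four _ _ _ _ _ _ _ _ (q_ge_eight hm) (r_le_q hm) cH tH c1 t1 c2 t2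

theorem card_sol_order_two (hm : 1 ≤ m) (hp : (2 * m + 1).Prime)
    (hF : Fintype.card F = 2 ^ (2 * m + 1)) (x : ↥(Cfsg.Sz F m)) (hx : orderOf x = 2) :
    Nat.card {y : ↥(Cfsg.Sz F m) //
        Group.IsSolvable ↥(Subgroup.closure ({x, y} : Set ↥(Cfsg.Sz F m)))} =
      (2 ^ (2 * m + 1)) ^ 2 * (4 * 2 ^ (2 * m + 1) - 3) := by
  have hx1 : x ≠ 1 := by
    rintro rfl
    rw [orderOf_one] at hx
    omega
  have hx2 : x ^ 2 = 1 := by
    have := pow_orderOf_eq_one x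
    rwa [hx] at this
  obtain ⟨g, rfl⟩ := involution_conj hm hF hx1 hx2
  have := card_sol_conj g⁻¹ (tauG hF (0 : F) 1)
  rw [inv_inv] at this
  rw [this]
  exact card_sol_u0 hm hp hF

theorem card_sol_order_four (hm : 1 ≤ m) (hp : (2 * m + 1).Prime)
    (hF : Fintype.card F = 2 ^ (2 * m + 1)) (x : ↥(Cfsg.Sz F m)) (hx : orderOf x = 4) :
    Nat.card {y : ↥(Cfsg.Sz F m) //
        Group.IsSolvable ↥(Subgroup.closure ({x, y} : Set ↥(Cfsg.Sz F m)))} =
      (2 ^ (2 * m + 1)) ^ 2 * (2 ^ (2 * m + 1) + 3) := by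
  have hx4 : x ^ 4 = 1 := by
    have := pow_orderOf_eq_one x
    rwa [hx] at this
  have hx2 : x ^ 2 ≠ 1 := by
    intro h
    have := orderOf_dvd_of_pow_eq_one h
    rw [hx] at this
    have := Nat.le_of_dvd (by norm_num) this
    omega
  rcases order_four_conj hm hF hx2 hx4 with ⟨g, hg⟩ | ⟨g, hg⟩
  · rw [← hg]
    have := card_sol_conj g⁻¹ (tauG hF (1 : F) 0)
    rw [inv_inv] at this
    rw [this]
    exact card_sol_z0 hm hp hF
  · rw [← card_sol_inv x, ← hg]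
    have := card_sol_conj g⁻¹ (tauG hF (1 : F) 0)
    rw [inv_inv] at this
    rw [this]
    exact card_sol_z0 hm hp hF

end final

end Cfsg.Agent.Lib.Helper19.SzSol
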