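import Mathlib

set_option autoImplicit false

/-! Keystone 163216 (K-TH-E1) of helper94's pack for S1632: the first five `q`-coefficients of `E₄`. -/

namespace Cfsg.Agent.Lib.Helper19.TH

open Matrix Complex ModularForm
open UpperHalfPlane hiding I
open scoped Real MatrixGroups

theorem sigma_three_two : ArithmeticFunction.sigma 3 2 = 9 := by decide
theorem sigma_three_three : ArithmeticFunction.sigma 3 3 = 28 := by decide
theorem sigma_three_four : ArithmeticFunction.sigma 3 4 = 73 := by decide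

theorem E4_coeffs :
    (qExpansion 1 E₄).coeff 0 = 1 ∧ (qExpansion 1 E₄).coeff 1 = 240 ∧
    (qExpansion 1 E₄).coeff 2 = 2160 ∧ (qExpansion 1 E₄).coeff 3 = 6720 ∧
    (qExpansion 1 E₄).coeff 4 = 17520 := by
  have hb : bernoulli 4 = -1 / 30 := by decide +kernel
  refine ⟨EisensteinSeries.E_qExpansion_coeff_zero _ ⟨2, rfl⟩, E₄_qExpansion_coeff_one, ?_, ?_, ?_⟩
  · rw [EisensteinSeries.E_qExpansion_coeff _ ⟨2, rfl⟩]
    norm_num [hb, sigma_three_two]
  · rw [EisensteinSeries.E_qExpansion_coeff _ ⟨2, rfl⟩]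
    norm_num [hb, sigma_three_three]
  · rw [EisensteinSeries.E_qExpansion_coeff _ ⟨2, rfl⟩]
    norm_num [hb, sigma_three_four]

end Cfsg.Agent.Lib.Helper19.TH
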