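import Mathlib

/-!
# Keystone K-TW-E6hZ (helper19, for helper76 / S1102)
-/

set_option autoImplicit false

namespace Cfsg.Agent.Lib.Helper19.TwCount

theorem hZ_E6 {K : Type*} [Field K] [Fintype K] (q : ℕ) (hK : Fintype.card K = q ^ 2)
    (ζ : Kˣ) (hζ : ζ ^ 3 = 1) (c0 c5 : Kˣ)
    (h0 : c5 ^ q * c0⁻¹ = ζ) (h5 : c0 ^ q * c5⁻¹ = ζ ^ 2) : ζ ^ q = ζ := by
  have hc5 : c5 ^ q = ζ * c0 := by rw [← h0, inv_mul_cancel_right]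
  have hc0 : c0 ^ q = ζ ^ 2 * c5 := by rw [← h5, inv_mul_cancel_right]
  have hfix : c0 ^ (q ^ 2) = c0 := by
    apply Units.ext
    rw [Units.val_pow_eq_pow_val, ← hK, FiniteField.pow_card]
  have h1 : c0 ^ (q ^ 2) = ((ζ ^ q) ^ 2 * ζ) * c0 := by
    rw [pow_two q, pow_mul, hc0, mul_pow, hc5, ← pow_mul, mul_comm 2 q, pow_mul, mul_assoc]
  have h2 : (ζ ^ q) ^ 2 * ζ = 1 := by
    rw [hfix] at h1
    exact (mul_eq_right.mp h1.symm)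
  have h3 : (ζ ^ q) ^ 3 = 1 := by rw [← pow_mul, mul_comm, pow_mul, hζ, one_pow]
  -- w = w^3 * (w^2)⁻¹ ... use: w = w^4 * (w^3)⁻¹, w^2 = ζ⁻¹
  have h4 : (ζ ^ q) ^ 2 = ζ⁻¹ := eq_inv_of_mul_eq_one_left h2
  have h5' : ζ⁻¹ = ζ ^ 2 := by
    rw [inv_eq_iff_eq_inv, eq_inv_iff_mul_eq_one, ← pow_succ', hζ]
  calc ζ ^ q = ((ζ ^ q) ^ 2) ^ 2 * ((ζ ^ q) ^ 3)⁻¹ := by
        rw [← pow_mul, eq_mul_inv_iff_mul_eq, ← pow_succ']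
    _ = ζ := by
        rw [h3, inv_one, mul_one, h4, h5', ← pow_mul]
        calc ζ ^ (2 * 2) = ζ ^ 3 * ζ := by rw [← pow_succ]
          _ = ζ := by rw [hζ, one_mul]

end Cfsg.Agent.Lib.Helper19.TwCount
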