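import Cfsg.Agent.Lib.Helper73.UNdDefs
import Cfsg.Agent.Lib.Helper19.UnitaryDet

set_option autoImplicit false

/-! Keystone 595405 (K-UNd-DET) of helper73's pack for S5954: determinant of an isometry of a
hermitian space. -/

namespace Cfsg.Agent.Lib.Helper19.UNd

open Module Cfsg.Agent.Lib.Helper99.HermONB Cfsg.Agent.Lib.Helper98.Elus Cfsg.Agent.Lib.Helper73.UNd

universe u
variable {F : Type u} [Field F] {V : Type u} [AddCommGroup V] [Module F V]
variable {q : ℕ} {h : V → V → F}

/-- matrix form of the isometry condition for the standard hermitian form -/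
theorem transpose_mul_conj_of_isom [Fintype F] (hF : Fintype.card F = q ^ 2) {n : ℕ}
    (M : Matrix (Fin n) (Fin n) F)
    (hM : ∀ x y, Cfsg.hermForm n F q (M.mulVec x) (M.mulVec y) = Cfsg.hermForm n F q x y) :
    M.transpose * (Cfsg.Agent.Lib.Helper19.frobQ hF).mapMatrix M = 1 := by
  ext a b
  have h := hM (Pi.single a 1) (Pi.single b 1)
  rw [Cfsg.Agent.Lib.Helper19.hermForm_single_single hF] at h
  rw [Matrix.one_apply, ← h]
  simp only [Matrix.mul_apply, Matrix.transpose_apply, RingHom.mapMatrix_apply, Matrix.map_apply,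
    Cfsg.Agent.Lib.Helper19.frobQ_apply, Cfsg.hermForm, Matrix.mulVec_single_one, Matrix.col_apply]

theorem det_norm_of_isom [Fintype F] [FiniteDimensional F V] (hF : Fintype.card F = q ^ 2)
    (hh : HForm q h) (y : V →ₗ[F] V) (hiso : Isom h y) : (LinearMap.det y) ^ (q + 1) = 1 := by
  classical
  obtain ⟨n, hn⟩ : ∃ n, finrank F V = n := ⟨_, rfl⟩
  rcases Nat.eq_zero_or_pos n with h0 | hpos
  · -- the zero space
    have hsub : Subsingleton V := by
      rw [h0] at hn
      exact Module.finrank_zero_iff.mp hn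
    have : y = 1 := by
      apply LinearMap.ext
      intro v
      exact Subsingleton.elim _ _
    rw [this, map_one, one_pow]
  · have : Nonempty (Fin n) := ⟨⟨0, hpos⟩⟩
    obtain ⟨e, he⟩ := Cfsg.Agent.Lib.Helper80.AschU.exists_orthonormal' hF n V h hh hn
    have hli : LinearIndependent F e := by
      rw [linearIndependent_iff']
      intro s c hc i hi
      have h1 := hh.sum_left s c e (e i)
      rw [hc, hh.zero_left] at h1
      simp only [he, mul_ite, mul_one, mul_zero] at h1
      rw [Finset.sum_ite_eq' s i] at h1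
      simpa [hi] using h1.symm
    obtain ⟨b, hb⟩ : ∃ b : Module.Basis (Fin n) F V,
        ∀ i j, h (b i) (b j) = if i = j then 1 else 0 := by
      refine ⟨basisOfLinearIndependentOfCardEqFinrank hli (by rw [Fintype.card_fin, hn]), ?_⟩
      intro i j
      rw [coe_basisOfLinearIndependentOfCardEqFinrank]
      exact he i j
    obtain ⟨M, hM⟩ : ∃ M, M = LinearMap.toMatrix b b y := ⟨_, rfl⟩
    have hmem : ∀ u v : Fin n → F, Cfsg.hermForm n F q (M.mulVec u) (M.mulVec v) =
        Cfsg.hermForm n F q u v := by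
      intro u v
      have hu : ⇑(b.repr (b.equivFun.symm u)) = u := by
        rw [← Module.Basis.equivFun_apply]; exact b.equivFun.apply_symm_apply u
      have hv : ⇑(b.repr (b.equivFun.symm v)) = v := by
        rw [← Module.Basis.equivFun_apply]; exact b.equivFun.apply_symm_apply v
      rw [← hu, ← hv, hM, LinearMap.toMatrix_mulVec_repr, LinearMap.toMatrix_mulVec_repr,
        ← form_eq_hermForm hh b hb, ← form_eq_hermForm hh b hb, hiso]
    have h1 := congrArg Matrix.det (transpose_mul_conj_of_isom hF M hmem)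
    rw [Matrix.det_mul, Matrix.det_transpose, ← RingHom.map_det,
      Cfsg.Agent.Lib.Helper19.frobQ_apply, Matrix.det_one, hM, LinearMap.det_toMatrix] at h1
    rw [pow_succ']
    exact h1

theorem det_eq_one_of_coprime [Fintype F] [FiniteDimensional F V] (hF : Fintype.card F = q ^ 2)
    (hh : HForm q h) (y : V →ₗ[F] V) (hiso : Isom h y) (r : ℕ) (hy : y ^ r = 1)
    (hcop : Nat.Coprime r (q + 1)) : LinearMap.det y = 1 := by
  have h1 := det_norm_of_isom hF hh y hiso
  have h2 : (LinearMap.det y) ^ r = 1 := by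
    rw [← map_pow, hy, map_one]
  have h3 : LinearMap.det y ^ Nat.gcd r (q + 1) = 1 := pow_gcd_eq_one.mpr ⟨h2, h1⟩
  rw [Nat.Coprime] at hcop
  rw [hcop, pow_one] at h3
  exact h3

end Cfsg.Agent.Lib.Helper19.UNd
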