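import Mathlib
import Cfsg.Agent.Lib.Helper98.Elus3

set_option autoImplicit false

/-! Keystone 595422 (K-UNd-ID) of helper73's pack for S5954: determinant of an involution. -/

namespace Cfsg.Agent.Lib.Helper19.UNd

open Module Cfsg.Agent.Lib.Helper98.Elus

universe u
variable {F : Type u} [Field F] {V : Type u} [AddCommGroup V] [Module F V]

theorem neg_of_mem_V1_two (g : V →ₗ[F] V) (v : V) (hv : v ∈ V1 2 g) : g v = -v := by
  rw [mem_V1, gsum_apply] at hv
  simp only [Finset.sum_range_succ, Finset.sum_range_zero, zero_add, pow_zero, pow_one,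
    Module.End.one_apply] at hv
  exact (neg_eq_of_add_eq_zero_right hv).symm

theorem det_invol [FiniteDimensional F V] (h2 : (2 : F) ≠ 0) (g : V →ₗ[F] V) (hg : g ^ 2 = 1) :
    LinearMap.det g = (-1) ^ finrank F (V1 2 g) := by
  have h2' : ((2 : ℕ) : F) ≠ 0 := by exact_mod_cast h2
  have hc : IsCompl (V0 g) (V1 2 g) :=
    ⟨disjoint_iff.mpr (V0_inf_V1 2 h2' g), codisjoint_iff.mpr (V0_sup_V1 2 h2' g hg)⟩
  obtain ⟨e, he⟩ : ∃ e : (↥(V0 g) × ↥(V1 2 g)) ≃ₗ[F] V, ∀ a b, e (a, b) = (a : V) + (b : V) :=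
    ⟨Submodule.prodEquivOfIsCompl (V0 g) (V1 2 g) hc, fun a b => by
      rw [Submodule.coe_prodEquivOfIsCompl']⟩
  have hconj : g = (e : (↥(V0 g) × ↥(V1 2 g)) →ₗ[F] V) ∘ₗ
      (LinearMap.prodMap LinearMap.id (-LinearMap.id)) ∘ₗ
      (e.symm : V →ₗ[F] (↥(V0 g) × ↥(V1 2 g))) := by
    apply LinearMap.ext
    intro v
    obtain ⟨⟨a, b⟩, rfl⟩ := e.surjective v
    simp only [LinearMap.comp_apply, LinearEquiv.coe_coe, LinearEquiv.symm_apply_apply,
      LinearMap.prodMap_apply, LinearMap.id_apply, LinearMap.neg_apply]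
    rw [he, he, map_add, (mem_V0 g a).mp a.2, neg_of_mem_V1_two g b b.2]
    simp
  conv_lhs => rw [hconj]
  rw [LinearMap.det_conj, LinearMap.det_prodMap, LinearMap.det_id, one_mul]
  have : (-LinearMap.id : ↥(V1 2 g) →ₗ[F] ↥(V1 2 g)) = (-1 : F) • LinearMap.id := by
    apply LinearMap.ext
    intro v
    simp
  rw [this, LinearMap.det_smul, LinearMap.det_id, mul_one]

end Cfsg.Agent.Lib.Helper19.UNd
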