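import Mathlib
import Cfsg.Agent.Lib.Helper65.UNdBA1
import Cfsg.Agent.Lib.Helper19.UNdID

set_option autoImplicit false

/-! Keystone 595420 (K-UNd-IB) of helper73's pack for S5954: an anti-isometric involution halves
every invariant nondegenerate subspace. -/

namespace Cfsg.Agent.Lib.Helper19.UNd

open Module Cfsg.Agent.Lib.Helper99.HermONB Cfsg.Agent.Lib.Helper98.Elus Cfsg.Agent.Lib.Helper73.UNd

universe u
variable {F : Type u} [Field F] {V : Type u} [AddCommGroup V] [Module F V]
variable {q : ℕ} {h : V → V → F}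

theorem hform_neg_left (hh : HForm q h) (u v : V) : h (-u) v = - h u v := by
  have := hh.smul_left (-1) u v
  simpa using this

theorem hform_neg_right [Fintype F] (hF : Fintype.card F = q ^ 2) (hh : HForm q h) (u v : V) :
    h u (-v) = - h u v := by
  have h1 := hh.add_right hF u (-v) v
  rw [neg_add_cancel, hh.zero_right hF] at h1
  exact eq_neg_of_add_eq_zero_left h1.symm

theorem eq_zero_of_eq_neg_self (h2 : (2 : F) ≠ 0) {a : F} (ha : a = -a) : a = 0 := by
  have : (2 : F) * a = 0 := by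
    rw [two_mul]
    nth_rewrite 1 [ha]
    exact neg_add_cancel a
  exact (mul_eq_zero.mp this).resolve_left h2

theorem anti_invol_even [Fintype F] [FiniteDimensional F V] (hF : Fintype.card F = q ^ 2)
    (hh : HForm q h) (h2 : (2 : F) ≠ 0) (g : V →ₗ[F] V) (hg : g ^ 2 = 1)
    (hanti : ∀ u v, h (g u) (g v) = - h u v) (W : Submodule F V) (hW : Inv g W)
    (hWnd : ND h W) : 2 * finrank F ↥(W ⊓ V1 2 g) = finrank F W := by
  have h2' : ((2 : ℕ) : F) ≠ 0 := by exact_mod_cast h2
  have hgg : ∀ v, g (g v) = v := by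
    intro v
    have := congrArg (fun f : V →ₗ[F] V => f v) hg
    simpa [pow_two] using this
  -- the two parts
  have hinf : (W ⊓ V0 g) ⊓ (W ⊓ V1 2 g) = ⊥ := by
    rw [eq_bot_iff, ← V0_inf_V1 2 h2' g]
    exact inf_le_inf inf_le_right inf_le_right
  have hsup : (W ⊓ V0 g) ⊔ (W ⊓ V1 2 g) = W := by
    apply le_antisymm (sup_le inf_le_left inf_le_left)
    intro w hw
    have hgw : g w ∈ W := hW w hw
    have e : w = (2 : F)⁻¹ • (w + g w) + (2 : F)⁻¹ • (w - g w) := by
      rw [← smul_add, add_add_sub_cancel, ← two_smul F w, smul_smul, inv_mul_cancel₀ h2, one_smul]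
    rw [e]
    apply Submodule.add_mem_sup
    · refine Submodule.smul_mem _ _ ⟨W.add_mem hw hgw, ?_⟩
      rw [SetLike.mem_coe, mem_V0, map_add, hgg, add_comm]
    · refine Submodule.smul_mem _ _ ⟨W.sub_mem hw hgw, ?_⟩
      rw [SetLike.mem_coe, mem_V1, gsum_apply]
      simp only [Finset.sum_range_succ, Finset.sum_range_zero, zero_add, pow_zero, pow_one,
        Module.End.one_apply]
      rw [map_sub, hgg]
      abel
  have hdim := Submodule.finrank_sup_add_finrank_inf_eq (W ⊓ V0 g) (W ⊓ V1 2 g)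
  rw [hsup, hinf, finrank_bot, add_zero] at hdim
  -- both parts are totally isotropic
  have hA : W ⊓ V0 g ≤ perp hh (W ⊓ V0 g) ⊓ W := by
    intro u hu
    refine ⟨?_, hu.1⟩
    rw [SetLike.mem_coe, mem_perp]
    intro v hv
    apply eq_zero_of_eq_neg_self h2
    have := hanti u v
    rw [(mem_V0 g u).mp hu.2, (mem_V0 g v).mp hv.2] at this
    exact this
  have hB : W ⊓ V1 2 g ≤ perp hh (W ⊓ V1 2 g) ⊓ W := by
    intro u hu
    refine ⟨?_, hu.1⟩
    rw [SetLike.mem_coe, mem_perp]
    intro v hv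
    apply eq_zero_of_eq_neg_self h2
    have := hanti u v
    rw [neg_of_mem_V1_two g u hu.2, neg_of_mem_V1_two g v hv.2, hform_neg_left hh,
      hform_neg_right hF hh, neg_neg] at this
    exact this
  have hA' := Submodule.finrank_mono hA
  have hB' := Submodule.finrank_mono hB
  have hA'' := Cfsg.Agent.Lib.Helper65.UNd.finrank_perp_inf hF hh (W ⊓ V0 g) W inf_le_left hWnd
  have hB'' := Cfsg.Agent.Lib.Helper65.UNd.finrank_perp_inf hF hh (W ⊓ V1 2 g) W inf_le_left hWnd
  omega

end Cfsg.Agent.Lib.Helper19.UNd
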