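import Mathlib
import Cfsg.Agent.Lib.Helper73.UNdDefs

set_option autoImplicit false

/-! Keystone 595423 (K-UNd-IE) of helper73's pack for S5954: a model of an anti-isometric
involution on a hermitian space of dimension `2 * k`. -/

namespace Cfsg.Agent.Lib.Helper19.UNd

open Module Cfsg.Agent.Lib.Helper99.HermONB Cfsg.Agent.Lib.Helper98.Elus Cfsg.Agent.Lib.Helper73.UNd

universe u
variable {F : Type u} [Field F] {V : Type u} [AddCommGroup V] [Module F V]
variable {q : ℕ} {h : V → V → F}

/-- the hyperbolic double of the standard hermitian form -/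
def dblForm (k : ℕ) (F : Type u) [Field F] (q : ℕ)
    (x y : (Fin k → F) × (Fin k → F)) : F :=
  Cfsg.hermForm k F q x.1 y.2 + Cfsg.hermForm k F q x.2 y.1

theorem dblForm_hform [Fintype F] (hF : Fintype.card F = q ^ 2) (k : ℕ) :
    HForm q (dblForm k F q) := by
  have hs := stdH_hform hF k
  refine ⟨?_, ?_, ?_, ?_⟩
  · intro x x' y
    simp only [dblForm, Prod.fst_add, Prod.snd_add, hs.add_left]
    ring
  · intro c x y
    simp only [dblForm, Prod.smul_fst, Prod.smul_snd, hs.smul_left]
    ring
  · intro x y
    simp only [dblForm]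
    rw [Cfsg.Agent.Lib.Helper19.add_pow_q hF, ← hs.conj, ← hs.conj, add_comm]
  · intro x hx
    have h1 : x.1 = 0 := by
      apply hs.nondeg
      intro b
      have := hx (0, b)
      simp only [dblForm] at this
      rw [hs.zero_right hF, add_zero] at this
      exact this
    have h2 : x.2 = 0 := by
      apply hs.nondeg
      intro a
      have := hx (a, 0)
      simp only [dblForm] at this
      rw [hs.zero_right hF, zero_add] at this
      exact this
    exact Prod.ext h1 h2

theorem exists_anti_model [Fintype F] (hF : Fintype.card F = q ^ 2) (h2 : (2 : F) ≠ 0) (k : ℕ)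
    (hk : 1 ≤ k) :
    ∃ (V' : Type u) (_ : AddCommGroup V') (_ : Module F V') (_ : FiniteDimensional F V')
      (h' : V' → V' → F) (g' : V' →ₗ[F] V'),
      HForm q h' ∧ finrank F V' = 2 * k ∧ g' ^ 2 = 1 ∧ (∀ u v, h' (g' u) (g' v) = - h' u v) ∧
      ∀ c : F, g' ≠ c • 1 := by
  classical
  have hs := stdH_hform hF k
  have hnl : ∀ a b : Fin k → F, Cfsg.hermForm k F q (-a) b = - Cfsg.hermForm k F q a b := by
    intro a b
    have := hs.smul_left (-1) a b
    simpa using this
  have hnr : ∀ a b : Fin k → F, Cfsg.hermForm k F q a (-b) = - Cfsg.hermForm k F q a b := by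
    intro a b
    have h1 := hs.add_right hF a (-b) b
    rw [neg_add_cancel, hs.zero_right hF] at h1
    exact eq_neg_of_add_eq_zero_left h1.symm
  refine ⟨(Fin k → F) × (Fin k → F), inferInstance, inferInstance, inferInstance,
    dblForm k F q, LinearMap.prodMap LinearMap.id (-LinearMap.id), dblForm_hform hF k, ?_, ?_, ?_,
    ?_⟩
  · rw [Module.finrank_prod, Module.finrank_fin_fun]
    ring
  · apply LinearMap.ext
    intro x
    rw [pow_two, Module.End.mul_apply]
    simp
  · intro u v
    simp only [dblForm, LinearMap.prodMap_apply, LinearMap.id_apply, LinearMap.neg_apply, hnl,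
      hnr]
    ring
  · intro c hc
    have i0 : Fin k := ⟨0, hk⟩
    have e1 := congrArg (fun f : ((Fin k → F) × (Fin k → F)) →ₗ[F] ((Fin k → F) × (Fin k → F)) =>
      (f (Pi.single i0 1, 0)).1 i0) hc
    have e2 := congrArg (fun f : ((Fin k → F) × (Fin k → F)) →ₗ[F] ((Fin k → F) × (Fin k → F)) =>
      (f (0, Pi.single i0 1)).2 i0) hc
    simp at e1 e2
    rw [← e1] at e2
    apply h2
    have : (2 : F) = 1 - (-1) := by ring
    rw [this, e2, sub_self]
end Cfsg.Agent.Lib.Helper19.UNd
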